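import Cfsg.Agent.Lib.FrattiniPGroup
import Cfsg.Agent.Transfer.TausskyTwoGroup
import Cfsg.Prelude.Def_CaseTheorems

/-!
# 2-groups with a self-centralizing four-group have rank at most 2

`card_le`: if `S` is a finite 2-group, `V` a subgroup of order 4 with `v ^ 2 = 1` for `v ∈ V` and
`C_S(V) ≤ V`, then every subgroup `A` of `S` consisting of elements with `a ^ 2 = 1` has order
at most 4. `pRankLE`: the same for a Sylow 2-subgroup of a finite group.
-/

set_option autoImplicit false

namespace Cfsg.Agent.MinSimple.SelfCentFour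

open Subgroup

variable {S : Type*} [Group S]

theorem comm_of_sq {A : Subgroup S} (hA : ∀ a ∈ A, a * a = 1) {a b : S} (ha : a ∈ A) (hb : b ∈ A) :
    a * b = b * a := by
  have h1 := hA _ (A.mul_mem ha hb)
  have h2 := hA a ha
  have h3 := hA b hb
  have h4 : a * b = (a * b)⁻¹ := eq_inv_of_mul_eq_one_left h1
  rw [mul_inv_rev, inv_eq_of_mul_eq_one_left h2, inv_eq_of_mul_eq_one_left h3] at h4
  exact h4

/-- In a finite 2-group a subgroup covering `S/S'` is everything. -/
theorem eq_top_of_sup [Finite S] (hS : IsPGroup 2 S) {A : Subgroup S}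
    (h : A ⊔ commutator S = ⊤) : A = ⊤ := by
  apply frattini_nongenerating
  rw [eq_top_iff, ← h]
  exact sup_le_sup_left (Lib.FrattiniPGroup.commutator_le_frattini hS) A

theorem four_le_index [Finite S] (hS : IsPGroup 2 S) (hna : ¬ ∀ x y : S, x * y = y * x) :
    4 ≤ (commutator S).index := by
  by_contra hlt
  push Not at hlt
  have hdvd : (commutator S).index ∣ Nat.card S := index_dvd_card _
  obtain ⟨n, hn⟩ := IsPGroup.iff_card.1 hS
  rw [hn] at hdvd
  obtain ⟨m, _, hm⟩ := (Nat.dvd_prime_pow Nat.prime_two).1 hdvd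
  have hm1 : m ≤ 1 := by
    by_contra h
    have : 2 ^ 2 ≤ 2 ^ m := Nat.pow_le_pow_right (by norm_num) (by omega)
    omega
  apply hna
  interval_cases m
  · -- `S' = S`
    have h1 : commutator S = ⊤ := index_eq_one.1 (by rw [hm]; rfl)
    have h2 : (⊥ : Subgroup S) = ⊤ := eq_top_of_sup hS (by rw [h1, bot_sup_eq])
    intro x y
    have hx : x ∈ (⊥ : Subgroup S) := by rw [h2]; exact mem_top x
    have hy : y ∈ (⊥ : Subgroup S) := by rw [h2]; exact mem_top y
    rw [mem_bot.1 hx, mem_bot.1 hy]
  · have h1 : commutator S ≠ ⊤ := by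
      intro h
      rw [h, index_top] at hm
      norm_num at hm
    obtain ⟨x, hx⟩ : ∃ x : S, x ∉ commutator S := by
      by_contra h
      push Not at h
      exact h1 (eq_top_iff.2 fun x _ => h x)
    have h2 : zpowers x ⊔ commutator S = ⊤ := by
      have hle : commutator S ≤ zpowers x ⊔ commutator S := le_sup_right
      have h3 := relIndex_mul_index hle
      rw [hm] at h3
      have h4 : (commutator S).relIndex (zpowers x ⊔ commutator S) ≠ 1 := by
        intro h5
        rw [relIndex_eq_one] at h5
        exact hx (h5 (le_sup_left (a := zpowers x) (mem_zpowers x)))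
      have h5 : (commutator S).relIndex (zpowers x ⊔ commutator S) ∣ 2 := ⟨_, by simpa using h3.symm⟩
      have h6 := (Nat.dvd_prime Nat.prime_two).1 h5
      have h7 : (commutator S).relIndex (zpowers x ⊔ commutator S) = 2 := h6.resolve_left h4
      rw [h7] at h3
      have h8 : (zpowers x ⊔ commutator S).index = 1 := by omega
      exact index_eq_one.1 h8
    have h3 := eq_top_of_sup hS h2
    intro a b
    have ha : a ∈ zpowers x := by rw [h3]; exact mem_top a
    have hb : b ∈ zpowers x := by rw [h3]; exact mem_top b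
    obtain ⟨i, rfl⟩ := mem_zpowers_iff.1 ha
    obtain ⟨j, rfl⟩ := mem_zpowers_iff.1 hb
    rw [← zpow_add, ← zpow_add, add_comm]

/-- The main lemma. -/
theorem card_le [Finite S] (hS : IsPGroup 2 S) {V : Subgroup S} (hV : Nat.card V = 4)
    (hV2 : ∀ v ∈ V, v * v = 1) (hC : centralizer (V : Set S) ≤ V) {A : Subgroup S}
    (hA : ∀ a ∈ A, a * a = 1) : Nat.card A ≤ 4 := by
  by_contra hlt
  push Not at hlt
  have hVtop : V ≠ ⊤ := by
    intro h
    have h1 : Nat.card A ≤ Nat.card V := by
      rw [h]
      exact Nat.card_le_card_of_injective (Subgroup.inclusion le_top)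
        (Subgroup.inclusion_injective le_top)
    omega
  have hna : ¬ ∀ x y : S, x * y = y * x := by
    intro h
    apply hVtop
    rw [eq_top_iff]
    intro x _
    apply hC
    rw [mem_centralizer_iff]
    intro v _
    exact h v x
  -- a central element
  have hcV : center S ≤ V := (center_le_centralizer (V : Set S)).trans hC
  obtain ⟨z, -, hzc, hz1⟩ := Transfer.TausskyTwoGroup.exists_ne_one_mem_inf_center hS
    (⊤ : Subgroup S) (by
      intro h
      apply hVtop
      rw [eq_top_iff, h]
      exact bot_le)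
  have hzV : z ∈ V := hcV hzc
  have hzcomm : ∀ x : S, x * z = z * x := fun x => mem_center_iff.1 hzc x
  obtain ⟨v, hvV, hvc⟩ : ∃ v ∈ V, v ∉ center S := by
    by_contra h
    push Not at h
    apply hVtop
    rw [eq_top_iff]
    intro x _
    apply hC
    rw [mem_centralizer_iff]
    intro v hv
    exact (mem_center_iff.1 (h v hv) x).symm
  have hv1 : v ≠ 1 := fun h => hvc (h ▸ one_mem _)
  have hvz : v ≠ z := fun h => hvc (h ▸ hzc)
  have hvz1 : v * z ≠ 1 := by
    intro h
    apply hvc
    rw [eq_inv_of_mul_eq_one_left h]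
    exact inv_mem hzc
  have hvv := hV2 v hvV
  have hzz := hV2 z hzV
  -- `V = {1, v, z, v z}`
  have hVset : (V : Set S) = {1, v, z, v * z} := by
    symm
    apply Set.eq_of_subset_of_ncard_le
    · intro x hx
      simp only [Set.mem_insert_iff, Set.mem_singleton_iff] at hx
      rcases hx with rfl | rfl | rfl | rfl
      · exact V.one_mem
      · exact hvV
      · exact hzV
      · exact V.mul_mem hvV hzV
    · have h1 : (V : Set S).ncard = 4 := hV
      rw [h1]
      have h2 : ({1, v, z, v * z} : Set S).ncard = 4 := by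
        classical
        rw [Set.ncard_eq_toFinset_card']
        simp only [Set.toFinset_insert, Set.toFinset_singleton]
        rw [Finset.card_insert_of_notMem, Finset.card_insert_of_notMem,
          Finset.card_insert_of_notMem, Finset.card_singleton]
        · rw [Finset.mem_singleton]
          intro h
          apply hv1
          exact (mul_eq_right.1 h.symm)
        · simp only [Finset.mem_insert, Finset.mem_singleton, not_or]
          refine ⟨hvz, fun h => hz1 ?_⟩
          exact (mul_eq_left.1 h.symm)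
        · simp only [Finset.mem_insert, Finset.mem_singleton, not_or]
          exact ⟨Ne.symm hv1, Ne.symm hz1, Ne.symm hvz1⟩
      rw [h2]
    · exact Set.toFinite _
  have hCv : centralizer ({v} : Set S) ≤ V := by
    intro x hx
    apply hC
    rw [mem_centralizer_iff]
    have hxv : v * x = x * v := mem_centralizer_iff.1 hx v rfl
    intro w hw
    rw [hVset] at hw
    simp only [Set.mem_insert_iff, Set.mem_singleton_iff] at hw
    rcases hw with rfl | rfl | rfl | rfl
    · rw [one_mul, mul_one]
    · exact hxv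
    · exact (hzcomm x).symm
    · rw [mul_assoc, ← hzcomm x, ← mul_assoc, hxv, mul_assoc]
  -- the map `x ↦ [x, v]`
  have hmem : ∀ x : S, x * v * x⁻¹ * v⁻¹ ∈ commutator S := by
    intro x
    exact Subgroup.commutator_mem_commutator (mem_top x) (mem_top v)
  have hcardS : Nat.card (commutator S) * (commutator S).index = Nat.card S :=
    card_mul_index _
  have h4i := four_le_index hS hna
  have hVi : 4 * (centralizer ({v} : Set S)).index ≥ Nat.card S := by
    have h1 := card_mul_index (centralizer ({v} : Set S))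
    have h2 : Nat.card (centralizer ({v} : Set S)) ≤ 4 := by
      rw [← hV]
      exact Nat.card_le_card_of_injective (Subgroup.inclusion hCv)
        (Subgroup.inclusion_injective hCv)
    nlinarith
  -- surjectivity onto `S'`
  let f : S ⧸ centralizer ({v} : Set S) → ↥(commutator S) := fun q =>
    Quotient.liftOn' q (fun x => ⟨x * v * x⁻¹ * v⁻¹, hmem x⟩) (by
      intro a b hab
      have h1 : a⁻¹ * b ∈ centralizer ({v} : Set S) := QuotientGroup.leftRel_apply.1 hab
      have h2 := mem_centralizer_iff.1 h1 v rfl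
      apply Subtype.ext
      change a * v * a⁻¹ * v⁻¹ = b * v * b⁻¹ * v⁻¹
      have h3 : a * v * a⁻¹ = b * v * b⁻¹ := by
        calc a * v * a⁻¹ = a * (v * (a⁻¹ * b)) * b⁻¹ := by group
          _ = a * (a⁻¹ * b * v) * b⁻¹ := by rw [h2]
          _ = b * v * b⁻¹ := by group
      rw [h3])
  have hfinj : Function.Injective f := by
    intro p q hpq
    obtain ⟨a, rfl⟩ := QuotientGroup.mk_surjective p
    obtain ⟨b, rfl⟩ := QuotientGroup.mk_surjective q
    have h1 : a * v * a⁻¹ * v⁻¹ = b * v * b⁻¹ * v⁻¹ := congrArg Subtype.val hpq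
    have h3 : a * v * a⁻¹ = b * v * b⁻¹ := mul_right_cancel h1
    apply QuotientGroup.eq.2
    rw [mem_centralizer_iff]
    intro y hy
    rw [Set.mem_singleton_iff.1 hy]
    calc v * (a⁻¹ * b) = a⁻¹ * (a * v * a⁻¹) * b := by group
      _ = a⁻¹ * (b * v * b⁻¹) * b := by rw [h3]
      _ = a⁻¹ * b * v := by group
  have hcard1 : (centralizer ({v} : Set S)).index ≤ Nat.card (commutator S) := by
    rw [index_eq_card]
    exact Nat.card_le_card_of_injective f hfinj
  have hindex : (commutator S).index = 4 := by
    have h0 : 0 < Nat.card (commutator S) := Nat.card_pos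
    nlinarith
  have hcard2 : Nat.card (commutator S) = (centralizer ({v} : Set S)).index := by
    rw [hindex] at hcardS
    omega
  have hfsurj : Function.Surjective f := by
    have h1 : Nat.card (S ⧸ centralizer ({v} : Set S)) = Nat.card ↥(commutator S) := by
      rw [hcard2, index_eq_card]
    exact ((Nat.bijective_iff_injective_and_card f).2 ⟨hfinj, h1⟩).2
  have hex : ∀ s ∈ commutator S, ∃ x : S, s = x * v * x⁻¹ * v⁻¹ := by
    intro s hs
    obtain ⟨q, hq⟩ := hfsurj ⟨s, hs⟩
    obtain ⟨x, rfl⟩ := QuotientGroup.mk_surjective q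
    exact ⟨x, (congrArg Subtype.val hq).symm⟩
  have hvinv : v⁻¹ = v := inv_eq_of_mul_eq_one_left hvv
  have hinv : ∀ s ∈ commutator S, v * s * v⁻¹ = s⁻¹ := by
    intro s hs
    obtain ⟨x, rfl⟩ := hex s hs
    rw [hvinv]
    calc v * (x * v * x⁻¹ * v) * v = v * (x * v * x⁻¹) * (v * v) := by group
      _ = v * (x * v * x⁻¹) := by rw [hvv, mul_one]
      _ = v⁻¹ * (x * v⁻¹ * x⁻¹) := by rw [hvinv]
      _ = (x * v * x⁻¹ * v)⁻¹ := by group
  have hinter : ∀ s ∈ commutator S, s * s = 1 → s = 1 ∨ s = z := by
    intro s hs hss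
    have h1 := hinv s hs
    rw [inv_eq_of_mul_eq_one_left hss] at h1
    have h2 : s ∈ V := by
      apply hCv
      rw [mem_centralizer_iff]
      intro y hy
      rw [Set.mem_singleton_iff.1 hy]
      calc v * s = v * s * v⁻¹ * v := by group
        _ = s * v := by rw [h1]
    have h3 : s ∈ (V : Set S) := h2
    rw [hVset] at h3
    simp only [Set.mem_insert_iff, Set.mem_singleton_iff] at h3
    rcases h3 with h3 | h3 | h3 | h3
    · exact Or.inl h3
    · exfalso
      obtain ⟨x, hx⟩ := hex s hs
      rw [h3] at hx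
      apply hv1
      have h4 : x * v * x⁻¹ = 1 := by
        calc x * v * x⁻¹ = (x * v * x⁻¹ * v⁻¹) * v := by group
          _ = v * v := by rw [← hx]
          _ = 1 := hvv
      calc v = x⁻¹ * (x * v * x⁻¹) * x := by group
        _ = 1 := by rw [h4]; group
    · exact Or.inr h3
    · exfalso
      obtain ⟨x, hx⟩ := hex s hs
      rw [h3] at hx
      apply hvz
      have h4 : x * v * x⁻¹ = z := by
        calc x * v * x⁻¹ = (x * v * x⁻¹ * v⁻¹) * v := by group
          _ = v * z * v := by rw [← hx]
          _ = v * (z * v) := by group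
          _ = v * (v * z) := by rw [hzcomm v]
          _ = (v * v) * z := by group
          _ = z := by rw [hvv, one_mul]
      calc v = x⁻¹ * (x * v * x⁻¹) * x := by group
        _ = x⁻¹ * (z * x) := by rw [h4]; group
        _ = z := by rw [← hzcomm x]; group
  -- `|A ∩ S'| ≤ 2`
  have hAint : Nat.card ↥(commutator S ⊓ A : Subgroup S) ≤ 2 := by
    have h1 : ((commutator S ⊓ A : Subgroup S) : Set S) ⊆ {1, z} := by
      rintro s ⟨hs, hsA⟩
      exact hinter s hs (hA s hsA)
    have h2 : ((commutator S ⊓ A : Subgroup S) : Set S).ncard ≤ ({1, z} : Set S).ncard :=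
      Set.ncard_le_ncard h1 (Set.toFinite _)
    have h3 : ({1, z} : Set S).ncard ≤ 2 := Set.ncard_insert_le _ _ |>.trans (by
      rw [Set.ncard_singleton])
    exact h2.trans h3
  have hrel : (commutator S).relIndex A * Nat.card ↥(commutator S ⊓ A : Subgroup S) =
      Nat.card A := by
    have h1 := relIndex_inf_mul_relIndex (⊥ : Subgroup S) (commutator S) A
    rw [relIndex_bot_left, bot_inf_eq, relIndex_bot_left] at h1
    rw [mul_comm]
    exact h1
  have h4A : 3 ≤ (commutator S).relIndex A := by
    by_contra h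
    push Not at h
    have h5 : (commutator S).relIndex A * Nat.card ↥(commutator S ⊓ A : Subgroup S) ≤ 2 * 2 :=
      Nat.mul_le_mul (by omega) hAint
    omega
  have hsup : A ⊔ commutator S = ⊤ := by
    have h1 := relIndex_mul_index (le_sup_right : commutator S ≤ A ⊔ commutator S)
    rw [relIndex_sup_right, hindex] at h1
    have h2 : (A ⊔ commutator S).index = 1 := by
      have h3 : (A ⊔ commutator S).index ≠ 0 := index_ne_zero_of_finite
      by_contra h4
      have h5 : 2 ≤ (A ⊔ commutator S).index := by omega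
      nlinarith
    exact index_eq_one.1 h2
  have hAtop := eq_top_of_sup hS hsup
  apply hna
  intro x y
  exact comm_of_sq hA (by rw [hAtop]; exact mem_top x) (by rw [hAtop]; exact mem_top y)

open Cfsg in
/-- The version for a Sylow 2-subgroup. -/
theorem pRankLE {G : Type*} [Group G] [Finite G] (P : Sylow 2 G) {V : Subgroup G}
    (hVP : V ≤ (P : Subgroup G)) (hV : Nat.card V = 4) (hV2 : ∀ v ∈ V, v * v = 1)
    (hC : (P : Subgroup G) ⊓ centralizer (V : Set G) ≤ V) : PRankLE 2 2 G := by
  intro A _ hA
  have hAp : IsPGroup 2 A := by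
    intro a
    exact ⟨1, Subtype.ext (by simpa using hA a a.2)⟩
  obtain ⟨Q, hQ⟩ := hAp.exists_le_sylow
  obtain ⟨g, hg⟩ := MulAction.exists_smul_eq G Q P
  let A' : Subgroup G := A.map (MulAut.conj g).toMonoidHom
  have hA'P : A' ≤ (P : Subgroup G) := by
    rw [← hg]
    rintro _ ⟨a, ha, rfl⟩
    rw [Sylow.coe_subgroup_smul]
    exact Subgroup.smul_mem_pointwise_smul a (MulAut.conj g) (Q : Subgroup G) (hQ ha)
  have hcard : Nat.card A' = Nat.card A :=
    (Nat.card_congr (A.equivMapOfInjective _ (MulAut.conj g).injective).toEquiv).symm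
  have h1 := card_le (S := ↥(P : Subgroup G)) P.2 (V := V.subgroupOf P) (A := A'.subgroupOf P)
    (by rw [← hV]; exact Nat.card_congr (subgroupOfEquivOfLe hVP).toEquiv)
    (fun v hv => Subtype.ext (hV2 v (mem_subgroupOf.1 hv)))
    (by
      intro x hx
      rw [mem_subgroupOf]
      apply hC
      refine ⟨x.2, ?_⟩
      rw [mem_centralizer_iff] at hx
      refine mem_centralizer_iff.2 ?_
      intro v hv
      exact congrArg Subtype.val (hx ⟨v, hVP hv⟩ (mem_subgroupOf.2 hv)))
    (fun a ha => by
      obtain ⟨b, hb, hb'⟩ := mem_subgroupOf.1 ha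
      apply Subtype.ext
      change (a : G) * (a : G) = 1
      rw [← hb', ← map_mul, ← pow_two, hA b hb, map_one])
  have h2 : Nat.card ↥(A'.subgroupOf (P : Subgroup G)) = Nat.card A' :=
    Nat.card_congr (subgroupOfEquivOfLe hA'P).toEquiv
  rw [h2, hcard] at h1
  exact h1

end Cfsg.Agent.MinSimple.SelfCentFour
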