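import Mathlib
import Cfsg.Prelude.Def_CaseTheorems
import Cfsg.Agent.ZN.Facts
import Cfsg.Agent.ZN.Block

/-!
# The point-line geometry of a pair `(N_G(V), C_G(z))` with `|V| = 4`

Points are the conjugates of the involution `z`, lines the conjugates of the four-group `V ∋ z`; `T` is a common
Sylow 2-subgroup of `N_G(V)` and `C_G(z)`. Every 2-local subgroup of `G` is solvable and of characteristic 2, and
`N_G(V)`, `C_G(z)` have no common normal 2-subgroup.

* `lines V x`: the lines through the point `x`; `ws V x`: the subgroup generated by them;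
* `Geo.V_le_o2`, `Geo.ws_le_o2`, `Geo.comm_ws_o2`, `Geo.ws_sq`, `Geo.ws_comm`;
* `kq V x`: the kernel of `C_G(x)` on `ws V x / ⟨x⟩`; `Geo.le_kq`: `O₂(C_G(x)/kq V x) = 1`.
-/

set_option autoImplicit false
set_option linter.dupNamespace false

namespace Cfsg.Agent.MinSimple.Geo

open Subgroup Cfsg Cfsg.Agent.ZN
open Cfsg.Agent.ZN.Block (conj_mem_of_normalizer conj_mem_of_normalizer' le_normalizer_of_forall
  mem_normalizer_of)

universe u

variable {G : Type u} [Group G]

/-- conjugate of a subgroup -/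
abbrev cj (g : G) (H : Subgroup G) : Subgroup G := H.map (MulAut.conj g).toMonoidHom

theorem mem_cj {g x : G} {H : Subgroup G} : x ∈ cj g H ↔ g⁻¹ * x * g ∈ H := by
  constructor
  · rintro ⟨h, hh, rfl⟩
    have : g⁻¹ * ((MulAut.conj g).toMonoidHom h) * g = h := by
      change g⁻¹ * (g * h * g⁻¹) * g = h
      group
    rw [this]; exact hh
  · intro h
    refine ⟨_, h, ?_⟩
    change g * (g⁻¹ * x * g) * g⁻¹ = x
    group

theorem conj_mem_cj {g x : G} {H : Subgroup G} (h : x ∈ H) : g * x * g⁻¹ ∈ cj g H := ⟨x, h, rfl⟩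

theorem cj_cj (g h : G) (H : Subgroup G) : cj g (cj h H) = cj (g * h) H := by
  ext x
  simp only [mem_cj]
  have : (g * h)⁻¹ * x * (g * h) = h⁻¹ * (g⁻¹ * x * g) * h := by group
  rw [this]

theorem cj_one (H : Subgroup G) : cj 1 H = H := by
  ext x; simp

theorem cj_inv_cj (g : G) (H : Subgroup G) : cj g⁻¹ (cj g H) = H := by
  rw [cj_cj, inv_mul_cancel, cj_one]

theorem cj_cj_inv (g : G) (H : Subgroup G) : cj g (cj g⁻¹ H) = H := by
  rw [cj_cj, mul_inv_cancel, cj_one]

theorem cj_mono {g : G} {H K : Subgroup G} (h : H ≤ K) : cj g H ≤ cj g K := Subgroup.map_mono h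

theorem cj_le_iff {g : G} {H K : Subgroup G} : cj g H ≤ K ↔ H ≤ cj g⁻¹ K := by
  constructor
  · intro h
    have := cj_mono (g := g⁻¹) h
    rwa [cj_inv_cj] at this
  · intro h
    have := cj_mono (g := g) h
    rwa [cj_cj_inv] at this

theorem cj_le_cj {g : G} {H K : Subgroup G} : cj g H ≤ cj g K ↔ H ≤ K := by
  rw [cj_le_iff, cj_inv_cj]

theorem cj_eq_of_mem_normalizer {g : G} {H : Subgroup G} (h : g ∈ normalizer (H : Set G)) : cj g H = H :=
  map_conj_eq_of_mem_normalizer h

theorem mem_normalizer_iff_cj {g : G} {H : Subgroup G} : g ∈ normalizer (H : Set G) ↔ cj g H = H :=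
  ⟨map_conj_eq_of_mem_normalizer, mem_normalizer_of_map_conj_eq⟩

theorem cj_inf (g : G) (H K : Subgroup G) : cj g (H ⊓ K) = cj g H ⊓ cj g K := by
  ext x
  rw [mem_inf, mem_cj, mem_cj, mem_cj, mem_inf]

theorem cj_normalizer (g : G) (H : Subgroup G) :
    cj g (normalizer (H : Set G)) = normalizer ((cj g H : Subgroup G) : Set G) := by
  ext x
  rw [mem_cj, mem_normalizer_iff_cj, mem_normalizer_iff_cj, cj_cj]
  constructor
  · intro h
    have := congrArg (cj g) h
    rw [cj_cj] at this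
    have e : g * (g⁻¹ * x * g) = x * g := by group
    rwa [e] at this
  · intro h
    have := congrArg (cj g⁻¹) h
    rw [cj_cj, cj_cj, inv_mul_cancel, cj_one] at this
    have e : g⁻¹ * (x * g) = g⁻¹ * x * g := by group
    rwa [e] at this

theorem cj_centralizer_singleton (g x : G) :
    cj g (centralizer ({x} : Set G)) = centralizer ({g * x * g⁻¹} : Set G) := by
  ext y
  rw [mem_cj, mem_centralizer_singleton_iff, mem_centralizer_singleton_iff]
  constructor
  · intro h
    calc y * (g * x * g⁻¹) = g * (g⁻¹ * y * g * x) * g⁻¹ := by group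
      _ = g * (x * (g⁻¹ * y * g)) * g⁻¹ := by rw [h]
      _ = g * x * g⁻¹ * y := by group
  · intro h
    calc g⁻¹ * y * g * x = g⁻¹ * (y * (g * x * g⁻¹)) * g := by group
      _ = g⁻¹ * (g * x * g⁻¹ * y) * g := by rw [h]
      _ = x * (g⁻¹ * y * g) := by group

theorem cj_o2 (g : G) (L : Subgroup G) : cj g (o2 L) = o2 (cj g L) :=
  (o2_map _ (MulAut.conj g).injective L).symm

theorem card_cj (g : G) (H : Subgroup G) : Nat.card (cj g H) = Nat.card H :=
  card_map_of_injective (MulAut.conj g).injective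

theorem relIndex_cj (g : G) (H K : Subgroup G) : (cj g H).relIndex (cj g K) = H.relIndex K :=
  relIndex_map_map_of_injective _ _ (MulAut.conj g).injective

/-! ### points and lines -/

/-- the lines through `x` -/
def lines (V : Subgroup G) (x : G) : Set (Subgroup G) := {L | (∃ g : G, L = cj g V) ∧ x ∈ L}

/-- the subgroup generated by the lines through `x` -/
def ws (V : Subgroup G) (x : G) : Subgroup G := sSup (lines V x)

theorem le_ws {V L : Subgroup G} {x : G} (h : L ∈ lines V x) : L ≤ ws V x := le_sSup h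

theorem ws_le {V U : Subgroup G} {x : G} (h : ∀ L ∈ lines V x, L ≤ U) : ws V x ≤ U := sSup_le h

theorem mem_lines_cj {V L : Subgroup G} {x g : G} (h : L ∈ lines V x) : cj g L ∈ lines V (g * x * g⁻¹) := by
  obtain ⟨⟨h, rfl⟩, hx⟩ := h
  exact ⟨⟨g * h, cj_cj _ _ _⟩, conj_mem_cj hx⟩

theorem cj_ws (V : Subgroup G) (g x : G) : cj g (ws V x) = ws V (g * x * g⁻¹) := by
  have key : ∀ (g x : G), cj g (ws V x) ≤ ws V (g * x * g⁻¹) := by
    intro g x
    rw [cj_le_iff]
    refine ws_le fun L hL => ?_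
    rw [← cj_le_iff]
    exact le_ws (mem_lines_cj hL)
  refine le_antisymm (key g x) ?_
  have h := key g⁻¹ (g * x * g⁻¹)
  have e : g⁻¹ * (g * x * g⁻¹) * g⁻¹⁻¹ = x := by group
  rw [e, cj_le_iff, inv_inv] at h
  exact h

theorem centralizer_le_normalizer_ws (V : Subgroup G) (x : G) :
    centralizer ({x} : Set G) ≤ normalizer ((ws V x : Subgroup G) : Set G) := by
  intro g hg
  rw [mem_normalizer_iff_cj, cj_ws]
  have : g * x * g⁻¹ = x := by
    rw [mem_centralizer_singleton_iff.mp hg]; group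
  rw [this]

/-- the kernel of `C_G(x)` on `ws V x / ⟨x⟩` -/
def kq (V : Subgroup G) (x : G) : Subgroup G where
  carrier := {c | c ∈ centralizer ({x} : Set G) ∧
    (∀ w ∈ ws V x, c * w * c⁻¹ * w⁻¹ ∈ zpowers x) ∧ ∀ w ∈ ws V x, c⁻¹ * w * c * w⁻¹ ∈ zpowers x}
  mul_mem' := by
    rintro a b ⟨ha, ha1, ha2⟩ ⟨hb, hb1, hb2⟩
    have hzc : ∀ c ∈ centralizer ({x} : Set G), ∀ y ∈ zpowers x, c * y * c⁻¹ = y := by
      intro c hc y hy
      obtain ⟨n, rfl⟩ := mem_zpowers_iff.mp hy
      have h : Commute c x := mem_centralizer_singleton_iff.mp hc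
      rw [(h.zpow_right n).eq, mul_inv_cancel_right]
    refine ⟨mul_mem ha hb, fun w hw => ?_, fun w hw => ?_⟩
    · have e : a * b * w * (a * b)⁻¹ * w⁻¹ = a * (b * w * b⁻¹ * w⁻¹) * a⁻¹ * (a * w * a⁻¹ * w⁻¹) := by group
      rw [e, hzc a ha _ (hb1 w hw)]
      exact mul_mem (hb1 w hw) (ha1 w hw)
    · have e : (a * b)⁻¹ * w * (a * b) * w⁻¹ =
          b⁻¹ * (a⁻¹ * w * a * w⁻¹) * b⁻¹⁻¹ * (b⁻¹ * w * b * w⁻¹) := by group
      rw [e, hzc b⁻¹ (inv_mem hb) _ (ha2 w hw)]
      exact mul_mem (ha2 w hw) (hb2 w hw)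
  one_mem' := by
    refine ⟨one_mem _, fun w _ => ?_, fun w _ => ?_⟩ <;> simp
  inv_mem' := by
    rintro a ⟨ha, ha1, ha2⟩
    refine ⟨inv_mem ha, fun w hw => ?_, fun w hw => ?_⟩
    · rw [inv_inv]; exact ha2 w hw
    · rw [inv_inv]; exact ha1 w hw


/-! ### involutions -/

theorem mem_zpowers_iff_of_mul_self {z y : G} (hz : z * z = 1) : y ∈ zpowers z ↔ y = 1 ∨ y = z := by
  constructor
  · rintro h
    obtain ⟨n, rfl⟩ := mem_zpowers_iff.mp h
    have h2 : z ^ (2 : ℤ) = 1 := by rw [zpow_two]; exact hz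
    rcases Int.even_or_odd' n with ⟨k, rfl | rfl⟩
    · left; rw [zpow_mul, h2, one_zpow]
    · right; rw [zpow_add, zpow_mul, h2, one_zpow, one_mul, zpow_one]
  · rintro (rfl | rfl)
    · exact one_mem _
    · exact mem_zpowers _

theorem inv_eq_self {z : G} (hz : z * z = 1) : z⁻¹ = z := inv_eq_of_mul_eq_one_left hz

theorem normalizer_zpowers {z : G} (hz : z * z = 1) (hz1 : z ≠ 1) :
    normalizer ((zpowers z : Subgroup G) : Set G) = centralizer ({z} : Set G) := by
  ext g
  rw [mem_normalizer_iff, mem_centralizer_singleton_iff]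
  constructor
  · intro h
    have h1 := (h z).mp (mem_zpowers z)
    rcases (mem_zpowers_iff_of_mul_self hz).mp h1 with h2 | h2
    · exfalso
      apply hz1
      have : z = g⁻¹ * (g * z * g⁻¹) * g := by group
      rw [this, h2]; group
    · calc g * z = (g * z * g⁻¹) * g := by group
        _ = z * g := by rw [h2]
  · intro h y
    constructor
    · intro hy
      rcases (mem_zpowers_iff_of_mul_self hz).mp hy with rfl | rfl
      · simp
      · rw [h, mul_inv_cancel_right]; exact mem_zpowers _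
    · intro hy
      have e : y = g⁻¹ * (g * y * g⁻¹) * g := by group
      rcases (mem_zpowers_iff_of_mul_self hz).mp hy with h1 | h1
      · rw [e, h1]; simp
      · rw [e, h1]
        have : g⁻¹ * z * g = z := by rw [mul_assoc, ← h, inv_mul_cancel_left]
        rw [this]; exact mem_zpowers _

theorem isPGroup_zpowers {z : G} (hz : z * z = 1) : IsPGroup 2 (zpowers z) := by
  intro g
  refine ⟨1, ?_⟩
  rcases (mem_zpowers_iff_of_mul_self hz).mp g.2 with h | h
  · ext; simp [h]
  · ext; simp [h, pow_two, hz]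

theorem isTwoLocal_centralizer {z : G} (hz : z * z = 1) (hz1 : z ≠ 1) :
    IsTwoLocal (centralizer ({z} : Set G)) :=
  ⟨zpowers z, isPGroup_zpowers hz, by simpa using hz1, (normalizer_zpowers hz hz1).symm⟩

/-- characteristic 2 in a group of characteristic 2 type -/
theorem inf_centralizer_o2_le (hc : IsCharacteristicTwoType G) {N : Subgroup G} (hN : IsTwoLocal N) :
    N ⊓ centralizer (o2 N : Set G) ≤ o2 N := by
  obtain ⟨T, hT, hT1, rfl⟩ := hN
  have h := hc.2 T hT hT1
  rintro g ⟨hg, hg2⟩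
  have h1 : (⟨g, hg⟩ : normalizer (T : Set G)) ∈ centralizer (pCore 2 (normalizer (T : Set G)) : Set _) := by
    rw [mem_centralizer_iff]
    intro q hq
    ext
    exact mem_centralizer_iff.mp hg2 q ⟨q, hq, rfl⟩
  exact ⟨_, h h1, rfl⟩

/-- Stability: elements of `C_G(z)` which centralize `O₂/⟨z⟩` lie in `O₂(C_G(z))`. -/
theorem mem_o2_of_stab (hc : IsCharacteristicTwoType G) {z : G} (hz : z * z = 1) (hz1 : z ≠ 1) {g : G}
    (hg : g ∈ centralizer ({z} : Set G))
    (h : ∀ q ∈ o2 (centralizer ({z} : Set G)), g * q * g⁻¹ * q⁻¹ ∈ zpowers z) :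
    g ∈ o2 (centralizer ({z} : Set G)) := by
  set C := centralizer ({z} : Set G) with hC
  have hCn := le_normalizer_o2 C
  have hzc : ∀ c ∈ C, ∀ y ∈ zpowers z, c * y * c⁻¹ = y := by
    intro c hc y hy
    obtain ⟨n, rfl⟩ := mem_zpowers_iff.mp hy
    have h : Commute c z := mem_centralizer_singleton_iff.mp hc
    rw [(h.zpow_right n).eq, mul_inv_cancel_right]
  let A : Subgroup G :=
    { carrier := {g | g ∈ C ∧ ∀ q ∈ o2 C, g * q * g⁻¹ * q⁻¹ ∈ zpowers z}
      mul_mem' := by
        rintro a b ⟨ha, ha1⟩ ⟨hb, hb1⟩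
        refine ⟨mul_mem ha hb, fun q hq => ?_⟩
        have e : a * b * q * (a * b)⁻¹ * q⁻¹ =
            a * (b * q * b⁻¹ * q⁻¹) * a⁻¹ * (a * q * a⁻¹ * q⁻¹) := by group
        rw [e, hzc a ha _ (hb1 q hq)]
        exact mul_mem (hb1 q hq) (ha1 q hq)
      one_mem' := ⟨one_mem _, fun q _ => by simp⟩
      inv_mem' := by
        rintro a ⟨ha, ha1⟩
        refine ⟨inv_mem ha, fun q hq => ?_⟩
        have h1 := ha1 (a⁻¹ * q * a) (conj_mem_of_normalizer' hCn ha hq)
        have e : a * (a⁻¹ * q * a) * a⁻¹ * (a⁻¹ * q * a)⁻¹ = (a⁻¹ * q * a⁻¹⁻¹ * q⁻¹)⁻¹ := by group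
        rw [e] at h1
        exact (inv_mem_iff).mp h1 }
  have hA2 : IsPGroup 2 A := by
    rintro ⟨a, ha, ha1⟩
    have h2 : a * a ∈ o2 C := by
      refine inf_centralizer_o2_le hc (isTwoLocal_centralizer hz hz1) ⟨mul_mem ha ha, ?_⟩
      refine mem_centralizer_iff.mpr fun q hq => ?_
      have h3 := ha1 q hq
      rcases (mem_zpowers_iff_of_mul_self hz).mp h3 with h4 | h4
      · have : a * q = q * a := by
          calc a * q = (a * q * a⁻¹ * q⁻¹) * q * a := by group
            _ = q * a := by rw [h4, one_mul]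
        calc q * (a * a) = (q * a) * a := by group
          _ = a * (q * a) := by rw [← mul_assoc, this]
          _ = a * a * q := by rw [mul_assoc a a q, this]
      · have h5 : a * q = z * q * a := by
          calc a * q = (a * q * a⁻¹ * q⁻¹) * q * a := by group
            _ = z * q * a := by rw [h4]
        have h6 : a * z = z * a := mem_centralizer_singleton_iff.mp ha
        symm
        calc a * a * q = a * (a * q) := by group
          _ = (a * z) * q * a := by rw [h5]; group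
          _ = z * (a * q) * a := by rw [h6]; group
          _ = (z * z) * q * (a * a) := by rw [h5]; group
          _ = q * (a * a) := by rw [hz, one_mul]
    obtain ⟨n, hn⟩ := (isPGroup_o2 C) ⟨_, h2⟩
    refine ⟨n + 1, ?_⟩
    have hn' : (a * a) ^ 2 ^ n = 1 := by simpa using congrArg Subtype.val hn
    ext
    change a ^ 2 ^ (n + 1) = 1
    rw [pow_succ, mul_comm (2 ^ n), pow_mul, pow_two]
    exact hn'
  have hAn : C ≤ normalizer (A : Set G) := by
    refine le_normalizer_of_forall ?_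
    rintro c hc a ⟨ha, ha1⟩
    refine ⟨mul_mem (mul_mem hc ha) (inv_mem hc), fun q hq => ?_⟩
    have h1 := ha1 (c⁻¹ * q * c) (conj_mem_of_normalizer' hCn hc hq)
    have e : c * a * c⁻¹ * q * (c * a * c⁻¹)⁻¹ * q⁻¹ =
        c * (a * (c⁻¹ * q * c) * a⁻¹ * (c⁻¹ * q * c)⁻¹) * c⁻¹ := by group
    rw [e, hzc c hc _ h1]
    exact h1
  exact le_o2 (U := A) (fun _ h => h.1) hA2 hAn ⟨hg, h⟩

/-! ### the situation (E1) with `|V| = 4` -/

/-- The situation (E1) with `|V| = 4`. -/
structure Geo (T V : Subgroup G) (z : G) : Prop where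
  charTwo : IsCharacteristicTwoType G
  solv : ∀ N : Subgroup G, IsTwoLocal N → Group.IsSolvable N
  two : IsPGroup 2 T
  T_le : T ≤ centralizer ({z} : Set G)
  T_syl : ¬ 2 ∣ T.relIndex (centralizer ({z} : Set G))
  V_le : V ≤ T
  T_norm : T ≤ normalizer (V : Set G)
  T_syl' : ¬ 2 ∣ T.relIndex (normalizer (V : Set G))
  card_V : Nat.card V = 4
  sq : ∀ v ∈ V, v * v = 1
  z_mem : z ∈ V
  z_ne : z ≠ 1
  trans : ∀ v ∈ V, v ≠ 1 → ∃ g ∈ normalizer (V : Set G), g * z * g⁻¹ = v
  soc : ∀ t ∈ T, t * t = 1 → (∀ s ∈ T, s * t = t * s) → t = 1 ∨ t = z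
  core : ∀ U : Subgroup G, IsPGroup 2 U → normalizer (V : Set G) ≤ normalizer (U : Set G) →
    centralizer ({z} : Set G) ≤ normalizer (U : Set G) → U = ⊥

namespace Geo

variable {T V : Subgroup G} {z : G}

theorem zz (h : Geo T V z) : z * z = 1 := h.sq z h.z_mem

theorem comm (h : Geo T V z) {a b : G} (ha : a ∈ V) (hb : b ∈ V) : a * b = b * a := by
  have h1 := h.sq _ (mul_mem ha hb)
  have h2 := h.sq a ha
  have h3 := h.sq b hb
  calc a * b = (a * b) * (a * b * (a * b)) := by rw [h1, mul_one]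
    _ = a * b * (a * b) * (a * b) := by group
    _ = (b * a) := by
      rw [h1, one_mul]
      calc a * b = (a * b)⁻¹ := (inv_eq_self h1).symm
        _ = b⁻¹ * a⁻¹ := by group
        _ = b * a := by rw [inv_eq_self h2, inv_eq_self h3]

theorem inv_eq (h : Geo T V z) {a : G} (ha : a ∈ V) : a⁻¹ = a := inv_eq_self (h.sq a ha)

theorem exists_y (h : Geo T V z) : ∃ y ∈ V, y ≠ 1 ∧ y ≠ z := by
  by_contra hcon
  push Not at hcon
  have : (V : Set G) ⊆ {1, z} := by
    intro v hv
    by_cases h1 : v = 1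
    · exact Or.inl h1
    · exact Or.inr (hcon v hv h1)
  have h2 := Set.ncard_le_ncard this (Set.toFinite _)
  have h3 : (V : Set G).ncard = 4 := by rw [← h.card_V]; rfl
  have h4 : ({1, z} : Set G).ncard = 2 := Set.ncard_pair (Ne.symm h.z_ne)
  omega

/-- the four elements of `V` -/
theorem four (h : Geo T V z) {p q : G} (hp : p ∈ V) (hq : q ∈ V) (hp1 : p ≠ 1) (hq1 : q ≠ 1)
    (hpq : p ≠ q) {v : G} (hv : v ∈ V) : v = 1 ∨ v = p ∨ v = q ∨ v = p * q := by
  have hfin : Finite V := Nat.finite_of_card_ne_zero (by rw [h.card_V]; norm_num)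
  have hpq1 : p * q ≠ 1 := fun e => hpq (by
    rw [mul_eq_one_iff_eq_inv.mp e, h.inv_eq hq])
  have hpqp : p * q ≠ p := fun e => hq1 (by simpa using e)
  have hpqq : p * q ≠ q := fun e => hp1 (by simpa using e)
  have h1 : ({1, p, q, p * q} : Set G) ⊆ (V : Set G) := by
    rintro x (rfl | rfl | rfl | rfl)
    · exact V.one_mem
    · exact hp
    · exact hq
    · exact V.mul_mem hp hq
  have h2 : ({1, p, q, p * q} : Set G).ncard = 4 := by
    rw [Set.ncard_insert_of_notMem, Set.ncard_insert_of_notMem, Set.ncard_pair (Ne.symm hpqq)]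
    · rintro (e | e)
      · exact hpq e
      · exact hpqp e.symm
    · rintro (e | e | e)
      · exact hp1 e.symm
      · exact hq1 e.symm
      · exact hpq1 e.symm
  have h3 : (V : Set G).ncard = 4 := by rw [← h.card_V]; rfl
  have h4 : ({1, p, q, p * q} : Set G) = V := Set.eq_of_subset_of_ncard_le h1 (by rw [h2, h3])
    (Set.toFinite _)
  have : v ∈ ({1, p, q, p * q} : Set G) := by rw [h4]; exact hv
  simpa using this

/-- conjugation by a centralizing-normalizing element -/
theorem conj_cases (h : Geo T V z) {p q g : G} (hp : p ∈ V) (hq : q ∈ V) (hp1 : p ≠ 1) (hgp : g * p = p * g)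
    (hg : g ∈ normalizer (V : Set G)) : g * q * g⁻¹ = q ∨ g * q * g⁻¹ = p * q := by
  have hq' : g * q * g⁻¹ ∈ V := (mem_normalizer_iff.mp hg q).mp hq
  by_cases hq1 : q = 1
  · left; rw [hq1]; group
  by_cases hpq : q = p
  · left; rw [hpq, hgp]; group
  have hn1 : g * q * g⁻¹ ≠ 1 := fun e => hq1 (by
    have : q = g⁻¹ * (g * q * g⁻¹) * g := by group
    rw [this, e]; group)
  have hnp : g * q * g⁻¹ ≠ p := fun e => hpq (by
    have : q = g⁻¹ * (g * q * g⁻¹) * g := by group
    rw [this, e, mul_assoc, ← hgp]; group)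
  rcases h.four hp hq hp1 hq1 (Ne.symm hpq) hq' with e | e | e | e
  · exact absurd e hn1
  · exact absurd e hnp
  · exact Or.inl e
  · exact Or.inr e

theorem z_comm (_ : Geo T V z) {c : G} (hc : c ∈ centralizer ({z} : Set G)) : c * z = z * c :=
  mem_centralizer_singleton_iff.mp hc

/-- conjugate situation -/
theorem conj (h : Geo T V z) (g : G) : Geo (cj g T) (cj g V) (g * z * g⁻¹) where
  charTwo := h.charTwo
  solv := h.solv
  two := h.two.map _
  T_le := by rw [← cj_centralizer_singleton]; exact cj_mono h.T_le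
  T_syl := by rw [← cj_centralizer_singleton, relIndex_cj]; exact h.T_syl
  V_le := cj_mono h.V_le
  T_norm := by rw [← cj_normalizer]; exact cj_mono h.T_norm
  T_syl' := by rw [← cj_normalizer, relIndex_cj]; exact h.T_syl'
  card_V := by rw [card_cj]; exact h.card_V
  sq := by
    intro v hv
    rw [mem_cj] at hv
    have := h.sq _ hv
    have e : v * v = g * (g⁻¹ * v * g * (g⁻¹ * v * g)) * g⁻¹ := by group
    rw [e, this]; group
  z_mem := conj_mem_cj h.z_mem
  z_ne := fun e => h.z_ne (by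
    have : z = g⁻¹ * (g * z * g⁻¹) * g := by group
    rw [this, e]; group)
  trans := by
    intro v hv hv1
    rw [mem_cj] at hv
    obtain ⟨k, hk, hk2⟩ := h.trans _ hv (fun e => hv1 (by
      have : v = g * (g⁻¹ * v * g) * g⁻¹ := by group
      rw [this, e]; group))
    refine ⟨g * k * g⁻¹, ?_, ?_⟩
    · rw [← cj_normalizer]; exact conj_mem_cj hk
    · calc g * k * g⁻¹ * (g * z * g⁻¹) * (g * k * g⁻¹)⁻¹ = g * (k * z * k⁻¹) * g⁻¹ := by group
        _ = v := by rw [hk2]; group
  soc := by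
    intro t ht ht2 htc
    rw [mem_cj] at ht
    have h1 : g⁻¹ * t * g * (g⁻¹ * t * g) = 1 := by
      calc g⁻¹ * t * g * (g⁻¹ * t * g) = g⁻¹ * (t * t) * g := by group
        _ = 1 := by rw [ht2]; group
    rcases h.soc _ ht h1 (fun s hs => by
      have := htc (g * s * g⁻¹) (conj_mem_cj hs)
      calc s * (g⁻¹ * t * g) = g⁻¹ * (g * s * g⁻¹ * t) * g := by group
        _ = g⁻¹ * (t * (g * s * g⁻¹)) * g := by rw [this]
        _ = g⁻¹ * t * g * s := by group) with e | e
    · left
      have : t = g * (g⁻¹ * t * g) * g⁻¹ := by group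
      rw [this, e]; group
    · right
      have : t = g * (g⁻¹ * t * g) * g⁻¹ := by group
      rw [this, e]
  core := by
    intro U hU h1 h2
    have h3 := h.core (cj g⁻¹ U) (hU.map _) (by
      rw [← cj_normalizer, ← cj_le_iff, cj_normalizer]; exact h1) (by
      rw [← cj_normalizer, ← cj_le_iff, cj_centralizer_singleton]; exact h2)
    have := congrArg (cj g) h3
    rw [cj_cj_inv] at this
    rw [this]
    exact Subgroup.map_bot _

/-- each point of `V` is as good as `z` -/
theorem point (h : Geo T V z) {p : G} (hp : p ∈ V) (hp1 : p ≠ 1) :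
    ∃ g ∈ normalizer (V : Set G), g * z * g⁻¹ = p ∧ Geo (cj g T) V p := by
  obtain ⟨g, hg, rfl⟩ := h.trans p hp hp1
  refine ⟨g, hg, rfl, ?_⟩
  have := h.conj g
  rwa [cj_eq_of_mem_normalizer hg] at this

theorem V_mem_lines (h : Geo T V z) : V ∈ lines V z := ⟨⟨1, (cj_one V).symm⟩, h.z_mem⟩

theorem V_le_ws (h : Geo T V z) : V ≤ ws V z := le_ws h.V_mem_lines

/-- the lines through `z` are the `C_G(z)`-conjugates of `V` -/
theorem exists_of_mem_lines (h : Geo T V z) {L : Subgroup G} (hL : L ∈ lines V z) :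
    ∃ c ∈ centralizer ({z} : Set G), L = cj c V := by
  obtain ⟨⟨g, rfl⟩, hz⟩ := hL
  rw [mem_cj] at hz
  obtain ⟨k, hk, hk2⟩ := h.trans _ hz (fun e => h.z_ne (by
    have : z = g * (g⁻¹ * z * g) * g⁻¹ := by group
    rw [this, e]; group))
  refine ⟨g * k, ?_, ?_⟩
  · rw [mem_centralizer_singleton_iff]
    calc g * k * z = g * (k * z * k⁻¹) * k := by group
      _ = z * (g * k) := by rw [hk2]; group
  · rw [← cj_cj, cj_eq_of_mem_normalizer hk]

theorem cj_mem_lines (h : Geo T V z) {c : G} (hc : c ∈ centralizer ({z} : Set G)) : cj c V ∈ lines V z := by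
  refine ⟨⟨c, rfl⟩, ?_⟩
  rw [mem_cj, mul_assoc, ← h.z_comm hc, inv_mul_cancel_left]
  exact h.z_mem

theorem V_le_o2 [Finite G] (h : Geo T V z) : V ≤ o2 (centralizer ({z} : Set G)) := by
  have hQT : o2 (centralizer ({z} : Set G)) ≤ T := o2_le_of_sylow h.T_le h.two h.T_syl
  intro v hv
  refine mem_o2_of_stab h.charTwo h.zz h.z_ne (h.T_le (h.V_le hv)) fun q hq => ?_
  have hqT := hQT hq
  rcases h.conj_cases h.z_mem (inv_mem hv) h.z_ne (h.z_comm (h.T_le hqT)) (h.T_norm hqT) with e | e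
  · have : v * q * v⁻¹ * q⁻¹ = v * (q * v⁻¹ * q⁻¹) := by group
    rw [this, e, mul_inv_cancel]; exact one_mem _
  · have : v * q * v⁻¹ * q⁻¹ = v * (q * v⁻¹ * q⁻¹) := by group
    rw [this, e, ← mul_assoc, h.comm hv h.z_mem, mul_assoc, mul_inv_cancel, mul_one]
    exact mem_zpowers z

theorem ws_le_o2 [Finite G] (h : Geo T V z) : ws V z ≤ o2 (centralizer ({z} : Set G)) := by
  refine ws_le fun L hL => ?_
  obtain ⟨c, hc, rfl⟩ := h.exists_of_mem_lines hL
  have := cj_mono (g := c) h.V_le_o2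
  rwa [cj_eq_of_mem_normalizer (le_normalizer_o2 _ hc)] at this

theorem o2_le_T [Finite G] (h : Geo T V z) : o2 (centralizer ({z} : Set G)) ≤ T :=
  o2_le_of_sylow h.T_le h.two h.T_syl

theorem ws_le_T [Finite G] (h : Geo T V z) : ws V z ≤ T := h.ws_le_o2.trans h.o2_le_T

theorem ws_le_centralizer [Finite G] (h : Geo T V z) : ws V z ≤ centralizer ({z} : Set G) :=
  h.ws_le_T.trans h.T_le

theorem ws_le_normalizer [Finite G] (h : Geo T V z) : ws V z ≤ normalizer (V : Set G) :=
  h.ws_le_T.trans h.T_norm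

/-- `[V, O₂(C_G(z))] ≤ ⟨z⟩` and the same for `ws V z`. -/
theorem comm_mem [Finite G] (h : Geo T V z) {w q : G} (hw : w ∈ ws V z)
    (hq : q ∈ o2 (centralizer ({z} : Set G))) : w * q * w⁻¹ * q⁻¹ ∈ zpowers z := by
  set C := centralizer ({z} : Set G) with hC
  have hzc : ∀ c ∈ C, ∀ y ∈ zpowers z, c * y * c⁻¹ = y := by
    intro c hc y hy
    obtain ⟨n, rfl⟩ := mem_zpowers_iff.mp hy
    have h : Commute c z := mem_centralizer_singleton_iff.mp hc
    rw [(h.zpow_right n).eq, mul_inv_cancel_right]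
  let A : Subgroup G :=
    { carrier := {g | g ∈ C ∧ ∀ q ∈ o2 C, g * q * g⁻¹ * q⁻¹ ∈ zpowers z}
      mul_mem' := by
        rintro a b ⟨ha, ha1⟩ ⟨hb, hb1⟩
        refine ⟨mul_mem ha hb, fun q hq => ?_⟩
        have e : a * b * q * (a * b)⁻¹ * q⁻¹ =
            a * (b * q * b⁻¹ * q⁻¹) * a⁻¹ * (a * q * a⁻¹ * q⁻¹) := by group
        rw [e, hzc a ha _ (hb1 q hq)]
        exact mul_mem (hb1 q hq) (ha1 q hq)
      one_mem' := ⟨one_mem _, fun q _ => by simp⟩
      inv_mem' := by
        rintro a ⟨ha, ha1⟩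
        refine ⟨inv_mem ha, fun q hq => ?_⟩
        have h1 := ha1 (a⁻¹ * q * a) (conj_mem_of_normalizer' (le_normalizer_o2 C) ha hq)
        have e : a * (a⁻¹ * q * a) * a⁻¹ * (a⁻¹ * q * a)⁻¹ = (a⁻¹ * q * a⁻¹⁻¹ * q⁻¹)⁻¹ := by group
        rw [e] at h1
        exact (inv_mem_iff).mp h1 }
  have hVA : ∀ L ∈ lines V z, L ≤ A := by
    intro L hL
    obtain ⟨c, hc, rfl⟩ := h.exists_of_mem_lines hL
    intro x hx
    rw [mem_cj] at hx
    set v := c⁻¹ * x * c with hv
    have hxv : x = c * v * c⁻¹ := by rw [hv]; group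
    have hxC : x ∈ C := by
      rw [hxv]; exact mul_mem (mul_mem hc (h.T_le (h.V_le hx))) (inv_mem hc)
    refine ⟨hxC, fun q hq => ?_⟩
    have hq' := conj_mem_of_normalizer' (le_normalizer_o2 C) hc hq
    have hqT := h.o2_le_T hq'
    have e1 : x * q * x⁻¹ * q⁻¹ = c * (v * (c⁻¹ * q * c) * v⁻¹ * (c⁻¹ * q * c)⁻¹) * c⁻¹ := by
      rw [hxv]; group
    have h2 : v * (c⁻¹ * q * c) * v⁻¹ * (c⁻¹ * q * c)⁻¹ ∈ zpowers z := by
      set r := c⁻¹ * q * c with hr
      have : v * r * v⁻¹ * r⁻¹ = v * (r * v⁻¹ * r⁻¹) := by group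
      rw [this]
      rcases h.conj_cases h.z_mem (inv_mem hx) h.z_ne (h.z_comm (h.T_le hqT)) (h.T_norm hqT) with e | e
      · rw [e, mul_inv_cancel]; exact one_mem _
      · rw [e, ← mul_assoc, h.comm hx h.z_mem, mul_assoc, mul_inv_cancel, mul_one]
        exact mem_zpowers z
    rw [e1, hzc c hc _ h2]
    exact h2
  exact (ws_le hVA hw).2 q hq

theorem comm_cases [Finite G] (h : Geo T V z) {w q : G} (hw : w ∈ ws V z)
    (hq : q ∈ o2 (centralizer ({z} : Set G))) : w * q = q * w ∨ w * q = z * (q * w) := by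
  rcases (mem_zpowers_iff_of_mul_self h.zz).mp (h.comm_mem hw hq) with e | e
  · left
    calc w * q = (w * q * w⁻¹ * q⁻¹) * (q * w) := by group
      _ = q * w := by rw [e, one_mul]
  · right
    calc w * q = (w * q * w⁻¹ * q⁻¹) * (q * w) := by group
      _ = z * (q * w) := by rw [e]

/-- squares of elements of `ws V z` lie in `⟨z⟩` -/
theorem sq_cases [Finite G] (h : Geo T V z) {w : G} (hw : w ∈ ws V z) : w * w = 1 ∨ w * w = z := by
  have hzw : ∀ w ∈ ws V z, z * w = w * z := fun w hw => (h.z_comm (h.ws_le_centralizer hw)).symm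
  let A : Subgroup G :=
    { carrier := {w | w ∈ ws V z ∧ (w * w = 1 ∨ w * w = z)}
      mul_mem' := by
        rintro a b ⟨ha, ha1⟩ ⟨hb, hb1⟩
        refine ⟨mul_mem ha hb, ?_⟩
        have e1 : a * b * (a * b) = a * (b * a) * b := by group
        rcases h.comm_cases hb (h.ws_le_o2 ha) with e | e
        · have e2 : a * b * (a * b) = (a * a) * (b * b) := by rw [e1, e]; group
          rw [e2]
          rcases ha1 with h1 | h1 <;> rcases hb1 with h2 | h2 <;> rw [h1, h2] <;> simp [h.zz]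
        · have e2 : a * b * (a * b) = z * ((a * a) * (b * b)) := by
            rw [e1, e]
            calc a * (z * (a * b)) * b = (a * z) * (a * b) * b := by group
              _ = (z * a) * (a * b) * b := by rw [hzw a ha]
              _ = z * ((a * a) * (b * b)) := by group
          rw [e2]
          rcases ha1 with h1 | h1 <;> rcases hb1 with h2 | h2 <;> rw [h1, h2] <;> simp [h.zz]
      one_mem' := ⟨one_mem _, Or.inl (one_mul 1)⟩
      inv_mem' := by
        rintro a ⟨ha, ha1⟩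
        refine ⟨inv_mem ha, ?_⟩
        have : a⁻¹ * a⁻¹ = (a * a)⁻¹ := by group
        rw [this]
        rcases ha1 with h1 | h1 <;> rw [h1]
        · left; exact inv_one
        · right; exact inv_eq_self h.zz }
  refine (ws_le (U := A) (fun L hL => ?_) hw).2
  intro x hx
  refine ⟨le_ws hL hx, Or.inl ?_⟩
  obtain ⟨c, hc, rfl⟩ := h.exists_of_mem_lines hL
  rw [mem_cj] at hx
  have := h.sq _ hx
  have e : x * x = c * (c⁻¹ * x * c * (c⁻¹ * x * c)) * c⁻¹ := by group
  rw [e, this]; group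

end Geo

end Cfsg.Agent.MinSimple.Geo
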