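import Mathlib
import Cfsg.Agent.Lib.NormalAbelian
import Cfsg.Agent.Lib.SylowNormalInf
import Cfsg.Agent.MinSimple.BTwoA

/-!
# (E1) with `|V| = 4`: the case `b = 2`, part B

* `Geo.z_mem_of_le`: a nontrivial subgroup of `T` normalized by `T` contains `z`;
* `Geo.le_kq`: `O₂(C_G(z)/kq V z) = 1`;
* `BTwo.us_le_sup`, `BTwo.rr_eq`: `rr V` is generated by any two of the `us V p`;
* `BTwo.identify`: `w_r u w_r⁻¹ ≡ [w_p, u]` modulo `dd V`;
* `BTwo.mem_V_of_comm`: `C_{dd V}(us V p) = V`;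
* `BTwo.o2_inf_ws_le`: `O₂(C_G(z)) ∩ ws V q ≤ dd V`;
* `BTwo.comm_o2_us`: `[O₂(C_G(z)), us V q] ≤ us V z`;
* `BTwo.center_comm`: `[Z(ws V z), us V q] ≤ ⟨z⟩`.
-/

set_option autoImplicit false
set_option linter.dupNamespace false
set_option linter.unusedSectionVars false
set_option linter.style.haveILetI false

namespace Cfsg.Agent.MinSimple.BTwoB

open Subgroup Cfsg Cfsg.Agent.ZN Cfsg.Agent.MinSimple.Geo Cfsg.Agent.MinSimple.BTwoA
open Cfsg.Agent.ZN.Block (conj_mem_of_normalizer conj_mem_of_normalizer' le_normalizer_of_forall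
  mem_normalizer_of)

universe u

variable {G : Type u} [Group G] [Finite G] {T V : Subgroup G} {z : G}

/-- Frattini argument, relative version -/
theorem exists_mul_of_frattini {C T N : Subgroup G} (hTC : T ≤ C) (hT : IsPGroup 2 T)
    (hs : ¬ 2 ∣ T.relIndex C) (_ : N ≤ C) (hn : C ≤ normalizer (N : Set G)) {c : G} (hc : c ∈ C) :
    ∃ n ∈ N, ∃ m ∈ C, m ∈ normalizer ((T ⊓ N : Subgroup G) : Set G) ∧ c = n * m := by
  haveI : Fact (Nat.Prime 2) := ⟨Nat.prime_two⟩
  have hT' : IsPGroup 2 (T.subgroupOf C) := hT.comap_of_injective _ C.subtype_injective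
  haveI hN : (N.subgroupOf C).Normal := normal_subgroupOf_of_le_normalizer hn
  have h1 := Lib.SylowNormalInf.normalizer_inf_sup_eq_top (hT'.toSylow hs) (N.subgroupOf C)
  have h2 : (⟨c, hc⟩ : C) ∈ normalizer
      ((((hT'.toSylow hs : Sylow 2 C) : Subgroup C) ⊓ N.subgroupOf C : Subgroup C) : Set C) ⊔
      N.subgroupOf C := by rw [h1]; exact mem_top _
  rw [mem_sup_of_normal_right] at h2
  obtain ⟨y, hy, n, hn', hyn⟩ := h2
  have hyn' : (y : G) * n = c := congrArg Subtype.val hyn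
  have hmem : ∀ g : G, ∀ hg : g ∈ C, (⟨g, hg⟩ : C) ∈
      (((hT'.toSylow hs : Sylow 2 C) : Subgroup C) ⊓ N.subgroupOf C : Subgroup C) ↔ g ∈ T ⊓ N := by
    intro g hg
    exact Iff.rfl
  refine ⟨y * n * (y : G)⁻¹, conj_mem_of_normalizer hn y.2 (mem_subgroupOf.mp hn'), y, y.2, ?_, ?_⟩
  · refine mem_normalizer_of (fun m hm => ?_) (fun m hm => ?_)
    · have h3 := (mem_normalizer_iff.mp hy ⟨m, hTC hm.1⟩).mp ((hmem m (hTC hm.1)).mpr hm)
      exact h3
    · have h3 := (mem_normalizer_iff.mp (inv_mem hy) ⟨m, hTC hm.1⟩).mp ((hmem m (hTC hm.1)).mpr hm)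
      rw [inv_inv] at h3
      exact h3
  · rw [← hyn']; group

theorem le_sup_inf_of_pow {C T N K : Subgroup G} (_ : T ≤ C) (hT : IsPGroup 2 T)
    (hs : ¬ 2 ∣ T.relIndex C) (hNC : N ≤ C) (hn : C ≤ normalizer (N : Set G)) (hKC : K ≤ C)
    (hk : C ≤ normalizer (K : Set G)) (h : ∀ x ∈ N, ∃ k : ℕ, x ^ 2 ^ k ∈ K) : N ≤ K ⊔ (T ⊓ N) := by
  haveI : Fact (Nat.Prime 2) := ⟨Nat.prime_two⟩
  have hT' : IsPGroup 2 (T.subgroupOf C) := hT.comap_of_injective _ C.subtype_injective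
  haveI hN : (N.subgroupOf C).Normal := normal_subgroupOf_of_le_normalizer hn
  haveI hK : (K.subgroupOf C).Normal := normal_subgroupOf_of_le_normalizer hk
  have h1 := Lib.SylowNormalInf.le_sup_inf (hT'.toSylow hs) (N.subgroupOf C) (K.subgroupOf C)
    (fun x hx => by
      obtain ⟨k, hk⟩ := h x (mem_subgroupOf.mp hx)
      exact ⟨k, mem_subgroupOf.mpr hk⟩)
  have h2 := Subgroup.map_mono (f := C.subtype) h1
  rw [Subgroup.map_sup, subgroupOf_map_subtype, subgroupOf_map_subtype, inf_eq_left.mpr hNC,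
    inf_eq_left.mpr hKC] at h2
  refine h2.trans (sup_le_sup_left ?_ _)
  rintro _ ⟨x, hx, rfl⟩
  exact ⟨hx.1, hx.2⟩

theorem zpowers_conj {z c y : G} (hc : c ∈ centralizer ({z} : Set G)) (hy : y ∈ zpowers z) :
    c * y * c⁻¹ = y := by
  obtain ⟨n, rfl⟩ := mem_zpowers_iff.mp hy
  have h : Commute c z := mem_centralizer_singleton_iff.mp hc
  rw [(h.zpow_right n).eq, mul_inv_cancel_right]

theorem mem_kq {V : Subgroup G} {x c : G} : c ∈ kq V x ↔ c ∈ centralizer ({x} : Set G) ∧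
    (∀ w ∈ ws V x, c * w * c⁻¹ * w⁻¹ ∈ zpowers x) ∧ ∀ w ∈ ws V x, c⁻¹ * w * c * w⁻¹ ∈ zpowers x :=
  Iff.rfl

theorem kq_le (V : Subgroup G) (x : G) : kq V x ≤ centralizer ({x} : Set G) := fun _ h => h.1

theorem centralizer_le_normalizer_kq (V : Subgroup G) (x : G) :
    centralizer ({x} : Set G) ≤ normalizer ((kq V x : Subgroup G) : Set G) := by
  have hws := Geo.centralizer_le_normalizer_ws V x
  refine le_normalizer_of_forall fun c hc k hk => ?_
  rw [mem_kq] at hk ⊢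
  refine ⟨mul_mem (mul_mem hc hk.1) (inv_mem hc), fun w hw => ?_, fun w hw => ?_⟩
  · have h1 := hk.2.1 _ (conj_mem_of_normalizer' hws hc hw)
    have h2 := zpowers_conj hc h1
    have e : c * k * c⁻¹ * w * (c * k * c⁻¹)⁻¹ * w⁻¹ =
        c * (k * (c⁻¹ * w * c) * k⁻¹ * (c⁻¹ * w * c)⁻¹) * c⁻¹ := by group
    rw [e, h2]; exact h1
  · have h1 := hk.2.2 _ (conj_mem_of_normalizer' hws hc hw)
    have h2 := zpowers_conj hc h1
    have e : (c * k * c⁻¹)⁻¹ * w * (c * k * c⁻¹) * w⁻¹ =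
        c * (k⁻¹ * (c⁻¹ * w * c) * k * (c⁻¹ * w * c)⁻¹) * c⁻¹ := by group
    rw [e, h2]; exact h1

/-- `[V, T] ≤ ⟨z⟩` -/
theorem comm_T (h : Geo T V z) {t v : G} (ht : t ∈ T) (hv : v ∈ V) : t * v * t⁻¹ * v⁻¹ ∈ zpowers z := by
  rcases h.conj_cases h.z_mem hv h.z_ne (h.z_comm (h.T_le ht)) (h.T_norm ht) with e | e
  · rw [e, mul_inv_cancel]; exact one_mem _
  · rw [e, mul_inv_cancel_right]; exact mem_zpowers z

/-- **`O₂(C_G(z)/kq V z) = 1`** -/
theorem le_kq (h : Geo T V z) {N : Subgroup G} (hNC : N ≤ centralizer ({z} : Set G))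
    (hn : centralizer ({z} : Set G) ≤ normalizer (N : Set G))
    (h2 : ∀ x ∈ N, ∃ k : ℕ, x ^ 2 ^ k ∈ kq V z) : N ≤ kq V z := by
  set C := centralizer ({z} : Set G) with hC
  have hws : C ≤ normalizer ((ws V z : Subgroup G) : Set G) := Geo.centralizer_le_normalizer_ws V z
  have hsup : N ≤ kq V z ⊔ (T ⊓ N) :=
    le_sup_inf_of_pow h.T_le h.two h.T_syl hNC hn (kq_le V z) (centralizer_le_normalizer_kq V z) h2
  -- decomposition of the elements of `C`
  have hdec : ∀ c ∈ C, ∃ k ∈ kq V z, ∃ m ∈ C, m ∈ normalizer ((T ⊓ N : Subgroup G) : Set G) ∧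
      c = k * m := by
    intro c hc
    obtain ⟨n, hn1, m, hm, hm2, rfl⟩ := exists_mul_of_frattini h.T_le h.two h.T_syl hNC hn hc
    have h3 := hsup hn1
    have h4 : (T ⊓ N : Subgroup G) ≤ normalizer ((kq V z : Subgroup G) : Set G) :=
      (inf_le_left.trans h.T_le).trans (centralizer_le_normalizer_kq V z)
    rw [← SetLike.mem_coe, coe_mul_of_right_le_normalizer_left _ _ h4] at h3
    obtain ⟨k, hk, t, ht, rfl⟩ := h3
    exact ⟨k, hk, t * m, mul_mem (h.T_le ht.1) hm, mul_mem (le_normalizer ht) hm2, by group⟩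
  let A : Subgroup G :=
    { carrier := {w | w ∈ ws V z ∧ ∀ t ∈ T ⊓ N, t * w * t⁻¹ * w⁻¹ ∈ zpowers z}
      mul_mem' := by
        rintro a b ⟨ha, ha1⟩ ⟨hb, hb1⟩
        refine ⟨mul_mem ha hb, fun t ht => ?_⟩
        have e : t * (a * b) * t⁻¹ * (a * b)⁻¹ =
            (t * a * t⁻¹ * a⁻¹) * (a * (t * b * t⁻¹ * b⁻¹) * a⁻¹) := by group
        rw [e, zpowers_conj (h.ws_le_centralizer ha) (hb1 t ht)]
        exact mul_mem (ha1 t ht) (hb1 t ht)
      one_mem' := ⟨one_mem _, fun t _ => by simp⟩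
      inv_mem' := by
        rintro a ⟨ha, ha1⟩
        refine ⟨inv_mem ha, fun t ht => ?_⟩
        have h1 := inv_mem (ha1 t ht)
        have h2 := zpowers_conj (h.ws_le_centralizer (inv_mem ha)) h1
        have e : t * a⁻¹ * t⁻¹ * a⁻¹⁻¹ = a⁻¹ * (t * a * t⁻¹ * a⁻¹)⁻¹ * a⁻¹⁻¹ := by group
        rw [e, h2]; exact h1 }
  have hA : ws V z ≤ A := by
    refine ws_le fun L hL => ?_
    obtain ⟨c, hc, rfl⟩ := h.exists_of_mem_lines hL
    obtain ⟨k, hk, m, hm, hm2, rfl⟩ := hdec c hc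
    intro x hx
    rw [mem_cj] at hx
    set v := (k * m)⁻¹ * x * (k * m) with hv
    have hv' : m * v * m⁻¹ ∈ ws V z := conj_mem_of_normalizer hws hm (h.V_le_ws hx)
    have hv'A : m * v * m⁻¹ ∈ A := by
      refine ⟨hv', fun t ht => ?_⟩
      have ht' : m⁻¹ * t * m ∈ T ⊓ N := by
        have := (mem_normalizer_iff.mp (inv_mem hm2) t).mp ht
        rwa [inv_inv] at this
      have h1 := comm_T h ht'.1 hx
      have h2 := zpowers_conj hm h1
      have e : t * (m * v * m⁻¹) * t⁻¹ * (m * v * m⁻¹)⁻¹ =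
          m * ((m⁻¹ * t * m) * v * (m⁻¹ * t * m)⁻¹ * v⁻¹) * m⁻¹ := by group
      rw [e, h2]; exact h1
    have hzA : ∀ y ∈ zpowers z, y ∈ A := by
      intro y hy
      have hy1 : y ∈ ws V z := by
        have : zpowers z ≤ ws V z := (zpowers_le).mpr (h.V_le_ws h.z_mem)
        exact this hy
      refine ⟨hy1, fun t ht => ?_⟩
      rw [zpowers_conj (h.T_le ht.1) hy, mul_inv_cancel]; exact one_mem _
    have h3 := (mem_kq.mp hk).2.1 _ hv'
    have e : x = (k * (m * v * m⁻¹) * k⁻¹ * (m * v * m⁻¹)⁻¹) * (m * v * m⁻¹) := by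
      rw [hv]; group
    rw [e]
    exact mul_mem (hzA _ h3) hv'A
  have hT : T ⊓ N ≤ kq V z := by
    intro t ht
    rw [mem_kq]
    refine ⟨h.T_le ht.1, fun w hw => (hA hw).2 t ht, fun w hw => ?_⟩
    have := (hA hw).2 t⁻¹ (inv_mem ht)
    rwa [inv_inv] at this
  exact hsup.trans (sup_le le_rfl hT)

/-- a nontrivial subgroup of `T` normalized by `T` contains `z` -/
theorem z_mem_of_le (h : Geo T V z) {U : Subgroup G} (hU : U ≤ T)
    (hn : T ≤ normalizer (U : Set G)) (hU1 : U ≠ ⊥) : z ∈ U := by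
  haveI : Fact (Nat.Prime 2) := ⟨Nat.prime_two⟩
  have hT := h.two
  haveI hUn : (U.subgroupOf T).Normal := normal_subgroupOf_of_le_normalizer hn
  haveI : Group.IsNilpotent T := hT.isNilpotent
  have hne : (U.subgroupOf T) ≠ ⊥ := by
    intro e
    apply hU1
    rw [subgroupOf_eq_bot, disjoint_iff, inf_eq_left.mpr hU] at e
    exact e
  have h1 := Lib.NormalAbelian.normal_inf_center_ne_bot (U.subgroupOf T) hne
  obtain ⟨x, hx1⟩ := (Subgroup.ne_bot_iff_exists_ne_one).mp h1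
  have hx := x.2
  obtain ⟨k, hk⟩ := hT (x : T)
  have hx1' : (x : T) ≠ 1 := fun e => hx1 (Subtype.ext e)
  -- an involution among the powers of `x`
  have hex : ∃ n : ℕ, (x : T) ^ 2 ^ n = 1 := ⟨k, hk⟩
  classical
  set n := Nat.find hex with hn'
  have hn1 : (x : T) ^ 2 ^ n = 1 := Nat.find_spec hex
  have hn0 : n ≠ 0 := by
    intro e
    rw [e] at hn1
    apply hx1'
    simpa using hn1
  obtain ⟨m, hm⟩ := Nat.exists_eq_succ_of_ne_zero hn0
  set y := (x : T) ^ 2 ^ m with hy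
  have hy1 : y ≠ 1 := Nat.find_min hex (by omega)
  have hy2 : y * y = 1 := by
    rw [hy, ← pow_two, ← pow_mul, ← pow_succ]
    rw [hm] at hn1
    exact hn1
  have hyU : y ∈ U.subgroupOf T := pow_mem hx.1 _
  have hyc : y ∈ center T := pow_mem hx.2 _
  rcases h.soc y y.2 (by simpa using congrArg Subtype.val hy2)
    (fun s hs => by
      have := mem_center_iff.mp hyc ⟨s, hs⟩
      exact congrArg Subtype.val this) with e | e
  · exact absurd (Subtype.ext e) hy1
  · rw [← e]; exact mem_subgroupOf.mp hyU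

namespace BTwo

/-- `C_T(xx V) = 1` -/
theorem T_inf_centralizer_xx (h : BTwo T V z) : T ⊓ centralizer (xx V : Set G) = ⊥ := by
  by_contra hne
  have hxn : normalizer (V : Set G) ≤ normalizer (centralizer (xx V : Set G) : Set G) := by
    have h1 : normalizer (V : Set G) ≤ normalizer ((xx V : Subgroup G) : Set G) := by
      intro g hg
      rw [mem_normalizer_iff_cj]
      have key : ∀ g ∈ normalizer (V : Set G), cj g (xx V) ≤ xx V := by
        intro g hg
        rw [cj_le_iff]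
        refine iSup_le fun p => ?_
        rw [← cj_le_iff, cj_ws]
        refine ws_le_xx ((mem_normalizer_iff.mp hg _).mp p.2.1) (fun e => p.2.2 ?_)
        have : (p : G) = g⁻¹ * (g * p * g⁻¹) * g := by group
        rw [this, e]; group
      refine le_antisymm (key g hg) ?_
      have := key g⁻¹ (inv_mem hg)
      rwa [cj_le_iff, inv_inv] at this
    refine h1.trans ?_
    refine le_normalizer_of_forall fun g hg c hc => ?_
    rw [mem_centralizer_iff] at hc ⊢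
    intro x hx
    have h2 := hc _ (conj_mem_of_normalizer' le_rfl hg hx)
    calc x * (g * c * g⁻¹) = g * ((g⁻¹ * x * g) * c) * g⁻¹ := by group
      _ = g * (c * (g⁻¹ * x * g)) * g⁻¹ := by rw [h2]
      _ = g * c * g⁻¹ * x := by group
  have h1 := z_mem_of_le h.toGeo (U := T ⊓ centralizer (xx V : Set G)) inf_le_left
    (le_normalizer_of_forall fun t ht c hc =>
      ⟨T.mul_mem (T.mul_mem ht hc.1) (T.inv_mem ht), conj_mem_of_normalizer hxn (h.T_norm ht) hc.2⟩) hne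
  obtain ⟨y, hy, hy1, hyz⟩ := h.exists_y
  obtain ⟨T', h'⟩ := h.point hy hy1
  obtain ⟨w, hw, hwV⟩ := h'.exists_w
  have h2 := h'.w_move hw hwV h.z_mem h.z_ne (Ne.symm hyz)
  have h3 := mem_centralizer_iff.mp h1.2 w (ws_le_xx hy hy1 hw)
  rw [h3, mul_inv_cancel_right] at h2
  exact hy1 (by simpa using h2.symm)

/-- an element of `dd V` commuting with `us V z` commutes with `us V q` -/
theorem comm_us_of_comm (h : BTwo T V z) {d q : G} (hd : d ∈ dd V) (hc : ∀ u ∈ us V z, u * d = d * u)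
    (hq : q ∈ V) (hq1 : q ≠ 1) : ∀ u ∈ us V q, u * d = d * u := by
  intro u hu
  by_cases hqz : q = z
  · rw [hqz] at hu; exact hc u hu
  -- the third point
  have hr : z * q ∈ V := mul_mem h.z_mem hq
  have hr1 : z * q ≠ 1 := fun e => hqz (by
    have := mul_eq_one_iff_eq_inv.mp e
    rw [h.inv_eq hq] at this; exact this.symm)
  obtain ⟨T', h'⟩ := h.point hr hr1
  obtain ⟨w, hw, hwV⟩ := h'.exists_w
  have hzr : z ≠ z * q := fun e => hq1 (by simpa using e.symm)
  have h1 : w * z * w⁻¹ = q := by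
    rw [h'.w_move hw hwV h.z_mem h.z_ne hzr, h.comm h.z_mem hq, mul_assoc, h.zz, mul_one]
  have h2 : w⁻¹ * q * w = z := by rw [← h1]; group
  have hn := h'.ws_le_normalizer hw
  have h3 : w⁻¹ * u * w ∈ us V z := by
    have := conj_mem_us (inv_mem hn) hu
    rw [inv_inv, h2] at this
    exact this
  have h4 := hc _ h3
  have h5 : w * d * w⁻¹ = d ∨ w * d * w⁻¹ = z * q * d := h'.dd_ws hd hw
  have h6 : u * (w * d * w⁻¹) = (w * d * w⁻¹) * u := by
    calc u * (w * d * w⁻¹) = w * ((w⁻¹ * u * w) * d) * w⁻¹ := by group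
      _ = w * (d * (w⁻¹ * u * w)) * w⁻¹ := by rw [h4]
      _ = (w * d * w⁻¹) * u := by group
  rcases h5 with e | e
  · rwa [e] at h6
  · rw [e] at h6
    have h7 : u * (z * q) = z * q * u := comm_V hu.2 hr
    have h8 : z * q * (u * d) = z * q * (d * u) := by
      calc z * q * (u * d) = (z * q * u) * d := by group
        _ = u * (z * q * d) := by rw [← h7]; group
        _ = z * q * (d * u) := by rw [h6]; group
    exact mul_left_cancel h8

/-- **`C_{dd V}(us V z) = V`** -/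
theorem mem_V_of_comm (h : BTwo T V z) {d : G} (hd : d ∈ dd V) (hc : ∀ u ∈ us V z, u * d = d * u) :
    d ∈ V := by
  obtain ⟨y, hy, hy1, hyz⟩ := h.exists_y
  obtain ⟨T', h'⟩ := h.point hy hy1
  obtain ⟨w1, hw1, hw1V⟩ := h.exists_w
  obtain ⟨w2, hw2, hw2V⟩ := h'.exists_w
  have hcy := comm_us_of_comm h hd hc hy hy1
  have m1 : w1 * y * w1⁻¹ = z * y := h.w_move hw1 hw1V hy hy1 hyz
  have m2 : w2 * z * w2⁻¹ = y * z := h'.w_move hw2 hw2V h.z_mem h.z_ne (Ne.symm hyz)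
  have n1 : w1 * z * w1⁻¹ = z := h.conj_z hw1
  have n2 : w2 * y * w2⁻¹ = y := h'.conj_z hw2
  have hyz' : y * z = z * y := h.comm hy h.z_mem
  have hVd : ∀ v ∈ V, v * d = d * v := fun v hv => (comm_V (h.dd_le_centralizer hd) hv).symm
  -- an element `v` of `V` such that `d * v` commutes with `w1` and `w2`
  obtain ⟨v, hv, e1, e2⟩ : ∃ v ∈ V, w1 * (d * v) * w1⁻¹ = d * v ∧ w2 * (d * v) * w2⁻¹ = d * v := by
    have f1 : ∀ v, w1 * (d * v) * w1⁻¹ = (w1 * d * w1⁻¹) * (w1 * v * w1⁻¹) := fun v => by group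
    have f2 : ∀ v, w2 * (d * v) * w2⁻¹ = (w2 * d * w2⁻¹) * (w2 * v * w2⁻¹) := fun v => by group
    rcases h.dd_ws hd hw1 with g1 | g1 <;> rcases h'.dd_ws hd hw2 with g2 | g2
    · exact ⟨1, one_mem _, by simp [g1], by simp [g2]⟩
    · refine ⟨z, h.z_mem, ?_, ?_⟩
      · rw [f1, g1, n1]
      · rw [f2, g2, m2, hVd y hy]
        calc d * y * (y * z) = d * (y * y) * z := by group
          _ = d * z := by rw [h.sq y hy, mul_one]
    · refine ⟨y, hy, ?_, ?_⟩
      · rw [f1, g1, m1, hVd z h.z_mem]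
        calc d * z * (z * y) = d * (z * z) * y := by group
          _ = d * y := by rw [h.zz, mul_one]
      · rw [f2, g2, n2]
    · refine ⟨z * y, mul_mem h.z_mem hy, ?_, ?_⟩
      · have : w1 * (z * y) * w1⁻¹ = y := by
          calc w1 * (z * y) * w1⁻¹ = (w1 * z * w1⁻¹) * (w1 * y * w1⁻¹) := by group
            _ = (z * z) * y := by rw [n1, m1]; group
            _ = y := by rw [h.zz, one_mul]
        rw [f1, g1, this, hVd z h.z_mem, mul_assoc]
      · have : w2 * (z * y) * w2⁻¹ = z := by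
          calc w2 * (z * y) * w2⁻¹ = (w2 * z * w2⁻¹) * (w2 * y * w2⁻¹) := by group
            _ = z * (y * y) := by rw [m2, n2, hyz']; group
            _ = z := by rw [h.sq y hy, mul_one]
        rw [f2, g2, this, hVd y hy, mul_assoc, hyz']
  set e := d * v with he
  have hev : ∀ p ∈ V, p ≠ 1 → ∀ u ∈ us V p, u * e = e * u := by
    intro p hp hp1 u hu
    have h1 := comm_us_of_comm h hd hc hp hp1 u hu
    rw [he, ← mul_assoc, h1, mul_assoc, comm_V hu.2 hv, ← mul_assoc]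
  have hcomm1 : ∀ w ∈ ws V z, w * e = e * w := by
    have hw1e : w1 * e = e * w1 := by
      calc w1 * e = (w1 * e * w1⁻¹) * w1 := by group
        _ = e * w1 := by rw [e1]
    intro w hw
    by_cases hwV : w ∈ centralizer (V : Set G)
    · exact hev z h.z_mem h.z_ne w ⟨hw, hwV⟩
    · have h1 := h.us_two (inv_mem hw1) (fun hh => hw1V ((inv_mem_iff).mp hh)) hw hwV
      have h2 := hev z h.z_mem h.z_ne _ h1
      calc w * e = w1 * ((w1⁻¹ * w) * e) := by group
        _ = (w1 * e) * (w1⁻¹ * w) := by rw [h2]; group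
        _ = e * w := by rw [hw1e]; group
  have hcomm2 : ∀ w ∈ ws V y, w * e = e * w := by
    have hw2e : w2 * e = e * w2 := by
      calc w2 * e = (w2 * e * w2⁻¹) * w2 := by group
        _ = e * w2 := by rw [e2]
    intro w hw
    by_cases hwV : w ∈ centralizer (V : Set G)
    · exact hev y hy hy1 w ⟨hw, hwV⟩
    · have h1 := h'.us_two (inv_mem hw2) (fun hh => hw2V ((inv_mem_iff).mp hh)) hw hwV
      have h2 := hev y hy hy1 _ h1
      calc w * e = w2 * ((w2⁻¹ * w) * e) := by group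
        _ = (w2 * e) * (w2⁻¹ * w) := by rw [h2]; group
        _ = e * w := by rw [hw2e]; group
  have hxx : xx V ≤ centralizer ({e} : Set G) := by
    refine iSup_le fun p w hw => ?_
    rw [mem_centralizer_singleton_iff]
    rcases h.four h.z_mem hy h.z_ne hy1 (Ne.symm hyz) p.2.1 with h1 | h1 | h1 | h1
    · exact absurd h1 p.2.2
    · rw [h1] at hw; exact hcomm1 w hw
    · rw [h1] at hw; exact hcomm2 w hw
    · rw [h1, ← m1] at hw
      have h2 := conj_mem_ws (g := w1⁻¹) hw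
      have e3 : w1⁻¹ * (w1 * y * w1⁻¹) * w1⁻¹⁻¹ = y := by group
      rw [e3, inv_inv] at h2
      have h3 := hcomm2 _ h2
      have hw1e := hcomm1 w1 hw1
      have hw1e' : w1⁻¹ * e = e * w1⁻¹ := hcomm1 _ (inv_mem hw1)
      calc w * e = w1 * (w1⁻¹ * w * w1) * (w1⁻¹ * e) := by group
        _ = w1 * ((w1⁻¹ * w * w1) * e) * w1⁻¹ := by rw [hw1e']; group
        _ = (w1 * e) * (w1⁻¹ * w * w1) * w1⁻¹ := by rw [h3]; group
        _ = e * w := by rw [hw1e]; group
  have heT : e ∈ T := h.ws_le_T (mul_mem (mem_dd.mp hd z h.z_mem h.z_ne) (h.V_le_ws hv))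
  have h1 : e ∈ T ⊓ centralizer (xx V : Set G) :=
    ⟨heT, mem_centralizer_iff.mpr fun x hx => mem_centralizer_singleton_iff.mp (hxx hx)⟩
  rw [T_inf_centralizer_xx h, mem_bot] at h1
  have h2 : d = v⁻¹ := eq_inv_of_mul_eq_one_left h1
  rw [h2]; exact inv_mem hv

/-- general form: `C_{dd V}(us V q) = V` -/
theorem mem_V_of_comm' (h : BTwo T V z) {d q : G} (hd : d ∈ dd V) (hq : q ∈ V) (hq1 : q ≠ 1)
    (hc : ∀ u ∈ us V q, u * d = d * u) : d ∈ V := by
  obtain ⟨T', h'⟩ := h.point hq hq1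
  exact mem_V_of_comm h' hd hc

/-- `O₂(C_G(z)) ∩ ws V q ≤ dd V` -/
theorem o2_inf_ws_le (h : BTwo T V z) {q : G} (hq : q ∈ V) (hq1 : q ≠ 1) (hqz : q ≠ z) :
    o2 (centralizer ({z} : Set G)) ⊓ ws V q ≤ dd V := by
  rintro d ⟨hd1, hd2⟩
  obtain ⟨T', h'⟩ := h.point hq hq1
  have hdz : d * z = z * d := h.z_comm (o2_le _ hd1)
  have hdq : d * q = q * d := h'.z_comm (h'.ws_le_centralizer hd2)
  have hdV : d ∈ centralizer (V : Set G) := by
    rw [mem_centralizer_iff]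
    intro v hv
    rcases h.four h.z_mem hq h.z_ne hq1 (Ne.symm hqz) hv with rfl | rfl | rfl | rfl
    · simp
    · exact hdz.symm
    · exact hdq.symm
    · rw [mul_assoc, ← hdq, ← mul_assoc, ← hdz, mul_assoc]
  obtain ⟨w, hw, hwV⟩ := h.exists_w
  refine h.mem_dd_of_comm hq hq1 hqz hw hwV ⟨hd2, hdV⟩ ?_
  have h1 := h.comm_mem hw hd1
  have h2 : zpowers z ≤ dd V := (zpowers_le).mpr (h.V_le_dd h.z_mem)
  exact h2 h1

/-- `us V z ≤ us V q ⊔ us V (z * q)` -/
theorem us_le_sup (h : BTwo T V z) {q : G} (hq : q ∈ V) (hq1 : q ≠ 1) (hqz : q ≠ z) :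
    us V z ≤ us V q ⊔ us V (z * q) := by
  intro a ha
  obtain ⟨w, hw, hwV⟩ := h.exists_w
  obtain ⟨u, hu, d, hd, rfl⟩ := h.exists_eq hq hq1 hqz hw hwV ha
  have h1 : w * u * w⁻¹ ∈ us V (z * q) := by
    rw [← h.w_move hw hwV hq hq1 hqz]
    exact conj_mem_us (h.ws_le_normalizer hw) hu
  exact mul_mem (mul_mem (mem_sup_right h1) (mem_sup_left (inv_mem hu)))
    (mem_sup_left (h.dd_le_us hq hq1 hd))

/-- `rr V` is generated by `us V z` and `us V q` -/
theorem rr_eq (h : BTwo T V z) {q : G} (hq : q ∈ V) (hq1 : q ≠ 1) (hqz : q ≠ z) :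
    rr V = us V z ⊔ us V q := by
  apply le_antisymm
  · refine iSup_le fun p => ?_
    rcases h.four h.z_mem hq h.z_ne hq1 (Ne.symm hqz) p.2.1 with h1 | h1 | h1 | h1
    · exact absurd h1 p.2.2
    · rw [h1]; exact le_sup_left
    · rw [h1]; exact le_sup_right
    · obtain ⟨T', h'⟩ := h.point p.2.1 p.2.2
      rw [h1] at h' ⊢
      have hzr : z ≠ z * q := fun e => hq1 (by simpa using e.symm)
      have := us_le_sup h' h.z_mem h.z_ne hzr
      have e : z * q * z = q := by rw [h.comm h.z_mem hq, mul_assoc, h.zz, mul_one]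
      rwa [e] at this
  · exact sup_le (us_le_rr h.z_mem h.z_ne) (us_le_rr hq hq1)

/-- identification of `us V q / dd V` with `us V z / dd V`: `w_r u w_r⁻¹ ≡ [w_z, u]` -/
theorem identify (h : BTwo T V z) {q u w w' : G} (hq : q ∈ V) (hq1 : q ≠ 1) (hqz : q ≠ z)
    (hw : w ∈ ws V z) (hwV : w ∉ centralizer (V : Set G)) (hw' : w' ∈ ws V (z * q))
    (hwV' : w' ∉ centralizer (V : Set G)) (hu : u ∈ us V q) :
    (w * u * w⁻¹ * u⁻¹)⁻¹ * (w' * u * w'⁻¹) ∈ dd V := by
  have hr : z * q ∈ V := mul_mem h.z_mem hq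
  have hr1 : z * q ≠ 1 := fun e => hqz (by
    have := mul_eq_one_iff_eq_inv.mp e
    rw [h.inv_eq hq] at this; exact this.symm)
  have hzr : z ≠ z * q := fun e => hq1 (by simpa using e.symm)
  have hqr : q ≠ z * q := fun e => h.z_ne (by simpa using e.symm)
  obtain ⟨T', h'⟩ := h.point hr hr1
  have hn := h.ws_le_normalizer hw
  have hn' := h'.ws_le_normalizer hw'
  have ez : w' * z * w'⁻¹ = q := by
    rw [h'.w_move hw' hwV' h.z_mem h.z_ne hzr, h.comm h.z_mem hq, mul_assoc, h.zz, mul_one]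
  have eq : w' * q * w'⁻¹ = z := by
    rw [h'.w_move hw' hwV' hq hq1 hqr, mul_assoc, h.sq q hq, mul_one]
  set c := w * u * w⁻¹ * u⁻¹ with hc
  have hcz : c ∈ us V z := h.comm_ws_us hw hu
  have hcu : c * u ∈ us V (z * q) := by
    have : c * u = w * u * w⁻¹ := by rw [hc]; group
    rw [this, ← h.w_move hw hwV hq hq1 hqz]
    exact conj_mem_us hn hu
  -- `w'` centralizes `c * u` modulo `zpowers (z * q) ≤ dd V`
  have h1 : w' * (c * u) * w'⁻¹ * (c * u)⁻¹ ∈ dd V := by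
    have h2 := h'.comm_mem hw' (h'.ws_le_o2 hcu.1)
    have h3 : zpowers (z * q) ≤ dd V := (zpowers_le).mpr (h.V_le_dd hr)
    exact h3 h2
  set e := w' * u * w'⁻¹ with he
  set f := w' * c * w'⁻¹ with hf
  have hez : e ∈ us V z := by
    have := conj_mem_us hn' hu; rwa [eq] at this
  have hfq : f ∈ us V q := by
    have := conj_mem_us hn' hcz; rwa [ez] at this
  have h2 : w' * (c * u) * w'⁻¹ = f * e := by rw [he, hf]; group
  rw [h2] at h1
  -- `c⁻¹ e` lies in `us V z` and in `us V q`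
  apply h.inf_le_dd hq hq1 hqz
  refine ⟨(ws V z).mul_mem ((ws V z).inv_mem hcz.1) hez.1, ?_⟩
  -- `f e u⁻¹ c⁻¹ ∈ dd V`, so `c⁻¹ e = c⁻¹ f⁻¹ δ c u = ...`
  set δ := f * e * (c * u)⁻¹ with hδ
  have h3 : c⁻¹ * e = (c⁻¹ * f⁻¹ * c * f) * (f⁻¹ * (c⁻¹ * δ * c) * u) := by
    rw [hδ]; group
  rw [h3]
  have h4 : c⁻¹ * f⁻¹ * c * f ∈ ws V q := by
    have h5 := conj_mem_of_normalizer (centralizer_le_normalizer_ws hq)
      ((centralizer (V : Set G)).inv_mem hcz.2) ((ws V q).inv_mem hfq.1)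
    rw [inv_inv] at h5
    exact (ws V q).mul_mem h5 hfq.1
  have h6 : c⁻¹ * δ * c ∈ dd V := by
    have := conj_mem_dd (centralizer_le_normalizer _ ((centralizer (V : Set G)).inv_mem hcz.2)) h1
    rwa [inv_inv] at this
  exact (ws V q).mul_mem h4 ((ws V q).mul_mem ((ws V q).mul_mem ((ws V q).inv_mem hfq.1)
    (h.dd_le_ws hq hq1 h6)) hu.1)

end BTwo

end Cfsg.Agent.MinSimple.BTwoB
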