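import Cfsg.Agent.Lib.SolvableMinNormal

/-!
# Irreducible solvable groups do not contain three transvections with centres `z₁, z₂, z₁z₂`

`false_of_three`: `R` is a finite elementary abelian 2-group, `J` a solvable irreducible group of automorphisms,
`w i ∈ J` (`i = 0, 1, 2`) a transvection with centre `z i`, `z 0 * z 1 = z 2` and every `w i` fixes every `z j`.
This is impossible.
-/

set_option autoImplicit false

namespace Cfsg.Agent.MinSimple.TriTrans

open Subgroup

variable {R : Type*} [Group R]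

theorem comm_of_sq (hsq : ∀ x : R, x * x = 1) (x y : R) : x * y = y * x := by
  have h1 := hsq (x * y)
  have hx := hsq x
  have hy := hsq y
  calc x * y = (y * y) * (x * y) * (x * x) := by rw [hy, hx]; simp
    _ = y * (y * x * (y * x)) * x := by group
    _ = y * x := by rw [hsq (y * x), mul_one]

/-- the basic properties of the abelian normal subgroup of odd order -/
structure Odd (J A : Subgroup (MulAut R)) (p : ℕ) : Prop where
  le : A ≤ J
  conj : ∀ j ∈ J, ∀ a ∈ A, j * a * j⁻¹ ∈ A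
  comm : ∀ a ∈ A, ∀ b ∈ A, a * b = b * a
  pow : ∀ a ∈ A, ∃ k : ℕ, a ^ p ^ k = 1
  ne : ∃ a ∈ A, a ≠ 1
  fix : ∀ x : R, (∀ a ∈ A, a x = x) → x = 1
  prime : p.Prime
  odd : p ≠ 2

theorem exists_odd [Finite R] (hsq : ∀ x : R, x * x = 1) (J : Subgroup (MulAut R))
    (hJ : Group.IsSolvable J) (hJ1 : ∃ j ∈ J, j ≠ 1)
    (hirr : ∀ U : Subgroup R, (∀ j ∈ J, ∀ u ∈ U, j u ∈ U) → U = ⊥ ∨ U = ⊤) :
    ∃ (A : Subgroup (MulAut R)) (p : ℕ), Odd J A p := by
  have hfin : Finite (MulAut R) := Finite.of_injective (fun j : MulAut R => (j : R → R)) DFunLike.coe_injective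
  have hnt : Nontrivial J := by
    obtain ⟨j, hj, hj1⟩ := hJ1
    exact ⟨⟨j, hj⟩, 1, fun e => hj1 (congrArg Subtype.val e)⟩
  obtain ⟨p, hp, N, hNc, hNcomm, hNp, hNne⟩ :=
    Lib.SolvableMinNormal.exists_characteristic_pgroup (G := J)
  have hNn : N.Normal := inferInstance
  set A : Subgroup (MulAut R) := N.map J.subtype with hA
  have hle : A ≤ J := map_subtype_le _
  have hconj : ∀ j ∈ J, ∀ a ∈ A, j * a * j⁻¹ ∈ A := by
    rintro j hj _ ⟨n, hn, rfl⟩
    exact ⟨⟨j, hj⟩ * n * ⟨j, hj⟩⁻¹, hNn.conj_mem n hn _, rfl⟩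
  have hcomm : ∀ a ∈ A, ∀ b ∈ A, a * b = b * a := by
    rintro _ ⟨n, hn, rfl⟩ _ ⟨m, hm, rfl⟩
    have := congrArg (fun x : N => ((x : J) : MulAut R)) (mul_comm' (⟨n, hn⟩ : N) ⟨m, hm⟩)
    exact this
  have hpow : ∀ a ∈ A, ∃ k : ℕ, a ^ p ^ k = 1 := by
    rintro _ ⟨n, hn, rfl⟩
    obtain ⟨k, hk⟩ := hNp ⟨n, hn⟩
    refine ⟨k, ?_⟩
    have h1 := congrArg (fun x : N => ((x : J) : MulAut R)) hk
    exact h1
  have hne : ∃ a ∈ A, a ≠ 1 := by
    obtain ⟨n, hn1⟩ := (Subgroup.ne_bot_iff_exists_ne_one (H := N)).1 hNne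
    exact ⟨_, ⟨n, n.2, rfl⟩, fun e => hn1 (Subtype.ext (Subtype.ext e))⟩
  -- fixed points
  let C : Subgroup R :=
    { carrier := {x | ∀ a ∈ A, a x = x}
      mul_mem' := fun {x y} hx hy a ha => by rw [map_mul, hx a ha, hy a ha]
      one_mem' := fun a _ => map_one a
      inv_mem' := fun {x} hx a ha => by rw [map_inv, hx a ha] }
  have hCinv : ∀ j ∈ J, ∀ u ∈ C, j u ∈ C := by
    intro j hj u hu a ha
    have h1 : j⁻¹ * a * j ∈ A := by
      have := hconj j⁻¹ (inv_mem hj) a ha
      rwa [inv_inv] at this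
    have h2 := hu _ h1
    rw [MulAut.mul_apply, MulAut.mul_apply] at h2
    calc a (j u) = j (j⁻¹ (a (j u))) := (MulAut.apply_inv_self _ j _).symm
      _ = j u := by rw [h2]
  have hfix : ∀ x : R, (∀ a ∈ A, a x = x) → x = 1 := by
    rcases hirr C hCinv with h | h
    · intro x hx
      have : x ∈ C := hx
      rwa [h, mem_bot] at this
    · exfalso
      obtain ⟨a, ha, ha1⟩ := hne
      apply ha1
      ext x
      have : x ∈ C := by rw [h]; exact mem_top x
      exact this a ha
  refine ⟨A, p, hle, hconj, hcomm, hpow, hne, hfix, hp, ?_⟩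
  -- `p ≠ 2`
  rintro rfl
  have : Fact (Nat.Prime 2) := ⟨Nat.prime_two⟩
  have hA2 : IsPGroup 2 A := by
    rintro ⟨a, ha⟩
    obtain ⟨k, hk⟩ := hpow a ha
    exact ⟨k, Subtype.ext hk⟩
  obtain ⟨a, ha, ha1⟩ := hne
  have hR1 : ∃ x : R, a x ≠ x := by
    by_contra hcon
    push Not at hcon
    exact ha1 (MulEquiv.ext hcon)
  obtain ⟨x, hx⟩ := hR1
  have hx1 : x ≠ 1 := by rintro rfl; exact hx (map_one a)
  have h2 : 2 ∣ Nat.card R := by
    have h3 : orderOf x = 2 := orderOf_eq_prime (by rw [pow_two, hsq]) hx1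
    rw [← h3]; exact orderOf_dvd_natCard x
  obtain ⟨b, hb, hb1⟩ := hA2.exists_fixed_point_of_prime_dvd_card_of_fixed_point R h2
    (a := (1 : R)) (fun a => smul_one a)
  apply hb1
  symm
  apply hfix
  intro a ha
  exact hb ⟨a, ha⟩

section Single

variable {J A : Subgroup (MulAut R)} {p : ℕ}

theorem Odd.fix_of_sq (h : Odd J A p) {y : MulAut R} (hy : y ∈ A) {x : R} (hx : y (y x) = x) : y x = x := by
  obtain ⟨k, hk⟩ := h.pow y hy
  have hodd : p ^ k % 2 = 1 := by
    have := h.prime.eq_two_or_odd.resolve_left h.odd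
    exact Nat.odd_iff.1 ((Nat.odd_iff.2 this).pow)
  have h3 : ∀ i : ℕ, (y ^ (2 * i)) x = x := by
    intro i
    induction i with
    | zero => simp
    | succ i ih =>
      rw [show 2 * (i + 1) = 2 * i + 2 by ring, pow_add, MulAut.mul_apply, pow_two, MulAut.mul_apply, hx, ih]
  have h4 : (y ^ p ^ k) x = x := by rw [hk, MulAut.one_apply]
  rw [show p ^ k = 1 + 2 * (p ^ k / 2) by omega, pow_add, pow_one, MulAut.mul_apply, h3] at h4
  exact h4

/-- an odd automorphism fixes no element `≠ 1` of `[R, y]` -/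
theorem Odd.eq_one_of_fix (h : Odd J A p) (hsq : ∀ x : R, x * x = 1) {y : MulAut R} (hy : y ∈ A) {x : R}
    (hx : y (x * y x) = x * y x) : x * y x = 1 := by
  have h1 : y (y x) = x := by
    rw [map_mul, comm_of_sq hsq x] at hx
    exact mul_left_cancel hx
  rw [h.fix_of_sq hy h1, hsq]

/-- for one transvection: an element `y` of `A` inverted by `w` with `[R, y] = {1, z, y z, y² z}` -/
theorem Odd.exists_y (h : Odd J A p) (hsq : ∀ x : R, x * x = 1) {w : MulAut R} (hw : w ∈ J) {z : R}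
    (hz1 : z ≠ 1) (hwt : ∀ x, w x = x ∨ w x = x * z) (hwne : ∃ x, w x ≠ x) (hwz : w z = z) :
    ∃ y ∈ A, y ≠ 1 ∧ (∀ x, w (y (w (y x))) = x) ∧ (∃ x, x * y x = z) ∧
      ∀ x, x * y x = 1 ∨ x * y x = z ∨ x * y x = y z ∨ x * y x = y (y z) := by
  have hcm := comm_of_sq hsq
  have hww : ∀ x, w (w x) = x := by
    intro x
    rcases hwt x with h1 | h1
    · rw [h1, h1]
    · rw [h1, map_mul, hwz, h1, mul_assoc, hsq, mul_one]
  have hwwi : w * w = 1 := MulEquiv.ext hww
  have hwi : w⁻¹ = w := inv_eq_of_mul_eq_one_left hwwi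
  -- `w` does not centralize `A`
  have hex : ∃ α ∈ A, w * α * w⁻¹ ≠ α := by
    by_contra hcon
    push Not at hcon
    apply hz1
    apply h.fix
    intro a ha
    obtain ⟨x, hx⟩ := hwne
    have hx' := (hwt x).resolve_left hx
    have h1 : w (a x) = a (w x) := by
      have h2 : w * a = a * w := by
        have := hcon a ha
        calc w * a = (w * a * w⁻¹) * w := by group
          _ = a * w := by rw [this]
      have := congrArg (fun f : MulAut R => f x) h2
      exact this
    rw [hx', map_mul] at h1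
    rcases hwt (a x) with h2 | h2
    · exfalso
      rw [h2] at h1
      have h3 : a z = 1 := by
        have := mul_left_cancel (a := a x) (b := 1) (c := a z) (by rw [mul_one]; exact h1)
        exact this.symm
      exact hz1 ((MulEquiv.map_eq_one_iff a).1 h3)
    · rw [h2] at h1
      exact (mul_left_cancel h1).symm
  obtain ⟨α, hα, hne⟩ := hex
  have hwα : w * α * w⁻¹ ∈ A := h.conj w hw α hα
  set y : MulAut R := α⁻¹ * (w * α * w⁻¹) with hy
  have hyA : y ∈ A := mul_mem (inv_mem hα) hwα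
  have hy1 : y ≠ 1 := by
    intro e
    apply hne
    have := congrArg (fun f => α * f) e
    rw [hy] at this
    simpa using this
  have hinv : w * y * w⁻¹ = y⁻¹ := by
    have h1 : w * y * w⁻¹ = (w * α * w⁻¹)⁻¹ * α := by
      rw [hy]
      have : w * (α⁻¹ * (w * α * w⁻¹)) * w⁻¹ = (w * α * w⁻¹)⁻¹ * ((w * w) * α * (w * w)⁻¹) := by group
      rw [this, hwwi]; group
    rw [h1, hy]
    group
  have hinv' : ∀ x, w (y (w (y x))) = x := by
    intro x
    have h1 : w * y * w * y = 1 := by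
      have h2 : w * y * w = y⁻¹ := by
        calc w * y * w = w * y * w⁻¹ := by rw [hwi]
          _ = y⁻¹ := hinv
      rw [h2, inv_mul_cancel]
    have := congrArg (fun f : MulAut R => f x) h1
    exact this
  -- the four elements
  set z' := α⁻¹ z with hz'
  have hαz' : α z' = z := MulAut.apply_inv_self _ α z
  have hS : ∀ x, x * y x = 1 ∨ x * y x = z ∨ x * y x = z' ∨ x * y x = z * z' := by
    intro x
    have hyx : y x = α⁻¹ (w (α (w x))) := by
      rw [hy, hwi]
      rfl
    have hαi : ∀ u, α⁻¹ (α u) = u := fun u => MulAut.inv_apply_self _ α u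
    have key : ∀ u, α⁻¹ (w (α u)) = u ∨ α⁻¹ (w (α u)) = u * z' := by
      intro u
      rcases hwt (α u) with h1 | h1
      · left; rw [h1, hαi]
      · right; rw [h1, map_mul, hαi]
    rw [hyx]
    rcases hwt x with h1 | h1 <;> rw [h1]
    · rcases key x with h2 | h2 <;> rw [h2]
      · left; exact hsq x
      · right; right; left; rw [← mul_assoc, hsq, one_mul]
    · rcases key (x * z) with h2 | h2 <;> rw [h2]
      · right; left; rw [← mul_assoc, hsq, one_mul]
      · right; right; right; rw [← mul_assoc, ← mul_assoc, hsq, one_mul]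
  have himg : ∀ x, y (x * y x) = y x * y (y x) := fun x => map_mul y _ _
  -- a nontrivial commutator
  obtain ⟨x₀, hx₀⟩ : ∃ x, x * y x ≠ 1 := by
    by_contra hcon
    push Not at hcon
    apply hy1
    ext x
    have := hcon x
    rw [MulAut.one_apply]
    calc y x = x * (x * y x) := by rw [← mul_assoc, hsq, one_mul]
      _ = x := by rw [this, mul_one]
  -- facts for a nontrivial commutator `n`
  have facts : ∀ x, x * y x ≠ 1 → y (x * y x) ≠ x * y x ∧ y (y (x * y x)) ≠ x * y x ∧
      y (x * y x) ≠ 1 := by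
    intro x hx
    refine ⟨fun e => hx (h.eq_one_of_fix hsq hyA e), fun e => hx (h.eq_one_of_fix hsq hyA
      (h.fix_of_sq hyA e)), fun e => hx ((MulEquiv.map_eq_one_iff y).1 e)⟩
  have hS' : ∀ x, x * y x ≠ 1 → ∀ i : ℕ, ∃ x', (y ^ i) (x * y x) = x' * y x' ∧ x' * y x' ≠ 1 := by
    intro x hx i
    refine ⟨(y ^ i) x, ?_, ?_⟩
    · rw [map_mul]
      congr 1
      rw [← MulAut.mul_apply, ← MulAut.mul_apply, ← pow_succ, ← pow_succ']
    · intro e
      apply hx
      have h1 : (y ^ i) (x * y x) = 1 := by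
        rw [map_mul, ← e]
        congr 1
        rw [← MulAut.mul_apply, ← MulAut.mul_apply, ← pow_succ, ← pow_succ']
      exact (MulEquiv.map_eq_one_iff (y ^ i)).1 h1
  -- `z` is a commutator
  have hz : ∃ x, x * y x = z := by
    by_contra hcon
    push Not at hcon
    obtain ⟨f1, f2, f3⟩ := facts x₀ hx₀
    obtain ⟨x1, e1, g1⟩ := hS' x₀ hx₀ 1
    obtain ⟨x2, e2, g2⟩ := hS' x₀ hx₀ 2
    rw [pow_one] at e1
    rw [pow_two, MulAut.mul_apply] at e2
    have f4 : y (y (x₀ * y x₀)) ≠ y (x₀ * y x₀) := fun e => f1 (y.injective e)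
    have c0 := (hS x₀).resolve_left hx₀ |>.resolve_left (hcon x₀)
    have c1 := (hS x1).resolve_left g1 |>.resolve_left (hcon x1)
    have c2 := (hS x2).resolve_left g2 |>.resolve_left (hcon x2)
    rw [e1] at f1 f4 f2 e2
    rw [e2] at f4 f2
    rcases c0 with c0 | c0 <;> rcases c1 with c1 | c1 <;> rcases c2 with c2 | c2
    · exact f1 (c1.trans c0.symm)
    · exact f1 (c1.trans c0.symm)
    · exact f2 (c2.trans c0.symm)
    · exact f4 (c2.trans c1.symm)
    · exact f4 (c2.trans c1.symm)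
    · exact f2 (c2.trans c0.symm)
    · exact f1 (c1.trans c0.symm)
    · exact f1 (c1.trans c0.symm)
  refine ⟨y, hyA, hy1, hinv', hz, ?_⟩
  obtain ⟨xz, hxz⟩ := hz
  have hxz1 : xz * y xz ≠ 1 := by rw [hxz]; exact hz1
  obtain ⟨f1, f2, f3⟩ := facts xz hxz1
  obtain ⟨x1, e1, g1⟩ := hS' xz hxz1 1
  obtain ⟨x2, e2, g2⟩ := hS' xz hxz1 2
  rw [pow_one] at e1
  rw [pow_two, MulAut.mul_apply] at e2
  rw [hxz] at f1 f2 f3 e1 e2
  have f4 : y (y z) ≠ y z := fun e => f1 (y.injective e)
  have c1 := (hS x1).resolve_left g1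
  have c2 := (hS x2).resolve_left g2
  rw [← e1] at c1
  rw [← e2] at c2
  have c1' := c1.resolve_left f1
  have c2' := c2.resolve_left f2
  intro x
  rcases hS x with h1 | h1 | h1 | h1
  · exact Or.inl h1
  · exact Or.inr (Or.inl h1)
  · rw [h1]
    rcases c1' with c | c
    · exact Or.inr (Or.inr (Or.inl c.symm))
    · rcases c2' with c' | c'
      · exact Or.inr (Or.inr (Or.inr c'.symm))
      · exact absurd (c'.trans c.symm) f4
  · rw [h1]
    rcases c1' with c | c
    · rcases c2' with c' | c'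
      · exact absurd (c'.trans c.symm) f4
      · exact Or.inr (Or.inr (Or.inr c'.symm))
    · exact Or.inr (Or.inr (Or.inl c.symm))

/-- if `z'` moves under `y` then `z` lies in `[R, y']` -/
theorem Odd.eq_or_of_moves (h : Odd J A p) (hsq : ∀ x : R, x * x = 1) {y y' : MulAut R} (hy : y ∈ A) (hy' : y' ∈ A)
    {z z' : R} (hS : ∀ x, x * y x = 1 ∨ x * y x = z ∨ x * y x = y z ∨ x * y x = y (y z))
    (hS' : ∀ x, x * y' x = 1 ∨ x * y' x = z' ∨ x * y' x = y' z' ∨ x * y' x = y' (y' z'))
    (hx' : ∃ x, x * y' x = z') (hm : y z' ≠ z') :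
    z = z' ∨ z = y' z' ∨ z = y' (y' z') := by
  obtain ⟨x, hx⟩ := hx'
  have hc1 : z' * y z' ≠ 1 := by
    intro e
    apply hm
    calc y z' = z' * (z' * y z') := by rw [← mul_assoc, hsq, one_mul]
      _ = z' := by rw [e, mul_one]
  have hcomm : ∀ a ∈ A, ∀ u, a (y' u) = y' (a u) := by
    intro a ha u
    have := congrArg (fun f : MulAut R => f u) (h.comm a ha y' hy')
    exact this
  have hc' : ∀ a ∈ A, ∃ u, u * y' u = a (z' * y z') := by
    intro a ha
    refine ⟨a (x * y x), ?_⟩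
    rw [← hcomm a ha, ← map_mul]
    congr 1
    rw [← hx, map_mul, map_mul, ← hcomm y hy]
    have := comm_of_sq hsq (y x) (y' x)
    calc x * y x * (y' x * y (y' x)) = x * (y x * y' x) * y (y' x) := by simp only [mul_assoc]
      _ = x * y' x * (y x * y (y' x)) := by rw [this]; simp only [mul_assoc]
  have key : ∃ a ∈ A, a (z' * y z') = z := by
    rcases hS z' with e | e | e | e
    · exact absurd e hc1
    · exact ⟨1, one_mem _, by rw [MulAut.one_apply, e]⟩
    · exact ⟨y⁻¹, inv_mem hy, by rw [e, MulAut.inv_apply_self]⟩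
    · exact ⟨y⁻¹ * y⁻¹, mul_mem (inv_mem hy) (inv_mem hy), by
        rw [e, MulAut.mul_apply, MulAut.inv_apply_self, MulAut.inv_apply_self]⟩
  obtain ⟨a, ha, hi⟩ := key
  obtain ⟨u, hu⟩ := hc' a ha
  rw [hi] at hu
  have hz1 : z ≠ 1 := by
    rw [← hi]
    exact fun e => hc1 ((MulEquiv.map_eq_one_iff a).1 e)
  have := (hS' u)
  rw [hu] at this
  exact this.resolve_left hz1

end Single

/-- **three transvections with centres on a line** -/
theorem false_of_three [Finite R] (hsq : ∀ x : R, x * x = 1) (J : Subgroup (MulAut R))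
    (hJ : Group.IsSolvable J)
    (hirr : ∀ U : Subgroup R, (∀ j ∈ J, ∀ u ∈ U, j u ∈ U) → U = ⊥ ∨ U = ⊤)
    (z : Fin 3 → R) (w : Fin 3 → MulAut R) (hz : z 0 * z 1 = z 2) (hz1 : ∀ i, z i ≠ 1)
    (hw : ∀ i, w i ∈ J) (hwt : ∀ i x, w i x = x ∨ w i x = x * z i) (hwne : ∀ i, ∃ x, w i x ≠ x)
    (hfix : ∀ i j, w i (z j) = z j) : False := by
  have hJ1 : ∃ j ∈ J, j ≠ 1 := by
    obtain ⟨x, hx⟩ := hwne 0
    exact ⟨w 0, hw 0, fun e => hx (by rw [e, MulAut.one_apply])⟩
  obtain ⟨A, p, h⟩ := exists_odd hsq J hJ hJ1 hirr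
  choose y hyA hy1 hinv hzc hS using fun i =>
    h.exists_y hsq (hw i) (hz1 i) (hwt i) (hwne i) (hfix i i)
  -- the `z i` are different
  have hcm := comm_of_sq hsq
  have hne01 : z 0 ≠ z 1 := by
    intro e
    apply hz1 2
    rw [← hz, e, hsq]
  have hne02 : z 0 ≠ z 2 := by
    intro e
    apply hz1 1
    rw [← hz] at e
    exact (mul_left_cancel (a := z 0) (b := 1) (c := z 1) (by rw [mul_one]; exact e)).symm
  have hne12 : z 1 ≠ z 2 := by
    intro e
    apply hz1 0
    rw [← hz] at e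
    exact (mul_right_cancel (a := 1) (b := z 1) (c := z 0) (by rw [one_mul]; exact e)).symm
  -- `y i` fixes `z j` for `i ≠ j`
  have hcross : ∀ i j, z i ≠ z j → y i (z j) = z j := by
    intro i j hij
    by_contra hm
    rcases h.eq_or_of_moves hsq (hyA i) (hyA j) (hS i) (hS j) (hzc j) hm with e | e | e
    · exact hij e
    · -- `z i = y j (z j)`; `w j` fixes both
      have h1 := hinv j (z j)
      rw [← e, hfix j i, e] at h1
      -- `w (y (y z)) = z`
      have h2 : y j (y j (z j)) = z j := by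
        have h3 : w j (w j (y j (y j (z j)))) = w j (z j) := by rw [h1]
        have h4 : w j (w j (y j (y j (z j)))) = y j (y j (z j)) := by
          rcases hwt j (y j (y j (z j))) with h5 | h5
          · rw [h5, h5]
          · rw [h5, map_mul, hfix j j, h5, mul_assoc, hsq, mul_one]
        rw [h4, hfix j j] at h3
        exact h3
      apply hij
      rw [e]
      exact h.fix_of_sq (hyA j) h2
    · -- `z i = y (y z)`
      have hww : ∀ x, w j (w j x) = x := by
        intro x
        rcases hwt j x with h5 | h5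
        · rw [h5, h5]
        · rw [h5, map_mul, hfix j j, h5, mul_assoc, hsq, mul_one]
      have h1 := hinv j (y j (z j))
      rw [← e, hfix j i] at h1
      have h2 := hinv j (z j)
      have h3 : y j (z i) = w j (y j (z j)) := by
        calc y j (z i) = w j (w j (y j (z i))) := (hww _).symm
          _ = w j (y j (z j)) := by rw [h1]
      rw [← h3] at h2
      have h4 : y j (y j (z i)) = z j := by
        calc y j (y j (z i)) = w j (w j (y j (y j (z i)))) := (hww _).symm
          _ = w j (z j) := by rw [h2]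
          _ = z j := hfix j j
      apply hij
      have h6 : (y j * y j) ((y j * y j) (z j)) = z j := by
        rw [MulAut.mul_apply, MulAut.mul_apply, ← e]
        exact h4
      have h7 := h.fix_of_sq (mul_mem (hyA j) (hyA j)) h6
      rw [MulAut.mul_apply] at h7
      rw [e]
      exact h7
  have h0 : y 0 (z 0) = z 0 := by
    have h1 := hcross 0 1 hne01
    have h2 := hcross 0 2 hne02
    have h3 : z 0 = z 2 * z 1 := by rw [← hz, mul_assoc, hsq, mul_one]
    rw [h3, map_mul, h1, h2]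
  obtain ⟨x, hx⟩ := hzc 0
  apply hz1 0
  rw [← hx]
  exact h.eq_one_of_fix hsq (hyA 0) (by rw [hx]; exact h0)

end Cfsg.Agent.MinSimple.TriTrans
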