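import Cfsg.Agent.MinSimple.BTwoB
import Cfsg.Agent.MinSimple.TriTrans

/-!
# (E1) with `|V| = 4`, `b = 2`: "Lemma K"

* `false_of_transvections`: a subgroup `J` acting irreducibly on the elementary abelian 2-subgroup `R` does not contain
  three elements inducing transvections with centres `z 0`, `z 1`, `z 0 * z 1` on `R` and centralizing the centres;
* `BTwo.eq_of_mem_lines`: `V` is the only line through `z` contained in `dd V`.
-/

set_option autoImplicit false
set_option linter.dupNamespace false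
set_option linter.unusedSectionVars false

namespace Cfsg.Agent.MinSimple.BTwoK

open Subgroup Cfsg Cfsg.Agent.ZN Cfsg.Agent.MinSimple.Geo Cfsg.Agent.MinSimple.BTwoA Cfsg.Agent.MinSimple.BTwoB
open Cfsg.Agent.ZN.Block (conj_mem_of_normalizer conj_mem_of_normalizer' le_normalizer_of_forall
  mem_normalizer_of)

universe u

variable {G : Type u} [Group G] [Finite G]

theorem isPGroup_of_sq {R : Subgroup G} (hR : ∀ x ∈ R, x * x = 1) : IsPGroup 2 R := by
  rintro ⟨x, hx⟩
  refine ⟨1, Subtype.ext ?_⟩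
  simpa [pow_two] using hR x hx

theorem solvable_normalizer (hsolv : ∀ N : Subgroup G, IsTwoLocal N → Group.IsSolvable N) {R : Subgroup G}
    (hR : ∀ x ∈ R, x * x = 1) (hR1 : R ≠ ⊥) : Group.IsSolvable (normalizer (R : Set G)) :=
  hsolv _ ⟨R, isPGroup_of_sq hR, hR1, rfl⟩

/-- three transvections with centres on a line -/
theorem false_of_transvections (hsolv : ∀ N : Subgroup G, IsTwoLocal N → Group.IsSolvable N) {R J : Subgroup G}
    (hR : ∀ x ∈ R, x * x = 1) (hJ : J ≤ normalizer (R : Set G)) (z w : Fin 3 → G) (hz : z 0 * z 1 = z 2)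
    (hz1 : ∀ i, z i ≠ 1) (hzR : ∀ i, z i ∈ R) (hw : ∀ i, w i ∈ J)
    (hwt : ∀ i, ∀ x ∈ R, w i * x * (w i)⁻¹ = x ∨ w i * x * (w i)⁻¹ = x * z i)
    (hwne : ∀ i, ∃ x ∈ R, w i * x * (w i)⁻¹ ≠ x) (hfix : ∀ i j, w i * z j * (w i)⁻¹ = z j)
    (hirr : ∀ U : Subgroup G, U ≤ R → J ≤ normalizer (U : Set G) → U = ⊥ ∨ U = R) : False := by
  have hR1 : R ≠ ⊥ := by
    intro e
    apply hz1 0
    have := hzR 0
    rwa [e, mem_bot] at this
  have hs := solvable_normalizer hsolv hR hR1
  have hJs : Group.IsSolvable J :=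
    Group.isSolvable_of_isSolvable_injective (f := Subgroup.inclusion hJ) (Subgroup.inclusion_injective hJ)
  let f : J →* MulAut R := R.normalizerMonoidHom.comp (Subgroup.inclusion hJ)
  have hf : ∀ (j : J) (x : R), ((f j x : R) : G) = j * x * (j : G)⁻¹ := fun j x => rfl
  have hfs : Group.IsSolvable f.range :=
    Group.isSolvable_of_surjective (f := f.rangeRestrict) f.rangeRestrict_surjective
  refine TriTrans.false_of_three (R := R) (fun x => Subtype.ext (hR x x.2)) f.range hfs ?_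
    (fun i => ⟨z i, hzR i⟩) (fun i => f ⟨w i, hw i⟩) (Subtype.ext hz)
    (fun i e => hz1 i (congrArg Subtype.val e)) (fun i => ⟨_, rfl⟩) ?_ ?_ ?_
  · intro U hU
    have h1 : J ≤ normalizer ((U.map R.subtype : Subgroup G) : Set G) := by
      refine le_normalizer_of_forall ?_
      rintro j hj _ ⟨u, hu, rfl⟩
      exact ⟨f ⟨j, hj⟩ u, hU _ ⟨_, rfl⟩ u hu, rfl⟩
    rcases hirr _ (map_subtype_le U) h1 with h2 | h2
    · left
      exact (Subgroup.map_eq_bot_iff_of_injective U R.subtype_injective).1 h2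
    · right
      rw [eq_top_iff]
      intro x _
      have hx : (x : G) ∈ U.map R.subtype := by rw [h2]; exact x.2
      obtain ⟨u, hu, hux⟩ := hx
      rwa [← Subtype.ext hux]
  · intro i x
    rcases hwt i x x.2 with h1 | h1
    · left; exact Subtype.ext h1
    · right; exact Subtype.ext h1
  · intro i
    obtain ⟨x, hx, hne⟩ := hwne i
    exact ⟨⟨x, hx⟩, fun e => hne (congrArg Subtype.val e)⟩
  · intro i j
    exact Subtype.ext (hfix i j)

variable {T V : Subgroup G} {z : G}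

theorem lines_cj (V : Subgroup G) (g x : G) : lines (cj g V) x = lines V x := by
  ext L
  constructor
  · rintro ⟨⟨k, rfl⟩, hx⟩
    exact ⟨⟨k * g, cj_cj _ _ _⟩, hx⟩
  · rintro ⟨⟨k, rfl⟩, hx⟩
    refine ⟨⟨k * g⁻¹, ?_⟩, hx⟩
    rw [cj_cj, inv_mul_cancel_right]

theorem ws_cj (V : Subgroup G) (g x : G) : ws (cj g V) x = ws V x := by
  rw [ws, lines_cj, ws]

theorem BTwo.conj (h : BTwo T V z) (g : G) : BTwo (cj g T) (cj g V) (g * z * g⁻¹) := by
  obtain ⟨a, ha, b, hb, hab⟩ := h.nonab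
  refine ⟨h.toGeo.conj g, g * a * g⁻¹, ?_, g * b * g⁻¹, ?_, fun e => hab ?_⟩
  · rw [ws_cj]; exact conj_mem_ws ha
  · rw [ws_cj]; exact conj_mem_ws hb
  · calc a * b = g⁻¹ * (g * a * g⁻¹ * (g * b * g⁻¹)) * g := by group
      _ = g⁻¹ * (g * b * g⁻¹ * (g * a * g⁻¹)) * g := by rw [e]
      _ = b * a := by group

/-- every line through `z` is as good as `V` -/
theorem BTwo.line (h : BTwo T V z) {L : Subgroup G} (hL : L ∈ lines V z) : ∃ T' : Subgroup G, BTwo T' L z := by
  obtain ⟨c, hc, rfl⟩ := h.toGeo.exists_of_mem_lines hL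
  refine ⟨cj c T, ?_⟩
  have := BTwo.conj h c
  rwa [show c * z * c⁻¹ = z by rw [h.z_comm hc]; group] at this

/-- an element of `xx V` moving `p` to `q` -/
theorem BTwo.exists_move (h : BTwo T V z) {p q : G} (hp : p ∈ V) (hq : q ∈ V) (hp1 : p ≠ 1) (hq1 : q ≠ 1)
    (hpq : p ≠ q) : ∃ w ∈ ws V (p * q), w * p * w⁻¹ = q ∧ w * q * w⁻¹ = p := by
  have hr1 : p * q ≠ 1 := fun e => hpq (by
    have := mul_eq_one_iff_eq_inv.mp e
    rwa [h.inv_eq hq] at this)
  obtain ⟨T', h'⟩ := h.point (mul_mem hp hq) hr1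
  obtain ⟨w, hw, hwV⟩ := h'.exists_w
  have hrp : p ≠ p * q := fun e => hq1 (by simpa using e.symm)
  have hrq : q ≠ p * q := fun e => hp1 (by simpa using e.symm)
  refine ⟨w, hw, ?_, ?_⟩
  · rw [h'.w_move hw hwV hp hp1 hrp, h.comm hp hq, mul_assoc, h.sq p hp, mul_one]
  · rw [h'.w_move hw hwV hq hq1 hrq, mul_assoc, h.sq q hq, mul_one]

/-- a subgroup normalized by `xx V` containing a point of `V` contains `V` -/
theorem BTwo.V_le_of_mem (h : BTwo T V z) {U : Subgroup G} (hU : xx V ≤ normalizer (U : Set G)) {p : G}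
    (hp : p ∈ V) (hp1 : p ≠ 1) (hpU : p ∈ U) : V ≤ U := by
  intro q hq
  by_cases hq1 : q = 1
  · rw [hq1]; exact one_mem _
  by_cases hpq : p = q
  · rwa [← hpq]
  obtain ⟨w, hw, h1, _⟩ := BTwo.exists_move h hp hq hp1 hq1 hpq
  have hr1 : p * q ≠ 1 := fun e => hpq (by
    have := mul_eq_one_iff_eq_inv.mp e
    rwa [h.inv_eq hq] at this)
  rw [← h1]
  exact conj_mem_of_normalizer hU (ws_le_xx (mul_mem hp hq) hr1 hw) hpU

/-- a nontrivial subgroup of `dd V` normalized by `xx V` contains `V` -/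
theorem BTwo.V_le_of_le_dd (h : BTwo T V z) {U : Subgroup G} (hU : xx V ≤ normalizer (U : Set G))
    (hUd : U ≤ dd V) (hU1 : U ≠ ⊥) : V ≤ U := by
  obtain ⟨u, hu1⟩ := (Subgroup.ne_bot_iff_exists_ne_one).mp hU1
  by_cases hc : ∀ a ∈ us V z, a * (u : G) = u * a
  · exact BTwo.V_le_of_mem h hU (BTwo.mem_V_of_comm h (hUd u.2) hc) (fun e => hu1 (Subtype.ext e)) u.2
  · push Not at hc
    obtain ⟨a, ha, hne⟩ := hc
    have h1 : a * u * a⁻¹ = z * u := by
      rcases h.dd_ws (hUd u.2) ha.1 with e | e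
      · exfalso; apply hne
        calc a * u = (a * u * a⁻¹) * a := by group
          _ = u * a := by rw [e]
      · exact e
    have h2 : a * u * a⁻¹ ∈ U := conj_mem_of_normalizer hU (ws_le_xx h.z_mem h.z_ne ha.1) u.2
    have h3 : z ∈ U := by
      have := mul_mem h2 (inv_mem u.2)
      rwa [h1, mul_inv_cancel_right] at this
    exact BTwo.V_le_of_mem h hU h.z_mem h.z_ne h3

/-- `xx V` normalizes the subgroups between `V` and `dd V` -/
theorem BTwo.xx_le_normalizer (h : BTwo T V z) {E : Subgroup G} (hE : E ≤ dd V) (hVE : V ≤ E) :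
    xx V ≤ normalizer (E : Set G) := by
  refine iSup_le fun p => ?_
  obtain ⟨T', h'⟩ := h.point p.2.1 p.2.2
  refine le_normalizer_of_forall fun w hw e he => ?_
  rcases h'.dd_ws (hE he) hw with e1 | e1
  · rw [e1]; exact he
  · rw [e1]; exact mul_mem (hVE p.2.1) he

/-- **Lemma K** -/
theorem BTwo.false_of_gen (h : BTwo T V z) {E J : Subgroup G} (hE : E ≤ dd V) (hVE : V ≤ E) (hne : ¬ E ≤ V)
    (hJ : J ≤ normalizer (E : Set G)) (hxx : xx V ≤ J)
    (hgen : ∀ U : Subgroup G, V ≤ U → J ≤ normalizer (U : Set G) → E ≤ U) : False := by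
  obtain ⟨q, hq, hq1, hqz⟩ := h.exists_y
  have hzq1 : z * q ≠ 1 := fun e => hqz (by
    rw [mul_eq_one_iff_eq_inv.mp e, h.inv_eq hq])
  -- the transvections
  have hex : ∀ p ∈ V, p ≠ 1 → ∃ w ∈ us V p, ∃ x ∈ E, w * x * w⁻¹ ≠ x := by
    intro p hp hp1
    by_contra hcon
    push Not at hcon
    apply hne
    intro x hx
    refine BTwo.mem_V_of_comm' h (hE hx) hp hp1 fun u hu => ?_
    calc u * x = (u * x * u⁻¹) * u := by group
      _ = x * u := by rw [hcon u hu x hx]
  let pt : Fin 3 → G := ![z, q, z * q]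
  have hpt : ∀ i, pt i ∈ V ∧ pt i ≠ 1 := by
    intro i
    fin_cases i
    · exact ⟨h.z_mem, h.z_ne⟩
    · exact ⟨hq, hq1⟩
    · exact ⟨mul_mem h.z_mem hq, hzq1⟩
  choose w hw hwx using fun i => hex (pt i) (hpt i).1 (hpt i).2
  refine false_of_transvections h.solv (R := E) (J := J) (fun x hx => h.dd_sq (hE hx)) hJ pt w rfl
    (fun i => (hpt i).2) (fun i => hVE (hpt i).1) (fun i => hxx (ws_le_xx (hpt i).1 (hpt i).2 (hw i).1))
    ?_ hwx ?_ ?_
  · intro i x hx
    obtain ⟨T', h'⟩ := h.point (hpt i).1 (hpt i).2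
    rcases h'.dd_ws (hE hx) (hw i).1 with e | e
    · exact Or.inl e
    · right
      rw [e]
      exact h.dd_comm (hE (hVE (hpt i).1)) (hE hx)
  · intro i j
    rw [comm_V (hw i).2 (hpt j).1]
    group
  · intro U hU hJU
    by_cases hU1 : U = ⊥
    · exact Or.inl hU1
    · right
      refine le_antisymm hU (hgen U ?_ hJU)
      exact BTwo.V_le_of_le_dd h (hxx.trans hJU) (hU.trans hE) hU1

/-- a line `L` through `z` in `dd V`: `V ≤ dd L` -/
theorem BTwo.le_dd_of_le (h : BTwo T V z) {L : Subgroup G} (hL : L ∈ lines V z) (hLd : L ≤ dd V) (hne : ¬ L ≤ V) :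
    V ≤ dd L := by
  obtain ⟨T', h'⟩ := BTwo.line h hL
  obtain ⟨v, hv, hv1, hvz⟩ := h.exists_y
  have hzL : z ∈ L := h'.z_mem
  have hvz' : z * v ≠ 1 := fun e => hvz (by rw [mul_eq_one_iff_eq_inv.mp e, h.inv_eq hv])
  have hlV : ∀ x, ws L x = ws V x := by
    intro x
    obtain ⟨c, _, rfl⟩ := h.toGeo.exists_of_mem_lines hL
    exact ws_cj V c x
  -- enough: `v ∈ ws V p` for all points `p` of `L`
  have key : ∀ p ∈ L, p ≠ 1 → v ∈ ws V p ∧ z ∈ ws V p := by
    intro p hp hp1
    by_cases hpz : p = z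
    · rw [hpz]; exact ⟨h.V_le_ws hv, h.V_le_ws h.z_mem⟩
    have hpV : p ∉ V := by
      intro hpV
      apply hne
      intro x hx
      rcases h'.four hzL hp h.z_ne hp1 (Ne.symm hpz) hx with rfl | rfl | rfl | rfl
      · exact one_mem _
      · exact h.z_mem
      · exact hpV
      · exact mul_mem h.z_mem hpV
    -- an element of `ws V (z * v)` exchanging `z` and `v` and commuting with `p`
    obtain ⟨w, hw, hwz, hwv⟩ := BTwo.exists_move h h.z_mem hv h.z_ne hv1 (Ne.symm hvz)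
    obtain ⟨T'', h''⟩ := h.point (mul_mem h.z_mem hv) hvz'
    obtain ⟨g, hg1, hg2⟩ : ∃ g : G, g * z * g⁻¹ = v ∧ g * p * g⁻¹ = p := by
      rcases h''.dd_ws (hLd hp) hw with e | e
      · exact ⟨w, hwz, e⟩
      · -- correct by an element of `us V (z * v)`
        obtain ⟨u, hu, hup⟩ : ∃ u ∈ us V (z * v), u * p ≠ p * u := by
          by_contra hcon
          push Not at hcon
          exact hpV (BTwo.mem_V_of_comm h'' (hLd hp) hcon)
        have hu1 : u * p * u⁻¹ = z * v * p := by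
          rcases h''.dd_ws (hLd hp) hu.1 with e' | e'
          · exfalso; apply hup
            calc u * p = (u * p * u⁻¹) * u := by group
              _ = p * u := by rw [e']
          · exact e'
        have huv : u * v * u⁻¹ = v := by rw [comm_V hu.2 hv]; group
        have huz : u * (z * v) * u⁻¹ = z * v := by rw [comm_V hu.2 (mul_mem h.z_mem hv)]; group
        refine ⟨u * w, ?_, ?_⟩
        · calc u * w * z * (u * w)⁻¹ = u * (w * z * w⁻¹) * u⁻¹ := by group
            _ = v := by rw [hwz, huv]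
        · calc u * w * p * (u * w)⁻¹ = u * (w * p * w⁻¹) * u⁻¹ := by group
            _ = (u * (z * v) * u⁻¹) * (u * p * u⁻¹) := by rw [e]; group
            _ = (z * v) * (z * v) * p := by rw [huz, hu1]; group
            _ = p := by rw [h.sq _ (mul_mem h.z_mem hv), one_mul]
    have hLp : L ∈ lines V p := ⟨hL.1, hp⟩
    refine ⟨?_, le_ws hLp hzL⟩
    have h1 : cj g L ∈ lines V (g * p * g⁻¹) := mem_lines_cj hLp
    rw [hg2] at h1
    have h2 : g * z * g⁻¹ ∈ cj g L := conj_mem_cj hzL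
    rw [hg1] at h2
    exact le_ws h1 h2
  intro x hx
  rw [mem_dd]
  intro p hp hp1
  rw [hlV]
  obtain ⟨k1, k2⟩ := key p hp hp1
  rcases h.four h.z_mem hv h.z_ne hv1 (Ne.symm hvz) hx with rfl | rfl | rfl | rfl
  · exact one_mem _
  · exact k2
  · exact k1
  · exact mul_mem k2 k1

/-- `V` is the only line through `z` contained in `dd V` -/
theorem BTwo.eq_of_mem_lines (h : BTwo T V z) {L : Subgroup G} (hL : L ∈ lines V z) (hLd : L ≤ dd V) : L = V := by
  by_contra hne
  have hcard : Nat.card L = Nat.card V := by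
    obtain ⟨c, _, rfl⟩ := h.toGeo.exists_of_mem_lines hL
    exact card_cj _ _
  have hne' : ¬ L ≤ V := by
    intro hle
    exact hne (Subgroup.eq_of_le_of_card_ge hle hcard.ge)
  obtain ⟨T', h'⟩ := BTwo.line h hL
  have hVd := BTwo.le_dd_of_le h hL hLd hne'
  set E := V ⊔ L with hE
  have hE1 : E ≤ dd V := sup_le h.V_le_dd hLd
  have hE2 : E ≤ dd L := sup_le hVd h'.V_le_dd
  refine BTwo.false_of_gen h hE1 le_sup_left (fun h1 => hne' (le_sup_right.trans h1)) (J := xx V ⊔ xx L)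
    (sup_le (BTwo.xx_le_normalizer h hE1 le_sup_left) (BTwo.xx_le_normalizer h' hE2 le_sup_right))
    le_sup_left ?_
  intro U hVU hJU
  refine sup_le hVU ?_
  exact BTwo.V_le_of_mem h' (le_sup_right.trans hJU) h'.z_mem h'.z_ne (hVU h.z_mem)

end Cfsg.Agent.MinSimple.BTwoK
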