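import Mathlib
import Cfsg.Agent.MinSimple.BTwoB
import Cfsg.Agent.Lib.SolvableMinNormal
import Cfsg.Agent.Lib.CoprimeAbelian
import Cfsg.Agent.MinSimple.BTwoK

/-!
# (E1) with `|V| = 4`, the case "`ws V z` abelian": lines

* structure `Odd T V z`, `Odd.conj`, `Odd.point`, `Odd.line`, `Odd.line'`;
* `Odd.exists_swap`, `Odd.exists_swap'`: some element of `kq V p` interchanges the other two points of `V`;
* `Odd.inf_eq_dd`: `ws V p ∩ ws V q = dd V`;
* `ll V = ⟨kq V p⟩`, `cj_kq`, `normalizer_le_normalizer_ll`, `Odd.ll_dd`, `Odd.eq_one_of_comm_ll`;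
* `Odd.mem_V_of_comm`, `Odd.exists_transvection`, `Odd.exists_swap_comm`: `S₄` on `⟨V, t⟩`;
* `Odd.eq_of_mem_lines`, `Odd.eq_of_le_sup`: there is no second line in `dd V` through a point of `V`.
-/

set_option autoImplicit false
set_option linter.dupNamespace false
set_option linter.unusedSectionVars false
set_option linter.style.haveILetI false

namespace Cfsg.Agent.MinSimple.OddLine

open Subgroup Cfsg Cfsg.Agent.ZN Cfsg.Agent.MinSimple.Geo Cfsg.Agent.MinSimple.BTwoA
open Cfsg.Agent.MinSimple.BTwoB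
open Cfsg.Agent.ZN.Block (conj_mem_of_normalizer conj_mem_of_normalizer' le_normalizer_of_forall
  mem_normalizer_of)

universe u

variable {G : Type u} [Group G]

/-- The case `ws V z` abelian. -/
structure Odd (T V : Subgroup G) (z : G) : Prop extends Geo T V z where
  ab : ∀ a ∈ ws V z, ∀ b ∈ ws V z, a * b = b * a

/-- conjugating `V` does not change `lines` and `ws` -/
theorem lines_cj (V : Subgroup G) (g x : G) : lines (cj g V) x = lines V x := by
  ext L
  constructor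
  · rintro ⟨⟨k, rfl⟩, hx⟩
    exact ⟨⟨k * g, cj_cj _ _ _⟩, hx⟩
  · rintro ⟨⟨k, rfl⟩, hx⟩
    refine ⟨⟨k * g⁻¹, ?_⟩, hx⟩
    rw [cj_cj, inv_mul_cancel_right]

theorem ws_cj (V : Subgroup G) (g x : G) : ws (cj g V) x = ws V x := by
  unfold ws; rw [lines_cj]

namespace Odd

variable {T V : Subgroup G} {z : G}

/-- conjugate situation -/
theorem conj (h : Odd T V z) (g : G) : Odd (cj g T) (cj g V) (g * z * g⁻¹) where
  toGeo := h.toGeo.conj g
  ab := by
    intro a ha b hb
    rw [ws_cj, ← cj_ws, mem_cj] at ha hb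
    have := h.ab _ ha _ hb
    calc a * b = g * (g⁻¹ * a * g * (g⁻¹ * b * g)) * g⁻¹ := by group
      _ = g * (g⁻¹ * b * g * (g⁻¹ * a * g)) * g⁻¹ := by rw [this]
      _ = b * a := by group

/-- each point of `V` is as good as `z` -/
theorem point (h : Odd T V z) {p : G} (hp : p ∈ V) (hp1 : p ≠ 1) : ∃ T' : Subgroup G, Odd T' V p := by
  obtain ⟨g, hg, rfl, h1⟩ := h.toGeo.point hp hp1
  have h2 := h.conj g
  rw [cj_eq_of_mem_normalizer hg] at h2
  exact ⟨_, h2⟩

/-- each line through a point: `L = cj g V`, `x ∈ L#` -/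
theorem line (h : Odd T V z) {g x : G} (hx : x ∈ cj g V) (hx1 : x ≠ 1) :
    ∃ T' : Subgroup G, Odd T' (cj g V) x := by
  exact (h.conj g).point hx hx1

variable [Finite G]

theorem ws_sq (h : Odd T V z) {w : G} (hw : w ∈ ws V z) : w * w = 1 := by
  have hzw := h.ab
  let A : Subgroup G :=
    { carrier := {w | w ∈ ws V z ∧ w * w = 1}
      mul_mem' := by
        rintro a b ⟨ha, ha1⟩ ⟨hb, hb1⟩
        refine ⟨mul_mem ha hb, ?_⟩
        calc a * b * (a * b) = a * (b * a) * b := by group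
          _ = (a * a) * (b * b) := by rw [h.ab b hb a ha]; group
          _ = 1 := by rw [ha1, hb1, one_mul]
      one_mem' := ⟨one_mem _, one_mul 1⟩
      inv_mem' := by
        rintro a ⟨ha, ha1⟩
        refine ⟨inv_mem ha, ?_⟩
        have : a⁻¹ * a⁻¹ = (a * a)⁻¹ := by group
        rw [this, ha1, inv_one] }
  refine (ws_le (U := A) (fun L hL x hx => ⟨le_ws hL hx, ?_⟩) hw).2
  obtain ⟨c, hc, rfl⟩ := h.exists_of_mem_lines hL
  rw [mem_cj] at hx
  have := h.sq _ hx
  have e : x * x = c * (c⁻¹ * x * c * (c⁻¹ * x * c)) * c⁻¹ := by group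
  rw [e, this]; group

theorem ws_inv (h : Odd T V z) {w : G} (hw : w ∈ ws V z) : w⁻¹ = w := inv_eq_self (h.ws_sq hw)

end Odd

/-! ### moving the points of a line -/

section Move

variable {T V : Subgroup G} {z : G} [Finite G]

/-- an element of `N(V) ∩ C(z)` not centralizing `V` interchanges the other two points -/
theorem move (h : Geo T V z) {w q : G} (hwz : w ∈ centralizer ({z} : Set G))
    (hwn : w ∈ normalizer (V : Set G)) (hwV : w ∉ centralizer (V : Set G)) (hq : q ∈ V)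
    (hq1 : q ≠ 1) (hqz : q ≠ z) : w * q * w⁻¹ = z * q := by
  rcases h.conj_cases h.z_mem hq h.z_ne (h.z_comm hwz) hwn with e | e
  · exfalso
    apply hwV
    rw [mem_centralizer_iff]
    have hwq : q * w = w * q := by
      calc q * w = (w * q * w⁻¹) * w := by rw [e]
        _ = w * q := by group
    have hwz : z * w = w * z := (h.z_comm hwz).symm
    intro v hv
    rcases h.four h.z_mem hq h.z_ne hq1 (Ne.symm hqz) hv with rfl | rfl | rfl | rfl
    · simp
    · exact hwz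
    · exact hwq
    · rw [mul_assoc, hwq, ← mul_assoc, hwz, mul_assoc]
  · exact e

theorem not_T_le (h : Geo T V z) : ¬ T ≤ centralizer (V : Set G) := by
  intro hT
  obtain ⟨y, hy, hy1, hyz⟩ := h.exists_y
  rcases h.soc y (h.V_le hy) (h.sq y hy) (fun s hs => (mem_centralizer_iff.mp (hT hs) y hy).symm)
    with e | e
  · exact hy1 e
  · exact hyz e

theorem kq_le_normalizer (h : Geo T V z) : kq V z ≤ normalizer (V : Set G) := by
  refine le_normalizer_of_forall fun k hk v hv => ?_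
  have h1 := (mem_kq.mp hk).2.1 v (h.V_le_ws hv)
  have h2 : zpowers z ≤ V := (zpowers_le).mpr h.z_mem
  have e : k * v * k⁻¹ = (k * v * k⁻¹ * v⁻¹) * v := by group
  rw [e]
  exact mul_mem (h2 h1) hv

/-- an element of `kq V z` moves an element of `ws V z` at most by `z` -/
theorem kq_ws (h : Geo T V z) {k w : G} (hk : k ∈ kq V z) (hw : w ∈ ws V z) :
    k * w * k⁻¹ = w ∨ k * w * k⁻¹ = z * w := by
  rcases (mem_zpowers_iff_of_mul_self h.zz).mp ((mem_kq.mp hk).2.1 w hw) with e | e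
  · left
    calc k * w * k⁻¹ = (k * w * k⁻¹ * w⁻¹) * w := by group
      _ = w := by rw [e, one_mul]
  · right
    calc k * w * k⁻¹ = (k * w * k⁻¹ * w⁻¹) * w := by group
      _ = z * w := by rw [e]

/-- if `T ∩ kq V z` centralizes `V` then `kq V z` centralizes `ws V z` -/
theorem kq_le_centralizer (h : Geo T V z) (h1 : T ⊓ kq V z ≤ centralizer (V : Set G)) :
    kq V z ≤ centralizer (ws V z : Set G) := by
  set C := centralizer ({z} : Set G) with hC
  set K := kq V z with hK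
  set K1 := K ⊓ centralizer (ws V z : Set G) with hK1
  have hws : C ≤ normalizer ((ws V z : Subgroup G) : Set G) := Geo.centralizer_le_normalizer_ws V z
  have hKn : C ≤ normalizer (K : Set G) := centralizer_le_normalizer_kq V z
  have hn1 : C ≤ normalizer (K1 : Set G) := by
    refine le_normalizer_of_forall fun c hc x hx => ⟨conj_mem_of_normalizer hKn hc hx.1, ?_⟩
    refine mem_centralizer_iff.mpr fun w hw => ?_
    have h2 := mem_centralizer_iff.mp hx.2 _ (conj_mem_of_normalizer' hws hc hw)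
    calc w * (c * x * c⁻¹) = c * (c⁻¹ * w * c * x) * c⁻¹ := by group
      _ = c * (x * (c⁻¹ * w * c)) * c⁻¹ := by rw [h2]
      _ = c * x * c⁻¹ * w := by group
  have hsup := le_sup_inf_of_pow h.T_le h.two h.T_syl (kq_le V z) hKn
    (inf_le_left.trans (kq_le V z)) hn1 (K := K1) (fun x hx => ⟨1, by
      rw [pow_one, pow_two]
      refine ⟨mul_mem hx hx, mem_centralizer_iff.mpr fun w hw => ?_⟩
      have hxz := h.z_comm (kq_le V z hx)
      have e : x * x * w * (x * x)⁻¹ = w := by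
        have e1 : x * x * w * (x * x)⁻¹ = x * (x * w * x⁻¹) * x⁻¹ := by group
        rw [e1]
        rcases kq_ws h hx hw with e2 | e2
        · rw [e2, e2]
        · rw [e2]
          have e3 : x * (z * w) * x⁻¹ = z * (x * w * x⁻¹) := by
            rw [← mul_assoc, hxz]; group
          rw [e3, e2, ← mul_assoc, h.zz, one_mul]
      calc w * (x * x) = (x * x * w * (x * x)⁻¹) * (x * x) := by rw [e]
        _ = x * x * w := by group⟩)
  have hKV : K ≤ centralizer (V : Set G) :=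
    hsup.trans (sup_le (inf_le_right.trans (centralizer_le h.V_le_ws)) h1)
  intro k hk
  have h2 : ws V z ≤ centralizer ({k} : Set G) := by
    refine ws_le fun L hL x hx => ?_
    obtain ⟨c, hc, rfl⟩ := h.exists_of_mem_lines hL
    rw [mem_centralizer_singleton_iff]
    have hk' := conj_mem_of_normalizer' hKn hc hk
    have h3 := mem_centralizer_iff.mp (hKV hk') _ (mem_cj.mp hx)
    calc x * k = c * (c⁻¹ * x * c * (c⁻¹ * k * c)) * c⁻¹ := by group
      _ = c * (c⁻¹ * k * c * (c⁻¹ * x * c)) * c⁻¹ := by rw [h3]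
      _ = k * x := by group
  exact mem_centralizer_iff.mpr fun w hw => mem_centralizer_singleton_iff.mp (h2 hw)

namespace Odd

/-- `T ∩ kq V z` does not centralize `V` -/
theorem not_inf_le (h : Odd T V z) : ¬ T ⊓ kq V z ≤ centralizer (V : Set G) := by
  intro hTK
  have hKc := kq_le_centralizer h.toGeo hTK
  set C := centralizer ({z} : Set G) with hC
  set K := kq V z with hK
  set W := ws V z with hW
  have hws : C ≤ normalizer (W : Set G) := Geo.centralizer_le_normalizer_ws V z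
  have hKn : C ≤ normalizer (K : Set G) := centralizer_le_normalizer_kq V z
  have hKC : K ≤ C := kq_le V z
  haveI hKN : (K.subgroupOf C).Normal := normal_subgroupOf_of_le_normalizer hKn
  haveI hsol : Group.IsSolvable C := h.solv C (isTwoLocal_centralizer h.zz h.z_ne)
  let H := C ⧸ K.subgroupOf C
  haveI : Group.IsSolvable H := inferInstance
  -- `H` is nontrivial
  haveI hHnt : Nontrivial H := by
    obtain ⟨t, ht, htV⟩ := Set.not_subset.mp (not_T_le h.toGeo)
    refine ⟨⟨QuotientGroup.mk ⟨t, h.T_le ht⟩, 1, fun e => htV ?_⟩⟩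
    rw [QuotientGroup.eq_one_iff, mem_subgroupOf] at e
    exact centralizer_le h.V_le_ws (hKc e)
  letI : CommGroup W := { (inferInstance : Group W) with
    mul_comm := fun x y => Subtype.ext (h.ab x x.2 y y.2) }
  let ψ : C →* MulAut W := (Subgroup.normalizerMonoidHom W).comp (Subgroup.inclusion hws)
  have hψ : ∀ (c : C) (w : W), ((ψ c w : W) : G) = c * w * (c : G)⁻¹ := fun c w => rfl
  have hker : K.subgroupOf C ≤ ψ.ker := by
    intro k hk
    rw [MonoidHom.mem_ker]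
    ext w
    rw [hψ]
    have := mem_centralizer_iff.mp (hKc (mem_subgroupOf.mp hk)) w w.2
    rw [← this]; simp
  let ψ' : H →* MulAut W := QuotientGroup.lift (K.subgroupOf C) ψ hker
  obtain ⟨p, hp, N, hNch, -, hNp, hN1⟩ := Lib.SolvableMinNormal.exists_characteristic_pgroup (G := H)
  haveI hNn : N.Normal := inferInstance
  haveI : Fact p.Prime := ⟨hp⟩
  -- `p` is odd
  have hp2 : p ≠ 2 := by
    rintro rfl
    let M : Subgroup G := (N.comap (QuotientGroup.mk' (K.subgroupOf C))).map C.subtype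
    have hMC : M ≤ C := map_subtype_le _
    have hMn : C ≤ normalizer (M : Set G) := by
      refine le_normalizer_of_forall fun c hc x hx => ?_
      obtain ⟨y, hy, rfl⟩ := hx
      refine ⟨⟨c, hc⟩ * y * ⟨c, hc⟩⁻¹, ?_, rfl⟩
      rw [SetLike.mem_coe, mem_comap, map_mul, map_mul, map_inv]
      exact hNn.conj_mem _ hy _
    have hMK := le_kq h.toGeo hMC hMn (by
      rintro _ ⟨y, hy, rfl⟩
      obtain ⟨k, hk⟩ := hNp ⟨_, hy⟩
      refine ⟨k, ?_⟩
      have h1 : (QuotientGroup.mk' (K.subgroupOf C) y) ^ 2 ^ k = 1 := by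
        simpa using congrArg Subtype.val hk
      rw [← map_pow] at h1
      have h2 : y ^ 2 ^ k ∈ K.subgroupOf C := by
        rwa [← QuotientGroup.eq_one_iff]
      exact mem_subgroupOf.mp h2)
    apply hN1
    rw [eq_bot_iff]
    intro x hx
    obtain ⟨y, rfl⟩ := QuotientGroup.mk'_surjective (K.subgroupOf C) x
    rw [mem_bot]
    change (QuotientGroup.mk y : C ⧸ K.subgroupOf C) = 1
    rw [QuotientGroup.eq_one_iff, mem_subgroupOf]
    exact hMK ⟨y, hx, rfl⟩
  -- coprimeness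
  have hW2 : IsPGroup 2 W := h.two.to_le h.ws_le_T
  have hcop : (Nat.card N).Coprime (Nat.card W) := by
    obtain ⟨m, hm⟩ := IsPGroup.iff_card.mp hNp
    haveI : Fact (Nat.Prime 2) := ⟨Nat.prime_two⟩
    obtain ⟨n, hn⟩ := IsPGroup.iff_card.mp hW2
    rw [hm, hn]
    exact Nat.Coprime.pow _ _ ((Nat.coprime_primes hp Nat.prime_two).mpr hp2)
  let φ : N →* MulAut W := ψ'.comp N.subtype
  let W1 : Subgroup W := Subgroup.closure {w : W | ∃ (a : N) (u : W), w = φ a u * u⁻¹}
  have hzW : z ∈ W := h.V_le_ws h.z_mem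
  have hW1n : ∀ t ∈ T, ∀ w ∈ W1.map W.subtype, t * w * t⁻¹ ∈ W1.map W.subtype := by
    intro t ht w hw
    have htC := h.T_le ht
    obtain ⟨w', hw', rfl⟩ := hw
    have h1 : ψ ⟨t, htC⟩ w' ∈ W1 := by
      have hle : W1 ≤ W1.comap (ψ ⟨t, htC⟩).toMonoidHom := by
        rw [closure_le]
        rintro _ ⟨a, u, rfl⟩
        rw [SetLike.mem_coe, mem_comap]
        have e : (ψ ⟨t, htC⟩).toMonoidHom (φ a u * u⁻¹) =
            φ ⟨QuotientGroup.mk ⟨t, htC⟩ * (a : H) * (QuotientGroup.mk ⟨t, htC⟩)⁻¹,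
              hNn.conj_mem _ a.2 _⟩ (ψ ⟨t, htC⟩ u) * (ψ ⟨t, htC⟩ u)⁻¹ := by
          have e1 : ψ ⟨t, htC⟩ = ψ' (QuotientGroup.mk ⟨t, htC⟩) := rfl
          change (ψ ⟨t, htC⟩) (ψ' a u * u⁻¹) = ψ' _ (ψ ⟨t, htC⟩ u) * (ψ ⟨t, htC⟩ u)⁻¹
          rw [map_mul, map_inv, e1, ← MulAut.mul_apply, ← MulAut.mul_apply, ← map_mul, ← map_mul,
            Subgroup.coe_subtype, inv_mul_cancel_right]
        rw [e]
        exact subset_closure ⟨_, _, rfl⟩
      exact hle hw'
    exact ⟨_, h1, rfl⟩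
  have hW1T : W1.map W.subtype ≤ T := (map_subtype_le _).trans h.ws_le_T
  have hW1 : W1.map W.subtype = ⊥ := by
    by_contra hne
    have hz := z_mem_of_le h.toGeo hW1T (le_normalizer_of_forall hW1n) hne
    obtain ⟨w, hw, hwz⟩ := hz
    have hwz' : (w : G) = z := hwz
    have h1 := Lib.CoprimeAbelian.eq_one_of_fixed_of_mem_closure φ hcop w (fun a => by
      obtain ⟨c, hc⟩ := QuotientGroup.mk_surjective (a : H)
      apply Subtype.ext
      change ((ψ' (a : H) w : W) : G) = w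
      rw [← hc]
      change ((ψ c w : W) : G) = w
      rw [hψ, hwz', h.z_comm c.2, mul_inv_cancel_right]) hw
    apply h.z_ne
    rw [← hwz', h1]; rfl
  have hW1' : W1 = ⊥ := by
    rw [map_eq_bot_iff_of_injective _ W.subtype_injective] at hW1
    exact hW1
  have hfix : ∀ (a : N) (u : W), φ a u = u := by
    intro a u
    have h1 : φ a u * u⁻¹ ∈ W1 := subset_closure ⟨a, u, rfl⟩
    rw [hW1', mem_bot, mul_inv_eq_one] at h1
    exact h1
  apply hN1
  rw [eq_bot_iff]
  intro x hx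
  obtain ⟨y, rfl⟩ := QuotientGroup.mk_surjective x
  rw [mem_bot, QuotientGroup.eq_one_iff, mem_subgroupOf, hK, mem_kq]
  have hyfix : ∀ w ∈ W, (y : G) * w * (y : G)⁻¹ = w := by
    intro w hw
    have h1 := congrArg Subtype.val (hfix ⟨_, hx⟩ ⟨w, hw⟩)
    exact h1
  refine ⟨y.2, fun w hw => ?_, fun w hw => ?_⟩
  · rw [hyfix w hw, mul_inv_cancel]; exact one_mem _
  · have h2 : (y : G)⁻¹ * w * y = w := by
      have := hyfix w hw
      calc (y : G)⁻¹ * w * y = (y : G)⁻¹ * (y * w * (y : G)⁻¹) * y := by rw [this]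
        _ = w := by group
    rw [h2, mul_inv_cancel]; exact one_mem _

/-- some element of `T ∩ kq V z` interchanges the other two points of `V` -/
theorem exists_swap (h : Odd T V z) :
    ∃ y ∈ T ⊓ kq V z, ∀ q ∈ V, q ≠ 1 → q ≠ z → y * q * y⁻¹ = z * q := by
  obtain ⟨y, hy, hyV⟩ := Set.not_subset.mp h.not_inf_le
  exact ⟨y, hy, fun q hq hq1 hqz => move h.toGeo (kq_le V z hy.2) (h.T_norm hy.1) hyV hq hq1 hqz⟩

end Odd

end Move

/-! ### `dd V`, `ll V` -/

section LL

variable {T V : Subgroup G} {z : G} [Finite G]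

theorem cj_kq (V : Subgroup G) (g x : G) : cj g (kq V x) = kq V (g * x * g⁻¹) := by
  have key : ∀ (g x : G), cj g (kq V x) ≤ kq V (g * x * g⁻¹) := by
    intro g x c hc
    rw [mem_cj, mem_kq] at hc
    rw [mem_kq]
    have hzp : ∀ y, y ∈ zpowers x → g * y * g⁻¹ ∈ zpowers (g * x * g⁻¹) := by
      intro y hy
      obtain ⟨n, rfl⟩ := mem_zpowers_iff.mp hy
      rw [← conj_zpow]
      exact zpow_mem (mem_zpowers _) n
    have hw' : ∀ w ∈ ws V (g * x * g⁻¹), g⁻¹ * w * g ∈ ws V x := by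
      intro w hw
      rw [← cj_ws, mem_cj] at hw
      exact hw
    refine ⟨?_, fun w hw => ?_, fun w hw => ?_⟩
    · rw [← cj_centralizer_singleton, mem_cj]; exact hc.1
    · have h1 := hzp _ (hc.2.1 _ (hw' w hw))
      have e : g * (g⁻¹ * c * g * (g⁻¹ * w * g) * (g⁻¹ * c * g)⁻¹ * (g⁻¹ * w * g)⁻¹) * g⁻¹ =
          c * w * c⁻¹ * w⁻¹ := by group
      rwa [e] at h1
    · have h1 := hzp _ (hc.2.2 _ (hw' w hw))
      have e : g * ((g⁻¹ * c * g)⁻¹ * (g⁻¹ * w * g) * (g⁻¹ * c * g) * (g⁻¹ * w * g)⁻¹) * g⁻¹ =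
          c⁻¹ * w * c * w⁻¹ := by group
      rwa [e] at h1
  refine le_antisymm (key g x) ?_
  have h := key g⁻¹ (g * x * g⁻¹)
  have e : g⁻¹ * (g * x * g⁻¹) * g⁻¹⁻¹ = x := by group
  rw [e, cj_le_iff, inv_inv] at h
  exact h

/-- the subgroup generated by the kernels `kq V p`, `p ∈ V#` -/
def ll (V : Subgroup G) : Subgroup G := ⨆ p : {p : G // p ∈ V ∧ p ≠ 1}, kq V p

theorem kq_le_ll {V : Subgroup G} {p : G} (hp : p ∈ V) (hp1 : p ≠ 1) : kq V p ≤ ll V :=
  le_iSup (fun p : {p : G // p ∈ V ∧ p ≠ 1} => kq V p) ⟨p, hp, hp1⟩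

theorem normalizer_le_normalizer_ll (V : Subgroup G) :
    normalizer (V : Set G) ≤ normalizer ((ll V : Subgroup G) : Set G) := by
  have key : ∀ g ∈ normalizer (V : Set G), cj g (ll V) ≤ ll V := by
    intro g hg
    rw [cj_le_iff]
    refine iSup_le fun p => ?_
    rw [← cj_le_iff, cj_kq]
    refine kq_le_ll ((mem_normalizer_iff.mp hg p).mp p.2.1) (fun e => p.2.2 ?_)
    have : (p : G) = g⁻¹ * (g * p * g⁻¹) * g := by group
    rw [this, e]; group
  intro g hg
  rw [mem_normalizer_iff_cj]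
  refine le_antisymm (key g hg) ?_
  have := key g⁻¹ (inv_mem hg)
  rwa [cj_le_iff, inv_inv] at this

theorem ll_le_normalizer (h : Odd T V z) : ll V ≤ normalizer (V : Set G) := by
  refine iSup_le fun p => ?_
  obtain ⟨T', h'⟩ := h.point p.2.1 p.2.2
  exact kq_le_normalizer h'.toGeo

namespace Odd

/-- `ws V z ⊓ ws V q = dd V` -/
theorem inf_le_dd (h : Odd T V z) {q : G} (hq : q ∈ V) (hq1 : q ≠ 1) (hqz : q ≠ z) :
    ws V z ⊓ ws V q ≤ dd V := by
  rintro d ⟨hdz, hdq⟩
  rw [mem_dd]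
  intro p hp hp1
  rcases h.four h.z_mem hq h.z_ne hq1 (Ne.symm hqz) hp with rfl | rfl | rfl | rfl
  · exact absurd rfl hp1
  · exact hdz
  · exact hdq
  · obtain ⟨w, hw, hwm⟩ := h.exists_swap
    have h1 : w * d * w⁻¹ ∈ ws V (z * q) := by
      rw [← hwm q hq hq1 hqz]; exact conj_mem_ws hdq
    obtain ⟨T', h'⟩ := h.point hp hp1
    rcases kq_ws h.toGeo hw.2 hdz with e | e
    · rwa [e] at h1
    · rw [e] at h1
      have h3 : z ∈ ws V (z * q) := h'.V_le_ws h.z_mem
      have h4 := mul_mem (inv_mem h3) h1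
      rwa [inv_mul_cancel_left] at h4

theorem inf_eq_dd (h : Odd T V z) {p q : G} (hp : p ∈ V) (hp1 : p ≠ 1) (hq : q ∈ V) (hq1 : q ≠ 1)
    (hpq : p ≠ q) : ws V p ⊓ ws V q = dd V := by
  obtain ⟨T', h'⟩ := h.point hp hp1
  exact le_antisymm (h'.inf_le_dd hq hq1 (Ne.symm hpq))
    (fun d hd => ⟨mem_dd.mp hd p hp hp1, mem_dd.mp hd q hq hq1⟩)

theorem dd_le_ws (_ : Odd T V z) {p : G} (hp : p ∈ V) (hp1 : p ≠ 1) : dd V ≤ ws V p :=
  fun _ hd => mem_dd.mp hd p hp hp1

theorem V_le_dd (h : Odd T V z) : V ≤ dd V := by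
  intro v hv
  rw [mem_dd]
  intro p hp hp1
  obtain ⟨T', h'⟩ := h.point hp hp1
  exact h'.V_le_ws hv

theorem dd_comm (h : Odd T V z) {a b : G} (ha : a ∈ dd V) (hb : b ∈ dd V) : a * b = b * a :=
  h.ab a (h.dd_le_ws h.z_mem h.z_ne ha) b (h.dd_le_ws h.z_mem h.z_ne hb)

theorem dd_sq (h : Odd T V z) {a : G} (ha : a ∈ dd V) : a * a = 1 :=
  h.ws_sq (h.dd_le_ws h.z_mem h.z_ne ha)

theorem dd_inv (h : Odd T V z) {a : G} (ha : a ∈ dd V) : a⁻¹ = a := inv_eq_self (h.dd_sq ha)

theorem ws_le_centralizer_V (h : Odd T V z) {p : G} (hp : p ∈ V) (hp1 : p ≠ 1) :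
    ws V p ≤ centralizer (V : Set G) := by
  obtain ⟨T', h'⟩ := h.point hp hp1
  intro w hw
  exact mem_centralizer_iff.mpr fun v hv => h'.ab v (h'.V_le_ws hv) w hw

theorem dd_le_centralizer (h : Odd T V z) : dd V ≤ centralizer (V : Set G) :=
  (h.dd_le_ws h.z_mem h.z_ne).trans (h.ws_le_centralizer_V h.z_mem h.z_ne)

/-- an element of `kq V p` moves an element of `dd V` at most by `p` -/
theorem kq_dd (h : Odd T V z) {k d p : G} (hp : p ∈ V) (hp1 : p ≠ 1) (hk : k ∈ kq V p) (hd : d ∈ dd V) :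
    k * d * k⁻¹ = d ∨ k * d * k⁻¹ = p * d := by
  obtain ⟨T', h'⟩ := h.point hp hp1
  exact kq_ws h'.toGeo hk (h.dd_le_ws hp hp1 hd)

/-- swap at each point -/
theorem exists_swap' (h : Odd T V z) {p : G} (hp : p ∈ V) (hp1 : p ≠ 1) :
    ∃ y ∈ kq V p, ∀ q ∈ V, q ≠ 1 → q ≠ p → y * q * y⁻¹ = p * q := by
  obtain ⟨T', h'⟩ := h.point hp hp1
  obtain ⟨y, hy, hy2⟩ := h'.exists_swap
  exact ⟨y, hy.2, hy2⟩

theorem kq_conj (_ : Odd T V z) {k p : G} (hk : k ∈ kq V p) : k * p * k⁻¹ = p := by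
  rw [mem_centralizer_singleton_iff.mp (kq_le V p hk)]; group

/-- `[dd V, ll V] ≤ V` -/
theorem ll_dd (h : Odd T V z) : ∀ g ∈ ll V, ∀ d ∈ dd V, g * d * g⁻¹ * d⁻¹ ∈ V := by
  let A : Subgroup G :=
    { carrier := {g | g ∈ normalizer (V : Set G) ∧ ∀ d ∈ dd V, g * d * g⁻¹ * d⁻¹ ∈ V}
      mul_mem' := by
        rintro a b ⟨ha, ha1⟩ ⟨hb, hb1⟩
        refine ⟨mul_mem ha hb, fun d hd => ?_⟩
        have e : a * b * d * (a * b)⁻¹ * d⁻¹ =
            (a * (b * d * b⁻¹ * d⁻¹) * a⁻¹) * (a * d * a⁻¹ * d⁻¹) := by group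
        rw [e]
        exact mul_mem ((mem_normalizer_iff.mp ha _).mp (hb1 d hd)) (ha1 d hd)
      one_mem' := ⟨one_mem _, fun d _ => by simp⟩
      inv_mem' := by
        rintro a ⟨ha, ha1⟩
        refine ⟨inv_mem ha, fun d hd => ?_⟩
        have hd' : a⁻¹ * d * a ∈ dd V := by
          have := conj_mem_dd (inv_mem ha) hd
          rwa [inv_inv] at this
        have h1 := inv_mem (ha1 _ hd')
        have e : (a * (a⁻¹ * d * a) * a⁻¹ * (a⁻¹ * d * a)⁻¹)⁻¹ = a⁻¹ * d * a⁻¹⁻¹ * d⁻¹ := by group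
        rwa [e] at h1 }
  have hA : ll V ≤ A := by
    refine iSup_le fun p k hk => ⟨ll_le_normalizer h (kq_le_ll p.2.1 p.2.2 hk), fun d hd => ?_⟩
    rcases h.kq_dd p.2.1 p.2.2 hk hd with e | e
    · rw [e, mul_inv_cancel]; exact one_mem _
    · rw [e, mul_inv_cancel_right]; exact p.2.1
  exact fun g hg => (hA hg).2

/-- `ll V` normalizes the subgroups between `V` and `dd V` -/
theorem ll_le_normalizer_of_le (h : Odd T V z) {E : Subgroup G} (hE : E ≤ dd V) (hVE : V ≤ E) :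
    ll V ≤ normalizer (E : Set G) := by
  refine le_normalizer_of_forall fun g hg e he => ?_
  have h1 := h.ll_dd g hg e (hE he)
  have h2 : g * e * g⁻¹ = (g * e * g⁻¹ * e⁻¹) * e := by group
  rw [h2]
  exact mul_mem (hVE h1) he

/-- `C_{dd V}(ll V) = 1` -/
theorem eq_one_of_comm_ll (h : Odd T V z) {d : G} (hd : d ∈ dd V) (hc : ∀ g ∈ ll V, g * d = d * g) :
    d = 1 := by
  by_contra hd1
  set U := dd V ⊓ centralizer (ll V : Set G) with hU
  have hUT : U ≤ T := inf_le_left.trans ((h.dd_le_ws h.z_mem h.z_ne).trans h.ws_le_T)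
  have hUn : T ≤ normalizer (U : Set G) := by
    refine le_normalizer_of_forall fun t ht u hu => ?_
    have htn := h.T_norm ht
    refine mem_inf.mpr ⟨conj_mem_dd htn hu.1, mem_centralizer_iff.mpr fun g hg => ?_⟩
    have h1 := mem_centralizer_iff.mp hu.2 _
      (conj_mem_of_normalizer' (normalizer_le_normalizer_ll V) htn hg)
    calc g * (t * u * t⁻¹) = t * (t⁻¹ * g * t * u) * t⁻¹ := by group
      _ = t * (u * (t⁻¹ * g * t)) * t⁻¹ := by rw [h1]
      _ = t * u * t⁻¹ * g := by group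
  have hne : U ≠ ⊥ := by
    intro e
    have : d ∈ U := ⟨hd, mem_centralizer_iff.mpr hc⟩
    rw [e, mem_bot] at this
    exact hd1 this
  have hz := z_mem_of_le h.toGeo hUT hUn hne
  obtain ⟨q, hq, hq1, hqz⟩ := h.exists_y
  obtain ⟨y, hy, hym⟩ := h.exists_swap' hq hq1
  have h1 := hym z h.z_mem h.z_ne (Ne.symm hqz)
  have h2 := mem_centralizer_iff.mp hz.2 y (kq_le_ll hq hq1 hy)
  rw [h2, mul_inv_cancel_right] at h1
  exact hq1 (by simpa using h1.symm)

/-- an element of `dd V` commuting with `kq V z ∩ C(V)` commutes with `kq V q ∩ C(V)` -/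
theorem comm_of_comm (h : Odd T V z) {d q : G} (hd : d ∈ dd V)
    (hc : ∀ u ∈ kq V z ⊓ centralizer (V : Set G), u * d = d * u) (hq : q ∈ V) (hq1 : q ≠ 1) :
    ∀ u ∈ kq V q ⊓ centralizer (V : Set G), u * d = d * u := by
  intro u hu
  by_cases hqz : q = z
  · rw [hqz] at hu; exact hc u hu
  have hr : z * q ∈ V := mul_mem h.z_mem hq
  have hr1 : z * q ≠ 1 := fun e => hqz (by
    have := mul_eq_one_iff_eq_inv.mp e
    rw [h.inv_eq hq] at this; exact this.symm)
  obtain ⟨w, hw, hwm⟩ := h.exists_swap' hr hr1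
  have hzr : z ≠ z * q := fun e => hq1 (by simpa using e.symm)
  have h1 : w * z * w⁻¹ = q := by
    rw [hwm z h.z_mem h.z_ne hzr, h.comm h.z_mem hq, mul_assoc, h.zz, mul_one]
  have h2 : w⁻¹ * q * w = z := by rw [← h1]; group
  have hn : w ∈ normalizer (V : Set G) := ll_le_normalizer h (kq_le_ll hr hr1 hw)
  have h3 : w⁻¹ * u * w ∈ kq V z ⊓ centralizer (V : Set G) := by
    refine mem_inf.mpr ⟨?_, ?_⟩
    · have h5 : w⁻¹ * u * w⁻¹⁻¹ ∈ cj w⁻¹ (kq V q) := conj_mem_cj hu.1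
      rw [cj_kq, inv_inv, h2] at h5
      exact h5
    · have := conj_mem_centralizer (inv_mem hn) hu.2
      rwa [inv_inv] at this
  have h4 := hc _ h3
  have h5 := h.kq_dd hr hr1 hw hd
  have h6 : u * (w * d * w⁻¹) = (w * d * w⁻¹) * u := by
    calc u * (w * d * w⁻¹) = w * ((w⁻¹ * u * w) * d) * w⁻¹ := by group
      _ = w * (d * (w⁻¹ * u * w)) * w⁻¹ := by rw [h4]
      _ = (w * d * w⁻¹) * u := by group
  rcases h5 with e | e
  · rwa [e] at h6
  · rw [e] at h6
    have h7 : u * (z * q) = z * q * u := comm_V hu.2 hr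
    have h8 : z * q * (u * d) = z * q * (d * u) := by
      calc z * q * (u * d) = (z * q * u) * d := by group
        _ = u * (z * q * d) := by rw [← h7]; group
        _ = z * q * (d * u) := by rw [h6]; group
    exact mul_left_cancel h8

/-- **`C_{dd V}(kq V z ∩ C(V)) = V`** -/
theorem mem_V_of_comm (h : Odd T V z) {d : G} (hd : d ∈ dd V)
    (hc : ∀ u ∈ kq V z ⊓ centralizer (V : Set G), u * d = d * u) : d ∈ V := by
  obtain ⟨y, hy, hy1, hyz⟩ := h.exists_y
  obtain ⟨w1, hw1, m1'⟩ := h.exists_swap' h.z_mem h.z_ne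
  obtain ⟨w2, hw2, m2'⟩ := h.exists_swap' hy hy1
  have m1 : w1 * y * w1⁻¹ = z * y := m1' y hy hy1 hyz
  have m2 : w2 * z * w2⁻¹ = y * z := m2' z h.z_mem h.z_ne (Ne.symm hyz)
  have n1 : w1 * z * w1⁻¹ = z := h.kq_conj hw1
  have n2 : w2 * y * w2⁻¹ = y := h.kq_conj hw2
  have hyz' : y * z = z * y := h.comm hy h.z_mem
  have hVd : ∀ v ∈ V, v * d = d * v := fun v hv => (comm_V (h.dd_le_centralizer hd) hv).symm
  -- an element `v` of `V` such that `d * v` commutes with `w1` and `w2`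
  obtain ⟨v, hv, e1, e2⟩ : ∃ v ∈ V, w1 * (d * v) * w1⁻¹ = d * v ∧ w2 * (d * v) * w2⁻¹ = d * v := by
    have f1 : ∀ v, w1 * (d * v) * w1⁻¹ = (w1 * d * w1⁻¹) * (w1 * v * w1⁻¹) := fun v => by group
    have f2 : ∀ v, w2 * (d * v) * w2⁻¹ = (w2 * d * w2⁻¹) * (w2 * v * w2⁻¹) := fun v => by group
    rcases h.kq_dd h.z_mem h.z_ne hw1 hd with g1 | g1 <;> rcases h.kq_dd hy hy1 hw2 hd with g2 | g2
    · exact ⟨1, one_mem _, by simp [g1], by simp [g2]⟩
    · refine ⟨z, h.z_mem, ?_, ?_⟩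
      · rw [f1, g1, n1]
      · rw [f2, g2, m2, hVd y hy]
        calc d * y * (y * z) = d * (y * y) * z := by group
          _ = d * z := by rw [h.sq y hy, mul_one]
    · refine ⟨y, hy, ?_, ?_⟩
      · rw [f1, g1, m1, hVd z h.z_mem]
        calc d * z * (z * y) = d * (z * z) * y := by group
          _ = d * y := by rw [h.zz, mul_one]
      · rw [f2, g2, n2]
    · refine ⟨z * y, mul_mem h.z_mem hy, ?_, ?_⟩
      · have : w1 * (z * y) * w1⁻¹ = y := by
          calc w1 * (z * y) * w1⁻¹ = (w1 * z * w1⁻¹) * (w1 * y * w1⁻¹) := by group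
            _ = (z * z) * y := by rw [n1, m1]; group
            _ = y := by rw [h.zz, one_mul]
        rw [f1, g1, this, hVd z h.z_mem, mul_assoc]
      · have : w2 * (z * y) * w2⁻¹ = z := by
          calc w2 * (z * y) * w2⁻¹ = (w2 * z * w2⁻¹) * (w2 * y * w2⁻¹) := by group
            _ = z * (y * y) := by rw [m2, n2, hyz']; group
            _ = z := by rw [h.sq y hy, mul_one]
        rw [f2, g2, this, hVd y hy, mul_assoc, hyz']
  set e := d * v with he
  have hed : e ∈ dd V := mul_mem hd (h.V_le_dd hv)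
  have hev : ∀ p ∈ V, p ≠ 1 → ∀ u ∈ kq V p ⊓ centralizer (V : Set G), u * e = e * u := by
    intro p hp hp1 u hu
    have h1 := h.comm_of_comm hd hc hp hp1 u hu
    rw [he, ← mul_assoc, h1, mul_assoc, comm_V hu.2 hv, ← mul_assoc]
  -- any two elements of `kq V p` moving `V` differ by an element of `C(V)`
  have htwo : ∀ p ∈ V, p ≠ 1 → ∀ w ∈ kq V p, (∀ q ∈ V, q ≠ 1 → q ≠ p → w * q * w⁻¹ = p * q) →
      w * e * w⁻¹ = e → ∀ k ∈ kq V p, k * e = e * k := by
    intro p hp hp1 w hw hwm hwe k hk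
    obtain ⟨T', h'⟩ := h.point hp hp1
    have hwe' : w * e = e * w := by
      calc w * e = (w * e * w⁻¹) * w := by group
        _ = e * w := by rw [hwe]
    by_cases hkV : k ∈ centralizer (V : Set G)
    · exact hev p hp hp1 k ⟨hk, hkV⟩
    · have hkm : ∀ q ∈ V, q ≠ 1 → q ≠ p → k * q * k⁻¹ = p * q := fun q hq =>
        move h'.toGeo (kq_le V p hk) (kq_le_normalizer h'.toGeo hk) hkV hq
      have h1 : w⁻¹ * k ∈ kq V p ⊓ centralizer (V : Set G) := by
        refine mem_inf.mpr ⟨mul_mem (inv_mem hw) hk, mem_centralizer_iff.mpr fun q hq => ?_⟩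
        by_cases hq1 : q = 1
        · rw [hq1]; simp
        by_cases hqp : q = p
        · rw [hqp]
          exact (mem_centralizer_singleton_iff.mp (mul_mem (inv_mem (kq_le V p hw)) (kq_le V p hk))).symm
        · have a1 := hwm q hq hq1 hqp
          have a2 := hkm q hq hq1 hqp
          have a3 : w⁻¹ * (p * q) * w = q := by rw [← a1]; group
          calc q * (w⁻¹ * k) = (w⁻¹ * (p * q) * w) * (w⁻¹ * k) := by rw [a3]
            _ = w⁻¹ * (k * q * k⁻¹) * k := by rw [a2]; group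
            _ = w⁻¹ * k * q := by group
      have h2 := hev p hp hp1 _ h1
      calc k * e = w * ((w⁻¹ * k) * e) := by group
        _ = (w * e) * (w⁻¹ * k) := by rw [h2]; group
        _ = e * k := by rw [hwe']; group
  have hll : ll V ≤ centralizer ({e} : Set G) := by
    refine iSup_le fun p k hk => ?_
    rw [mem_centralizer_singleton_iff]
    rcases h.four h.z_mem hy h.z_ne hy1 (Ne.symm hyz) p.2.1 with h1 | h1 | h1 | h1
    · exact absurd h1 p.2.2
    · rw [h1] at hk; exact htwo z h.z_mem h.z_ne w1 hw1 m1' e1 k hk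
    · rw [h1] at hk; exact htwo y hy hy1 w2 hw2 m2' e2 k hk
    · rw [h1, ← m1, ← cj_kq, mem_cj] at hk
      have h3 := htwo y hy hy1 w2 hw2 m2' e2 _ hk
      have hw1e := htwo z h.z_mem h.z_ne w1 hw1 m1' e1 w1 hw1
      have hw1e' := htwo z h.z_mem h.z_ne w1 hw1 m1' e1 w1⁻¹ (inv_mem hw1)
      calc k * e = w1 * (w1⁻¹ * k * w1) * (w1⁻¹ * e) := by group
        _ = w1 * ((w1⁻¹ * k * w1) * e) * w1⁻¹ := by rw [hw1e']; group
        _ = (w1 * e) * (w1⁻¹ * k * w1) * w1⁻¹ := by rw [h3]; group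
        _ = e * k := by rw [hw1e]; group
  have h1 := h.eq_one_of_comm_ll hed (fun g hg => mem_centralizer_singleton_iff.mp (hll hg))
  have h2 : d = v⁻¹ := eq_inv_of_mul_eq_one_left h1
  rw [h2]; exact inv_mem hv

/-- all transvections of `⟨V, t⟩` with axis `V` -/
theorem exists_transvection (h : Odd T V z) {t p : G} (ht : t ∈ dd V) (htV : t ∉ V) (hp : p ∈ V)
    (hp1 : p ≠ 1) : ∃ k ∈ kq V p, k ∈ centralizer (V : Set G) ∧ k * t * k⁻¹ = p * t := by
  by_contra hcon
  push Not at hcon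
  obtain ⟨T', h'⟩ := h.point hp hp1
  apply htV
  refine h'.mem_V_of_comm ht (fun u hu => ?_)
  rcases h.kq_dd hp hp1 hu.1 ht with e | e
  · calc u * t = (u * t * u⁻¹) * u := by group
      _ = t * u := by rw [e]
  · exact absurd e (hcon u hu.1 hu.2)

/-- for each `t ∈ dd V - V` there is an element of `kq V p` centralizing `t` and interchanging the other two
points of `V` -/
theorem exists_swap_comm (h : Odd T V z) {t p : G} (ht : t ∈ dd V) (htV : t ∉ V) (hp : p ∈ V)
    (hp1 : p ≠ 1) : ∃ k ∈ kq V p, k * t = t * k ∧ ∀ q ∈ V, q ≠ 1 → q ≠ p → k * q * k⁻¹ = p * q := by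
  obtain ⟨y, hy, hym⟩ := h.exists_swap' hp hp1
  rcases h.kq_dd hp hp1 hy ht with e | e
  · refine ⟨y, hy, ?_, hym⟩
    calc y * t = (y * t * y⁻¹) * y := by group
      _ = t * y := by rw [e]
  · obtain ⟨k, hk, hkV, hkt⟩ := h.exists_transvection ht htV hp hp1
    have hkp : k * p * k⁻¹ = p := h.kq_conj hk
    refine ⟨k * y, mul_mem hk hy, ?_, fun q hq hq1 hqp => ?_⟩
    · have e1 : k * y * t * (k * y)⁻¹ = t := by
        calc k * y * t * (k * y)⁻¹ = k * (y * t * y⁻¹) * k⁻¹ := by group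
          _ = (k * p * k⁻¹) * (k * t * k⁻¹) := by rw [e]; group
          _ = (p * p) * t := by rw [hkp, hkt]; group
          _ = t := by rw [h.sq p hp, one_mul]
      calc k * y * t = (k * y * t * (k * y)⁻¹) * (k * y) := by group
        _ = t * (k * y) := by rw [e1]
    · calc k * y * q * (k * y)⁻¹ = k * (y * q * y⁻¹) * k⁻¹ := by group
        _ = k * (p * q) * k⁻¹ := by rw [hym q hq hq1 hqp]
        _ = p * q := by rw [comm_V hkV (mul_mem hp hq)]; group

/-- an element of `kq V (p * q)` moving `p` to `q` -/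
theorem exists_move (h : Odd T V z) {p q : G} (hp : p ∈ V) (hq : q ∈ V) (hp1 : p ≠ 1) (hq1 : q ≠ 1)
    (hpq : p ≠ q) : ∃ w ∈ kq V (p * q), w * p * w⁻¹ = q ∧ w * q * w⁻¹ = p := by
  have hr1 : p * q ≠ 1 := fun e => hpq (by
    have := mul_eq_one_iff_eq_inv.mp e
    rwa [h.inv_eq hq] at this)
  obtain ⟨w, hw, hwm⟩ := h.exists_swap' (mul_mem hp hq) hr1
  have hrp : p ≠ p * q := fun e => hq1 (by simpa using e.symm)
  have hrq : q ≠ p * q := fun e => hp1 (by simpa using e.symm)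
  refine ⟨w, hw, ?_, ?_⟩
  · rw [hwm p hp hp1 hrp, h.comm hp hq, mul_assoc, h.sq p hp, mul_one]
  · rw [hwm q hq hq1 hrq, mul_assoc, h.sq q hq, mul_one]

/-- a subgroup normalized by `ll V` containing a point of `V` contains `V` -/
theorem V_le_of_mem (h : Odd T V z) {U : Subgroup G} (hU : ll V ≤ normalizer (U : Set G)) {p : G}
    (hp : p ∈ V) (hp1 : p ≠ 1) (hpU : p ∈ U) : V ≤ U := by
  intro q hq
  by_cases hq1 : q = 1
  · rw [hq1]; exact one_mem _
  by_cases hpq : p = q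
  · rwa [← hpq]
  obtain ⟨w, hw, h1, _⟩ := h.exists_move hp hq hp1 hq1 hpq
  have hr1 : p * q ≠ 1 := fun e => hpq (by
    have := mul_eq_one_iff_eq_inv.mp e
    rwa [h.inv_eq hq] at this)
  rw [← h1]
  exact conj_mem_of_normalizer hU (kq_le_ll (mul_mem hp hq) hr1 hw) hpU

/-- a nontrivial subgroup of `dd V` normalized by `ll V` contains `V` -/
theorem V_le_of_le_dd (h : Odd T V z) {U : Subgroup G} (hU : ll V ≤ normalizer (U : Set G))
    (hUd : U ≤ dd V) (hU1 : U ≠ ⊥) : V ≤ U := by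
  obtain ⟨u, hu1⟩ := (Subgroup.ne_bot_iff_exists_ne_one).mp hU1
  by_cases huV : (u : G) ∈ V
  · exact h.V_le_of_mem hU huV (fun e => hu1 (Subtype.ext e)) u.2
  · obtain ⟨k, hk, -, hku⟩ := h.exists_transvection (hUd u.2) huV h.z_mem h.z_ne
    have h2 : k * u * k⁻¹ ∈ U := conj_mem_of_normalizer hU (kq_le_ll h.z_mem h.z_ne hk) u.2
    have h3 : z ∈ U := by
      have := mul_mem h2 (inv_mem u.2)
      rwa [hku, mul_inv_cancel_right] at this
    exact h.V_le_of_mem hU h.z_mem h.z_ne h3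

/-- the line `L` through `z` as an `Odd` situation -/
theorem line' (h : Odd T V z) {L : Subgroup G} (hL : L ∈ lines V z) : ∃ T' : Subgroup G, Odd T' L z := by
  obtain ⟨c, hc, rfl⟩ := h.toGeo.exists_of_mem_lines hL
  refine ⟨cj c T, ?_⟩
  have := h.conj c
  rwa [show c * z * c⁻¹ = z by rw [h.z_comm hc]; group] at this

/-- **Lemma K** -/
theorem false_of_gen (h : Odd T V z) {E J : Subgroup G} (hE : E ≤ dd V) (hVE : V ≤ E) (hne : ¬ E ≤ V)
    (hJ : J ≤ normalizer (E : Set G)) (hxx : ll V ≤ J)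
    (hgen : ∀ U : Subgroup G, V ≤ U → J ≤ normalizer (U : Set G) → E ≤ U) : False := by
  obtain ⟨q, hq, hq1, hqz⟩ := h.exists_y
  have hzq1 : z * q ≠ 1 := fun e => hqz (by
    rw [mul_eq_one_iff_eq_inv.mp e, h.inv_eq hq])
  obtain ⟨x, hx, hxV⟩ := Set.not_subset.mp hne
  let pt : Fin 3 → G := ![z, q, z * q]
  have hpt : ∀ i, pt i ∈ V ∧ pt i ≠ 1 := by
    intro i
    fin_cases i
    · exact ⟨h.z_mem, h.z_ne⟩
    · exact ⟨hq, hq1⟩
    · exact ⟨mul_mem h.z_mem hq, hzq1⟩
  choose w hw hwV hwx using fun i => h.exists_transvection (hE hx) hxV (hpt i).1 (hpt i).2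
  refine BTwoK.false_of_transvections h.solv (R := E) (J := J) (fun x hx => h.dd_sq (hE hx)) hJ pt w rfl
    (fun i => (hpt i).2) (fun i => hVE (hpt i).1) (fun i => hxx (kq_le_ll (hpt i).1 (hpt i).2 (hw i)))
    ?_ (fun i => ⟨x, hx, ?_⟩) ?_ ?_
  · intro i x hx
    rcases h.kq_dd (hpt i).1 (hpt i).2 (hw i) (hE hx) with e | e
    · exact Or.inl e
    · right
      rw [e]
      exact h.dd_comm (hE (hVE (hpt i).1)) (hE hx)
  · rw [hwx i]
    intro e
    exact (hpt i).2 (by simpa using e)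
  · intro i j
    rw [comm_V (hwV i) (hpt j).1]
    group
  · intro U hU hJU
    by_cases hU1 : U = ⊥
    · exact Or.inl hU1
    · right
      refine le_antisymm hU (hgen U ?_ hJU)
      exact h.V_le_of_le_dd (hxx.trans hJU) (hU.trans hE) hU1

/-- a line `L` through `z` in `dd V`: `V ≤ dd L` -/
theorem le_dd_of_le (h : Odd T V z) {L : Subgroup G} (hL : L ∈ lines V z) (hLd : L ≤ dd V) (hne : ¬ L ≤ V) :
    V ≤ dd L := by
  obtain ⟨T', h'⟩ := h.line' hL
  obtain ⟨v, hv, hv1, hvz⟩ := h.exists_y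
  have hzL : z ∈ L := h'.z_mem
  have hlV : ∀ x, ws L x = ws V x := by
    intro x
    obtain ⟨c, _, rfl⟩ := h.toGeo.exists_of_mem_lines hL
    exact ws_cj V c x
  -- enough: `v ∈ ws V p` for all points `p` of `L`
  have key : ∀ p ∈ L, p ≠ 1 → v ∈ ws V p ∧ z ∈ ws V p := by
    intro p hp hp1
    by_cases hpz : p = z
    · rw [hpz]; exact ⟨h.V_le_ws hv, h.V_le_ws h.z_mem⟩
    have hpV : p ∉ V := by
      intro hpV
      apply hne
      intro x hx
      rcases h'.four hzL hp h.z_ne hp1 (Ne.symm hpz) hx with rfl | rfl | rfl | rfl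
      · exact one_mem _
      · exact h.z_mem
      · exact hpV
      · exact mul_mem h.z_mem hpV
    -- an element of `ll V` exchanging `z` and `v` and commuting with `p`
    have hvz' : z * v ≠ 1 := fun e => hvz (by rw [mul_eq_one_iff_eq_inv.mp e, h.inv_eq hv])
    obtain ⟨g, hg, hgp, hgm⟩ := h.exists_swap_comm (hLd hp) hpV (mul_mem h.z_mem hv) hvz'
    have hg1 : g * z * g⁻¹ = v := by
      rw [hgm z h.z_mem h.z_ne (fun e => hv1 (by simpa using e.symm)), h.comm h.z_mem hv, mul_assoc, h.zz,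
        mul_one]
    have hg2 : g * p * g⁻¹ = p := by rw [hgp, mul_inv_cancel_right]
    have hLp : L ∈ lines V p := ⟨hL.1, hp⟩
    refine ⟨?_, le_ws hLp hzL⟩
    have h1 : cj g L ∈ lines V (g * p * g⁻¹) := mem_lines_cj hLp
    rw [hg2] at h1
    have h2 : g * z * g⁻¹ ∈ cj g L := conj_mem_cj hzL
    rw [hg1] at h2
    exact le_ws h1 h2
  intro x hx
  rw [mem_dd]
  intro p hp hp1
  rw [hlV]
  obtain ⟨k1, k2⟩ := key p hp hp1
  rcases h.four h.z_mem hv h.z_ne hv1 (Ne.symm hvz) hx with rfl | rfl | rfl | rfl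
  · exact one_mem _
  · exact k2
  · exact k1
  · exact mul_mem k2 k1

/-- **`V` is the only line through `z` contained in `dd V`** -/
theorem eq_of_mem_lines (h : Odd T V z) {L : Subgroup G} (hL : L ∈ lines V z) (hLd : L ≤ dd V) : L = V := by
  by_contra hne
  have hcard : Nat.card L = Nat.card V := by
    obtain ⟨c, _, rfl⟩ := h.toGeo.exists_of_mem_lines hL
    exact card_cj _ _
  have hne' : ¬ L ≤ V := by
    intro hle
    exact hne (Subgroup.eq_of_le_of_card_ge hle hcard.ge)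
  obtain ⟨T', h'⟩ := h.line' hL
  have hVd := h.le_dd_of_le hL hLd hne'
  set E := V ⊔ L with hE
  have hE1 : E ≤ dd V := sup_le h.V_le_dd hLd
  have hE2 : E ≤ dd L := sup_le hVd h'.V_le_dd
  refine h.false_of_gen hE1 le_sup_left (fun h1 => hne' (le_sup_right.trans h1)) (J := ll V ⊔ ll L)
    (sup_le (h.ll_le_normalizer_of_le hE1 le_sup_left) (h'.ll_le_normalizer_of_le hE2 le_sup_right))
    le_sup_left ?_
  intro U hVU hJU
  refine sup_le hVU ?_
  exact h'.V_le_of_mem (le_sup_right.trans hJU) h'.z_mem h'.z_ne (hVU h.z_mem)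

/-- general form: a line `L` meeting `V` nontrivially and contained in `dd V` is `V` -/
theorem eq_of_mem_lines' (h : Odd T V z) {L : Subgroup G} {p : G} (hp : p ∈ V) (hp1 : p ≠ 1)
    (hL : L ∈ lines V p) (hLd : L ≤ dd V) : L = V := by
  obtain ⟨T', h'⟩ := h.point hp hp1
  exact h'.eq_of_mem_lines hL hLd

/-- **there is no second line in `⟨V, t⟩`**, `t ∈ dd V` -/
theorem eq_of_le_sup (h : Odd T V z) {g t : G} (ht : t ∈ dd V) (hL : cj g V ≤ V ⊔ zpowers t) :
    cj g V = V := by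
  have htn : zpowers t ≤ normalizer (V : Set G) := by
    rw [zpowers_le]
    exact centralizer_le_normalizer _ (h.dd_le_centralizer ht)
  have htt : t * t = 1 := h.dd_sq ht
  have hLd : cj g V ≤ dd V := hL.trans (sup_le h.V_le_dd ((zpowers_le).mpr ht))
  -- `cj g V` meets `V`
  have hmem : ∀ x ∈ cj g V, x ∈ V ∨ x * t ∈ V := by
    intro x hx
    have h1 := hL hx
    rw [← SetLike.mem_coe, coe_mul_of_right_le_normalizer_left _ _ htn] at h1
    obtain ⟨v, hv, s, hs, hvs⟩ := h1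
    have hvs' : v * s = x := hvs
    rcases (mem_zpowers_iff_of_mul_self htt).mp hs with e | e
    · left; rw [← hvs', e, mul_one]; exact hv
    · right; rw [← hvs', e, mul_assoc, htt, mul_one]; exact hv
  obtain ⟨p, hp, hpV, hp1⟩ : ∃ p ∈ cj g V, p ∈ V ∧ p ≠ 1 := by
    have hg := h.conj g
    obtain ⟨y, hy, hy1, hyz⟩ := hg.exists_y
    have hz' := hg.z_mem
    have hz1 := hg.z_ne
    by_contra hcon
    push Not at hcon
    have a1 : g * z * g⁻¹ * t ∈ V := (hmem _ hz').resolve_left (fun e => hz1 (hcon _ hz' e))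
    have a2 : y * t ∈ V := (hmem _ hy).resolve_left (fun e => hy1 (hcon _ hy e))
    have hyt : y * t = t * y := h.dd_comm (hLd hy) ht
    have a3 : g * z * g⁻¹ * y ∈ V := by
      have := mul_mem a1 a2
      have e : g * z * g⁻¹ * t * (y * t) = g * z * g⁻¹ * y := by
        rw [hyt]
        calc g * z * g⁻¹ * t * (t * y) = g * z * g⁻¹ * (t * t) * y := by group
          _ = g * z * g⁻¹ * y := by rw [htt, mul_one]
      rwa [e] at this
    have a4 := hcon _ (mul_mem hz' hy) a3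
    apply hyz
    have h5 := mul_eq_one_iff_eq_inv.mp a4
    rw [hg.inv_eq hy] at h5
    exact h5.symm
  exact h.eq_of_mem_lines' hpV hp1 ⟨⟨g, rfl⟩, hp⟩ hLd

end Odd

end LL

end Cfsg.Agent.MinSimple.OddLine
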