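import Mathlib
import Cfsg.Agent.ZN.Block

/-!
# The module of a section

`Sec C W Z M X`: `Z ≤ W` are subgroups normalized by `C`, `W ≤ C`, `[W, W] ≤ Z`; `M` is the additive group `W/Z` and
`X` the group of automorphisms of `M` induced by `C`.
-/

set_option autoImplicit false
set_option linter.unusedSectionVars false
set_option linter.style.haveILetI false

namespace Cfsg.Agent.MinSimple.SecRep

open Subgroup

universe u

/-- `M = W/Z` as an additive group, `X` = the group induced by `C` on it. -/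
structure Sec {G : Type u} [Group G] (C W Z : Subgroup G) (M X : Type u) [AddCommGroup M] [Group X]
    [DistribMulAction X M] where
  pi : G → M
  rho : G → X
  W_le : W ≤ C
  W_norm : C ≤ normalizer (W : Set G)
  pi_mul : ∀ a ∈ W, ∀ b ∈ W, pi (a * b) = pi a + pi b
  pi_eq_zero : ∀ a ∈ W, (pi a = 0 ↔ a ∈ Z)
  pi_surj : ∀ m, ∃ a ∈ W, pi a = m
  rho_mul : ∀ a ∈ C, ∀ b ∈ C, rho (a * b) = rho a * rho b
  rho_surj : ∀ g, ∃ a ∈ C, rho a = g
  smul_pi : ∀ c ∈ C, ∀ w ∈ W, rho c • pi w = pi (c * w * c⁻¹)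
  faithful : ∀ g : X, (∀ m : M, g • m = m) → g = 1

variable {G : Type u} [Group G]

/-- Existence. -/
theorem exists_sec {C W Z : Subgroup G} (hWC : W ≤ C) (hW : C ≤ normalizer (W : Set G)) (_ : Z ≤ W)
    (hZ : C ≤ normalizer (Z : Set G)) (hab : ∀ a ∈ W, ∀ b ∈ W, a * b * a⁻¹ * b⁻¹ ∈ Z) :
    ∃ (M X : Type u) (_ : AddCommGroup M) (_ : Group X) (_ : DistribMulAction X M), Nonempty (Sec C W Z M X) := by
  classical
  have hZn : (Z.subgroupOf C).Normal := normal_subgroupOf_of_le_normalizer hZ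
  have hWn : (W.subgroupOf C).Normal := normal_subgroupOf_of_le_normalizer hW
  let mk : C →* C ⧸ Z.subgroupOf C := QuotientGroup.mk' _
  have hmk : Function.Surjective mk := QuotientGroup.mk'_surjective _
  let Wb : Subgroup (C ⧸ Z.subgroupOf C) := (W.subgroupOf C).map mk
  have hWb : Wb.Normal := hWn.map mk hmk
  have hmkeq : ∀ a b : C, mk a = mk b ↔ (a : G)⁻¹ * b ∈ Z := by
    intro a b
    change (QuotientGroup.mk a : C ⧸ Z.subgroupOf C) = QuotientGroup.mk b ↔ _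
    rw [QuotientGroup.eq, mem_subgroupOf]; rfl
  have hcomm : ∀ a b : Wb, a * b = b * a := by
    rintro ⟨_, a, ha, rfl⟩ ⟨_, b, hb, rfl⟩
    apply Subtype.ext
    change mk a * mk b = mk b * mk a
    rw [← map_mul, ← map_mul, hmkeq]
    rw [SetLike.mem_coe, mem_subgroupOf] at ha hb
    have h1 := hab _ (inv_mem hb) _ (inv_mem ha)
    have e : ((a * b : C) : G)⁻¹ * ((b * a : C) : G) = (b : G)⁻¹ * (a : G)⁻¹ * (b : G)⁻¹⁻¹ * (a : G)⁻¹⁻¹ := by
      push_cast; group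
    rw [e]; exact h1
  letI iC : CommGroup Wb := { (inferInstance : Group Wb) with mul_comm := hcomm }
  let conj : (C ⧸ Z.subgroupOf C) →* MulAut Wb := MulAut.conjNormal
  letI act : DistribMulAction conj.range (Additive Wb) :=
    { smul := fun f m => Additive.ofMul ((f : MulAut Wb) m.toMul)
      one_smul := fun m => rfl
      mul_smul := fun f g m => rfl
      smul_zero := fun f => by
        change Additive.ofMul ((f : MulAut Wb) 1) = _
        rw [map_one]; rfl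
      smul_add := fun f a b => by
        change Additive.ofMul ((f : MulAut Wb) (a.toMul * b.toMul)) = _
        rw [map_mul]; rfl }
  refine ⟨Additive Wb, conj.range, inferInstance, inferInstance, act, ⟨?_⟩⟩
  let pi : G → Additive Wb := fun w => if h : w ∈ W then Additive.ofMul ⟨mk ⟨w, hWC h⟩, ⟨⟨w, hWC h⟩, h, rfl⟩⟩ else 0
  let rho : G → conj.range := fun c => if h : c ∈ C then ⟨conj (mk ⟨c, h⟩), ⟨_, rfl⟩⟩ else 1
  have hpi : ∀ w (h : w ∈ W), pi w = Additive.ofMul ⟨mk ⟨w, hWC h⟩, ⟨⟨w, hWC h⟩, h, rfl⟩⟩ := fun w h => dif_pos h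
  have hrho : ∀ c (h : c ∈ C), rho c = ⟨conj (mk ⟨c, h⟩), ⟨_, rfl⟩⟩ := fun c h => dif_pos h
  refine ⟨pi, rho, hWC, hW, ?_, ?_, ?_, ?_, ?_, ?_, ?_⟩
  · intro a ha b hb
    rw [hpi a ha, hpi b hb, hpi _ (mul_mem ha hb)]; rfl
  · intro a ha
    rw [hpi a ha]
    have e1 : (Additive.ofMul (⟨mk ⟨a, hWC ha⟩, ⟨⟨a, hWC ha⟩, ha, rfl⟩⟩ : Wb) = 0) ↔ mk ⟨a, hWC ha⟩ = mk 1 := by
      constructor
      · intro h
        have h2 : (⟨mk ⟨a, hWC ha⟩, ⟨⟨a, hWC ha⟩, ha, rfl⟩⟩ : Wb) = 1 := h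
        rw [map_one]
        exact congrArg Subtype.val h2
      · intro h
        rw [map_one] at h
        exact (Subtype.ext h : (⟨mk ⟨a, hWC ha⟩, ⟨⟨a, hWC ha⟩, ha, rfl⟩⟩ : Wb) = 1)
    rw [e1, hmkeq]
    change a⁻¹ * 1 ∈ Z ↔ _
    rw [mul_one, inv_mem_iff]
  · rintro ⟨_, a, ha, rfl⟩
    exact ⟨a, ha, hpi _ ha⟩
  · intro a ha b hb
    rw [hrho a ha, hrho b hb, hrho _ (mul_mem ha hb)]
    apply Subtype.ext
    change conj (mk ⟨a * b, _⟩) = conj (mk ⟨a, ha⟩) * conj (mk ⟨b, hb⟩)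
    rw [← map_mul, ← map_mul]; rfl
  · rintro ⟨_, g, rfl⟩
    obtain ⟨c, rfl⟩ := hmk g
    exact ⟨c, c.2, hrho _ c.2⟩
  · intro c hc w hw
    have h1 : c * w * c⁻¹ ∈ W := ZN.Block.conj_mem_of_normalizer hW hc hw
    rw [hrho c hc, hpi w hw, hpi _ h1]
    change Additive.ofMul (conj (mk ⟨c, hc⟩) ⟨mk ⟨w, hWC hw⟩, _⟩) = Additive.ofMul (⟨mk ⟨c * w * c⁻¹, _⟩, _⟩ : Wb)
    apply congrArg
    apply Subtype.ext
    rw [MulAut.conjNormal_apply]
    rfl
  · rintro ⟨f, hf⟩ hg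
    apply Subtype.ext
    change f = 1
    ext1 w
    exact hg (Additive.ofMul w)

namespace Sec

variable {C W Z : Subgroup G} {M X : Type u} [AddCommGroup M] [Group X] [DistribMulAction X M]

theorem conj_mem (S : Sec C W Z M X) {c w : G} (hc : c ∈ C) (hw : w ∈ W) : c * w * c⁻¹ ∈ W :=
  ZN.Block.conj_mem_of_normalizer S.W_norm hc hw

theorem pi_one (S : Sec C W Z M X) : S.pi 1 = 0 := (S.pi_eq_zero 1 (one_mem _)).mpr (one_mem _)

theorem pi_inv (S : Sec C W Z M X) {a : G} (ha : a ∈ W) : S.pi a⁻¹ = - S.pi a := by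
  have h := S.pi_mul a ha a⁻¹ (inv_mem ha)
  rw [mul_inv_cancel, S.pi_one] at h
  exact (neg_eq_of_add_eq_zero_right h.symm).symm

theorem pi_eq_iff (S : Sec C W Z M X) {a b : G} (ha : a ∈ W) (hb : b ∈ W) : S.pi a = S.pi b ↔ a * b⁻¹ ∈ Z := by
  rw [← S.pi_eq_zero _ (mul_mem ha (inv_mem hb)), S.pi_mul a ha _ (inv_mem hb), S.pi_inv hb, ← sub_eq_add_neg,
    sub_eq_zero]

theorem rho_one (S : Sec C W Z M X) : S.rho 1 = 1 := by
  have h := S.rho_mul 1 (one_mem _) 1 (one_mem _)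
  rw [mul_one] at h
  exact (mul_eq_left.mp h.symm)

theorem rho_inv (S : Sec C W Z M X) {a : G} (ha : a ∈ C) : S.rho a⁻¹ = (S.rho a)⁻¹ := by
  have h := S.rho_mul a ha a⁻¹ (inv_mem ha)
  rw [mul_inv_cancel, S.rho_one] at h
  exact (inv_eq_of_mul_eq_one_right h.symm).symm

/-- `rho` as a homomorphism -/
def hom (S : Sec C W Z M X) : C →* X where
  toFun c := S.rho c
  map_one' := S.rho_one
  map_mul' a b := S.rho_mul a a.2 b b.2

theorem hom_apply (S : Sec C W Z M X) (c : C) : S.hom c = S.rho c := rfl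

theorem hom_surj (S : Sec C W Z M X) : Function.Surjective S.hom := by
  intro g
  obtain ⟨c, hc, rfl⟩ := S.rho_surj g
  exact ⟨⟨c, hc⟩, rfl⟩

theorem rho_pow (S : Sec C W Z M X) {a : G} (ha : a ∈ C) (n : ℕ) : S.rho (a ^ n) = S.rho a ^ n := by
  have := map_pow S.hom ⟨a, ha⟩ n
  exact this

theorem rho_conj (S : Sec C W Z M X) {a b : G} (ha : a ∈ C) (hb : b ∈ C) :
    S.rho (a * b * a⁻¹) = S.rho a * S.rho b * (S.rho a)⁻¹ := by
  rw [S.rho_mul _ (mul_mem ha hb) _ (inv_mem ha), S.rho_mul _ ha _ hb, S.rho_inv ha]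

theorem rho_eq_one_iff (S : Sec C W Z M X) {c : G} (hc : c ∈ C) :
    S.rho c = 1 ↔ ∀ w ∈ W, c * w * c⁻¹ * w⁻¹ ∈ Z := by
  constructor
  · intro h w hw
    rw [← S.pi_eq_iff (S.conj_mem hc hw) hw, ← S.smul_pi c hc w hw, h, one_smul]
  · intro h
    apply S.faithful
    intro m
    obtain ⟨w, hw, rfl⟩ := S.pi_surj m
    rw [S.smul_pi c hc w hw, S.pi_eq_iff (S.conj_mem hc hw) hw]
    exact h w hw

theorem rho_eq_iff (S : Sec C W Z M X) {a b : G} (ha : a ∈ C) (hb : b ∈ C) :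
    S.rho a = S.rho b ↔ S.rho (a * b⁻¹) = 1 := by
  rw [S.rho_mul a ha _ (inv_mem hb), S.rho_inv hb, mul_inv_eq_one]

theorem finite_left (S : Sec C W Z M X) [Finite G] : Finite M := by
  have : Function.Surjective (fun w : W => S.pi w) := by
    intro m
    obtain ⟨w, hw, rfl⟩ := S.pi_surj m
    exact ⟨⟨w, hw⟩, rfl⟩
  exact Finite.of_surjective _ this

theorem finite_right (S : Sec C W Z M X) [Finite G] : Finite X :=
  Finite.of_surjective _ S.hom_surj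

theorem isSolvable (S : Sec C W Z M X) (h : Group.IsSolvable C) : Group.IsSolvable X :=
  Group.isSolvable_of_surjective S.hom_surj

/-- the image of a subgroup -/
def img (S : Sec C W Z M X) (H : Subgroup G) : Subgroup X := (H.subgroupOf C).map S.hom

theorem mem_img (S : Sec C W Z M X) {H : Subgroup G} (hH : H ≤ C) {g : X} : g ∈ S.img H ↔ ∃ h ∈ H, S.rho h = g := by
  constructor
  · rintro ⟨a, ha, rfl⟩
    exact ⟨a, ha, rfl⟩
  · rintro ⟨a, ha, rfl⟩
    exact ⟨⟨a, hH ha⟩, ha, rfl⟩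

theorem rho_mem_img (S : Sec C W Z M X) {H : Subgroup G} (hH : H ≤ C) {h : G} (hh : h ∈ H) : S.rho h ∈ S.img H :=
  (S.mem_img hH).mpr ⟨h, hh, rfl⟩

/-- the preimage of a subgroup -/
def pre (S : Sec C W Z M X) (N : Subgroup X) : Subgroup G := (N.comap S.hom).map C.subtype

theorem mem_pre (S : Sec C W Z M X) {N : Subgroup X} {c : G} : c ∈ S.pre N ↔ c ∈ C ∧ S.rho c ∈ N := by
  constructor
  · rintro ⟨a, ha, rfl⟩
    exact ⟨a.2, ha⟩
  · rintro ⟨hc, h⟩
    exact ⟨⟨c, hc⟩, h, rfl⟩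

theorem pre_le (S : Sec C W Z M X) (N : Subgroup X) : S.pre N ≤ C := fun _ h => (S.mem_pre.mp h).1

theorem le_normalizer_pre (S : Sec C W Z M X) {N : Subgroup X} (hN : N.Normal) :
    C ≤ normalizer (S.pre N : Set G) := by
  refine ZN.Block.le_normalizer_of_forall fun c hc n hn => ?_
  rw [S.mem_pre] at hn ⊢
  refine ⟨mul_mem (mul_mem hc hn.1) (inv_mem hc), ?_⟩
  rw [S.rho_conj hc hn.1]
  exact hN.conj_mem _ hn.2 _

/-- Lifting elements of prime power order. -/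
theorem exists_lift (S : Sec C W Z M X) [Finite G] {p : ℕ} (hp : p.Prime) {g : X} {k : ℕ} (hg : g ^ p ^ k = 1) :
    ∃ c ∈ C, S.rho c = g ∧ ∃ j : ℕ, c ^ p ^ j = 1 := by
  obtain ⟨c, hc, rfl⟩ := S.rho_surj g
  have hpos : 0 < orderOf c := orderOf_pos c
  obtain ⟨j, m, hm, e⟩ := Nat.exists_eq_pow_mul_and_not_dvd hpos.ne' p hp.ne_one
  have hcop : Nat.Coprime (p ^ k) m := Nat.Coprime.pow_left k ((Nat.Prime.coprime_iff_not_dvd hp).mpr hm)
  obtain ⟨u, hu1, hu2⟩ := Nat.chineseRemainder hcop 1 0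
  refine ⟨c ^ u, pow_mem hc u, ?_, j, ?_⟩
  · rw [S.rho_pow hc]
    have h1 : S.rho c ^ u = S.rho c ^ 1 := by
      rw [pow_eq_pow_iff_modEq]
      exact hu1.of_dvd (orderOf_dvd_of_pow_eq_one hg)
    rw [h1, pow_one]
  · rw [← pow_mul]
    rw [← orderOf_dvd_iff_pow_eq_one, e, mul_comm u]
    exact Nat.mul_dvd_mul_left _ (Nat.modEq_zero_iff_dvd.mp hu2)

end Sec

end Cfsg.Agent.MinSimple.SecRep
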