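import Mathlib
import Cfsg.Agent.MinSimple.SecRep
import Cfsg.Agent.MinSimple.OddBase

/-!
# (E1)(b): the module `ws V x / ⟨x⟩` of `C(x) / kq V x` at a point `x`

`Rep V x M X`: `M` is the additive group `ws V x / ⟨x⟩`, `X = C(x) / kq V x` acts faithfully on it.
-/

set_option autoImplicit false
set_option linter.unusedSectionVars false

namespace Cfsg.Agent.MinSimple.OddRep

open Subgroup Cfsg Cfsg.Agent.ZN Cfsg.Agent.MinSimple.Geo Cfsg.Agent.MinSimple.BTwoA
  Cfsg.Agent.MinSimple.OddLine Cfsg.Agent.MinSimple.OddBase Cfsg.Agent.MinSimple.SecRep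
open Cfsg.Agent.ZN.Block (conj_mem_of_normalizer conj_mem_of_normalizer' le_normalizer_of_forall
  mem_normalizer_of)

universe u

variable {G : Type u} [Group G]

/-- `M = ws V x / ⟨x⟩`, `X = C(x) / kq V x` -/
abbrev Rep (V : Subgroup G) (x : G) (M X : Type u) [AddCommGroup M] [Group X] [DistribMulAction X M] :=
  Sec (centralizer ({x} : Set G)) (ws V x) (zpowers x) M X

variable [Finite G] {T V : Subgroup G} {z x : G} {M X : Type u} [AddCommGroup M] [Group X] [DistribMulAction X M]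

theorem centralizer_le_normalizer_zpowers (x : G) :
    centralizer ({x} : Set G) ≤ normalizer ((zpowers x : Subgroup G) : Set G) := by
  refine le_normalizer_of_forall fun c hc y hy => ?_
  rw [BTwoB.zpowers_conj hc hy]; exact hy

theorem exists_rep (h : Odd T V z) (hx : Pt z x) :
    ∃ (M X : Type u) (_ : AddCommGroup M) (_ : Group X) (_ : DistribMulAction X M), Nonempty (Rep V x M X) := by
  refine exists_sec ?_ (Geo.centralizer_le_normalizer_ws V x) ?_ (centralizer_le_normalizer_zpowers x) ?_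
  · intro w hw
    rw [mem_centralizer_singleton_iff]
    exact ws_comm h hx hw (self_mem_ws h.toGeo hx)
  · rw [zpowers_le]; exact self_mem_ws h.toGeo hx
  · intro a ha b hb
    have e : a * b * a⁻¹ * b⁻¹ = 1 := by rw [ws_comm h hx ha hb]; group
    rw [e]; exact one_mem _

namespace Rep

theorem two (h : Odd T V z) (hx : Pt z x) (R : Rep V x M X) (m : M) : m + m = 0 := by
  obtain ⟨w, hw, rfl⟩ := R.pi_surj m
  rw [← R.pi_mul w hw w hw, OddBase.ws_sq h hx hw, R.pi_one]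

theorem neg_eq (h : Odd T V z) (hx : Pt z x) (R : Rep V x M X) (m : M) : -m = m :=
  neg_eq_of_add_eq_zero_left (two h hx R m)

/-- the kernel of `rho` -/
theorem rho_eq_one (R : Rep V x M X) {c : G} (hc : c ∈ centralizer ({x} : Set G)) :
    R.rho c = 1 ↔ c ∈ kq V x := by
  rw [R.rho_eq_one_iff hc]
  constructor
  · intro h
    have h1 : R.rho c = 1 := (R.rho_eq_one_iff hc).mpr h
    have h2 : R.rho c⁻¹ = 1 := by rw [R.rho_inv hc, h1, inv_one]
    rw [R.rho_eq_one_iff (inv_mem hc)] at h2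
    refine ⟨hc, h, fun w hw => ?_⟩
    have := h2 w hw
    rwa [inv_inv] at this
  · exact fun h => h.2.1

theorem rho_eq_rho (R : Rep V x M X) {a b : G} (ha : a ∈ centralizer ({x} : Set G))
    (hb : b ∈ centralizer ({x} : Set G)) : R.rho a = R.rho b ↔ a * b⁻¹ ∈ kq V x := by
  rw [R.rho_eq_iff ha hb, rho_eq_one R (mul_mem ha (inv_mem hb))]

theorem pi_eq_zero' (h : Odd T V z) (hx : Pt z x) (R : Rep V x M X) {a : G} (ha : a ∈ ws V x) :
    R.pi a = 0 ↔ a = 1 ∨ a = x := by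
  rw [R.pi_eq_zero a ha]
  exact mem_zpowers_iff_of_mul_self (OddBase.Pt.sq h.toGeo hx)

theorem pi_eq_pi (h : Odd T V z) (hx : Pt z x) (R : Rep V x M X) {a b : G} (ha : a ∈ ws V x) (hb : b ∈ ws V x) :
    R.pi a = R.pi b ↔ a = b ∨ a = x * b := by
  rw [R.pi_eq_iff ha hb, mem_zpowers_iff_of_mul_self (OddBase.Pt.sq h.toGeo hx), mul_inv_eq_one]
  constructor
  · rintro (e | e)
    · exact Or.inl e
    · exact Or.inr (by rw [← e]; group)
  · rintro (e | e)
    · exact Or.inl e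
    · exact Or.inr (by rw [e]; group)

theorem pi_self (h : Odd T V z) (hx : Pt z x) (R : Rep V x M X) : R.pi x = 0 :=
  (R.pi_eq_zero x (self_mem_ws h.toGeo hx)).mpr (mem_zpowers x)

theorem pi_self_mul (h : Odd T V z) (hx : Pt z x) (R : Rep V x M X) {w : G} (hw : w ∈ ws V x) :
    R.pi (x * w) = R.pi w := by
  rw [R.pi_mul x (self_mem_ws h.toGeo hx) w hw, pi_self h hx R, zero_add]

theorem isSolvable (h : Odd T V z) (hx : Pt z x) (R : Rep V x M X) : Group.IsSolvable X :=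
  Sec.isSolvable R (h.solv _ (isTwoLocal_centralizer (OddBase.Pt.sq h.toGeo hx) (OddBase.Pt.ne_one h.toGeo hx)))

/-- `O₂(X) = 1` -/
theorem o2_eq_bot (h : Odd T V z) (hx : Pt z x) (R : Rep V x M X) {N : Subgroup X} (hN : N.Normal)
    (h2 : IsPGroup 2 N) : N = ⊥ := by
  obtain ⟨g, hg, h'⟩ := exists_odd h hx
  have hle : R.pre N ≤ kq (cj g V) x := by
    refine BTwoB.le_kq h'.toGeo (R.pre_le N) (R.le_normalizer_pre hN) fun c hc => ?_
    rw [R.mem_pre] at hc
    obtain ⟨k, hk⟩ := h2 ⟨R.rho c, hc.2⟩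
    refine ⟨k, ?_⟩
    rw [kq_cj_left, ← rho_eq_one R (pow_mem hc.1 _), R.rho_pow hc.1]
    exact congrArg Subtype.val hk
  rw [kq_cj_left] at hle
  rw [eq_bot_iff]
  intro n hn
  obtain ⟨c, hc, rfl⟩ := R.rho_surj n
  rw [mem_bot, rho_eq_one R hc]
  exact hle (R.mem_pre.mpr ⟨hc, hn⟩)

/-- line vectors are nonzero -/
theorem pi_line_ne_zero (h : Odd T V z) (hx : Pt z x) (R : Rep V x M X) {y : G} (hy : Col V x y) :
    R.pi y ≠ 0 := by
  rw [Ne, pi_eq_zero' h hx R hy.mem_ws]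
  rintro (e | e)
  · exact hy.2.1 e
  · exact hy.2.2.1 e.symm

/-- `X` is transitive on the line vectors -/
theorem exists_smul_line (h : Odd T V z) (hx : Pt z x) (R : Rep V x M X) {y y' : G} (hy : Col V x y)
    (hy' : Col V x y') : ∃ g : X, g • R.pi y = R.pi y' := by
  obtain ⟨_, hy1, hne, L, ⟨⟨g, rfl⟩, hxL⟩, hyL⟩ := hy
  obtain ⟨_, hy1', hne', L', hL', hyL'⟩ := hy'
  obtain ⟨T', h1⟩ := h.line hxL (OddBase.Pt.ne_one h.toGeo hx)
  rw [← lines_cj V g] at hL'
  obtain ⟨c, hc, rfl⟩ := h1.toGeo.exists_of_mem_lines hL'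
  have h2 : c⁻¹ * y' * c ∈ cj g V := mem_cj.mp hyL'
  have h3 : c⁻¹ * y' * c ≠ 1 := fun e => hy1' (by
    have : y' = c * (c⁻¹ * y' * c) * c⁻¹ := by group
    rw [this, e]; group)
  have hcx : c * x = x * c := mem_centralizer_singleton_iff.mp hc
  have h4 : c⁻¹ * y' * c ≠ x := fun e => hne' (by
    have : y' = c * (c⁻¹ * y' * c) * c⁻¹ := by group
    rw [this, e, hcx]; group)
  have hyw : y ∈ ws V x := le_ws ⟨⟨g, rfl⟩, hxL⟩ hyL
  refine ⟨R.rho c, ?_⟩
  rw [R.smul_pi c hc y hyw]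
  rcases h1.toGeo.four hxL hyL (OddBase.Pt.ne_one h.toGeo hx) hy1 hne h2 with e | e | e | e
  · exact absurd e h3
  · exact absurd e h4
  · rw [← e]
    congr 1; group
  · have e2 : y' = x * (c * y * c⁻¹) := by
      have : y' = c * (c⁻¹ * y' * c) * c⁻¹ := by group
      rw [this, e]
      calc c * (x * y) * c⁻¹ = (c * x) * y * c⁻¹ := by group
        _ = x * (c * y * c⁻¹) := by rw [hcx]; group
    rw [e2, pi_self_mul h hx R (R.conj_mem hc hyw)]

/-- `M` is generated by the line vectors -/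
theorem eq_top_of_line (h : Odd T V z) (hx : Pt z x) (R : Rep V x M X) {y : G} (hy : Col V x y) (N : AddSubgroup M)
    (hN : ∀ g : X, g • R.pi y ∈ N) : N = ⊤ := by
  rw [eq_top_iff]
  rintro m -
  obtain ⟨w, hw, rfl⟩ := R.pi_surj m
  let U : Subgroup G :=
    { carrier := {w | w ∈ ws V x ∧ R.pi w ∈ N}
      mul_mem' := by
        rintro a b ⟨ha, ha1⟩ ⟨hb, hb1⟩
        refine ⟨mul_mem ha hb, ?_⟩
        rw [R.pi_mul a ha b hb]; exact add_mem ha1 hb1
      one_mem' := ⟨one_mem _, by rw [R.pi_one]; exact zero_mem _⟩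
      inv_mem' := by
        rintro a ⟨ha, ha1⟩
        refine ⟨inv_mem ha, ?_⟩
        rw [R.pi_inv ha]; exact neg_mem ha1 }
  refine (ws_le (U := U) (fun L hL w hw => ⟨le_ws hL hw, ?_⟩) hw).2
  by_cases hw1 : w = 1
  · rw [hw1, R.pi_one]; exact zero_mem _
  · by_cases hwx : w = x
    · rw [hwx, pi_self h hx R]; exact zero_mem _
    · obtain ⟨g, hg⟩ := exists_smul_line h hx R hy
        (⟨hy.1, hw1, Ne.symm hwx, L, hL, hw⟩ : Col V x w)
      rw [← hg]; exact hN g

end Rep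

end Cfsg.Agent.MinSimple.OddRep
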