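import Mathlib
import Cfsg.Agent.MinSimple.OddRep

/-!
# (E1)(b): `|ws V z| = 8` implies `n ≤ 2`
-/

set_option autoImplicit false
set_option linter.unusedSectionVars false

namespace Cfsg.Agent.MinSimple.OddSmall

open Subgroup Cfsg Cfsg.Agent.ZN Cfsg.Agent.MinSimple.Geo Cfsg.Agent.MinSimple.BTwoA
  Cfsg.Agent.MinSimple.OddLine Cfsg.Agent.MinSimple.OddBase Cfsg.Agent.MinSimple.SecRep
  Cfsg.Agent.MinSimple.OddRep
open Cfsg.Agent.ZN.Block (conj_mem_of_normalizer conj_mem_of_normalizer' le_normalizer_of_forall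
  mem_normalizer_of)

universe u

variable {G : Type u} [Group G] [Finite G] {T V : Subgroup G} {z x : G}

/-- the third point of a line is collinear with the first one -/
theorem col_mul (h : Odd T V z) {y : G} (hy : Col V x y) : Col V x (x * y) := by
  obtain ⟨h1, h2, h3, L, hL, hyL⟩ := hy
  have hx : Pt z x := Col.pt_left h.toGeo ⟨h1, h2, h3, L, hL, hyL⟩
  refine ⟨h1, fun e => h3 ?_, fun e => h2 ?_, L, hL, mul_mem hL.2 hyL⟩
  · have := OddBase.Pt.sq h.toGeo hx
    calc x = x * (x * y) := by rw [e, mul_one]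
      _ = (x * x) * y := by group
      _ = y := by rw [this, one_mul]
  · exact left_eq_mul.mp e

/-- the points collinear with `x` in terms of the module -/
theorem col_of_smul (h : Odd T V z) (hx : Pt z x) {M X : Type u} [AddCommGroup M] [Group X]
    [DistribMulAction X M] (R : Rep V x M X) {y w : G} (hy : Col V x y) (hw : w ∈ ws V x) {g : X}
    (hg : g • R.pi y = R.pi w) : Col V x w := by
  obtain ⟨c, hc, rfl⟩ := R.rho_surj g
  rw [R.smul_pi c hc y hy.mem_ws] at hg
  have hcx : c * x * c⁻¹ = x := by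
    rw [mem_centralizer_singleton_iff.mp hc]; group
  have h1 : Col V x (c * y * c⁻¹) := by
    have := hy.conj c
    rwa [hcx] at this
  rcases (OddRep.Rep.pi_eq_pi h hx R (R.conj_mem hc hy.mem_ws) hw).mp hg with e | e
  · rw [← e]; exact h1
  · have e2 : w = x * (c * y * c⁻¹) := by
      rw [e, ← mul_assoc, OddBase.Pt.sq h.toGeo hx, one_mul]
    rw [e2]; exact col_mul h h1

/-- every point is on a line -/
theorem exists_col (h : Odd T V z) (hx : Pt z x) : ∃ y, Col V x y := by
  obtain ⟨g, rfl⟩ := hx
  obtain ⟨y, hy, hy1, hyz⟩ := h.exists_y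
  exact ⟨g * y * g⁻¹, (col_of_mem h.toGeo h.z_mem hy h.z_ne hy1 (Ne.symm hyz)).conj g⟩

theorem col_of_card_eight (h : Odd T V z) (hx : Pt z x) (h8 : Nat.card (ws V x) = 8) {w : G}
    (hw : w ∈ ws V x) (hw1 : w ≠ 1) (hwx : w ≠ x) : Col V x w := by
  obtain ⟨M, X, _, _, _, ⟨R⟩⟩ := exists_rep h hx
  obtain ⟨y, hy⟩ := exists_col h hx
  have two := OddRep.Rep.two h hx R
  have hwM : R.pi w ≠ 0 := fun e => by
    rcases (OddRep.Rep.pi_eq_zero' h hx R hw).mp e with e | e
    · exact hw1 e
    · exact hwx e
  -- it is enough to find an element of the orbit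
  by_contra hcon
  have hS : ∀ g : X, g • R.pi y ≠ R.pi w := fun g hg => hcon (col_of_smul h hx R hy hw hg)
  have hy0 : R.pi y ≠ 0 := OddRep.Rep.pi_line_ne_zero h hx R hy
  -- the module has at most four elements
  have hM : Finite M := R.finite_left
  have hM4 : ∀ m : M, m = 0 ∨ m = R.pi y ∨ m = R.pi w ∨ m = R.pi y + R.pi w := by
    have hyw : R.pi y ≠ R.pi w := by simpa using hS 1
    have hcard : Nat.card M = 4 := by
      let f : ws V x →* Multiplicative M :=
        { toFun := fun a => Multiplicative.ofAdd (R.pi a)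
          map_one' := by rw [OneMemClass.coe_one, R.pi_one]; rfl
          map_mul' := fun a b => by
            rw [Subgroup.coe_mul, R.pi_mul a a.2 b b.2]; rfl }
      have hfs : Function.Surjective f := by
        intro m
        obtain ⟨a, ha, e⟩ := R.pi_surj m.toAdd
        exact ⟨⟨a, ha⟩, congrArg Multiplicative.ofAdd e⟩
      have hk : Nat.card f.ker = 2 := by
        have hz2 : Nat.card (zpowers x) = 2 := by
          rw [Nat.card_zpowers, orderOf_eq_prime (p := 2) (hp := ⟨Nat.prime_two⟩)]
          · rw [pow_two]; exact OddBase.Pt.sq h.toGeo hx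
          · exact OddBase.Pt.ne_one h.toGeo hx
        rw [← hz2]
        have hzw : zpowers x ≤ ws V x := zpowers_le.mpr (self_mem_ws h.toGeo hx)
        exact Nat.card_congr
          { toFun := fun a => ⟨a.1.1, (R.pi_eq_zero a.1.1 a.1.2).mp (congrArg Multiplicative.toAdd a.2)⟩
            invFun := fun a => ⟨⟨a.1, hzw a.2⟩,
              congrArg Multiplicative.ofAdd ((R.pi_eq_zero a.1 (hzw a.2)).mpr a.2)⟩
            left_inv := fun a => rfl
            right_inv := fun a => rfl }
      have h2 := f.ker.card_mul_index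
      rw [Subgroup.index_ker, MonoidHom.range_eq_top.mpr hfs, hk, h8, Subgroup.card_top] at h2
      have h3 : Nat.card (Multiplicative M) = Nat.card M := Nat.card_congr Multiplicative.toAdd
      rw [h3] at h2
      omega
    have hyw0 : R.pi y + R.pi w ≠ 0 := fun e => hyw (by
      have := OddRep.Rep.neg_eq h hx R (R.pi w)
      rw [← this]; exact eq_neg_of_add_eq_zero_left e)
    have hyw1 : R.pi y + R.pi w ≠ R.pi y := fun e => hwM (left_eq_add.mp e.symm)
    have hyw2 : R.pi y + R.pi w ≠ R.pi w := fun e => hy0 (add_eq_right.mp e)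
    have h4 : Set.ncard ({0, R.pi y, R.pi w, R.pi y + R.pi w} : Set M) = 4 := by
      classical
      rw [Set.ncard_insert_of_notMem, Set.ncard_insert_of_notMem, Set.ncard_insert_of_notMem,
        Set.ncard_singleton]
      · simpa using Ne.symm hyw2
      · simp only [Set.mem_insert_iff, Set.mem_singleton_iff, not_or]
        exact ⟨hyw, Ne.symm hyw1⟩
      · simp only [Set.mem_insert_iff, Set.mem_singleton_iff, not_or]
        exact ⟨Ne.symm hy0, Ne.symm hwM, Ne.symm hyw0⟩
    have h5 : ({0, R.pi y, R.pi w, R.pi y + R.pi w} : Set M) = Set.univ := by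
      refine Set.eq_of_subset_of_ncard_le (Set.subset_univ _) ?_ (Set.finite_univ)
      rw [h4, Set.ncard_univ, hcard]
    intro m
    have : m ∈ ({0, R.pi y, R.pi w, R.pi y + R.pi w} : Set M) := by rw [h5]; trivial
    simpa using this
  -- the orbit is contained in `{y, y + w}`
  have horb : ∀ g : X, g • R.pi y = R.pi y ∨ g • R.pi y = R.pi y + R.pi w := by
    intro g
    rcases hM4 (g • R.pi y) with e | e | e | e
    · exact absurd ((smul_eq_zero_iff_eq g).mp e) hy0
    · exact Or.inl e
    · exact absurd e (hS g)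
    · exact Or.inr e
  have horb2 : ∀ g : X, g • (R.pi y + R.pi w) = R.pi y ∨ g • (R.pi y + R.pi w) = R.pi y + R.pi w := by
    intro g
    by_cases hex : ∃ k : X, k • R.pi y = R.pi y + R.pi w
    · obtain ⟨k, hk⟩ := hex
      rw [← hk, ← mul_smul]
      rcases horb (g * k) with e | e
      · exact Or.inl e
      · exact Or.inr (e.trans hk.symm)
    · push Not at hex
      exfalso
      have h1 : ∀ g : X, g • R.pi y = R.pi y := fun g => (horb g).resolve_right (hex g)
      have h2 := OddRep.Rep.eq_top_of_line h hx R hy (AddSubgroup.zmultiples (R.pi y)) (fun g => by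
        rw [h1 g]; exact AddSubgroup.mem_zmultiples _)
      have h3 : R.pi w ∈ AddSubgroup.zmultiples (R.pi y) := by rw [h2]; trivial
      obtain ⟨n, hn⟩ := AddSubgroup.mem_zmultiples_iff.mp h3
      have h4 : (2 : ℤ) • R.pi y = 0 := by rw [two_zsmul]; exact two _
      rcases Int.even_or_odd' n with ⟨k, rfl | rfl⟩
      · rw [mul_comm, mul_zsmul, h4, zsmul_zero] at hn
        exact hwM hn.symm
      · rw [add_zsmul, mul_comm, mul_zsmul, h4, zsmul_zero, zero_add, one_zsmul] at hn
        have := hS 1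
        rw [one_smul] at this
        exact this hn
  have hw' : ∀ g : X, g • R.pi w = R.pi w := by
    intro g
    have e : R.pi w = R.pi y + (R.pi y + R.pi w) := by rw [← add_assoc, two, zero_add]
    have e2 : g • R.pi w = g • R.pi y + g • (R.pi y + R.pi w) := by
      rw [← smul_add, ← e]
    have hyw0 : R.pi w ≠ 0 := hwM
    rcases horb g with e3 | e3 <;> rcases horb2 g with e4 | e4 <;> rw [e3, e4] at e2
    · rw [two] at e2
      exact absurd ((smul_eq_zero_iff_eq g).mp e2) hwM
    · rw [← e] at e2; exact e2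
    · rw [add_comm, ← e] at e2; exact e2
    · rw [two] at e2
      exact absurd ((smul_eq_zero_iff_eq g).mp e2) hwM
  -- `X` has exponent two
  have hsq : ∀ g : X, g * g = 1 := by
    intro g
    apply R.faithful
    intro m
    have h1 : ∀ m, m = R.pi y ∨ m = R.pi w → (g * g) • m = m := by
      rintro m (rfl | rfl)
      · rw [mul_smul]
        rcases horb g with e | e
        · rw [e, e]
        · rw [e, smul_add, e, hw' g, add_assoc, two, add_zero]
      · rw [mul_smul, hw', hw']
    rcases hM4 m with rfl | rfl | rfl | rfl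
    · exact smul_zero _
    · exact h1 _ (Or.inl rfl)
    · exact h1 _ (Or.inr rfl)
    · rw [smul_add, h1 _ (Or.inl rfl), h1 _ (Or.inr rfl)]
  have htop : (⊤ : Subgroup X) = ⊥ := by
    refine OddRep.Rep.o2_eq_bot h hx R (N := ⊤) inferInstance ?_
    intro g
    refine ⟨1, ?_⟩
    apply Subtype.ext
    have := hsq g.1
    simpa [pow_two] using this
  have htriv : ∀ g : X, g = 1 := fun g => by
    have : g ∈ (⊤ : Subgroup X) := trivial
    rw [htop] at this
    exact this
  have h2 := OddRep.Rep.eq_top_of_line h hx R hy (AddSubgroup.zmultiples (R.pi y)) (fun g => by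
    rw [htriv g, one_smul]; exact AddSubgroup.mem_zmultiples _)
  have h3 : R.pi w ∈ AddSubgroup.zmultiples (R.pi y) := by rw [h2]; trivial
  obtain ⟨n, hn⟩ := AddSubgroup.mem_zmultiples_iff.mp h3
  have h4 : (2 : ℤ) • R.pi y = 0 := by rw [two_zsmul]; exact two _
  rcases Int.even_or_odd' n with ⟨k, rfl | rfl⟩
  · rw [mul_comm, mul_zsmul, h4, zsmul_zero] at hn
    exact hwM hn.symm
  · rw [add_zsmul, mul_comm, mul_zsmul, h4, zsmul_zero, zero_add, one_zsmul] at hn
    have := hS 1
    rw [one_smul] at this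
    exact this hn

/-- `|ws V z| = 8` is impossible for `n ≥ 3` -/
theorem le_two_of_card_eight {n : ℕ} (h : OddN T V z n) (h8 : Nat.card (ws V z) = 8) : n ≤ 2 := by
  by_contra hn
  push Not at hn
  obtain ⟨x, y, hc'⟩ := h.crit
  have hc : Crit V z n x y := hc'
  obtain ⟨hx, hxy, a, ha, b, hb, hab⟩ := hc'
  have hy := OddBase.Crit.pt' h.toGeo hc
  have h8' : ∀ {x : G}, Pt z x → Nat.card (ws V x) = 8 := by
    rintro _ ⟨g, rfl⟩
    rw [← cj_ws, card_cj, h8]
  have hm := hc.comm_mem h ha hb
  set c := a * b * a⁻¹ * b⁻¹ with hcdef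
  have hc1 : c ≠ 1 := fun e => hab (by
    calc a * b = (a * b * a⁻¹ * b⁻¹) * (b * a) := by group
      _ = b * a := by rw [← hcdef, e, one_mul])
  have key : ∀ {x : G}, Pt z x → c ∈ ws V x → Walk V 1 x c := by
    intro x hx hcx
    by_cases hxc : c = x
    · rw [hxc]; exact Walk.refl V 1 x
    · exact (col_of_card_eight h.toOdd hx (h8' hx) hcx hc1 hxc).walk
  have h1 := (key hx hm.1).trans (key hy hm.2).symm
  exact hc.not_walk h (m := 1 + 1) (by omega) h1

end Cfsg.Agent.MinSimple.OddSmall
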