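import Mathlib
import Cfsg.Agent.Lib.KleinGen
import Cfsg.Agent.Lib.ThompsonPQ

/-!
# Thompson's dihedral lemma

An elementary abelian `2`-group `A` acting faithfully on an `r`-group `R` (`r` odd) has a basis `b i` such that there
are pairwise commuting elements `y i` of `R` with `b i` inverting `y i` and centralising `y j` for `j ≠ i`.
-/

set_option autoImplicit false

namespace Cfsg.Agent.MinSimple.DihedralBasis

open Subgroup Cfsg.Agent.Lib

variable {G : Type*} [Group G]

/-- every element of `A` centralises or inverts `y` -/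
def IsWeight (A : Subgroup G) (y : G) : Prop := ∀ a ∈ A, a * y * a⁻¹ = y ∨ a * y * a⁻¹ = y⁻¹

theorem mem_cs {s x : G} : x ∈ centralizer {s} ↔ s * x * s⁻¹ = x := by
  rw [mem_centralizer_singleton_iff, mul_inv_eq_iff_eq_mul]
  exact eq_comm

theorem comm_of_sq {A : Subgroup G} (hA : ∀ a ∈ A, a * a = 1) {a b : G} (ha : a ∈ A) (hb : b ∈ A) :
    a * b = b * a := by
  have h1 := hA _ (mul_mem ha hb)
  have h4 : a⁻¹ = a := inv_eq_of_mul_eq_one_left (hA a ha)
  have h5 : b⁻¹ = b := inv_eq_of_mul_eq_one_left (hA b hb)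
  have h6 : (a * b)⁻¹ = a * b := inv_eq_of_mul_eq_one_left h1
  rw [mul_inv_rev, h4, h5] at h6
  exact h6.symm

theorem mul_self_ne_one_of_odd [Finite G] {C : Subgroup G} (hC : Odd (Nat.card C)) {y : G} (hy : y ∈ C)
    (h1 : y ≠ 1) : y * y ≠ 1 := by
  intro h2
  apply h1
  exact KleinGen.eq_of_mul_self_eq hC hy (one_mem C) (by rw [h2, mul_one])

theorem exists_weight [Finite G] (A : Subgroup G) (hA : ∀ a ∈ A, a * a = 1) (n : ℕ) :
    ∀ C : Subgroup G, Nat.card C ≤ n → Odd (Nat.card C) → (∀ a ∈ A, ∀ x ∈ C, a * x * a⁻¹ ∈ C) →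
    ∀ a0 ∈ A, (∃ x ∈ C, a0 * x * a0⁻¹ ≠ x) →
    ∃ y ∈ C, IsWeight A y ∧ a0 * y * a0⁻¹ = y⁻¹ ∧ y * y ≠ 1 := by
  induction n with
  | zero =>
    intro C hC
    have := Nat.card_pos (α := C)
    omega
  | succ n ih =>
    intro C hCn hodd hinv a0 ha0 hnt
    by_cases hall : ∀ a ∈ A, (∀ x ∈ C, a * x * a⁻¹ = x) ∨ (∀ x ∈ C, a * x * a⁻¹ = a0 * x * a0⁻¹)
    · obtain ⟨x, hx, hne⟩ := hnt
      have hyC : x⁻¹ * (a0 * x * a0⁻¹) ∈ C := mul_mem (inv_mem hx) (hinv a0 ha0 x hx)
      have hy1 : x⁻¹ * (a0 * x * a0⁻¹) ≠ 1 := fun h => hne (inv_mul_eq_one.mp h).symm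
      have hinvy : a0 * (x⁻¹ * (a0 * x * a0⁻¹)) * a0⁻¹ = (x⁻¹ * (a0 * x * a0⁻¹))⁻¹ := by
        have h2 := hA a0 ha0
        calc a0 * (x⁻¹ * (a0 * x * a0⁻¹)) * a0⁻¹ = a0 * x⁻¹ * a0⁻¹ * (a0 * a0) * x * (a0 * a0)⁻¹ := by group
          _ = (x⁻¹ * (a0 * x * a0⁻¹))⁻¹ := by rw [h2]; group
      refine ⟨x⁻¹ * (a0 * x * a0⁻¹), hyC, ?_, hinvy, mul_self_ne_one_of_odd hodd hyC hy1⟩
      intro a ha
      rcases hall a ha with h1 | h1
      · exact Or.inl (h1 _ hyC)
      · exact Or.inr ((h1 _ hyC).trans hinvy)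
    · push Not at hall
      obtain ⟨a, ha, ⟨x1, hx1, hne1⟩, ⟨x2, hx2, hne2⟩⟩ := hall
      have hcomm := comm_of_sq hA ha0 ha
      -- general facts about `C ⊓ C(s)`, `s ∈ A`
      have hsub : ∀ s ∈ A, (∃ x ∈ C, s * x * s⁻¹ ≠ x) → (∃ x ∈ C ⊓ centralizer {s}, a0 * x * a0⁻¹ ≠ x) →
          ∃ y ∈ C, IsWeight A y ∧ a0 * y * a0⁻¹ = y⁻¹ ∧ y * y ≠ 1 := by
        intro s hs hns hnt'
        have hlt : Nat.card ↥(C ⊓ centralizer {s}) < Nat.card C := by
          by_contra hge
          have heq : C ⊓ centralizer {s} = C := eq_of_le_of_card_ge inf_le_left (not_lt.mp hge)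
          obtain ⟨x, hx, hne⟩ := hns
          rw [← heq] at hx
          exact hne (mem_cs.mp hx.2)
        obtain ⟨y, hy, h1, h2, h3⟩ := ih (C ⊓ centralizer {s}) (by omega)
          (hodd.of_dvd_nat (card_dvd_of_le inf_le_left))
          (fun b hb x hx => mem_inf.mpr ⟨hinv b hb x hx.1, by
            have h1 : s * x * s⁻¹ = x := mem_cs.mp hx.2
            have h2 := comm_of_sq hA hs hb
            rw [mem_cs]
            calc s * (b * x * b⁻¹) * s⁻¹ = (s * b) * x * (s * b)⁻¹ := by group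
              _ = (b * s) * x * (b * s)⁻¹ := by rw [h2]
              _ = b * (s * x * s⁻¹) * b⁻¹ := by group
              _ = b * x * b⁻¹ := by rw [h1]⟩) a0 ha0 hnt'
        exact ⟨y, hy.1, h1, h2, h3⟩
      by_cases c1 : ∃ x ∈ C ⊓ centralizer {a}, a0 * x * a0⁻¹ ≠ x
      · exact hsub a ha ⟨x1, hx1, hne1⟩ c1
      by_cases c2 : ∃ x ∈ C ⊓ centralizer {a0 * a}, a0 * x * a0⁻¹ ≠ x
      · refine hsub (a0 * a) (mul_mem ha0 ha) ⟨x2, hx2, ?_⟩ c2
        intro h
        apply hne2
        have h2 := hA a0 ha0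
        calc a * x2 * a⁻¹ = a0⁻¹ * (a0 * a * x2 * (a0 * a)⁻¹) * a0 := by group
          _ = a0⁻¹ * x2 * a0 := by rw [h]
          _ = a0⁻¹ * (a0 * a0) * x2 * (a0 * a0)⁻¹ * a0 := by rw [h2]; group
          _ = a0 * x2 * a0⁻¹ := by group
      · exfalso
        push Not at c1 c2
        obtain ⟨x, hx, hne⟩ := hnt
        apply hne
        have hinvol : ∀ s ∈ A, ∀ g : G, s * (s * g * s⁻¹) * s⁻¹ = g := by
          intro s hs g
          have h2 := hA s hs
          calc s * (s * g * s⁻¹) * s⁻¹ = (s * s) * g * (s * s)⁻¹ := by group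
            _ = g := by rw [h2]; group
        have key : C ≤ centralizer {a0} := by
          refine KleinGen.le_of_fixed_le C (centralizer {a0}) hodd (MulAut.conj a0).toMonoidHom
            (MulAut.conj a).toMonoidHom (hinvol a0 ha0) (hinvol a ha) ?_ (hinv a0 ha0) (hinv a ha) ?_ ?_ ?_
          · intro g
            show a0 * (a * g * a⁻¹) * a0⁻¹ = a * (a0 * g * a0⁻¹) * a⁻¹
            calc a0 * (a * g * a⁻¹) * a0⁻¹ = (a0 * a) * g * (a0 * a)⁻¹ := by group
              _ = (a * a0) * g * (a * a0)⁻¹ := by rw [hcomm]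
              _ = _ := by group
          · intro g hg h1
            exact mem_cs.mpr h1
          · intro g hg h1
            exact mem_cs.mpr (c1 g (mem_inf.mpr ⟨hg, mem_cs.mpr h1⟩))
          · intro g hg h1
            have h1' : a0 * (a * g * a⁻¹) * a0⁻¹ = g := h1
            refine mem_cs.mpr (c2 g (mem_inf.mpr ⟨hg, mem_cs.mpr ?_⟩))
            calc a0 * a * g * (a0 * a)⁻¹ = a0 * (a * g * a⁻¹) * a0⁻¹ := by group
              _ = g := h1'
        exact mem_cs.mp (key hx)

/-- A maximal `A`-invariant abelian subgroup of `R` separates `A`. -/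
theorem exists_separating [Finite G] {r : ℕ} [Fact r.Prime] (hr : r ≠ 2) (A R : Subgroup G)
    (hA : ∀ a ∈ A, a * a = 1) (hR : IsPGroup r R) (hAR : ∀ a ∈ A, ∀ x ∈ R, a * x * a⁻¹ ∈ R)
    (hf : ∀ a ∈ A, (∀ x ∈ R, a * x = x * a) → a = 1) :
    ∃ U : Subgroup G, U ≤ R ∧ (∀ u ∈ U, ∀ v ∈ U, u * v = v * u) ∧ (∀ a ∈ A, ∀ u ∈ U, a * u * a⁻¹ ∈ U) ∧
      ∀ a ∈ A, a ≠ 1 → ∃ y ∈ U, IsWeight A y ∧ a * y * a⁻¹ = y⁻¹ ∧ y * y ≠ 1 := by
  have hodd : Odd (Nat.card R) := by
    obtain ⟨k, hk⟩ := IsPGroup.iff_card.mp hR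
    rw [hk]
    exact ((Fact.out : r.Prime).odd_of_ne_two hr).pow
  obtain ⟨U, ⟨hUR, hUc, hUA⟩, hmax⟩ := (Set.toFinite {U : Subgroup G | U ≤ R ∧
    (∀ u ∈ U, ∀ v ∈ U, u * v = v * u) ∧ (∀ a ∈ A, ∀ u ∈ U, a * u * a⁻¹ ∈ U)}).exists_maximal
    ⟨⊥, bot_le, by
      intro u hu v hv
      rw [mem_bot] at hu hv
      rw [hu, hv], by
      intro a ha u hu
      rw [mem_bot] at hu
      rw [hu, mul_one, mul_inv_cancel]
      exact one_mem _⟩
  refine ⟨U, hUR, hUc, hUA, fun a ha ha1 => ?_⟩
  have hUodd : Odd (Nat.card U) := hodd.of_dvd_nat (card_dvd_of_le hUR)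
  apply exists_weight A hA _ U le_rfl hUodd hUA a ha
  by_contra hcon
  push Not at hcon
  apply ha1
  apply hf a ha
  -- `a` centralises `C_R(U)`
  have hC : ∀ x ∈ R ⊓ centralizer (U : Set G), a * x * a⁻¹ = x := by
    by_contra hcon2
    push Not at hcon2
    have hinv : ∀ b ∈ A, ∀ x ∈ R ⊓ centralizer (U : Set G), b * x * b⁻¹ ∈ R ⊓ centralizer (U : Set G) := by
      intro b hb x hx
      refine mem_inf.mpr ⟨hAR b hb x hx.1, ?_⟩
      rw [mem_centralizer_iff]
      intro u hu
      have h1 : b⁻¹ * u * b ∈ U := by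
        have := hUA b⁻¹ (inv_mem hb) u hu
        rwa [inv_inv] at this
      have h2 := mem_centralizer_iff.mp hx.2 _ h1
      calc u * (b * x * b⁻¹) = b * ((b⁻¹ * u * b) * x) * b⁻¹ := by group
        _ = b * x * b⁻¹ * u := by rw [h2]; group
    obtain ⟨y, hy, hw, h1, h2⟩ := exists_weight A hA _ _ le_rfl
      (hodd.of_dvd_nat (card_dvd_of_le inf_le_left)) hinv a ha hcon2
    have hyc : ∀ u ∈ U, u * y = y * u := fun u hu => mem_centralizer_iff.mp hy.2 u hu
    have hle : U ⊔ zpowers y ≤ U := by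
      refine hmax ⟨sup_le hUR (zpowers_le.mpr hy.1), ?_, ?_⟩ le_sup_left
      · have h3 : U ⊔ zpowers y ≤ centralizer ((U ⊔ zpowers y : Subgroup G) : Set G) := by
          rw [sup_le_iff]
          constructor
          · intro u hu
            rw [mem_centralizer_iff]
            intro v hv
            have : U ⊔ zpowers y ≤ centralizer {u} := by
              rw [sup_le_iff, zpowers_le]
              exact ⟨fun w hw => mem_centralizer_singleton_iff.mpr (hUc w hw u hu),
                mem_centralizer_singleton_iff.mpr (hyc u hu).symm⟩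
            exact mem_centralizer_singleton_iff.mp (this hv)
          · rw [zpowers_le, mem_centralizer_iff]
            intro v hv
            have : U ⊔ zpowers y ≤ centralizer {y} := by
              rw [sup_le_iff, zpowers_le]
              exact ⟨fun w hw => mem_centralizer_singleton_iff.mpr (hyc w hw),
                mem_centralizer_singleton_iff.mpr rfl⟩
            exact mem_centralizer_singleton_iff.mp (this hv)
        intro u hu v hv
        exact (mem_centralizer_iff.mp (h3 hu) v hv).symm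
      · intro b hb
        have h3 : U ⊔ zpowers y ≤ (U ⊔ zpowers y).comap (MulAut.conj b).toMonoidHom := by
          rw [sup_le_iff, zpowers_le]
          constructor
          · intro u hu
            exact mem_sup_left (hUA b hb u hu)
          · show b * y * b⁻¹ ∈ U ⊔ zpowers y
            rcases hw b hb with h4 | h4
            · rw [h4]; exact mem_sup_right (mem_zpowers y)
            · rw [h4]; exact mem_sup_right (inv_mem (mem_zpowers y))
        intro u hu
        exact h3 hu
    have hyU : y ∈ U := hle (mem_sup_right (mem_zpowers y))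
    have h5 := hcon y hyU
    rw [h1] at h5
    apply h2
    nth_rewrite 1 [← h5]
    rw [inv_mul_cancel]
  have hQ : zpowers a ≤ centralizer (R : Set G) := by
    refine ThompsonPQ.thompson_p_times_q r U (zpowers a) R (hR.to_le hUR) ?_ hR ?_ ?_ ?_ ?_
    · have h1 : orderOf a ∣ 2 := orderOf_dvd_of_pow_eq_one (by rw [pow_two]; exact hA a ha)
      rw [Nat.card_zpowers]
      refine Nat.Coprime.coprime_dvd_left h1 ?_
      exact (Nat.coprime_primes Nat.prime_two Fact.out).mpr hr.symm
    · intro u hu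
      rw [mem_centralizer_iff]
      intro z hz
      have h3 : zpowers a ≤ centralizer {u} := by
        rw [zpowers_le]
        have := hcon u hu
        rw [mem_centralizer_singleton_iff]
        calc a * u = a * u * a⁻¹ * a := by group
          _ = u * a := by rw [this]
      exact mem_centralizer_singleton_iff.mp (h3 hz)
    · exact hUR.trans le_normalizer
    · rw [zpowers_le, mem_normalizer_iff]
      intro x
      constructor
      · intro hx
        exact hAR a ha x hx
      · intro hx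
        have h3 := hAR a⁻¹ (inv_mem ha) _ hx
        have h4 : a⁻¹ * (a * x * a⁻¹) * a⁻¹⁻¹ = x := by group
        rwa [h4] at h3
    · intro x hx
      rw [mem_centralizer_iff]
      intro z hz
      have h3 : zpowers a ≤ centralizer {x} := by
        rw [zpowers_le]
        have := hC x hx
        rw [mem_centralizer_singleton_iff]
        calc a * x = a * x * a⁻¹ * a := by group
          _ = x * a := by rw [this]
      exact mem_centralizer_singleton_iff.mp (h3 hz)
  intro x hx
  exact (mem_centralizer_iff.mp (hQ (mem_zpowers a)) x hx).symm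

/-- a dual basis from a separating set of weight vectors -/
theorem exists_basis_aux [Finite G] (Y : Set G) (n : ℕ) : ∀ B : Subgroup G, Nat.card B ≤ n →
    (∀ b ∈ B, b * b = 1) → (∀ y ∈ Y, IsWeight B y) → (∀ b ∈ B, b ≠ 1 → ∃ y ∈ Y, b * y * b⁻¹ ≠ y) →
    ∃ (u : ℕ) (y b : Fin u → G), (∀ i, y i ∈ Y) ∧ (∀ i, b i ∈ B) ∧ (∀ i, b i * y i * (b i)⁻¹ = (y i)⁻¹) ∧
      (∀ i, b i * y i * (b i)⁻¹ ≠ y i) ∧ (∀ i j, i ≠ j → b i * y j * (b i)⁻¹ = y j) ∧
      closure (Set.range b) = B ∧ Nat.card B = 2 ^ u := by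
  induction n with
  | zero =>
    intro B hB
    have := Nat.card_pos (α := B)
    omega
  | succ n ih =>
    intro B hBn hB hY hsep
    by_cases hB1 : B = ⊥
    · subst hB1
      refine ⟨0, Fin.elim0, Fin.elim0, fun i => i.elim0, fun i => i.elim0, fun i => i.elim0, fun i => i.elim0,
        fun i => i.elim0, ?_, ?_⟩
      · rw [Set.range_eq_empty, Subgroup.closure_empty]
      · rw [pow_zero]; exact card_bot
    obtain ⟨b, hb, hb1⟩ : ∃ b ∈ B, b ≠ 1 := by
      by_contra hcon
      push Not at hcon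
      exact hB1 ((eq_bot_iff_forall B).mpr hcon)
    obtain ⟨y, hyY, hby⟩ := hsep b hb hb1
    have hlt : Nat.card ↥(B ⊓ centralizer {y}) < Nat.card B := by
      by_contra hge
      have heq : B ⊓ centralizer {y} = B := eq_of_le_of_card_ge inf_le_left (not_lt.mp hge)
      rw [← heq] at hb
      apply hby
      have := mem_centralizer_singleton_iff.mp hb.2
      rw [this]; group
    obtain ⟨u, ys, bs, h1, h2, h3, h4, h5, h6, h7⟩ := ih (B ⊓ centralizer {y}) (by omega)
      (fun c hc => hB c hc.1) (fun z hz c hc => hY z hz c hc.1)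
      (fun c hc hc1 => hsep c hc.1 hc1)
    -- correct `b`
    have hfix : ∀ s : Finset (Fin u), ∃ c ∈ B, c * y * c⁻¹ ≠ y ∧ ∀ i ∈ s, c * ys i * c⁻¹ = ys i := by
      intro s
      induction s using Finset.induction with
      | empty => exact ⟨b, hb, hby, by simp⟩
      | insert i s his ih2 =>
        obtain ⟨c, hc, hcy, hcs⟩ := ih2
        by_cases h8 : c * ys i * c⁻¹ = ys i
        · refine ⟨c, hc, hcy, ?_⟩
          intro j hj
          rcases Finset.mem_insert.mp hj with rfl | hj
          · exact h8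
          · exact hcs j hj
        · refine ⟨c * bs i, mul_mem hc (h2 i).1, ?_, ?_⟩
          · intro h9
            apply hcy
            have h10 : bs i * y * (bs i)⁻¹ = y := by
              have := mem_centralizer_singleton_iff.mp (h2 i).2
              rw [this]; group
            calc c * y * c⁻¹ = c * (bs i * y * (bs i)⁻¹) * c⁻¹ := by rw [h10]
              _ = (c * bs i) * y * (c * bs i)⁻¹ := by group
              _ = y := h9
          · intro j hj
            have h11 : (c * bs i) * ys j * (c * bs i)⁻¹ = c * (bs i * ys j * (bs i)⁻¹) * c⁻¹ := by group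
            rw [h11]
            rcases Finset.mem_insert.mp hj with rfl | hj
            · rw [h3]
              have h12 : c * ys j * c⁻¹ = (ys j)⁻¹ := by
                rcases hY _ (h1 j) c hc with h13 | h13
                · exact absurd h13 h8
                · exact h13
              have h13 : c * (ys j)⁻¹ * c⁻¹ = (c * ys j * c⁻¹)⁻¹ := by group
              rw [h13, h12, inv_inv]
            · have hij : i ≠ j := fun h => his (h ▸ hj)
              rw [h5 i j hij, hcs j hj]
    obtain ⟨c, hc, hcy, hcs⟩ := hfix Finset.univ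
    have hcinv : c * y * c⁻¹ = y⁻¹ := (hY y hyY c hc).resolve_left hcy
    -- elements of `B`
    have hsplit : ∀ g ∈ B, g ∈ B ⊓ centralizer {y} ∨ c⁻¹ * g ∈ B ⊓ centralizer {y} := by
      intro g hg
      rcases hY y hyY g hg with h8 | h8
      · refine Or.inl (mem_inf.mpr ⟨hg, mem_centralizer_singleton_iff.mpr ?_⟩)
        exact mul_inv_eq_iff_eq_mul.mp h8
      · refine Or.inr (mem_inf.mpr ⟨mul_mem (inv_mem hc) hg, mem_centralizer_singleton_iff.mpr ?_⟩)
        apply mul_inv_eq_iff_eq_mul.mp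
        calc c⁻¹ * g * y * (c⁻¹ * g)⁻¹ = c⁻¹ * (g * y * g⁻¹) * c := by group
          _ = c⁻¹ * (c * y * c⁻¹) * c := by rw [h8, hcinv]
          _ = y := by group
    refine ⟨u + 1, Fin.cons y ys, Fin.cons c bs, ?_, ?_, ?_, ?_, ?_, ?_, ?_⟩
    · rw [Fin.forall_fin_succ]; exact ⟨hyY, h1⟩
    · rw [Fin.forall_fin_succ]; exact ⟨hc, fun i => (h2 i).1⟩
    · rw [Fin.forall_fin_succ]; exact ⟨hcinv, h3⟩
    · rw [Fin.forall_fin_succ]; exact ⟨hcy, h4⟩
    · rw [Fin.forall_fin_succ]
      refine ⟨?_, fun i => ?_⟩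
      · rw [Fin.forall_fin_succ]
        exact ⟨fun h => absurd rfl h, fun j _ => hcs j (Finset.mem_univ j)⟩
      · rw [Fin.forall_fin_succ]
        refine ⟨fun _ => ?_, fun j hj => h5 i j (fun h => hj (by rw [h]))⟩
        have := mem_centralizer_singleton_iff.mp (h2 i).2
        show bs i * y * (bs i)⁻¹ = y
        rw [this]; group
    · rw [Fin.range_cons]
      apply le_antisymm
      · rw [closure_le]
        intro g hg
        rcases hg with rfl | ⟨i, rfl⟩
        · exact hc
        · exact (h2 i).1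
      · intro g hg
        have hle : B ⊓ centralizer {y} ≤ closure (insert c (Set.range bs)) := by
          rw [← h6]; exact closure_mono (Set.subset_insert _ _)
        rcases hsplit g hg with h8 | h8
        · exact hle h8
        · have : g = c * (c⁻¹ * g) := by group
          rw [this]
          exact mul_mem (subset_closure (Set.mem_insert _ _)) (hle h8)
    · have hidx : ((B ⊓ centralizer {y}).subgroupOf B).index = 2 := by
        rw [index_eq_two_iff]
        refine ⟨⟨c, hc⟩, fun g => ?_⟩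
        have hcc : c ∉ B ⊓ centralizer {y} := by
          intro h8
          apply hcy
          have := mem_centralizer_singleton_iff.mp h8.2
          rw [this]; group
        simp only [mem_subgroupOf, coe_mul]
        have hcomm := comm_of_sq hB g.2 hc
        by_cases h8 : (g : G) ∈ B ⊓ centralizer {y}
        · refine Or.inr ⟨h8, fun h9 => hcc ?_⟩
          exact (mul_mem_cancel_left h8).mp h9
        · refine Or.inl ⟨?_, h8⟩
          rcases hsplit g g.2 with h9 | h9
          · exact absurd h9 h8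
          · have h10 : c⁻¹ = c := inv_eq_of_mul_eq_one_left (hB c hc)
            rw [hcomm]
            rwa [h10] at h9
      have h8 := card_mul_index ((B ⊓ centralizer {y}).subgroupOf B)
      rw [hidx, Nat.card_congr (subgroupOfEquivOfLe (inf_le_left : B ⊓ centralizer {y} ≤ B)).toEquiv, h7] at h8
      rw [← h8, pow_succ]

/-- **Thompson's dihedral lemma.** -/
theorem exists_basis [Finite G] {r : ℕ} [Fact r.Prime] (hr : r ≠ 2) (A R : Subgroup G)
    (hA : ∀ a ∈ A, a * a = 1) (hR : IsPGroup r R) (hAR : ∀ a ∈ A, ∀ x ∈ R, a * x * a⁻¹ ∈ R)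
    (hf : ∀ a ∈ A, (∀ x ∈ R, a * x = x * a) → a = 1) :
    ∃ (u : ℕ) (y b : Fin u → G), (∀ i, y i ∈ R) ∧ (∀ i, b i ∈ A) ∧ (∀ i j, y i * y j = y j * y i) ∧
      (∀ i, b i * y i * (b i)⁻¹ = (y i)⁻¹) ∧ (∀ i, y i * y i ≠ 1) ∧
      (∀ i j, i ≠ j → b i * y j * (b i)⁻¹ = y j) ∧ closure (Set.range b) = A ∧ Nat.card A = 2 ^ u := by
  obtain ⟨U, hUR, hUc, hUA, hsep⟩ := exists_separating hr A R hA hR hAR hf
  obtain ⟨u, y, b, h1, h2, h3, h4, h5, h6, h7⟩ := exists_basis_aux
    {y | y ∈ U ∧ IsWeight A y ∧ y * y ≠ 1} (Nat.card A) A le_rfl hA (fun y hy => hy.2.1)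
    (fun a ha ha1 => by
      obtain ⟨y, hyU, hyw, hy1, hy2⟩ := hsep a ha ha1
      refine ⟨y, ⟨hyU, hyw, hy2⟩, ?_⟩
      rw [hy1]
      intro h
      apply hy2
      nth_rewrite 1 [← h]
      rw [inv_mul_cancel])
  exact ⟨u, y, b, fun i => hUR (h1 i).1, h2, fun i j => hUc _ (h1 i).1 _ (h1 j).1, h3, fun i => (h1 i).2.2, h5, h6, h7⟩

end Cfsg.Agent.MinSimple.DihedralBasis
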