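import Mathlib
import Cfsg.Agent.MinSimple.OddBase
import Cfsg.Agent.MinSimple.BTwoB
import Cfsg.Agent.MinSimple.DihedralBasis
import Cfsg.Agent.OddOrderLocal.FitAux
import Cfsg.Agent.Lib.GenFitting
import Cfsg.Agent.S0044

/-!
# Weights in `C_G(x)/kq V x`

* `exists_weight`: a 2-subgroup `A` of `C_G(x)` with squares in `kq V x` and `a₀ ∈ A`, `a₀ ∉ kq V x`: there is
  `y ∈ C_G(x)` of odd order inverted by `a₀` modulo `kq V x` and centralized or inverted by each element of `A`.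
* elementary facts on the action of elements of odd order of `C_G(x)` on `ws V x`.
-/

set_option autoImplicit false
set_option linter.unusedSectionVars false

namespace Cfsg.Agent.MinSimple.OddTwoWeight

open Subgroup Cfsg Cfsg.Agent.ZN Cfsg.Agent.MinSimple.Geo Cfsg.Agent.MinSimple.BTwoA
  Cfsg.Agent.MinSimple.OddLine Cfsg.Agent.MinSimple.OddBase
open Cfsg.Agent.ZN.Block (conj_mem_of_normalizer conj_mem_of_normalizer' le_normalizer_of_forall
  mem_normalizer_of)

universe u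

variable {G : Type u} [Group G]

/-! ### general facts -/

/-- lifting elements of odd order -/
theorem exists_odd_lift {X Y : Type*} [Group X] [Finite X] [Group Y] (f : X →* Y) {g : X}
    (ho : _root_.Odd (orderOf (f g))) :
    ∃ y ∈ zpowers g, _root_.Odd (orderOf y) ∧ f y = f g := by
  obtain ⟨s, q, hq, hsq⟩ := Nat.exists_eq_two_pow_mul_odd (orderOf_pos g).ne'
  have hcop : Nat.Coprime (2 ^ s) q := Nat.Coprime.pow_left s (Nat.coprime_two_left.mpr hq)
  obtain ⟨e, he0, he1⟩ := Nat.chineseRemainder hcop 0 1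
  have h2 : 2 ^ s ∣ e := (Nat.modEq_zero_iff_dvd).mp he0
  refine ⟨g ^ e, pow_mem (mem_zpowers g) e, ?_, ?_⟩
  · refine hq.of_dvd_nat (orderOf_dvd_of_pow_eq_one ?_)
    rw [← pow_mul]
    obtain ⟨k, rfl⟩ := h2
    have : 2 ^ s * k * q = orderOf g * k := by rw [hsq]; ring
    rw [this, pow_mul, pow_orderOf_eq_one, one_pow]
  · rw [map_pow]
    have h3 : orderOf (f g) ∣ q := by
      have h4 : orderOf (f g) ∣ 2 ^ s * q := by rw [← hsq]; exact orderOf_map_dvd f g
      exact (Nat.Coprime.dvd_of_dvd_mul_left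
        (Nat.Coprime.pow_right s (Nat.coprime_two_right.mpr ho)) h4)
    have h5 : e ≡ 1 [MOD orderOf (f g)] := he1.of_dvd h3
    calc f g ^ e = f g ^ 1 := pow_eq_pow_iff_modEq.mpr h5
      _ = f g := pow_one _

/-- an element of odd order is a power of its square -/
theorem exists_sq_pow {g : G} (ho : _root_.Odd (orderOf g)) : ∃ n : ℕ, (g * g) ^ n = g := by
  obtain ⟨k, hk⟩ := ho
  refine ⟨k + 1, ?_⟩
  rw [← pow_two, ← pow_mul]
  have : 2 * (k + 1) = orderOf g + 1 := by omega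
  rw [this, pow_succ, pow_orderOf_eq_one, one_mul]

/-- an element of odd order which fixes `v` modulo a central involution fixes `v` -/
theorem comm_of_odd {y v x : G} (ho : _root_.Odd (orderOf y)) (hx : y * x = x * y)
    (h : y * v * y⁻¹ = v ∨ y * v * y⁻¹ = v * x) (hxx : x * x = 1) : y * v = v * y := by
  have key : y * v * y⁻¹ = v := by
    rcases h with h | h
    · exact h
    have hp : ∀ n : ℕ, y ^ n * v * (y ^ n)⁻¹ = v * x ^ n := by
      intro n
      induction n with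
      | zero => simp
      | succ n ih =>
        have hc : Commute y (x ^ n) := (show Commute y x from hx).pow_right n
        calc y ^ (n + 1) * v * (y ^ (n + 1))⁻¹ = y * (y ^ n * v * (y ^ n)⁻¹) * y⁻¹ := by
              rw [pow_succ']; group
          _ = y * v * (x ^ n * y⁻¹) := by rw [ih]; group
          _ = y * v * (y⁻¹ * x ^ n) := by rw [hc.inv_left.eq]
          _ = (y * v * y⁻¹) * x ^ n := by group
          _ = v * x ^ (n + 1) := by rw [h, pow_succ']; group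
    have h1 := hp (orderOf y)
    rw [pow_orderOf_eq_one] at h1
    obtain ⟨k, hk⟩ := ho
    rw [hk, pow_add, pow_mul, pow_two, hxx, one_pow, one_mul, pow_one, inv_one, mul_one,
      one_mul] at h1
    rw [h, ← h1]
  calc y * v = (y * v * y⁻¹) * y := by group
    _ = v * y := by rw [key]

theorem conj_eq_iff_comm {y v : G} : y * v * y⁻¹ = v ↔ y * v = v * y := mul_inv_eq_iff_eq_mul

/-! ### existence of weights -/

section weight

variable [Finite G] {T V : Subgroup G} {z : G}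

theorem kq_normal (V : Subgroup G) (x : G) :
    ((kq V x).subgroupOf (centralizer ({x} : Set G))).Normal :=
  normal_subgroupOf_of_le_normalizer (BTwoB.centralizer_le_normalizer_kq V x)

theorem exists_weight_z (h : Geo T V z) {A : Subgroup G} (hA : A ≤ centralizer ({z} : Set G))
    (hsq : ∀ a ∈ A, a * a ∈ kq V z) {a0 : G} (ha0 : a0 ∈ A) (hne : a0 ∉ kq V z) :
    ∃ y ∈ centralizer ({z} : Set G), _root_.Odd (orderOf y) ∧ y ∉ kq V z ∧
      a0 * y * a0⁻¹ * y ∈ kq V z ∧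
      ∀ a ∈ A, a * y * a⁻¹ * y⁻¹ ∈ kq V z ∨ a * y * a⁻¹ * y ∈ kq V z := by
  haveI : Fact (Nat.Prime 2) := ⟨Nat.prime_two⟩
  set C := centralizer ({z} : Set G) with hC
  set K : Subgroup C := (kq V z).subgroupOf C with hK
  haveI hKn : K.Normal := kq_normal V z
  haveI hCs : Group.IsSolvable C := h.solv _ (isTwoLocal_centralizer h.zz h.z_ne)
  haveI hHs : Group.IsSolvable (C ⧸ K) := inferInstance
  let π : C →* C ⧸ K := QuotientGroup.mk' K
  have hπ : ∀ c : C, π c = 1 ↔ (c : G) ∈ kq V z := by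
    intro c
    change (QuotientGroup.mk c : C ⧸ K) = 1 ↔ _
    rw [QuotientGroup.eq_one_iff, hK, mem_subgroupOf]
  -- no normal 2-subgroup
  have ho : pCore 2 (C ⧸ K) = ⊥ := by
    have hpn : (pCore 2 (C ⧸ K)).Normal := Lib.Cores.pCore_normal 2
    set N : Subgroup G := ((pCore 2 (C ⧸ K)).comap π).map C.subtype with hN
    have hNC : N ≤ C := map_subtype_le _
    have hNn : C ≤ normalizer (N : Set G) := by
      refine le_normalizer_of_forall ?_
      rintro c hc _ ⟨n, hn, rfl⟩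
      refine ⟨⟨c, hc⟩ * n * ⟨c, hc⟩⁻¹, ?_, rfl⟩
      exact (hpn.comap π).conj_mem n hn _
    have h2 : ∀ x ∈ N, ∃ k : ℕ, x ^ 2 ^ k ∈ kq V z := by
      rintro _ ⟨n, hn, rfl⟩
      obtain ⟨k, hk⟩ := Lib.Cores.pCore_isPGroup (G := C ⧸ K) 2 ⟨π n, hn⟩
      refine ⟨k, ?_⟩
      have h3 : π (n ^ 2 ^ k) = 1 := by
        rw [map_pow]; exact congrArg Subtype.val hk
      exact (hπ _).mp h3
    have h3 := BTwoB.le_kq h hNC hNn h2
    rw [eq_bot_iff]
    intro q hq
    obtain ⟨c, rfl⟩ := QuotientGroup.mk'_surjective K q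
    rw [mem_bot]
    exact (hπ c).mpr (h3 ⟨c, hq, rfl⟩)
  -- the Fitting subgroup
  set F := fittingSubgroup (C ⧸ K) with hF
  have htwo : ∀ x ∈ F, x * x = 1 → x = 1 := by
    intro x hx hxx
    have h1 : x ∈ pCore 2 (C ⧸ K) := Lib.GenFitting.mem_pCore_of_mem_nilpotent_normal
      Lib.Cores.fittingSubgroup_normal Lib.Cores.fittingSubgroup_isNilpotent (k := 1) hx
      (by rw [pow_one, pow_two]; exact hxx)
    rw [ho, mem_bot] at h1
    exact h1
  have hodd : _root_.Odd (Nat.card F) := by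
    rw [← Nat.not_even_iff_odd]
    intro he
    obtain ⟨x, hx⟩ := exists_prime_orderOf_dvd_card' 2 (even_iff_two_dvd.1 he)
    have h1 : (x : C ⧸ K) * x = 1 := by
      have := pow_orderOf_eq_one x
      rw [hx, pow_two] at this
      exact congrArg Subtype.val this
    have h2 := htwo x x.2 h1
    rw [Subtype.ext (a1 := x) (a2 := 1) h2, orderOf_one] at hx
    norm_num at hx
  have hFn : F.Normal := Lib.Cores.fittingSubgroup_normal
  -- the image of `A`
  set B : Subgroup (C ⧸ K) := (A.subgroupOf C).map π with hB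
  have hBsq : ∀ b ∈ B, b * b = 1 := by
    rintro _ ⟨a, ha, rfl⟩
    rw [← map_mul, hπ]
    exact hsq _ (mem_subgroupOf.mp ha)
  set b0 : C ⧸ K := π ⟨a0, hA ha0⟩ with hb0
  have hb0B : b0 ∈ B := ⟨⟨a0, hA ha0⟩, mem_subgroupOf.mpr ha0, rfl⟩
  have hb01 : b0 ≠ 1 := fun e => hne ((hπ _).mp e)
  have hnt : ∃ x ∈ F, b0 * x * b0⁻¹ ≠ x := by
    by_contra hcon
    push Not at hcon
    apply hb01
    refine htwo b0 (S0044.result ?_) (hBsq b0 hb0B)
    rw [mem_centralizer_iff]
    intro x hx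
    exact (conj_eq_iff_comm.mp (hcon x hx)).symm
  obtain ⟨y1, hy1F, hw, hinv, hyy⟩ := DihedralBasis.exists_weight B hBsq (Nat.card F) F le_rfl hodd
    (fun a _ x hx => hFn.conj_mem x hx a) b0 hb0B hnt
  obtain ⟨y2, hy2⟩ := QuotientGroup.mk'_surjective K y1
  have hy1o : _root_.Odd (orderOf (π y2)) := by
    have : π y2 = y1 := hy2
    rw [this]
    refine hodd.of_dvd_nat ?_
    have h1 : orderOf (⟨y1, hy1F⟩ : F) ∣ Nat.card F := orderOf_dvd_natCard _
    rwa [Subgroup.orderOf_mk] at h1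
  obtain ⟨y, -, hyo, hy⟩ := exists_odd_lift π hy1o
  have hy' : π y = y1 := hy.trans hy2
  refine ⟨y, y.2, by rwa [Subgroup.orderOf_coe], ?_, ?_, ?_⟩
  · intro hk
    apply hyy
    rw [← hy', (hπ y).mpr hk, mul_one]
  · have : π (⟨a0, hA ha0⟩ * y * ⟨a0, hA ha0⟩⁻¹ * y) = 1 := by
      rw [map_mul, map_mul, map_mul, map_inv, hy', ← hb0, hinv, inv_mul_cancel]
    exact (hπ _).mp this
  · intro a ha
    rcases hw (π ⟨a, hA ha⟩) ⟨⟨a, hA ha⟩, mem_subgroupOf.mpr ha, rfl⟩ with e | e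
    · left
      have : π (⟨a, hA ha⟩ * y * ⟨a, hA ha⟩⁻¹ * y⁻¹) = 1 := by
        rw [map_mul, map_mul, map_mul, map_inv, map_inv, hy', e, mul_inv_cancel]
      exact (hπ _).mp this
    · right
      have : π (⟨a, hA ha⟩ * y * ⟨a, hA ha⟩⁻¹ * y) = 1 := by
        rw [map_mul, map_mul, map_mul, map_inv, hy', e, inv_mul_cancel]
      exact (hπ _).mp this

/-- **weights** -/
theorem exists_weight (h : OddLine.Odd T V z) {x : G} (hx : Pt z x) {A : Subgroup G}
    (hA : A ≤ centralizer ({x} : Set G)) (hsq : ∀ a ∈ A, a * a ∈ kq V x) {a0 : G} (ha0 : a0 ∈ A)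
    (hne : a0 ∉ kq V x) :
    ∃ y ∈ centralizer ({x} : Set G), _root_.Odd (orderOf y) ∧ y ∉ kq V x ∧
      a0 * y * a0⁻¹ * y ∈ kq V x ∧
      ∀ a ∈ A, a * y * a⁻¹ * y⁻¹ ∈ kq V x ∨ a * y * a⁻¹ * y ∈ kq V x := by
  obtain ⟨g, -, h1⟩ := exists_odd h hx
  have := exists_weight_z h1.toGeo (A := A) hA (by rw [kq_cj_left]; exact hsq) ha0
    (by rw [kq_cj_left]; exact hne)
  rw [kq_cj_left] at this
  exact this

end weight

/-! ### the action of an element of odd order on an elementary abelian group -/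

section uu

/-- `[W, y]` -/
def uu (W : Subgroup G) (y : G) : Subgroup G := closure {u | ∃ v ∈ W, u = v * (y * v * y⁻¹)}

/-- an elementary abelian 2-subgroup `W` with an element `y` of odd order normalizing it -/
structure Act (W : Subgroup G) (y : G) : Prop where
  sq : ∀ w ∈ W, w * w = 1
  odd : _root_.Odd (orderOf y)
  conj : ∀ w ∈ W, y * w * y⁻¹ ∈ W

variable {W : Subgroup G} {y : G}

namespace Act

theorem inv_eq (h : Act W y) {w : G} (hw : w ∈ W) : w⁻¹ = w := inv_eq_self (h.sq w hw)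

theorem comm (h : Act W y) {a b : G} (ha : a ∈ W) (hb : b ∈ W) : a * b = b * a := by
  have h1 := h.inv_eq (mul_mem ha hb)
  rw [mul_inv_rev, h.inv_eq ha, h.inv_eq hb] at h1
  exact h1.symm

theorem conj_pow (h : Act W y) {w : G} (hw : w ∈ W) (n : ℕ) : y ^ n * w * (y ^ n)⁻¹ ∈ W := by
  induction n with
  | zero => simpa using hw
  | succ n ih =>
    have := h.conj _ ih
    have e : y ^ (n + 1) * w * (y ^ (n + 1))⁻¹ = y * (y ^ n * w * (y ^ n)⁻¹) * y⁻¹ := by
      rw [pow_succ']; group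
    rw [e]; exact this

variable [Finite G]

theorem exists_inv (y : G) : ∃ n : ℕ, y⁻¹ = y ^ n := by
  have h : y⁻¹ ∈ Submonoid.powers y := by
    rw [mem_powers_iff_mem_zpowers]
    exact inv_mem (mem_zpowers y)
  obtain ⟨n, hn⟩ := h
  exact ⟨n, hn.symm⟩

theorem conj' (h : Act W y) {w : G} (hw : w ∈ W) : y⁻¹ * w * y ∈ W := by
  obtain ⟨n, hn⟩ := exists_inv y
  have := h.conj_pow hw n
  rwa [← hn, inv_inv] at this

theorem mem_uu (h : Act W y) {u : G} : u ∈ uu W y ↔ ∃ v ∈ W, u = v * (y * v * y⁻¹) := by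
  constructor
  · intro hu
    let A : Subgroup G :=
      { carrier := {u | ∃ v ∈ W, u = v * (y * v * y⁻¹)}
        mul_mem' := by
          rintro _ _ ⟨a, ha, rfl⟩ ⟨b, hb, rfl⟩
          refine ⟨a * b, mul_mem ha hb, ?_⟩
          have hc := h.comm hb (h.conj a ha)
          calc a * (y * a * y⁻¹) * (b * (y * b * y⁻¹)) = a * ((y * a * y⁻¹) * b) * (y * b * y⁻¹) := by
                group
            _ = a * (b * (y * a * y⁻¹)) * (y * b * y⁻¹) := by rw [hc]
            _ = a * b * (y * (a * b) * y⁻¹) := by group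
        one_mem' := ⟨1, one_mem _, by group⟩
        inv_mem' := by
          rintro _ ⟨a, ha, rfl⟩
          refine ⟨a, ha, ?_⟩
          have hm : a * (y * a * y⁻¹) ∈ W := mul_mem ha (h.conj a ha)
          exact h.inv_eq hm }
    have hle : uu W y ≤ A := (closure_le A).mpr (fun _ hu => hu)
    exact hle hu
  · rintro ⟨v, hv, rfl⟩
    exact subset_closure ⟨v, hv, rfl⟩

theorem uu_le (h : Act W y) : uu W y ≤ W := by
  intro u hu
  obtain ⟨v, hv, rfl⟩ := h.mem_uu.mp hu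
  exact mul_mem hv (h.conj v hv)

theorem uu_conj (h : Act W y) {u : G} (hu : u ∈ uu W y) : y * u * y⁻¹ ∈ uu W y := by
  obtain ⟨v, hv, rfl⟩ := h.mem_uu.mp hu
  exact h.mem_uu.mpr ⟨y * v * y⁻¹, h.conj v hv, by group⟩

theorem uu_conj' (h : Act W y) {u : G} (hu : u ∈ uu W y) : y⁻¹ * u * y ∈ uu W y := by
  obtain ⟨v, hv, rfl⟩ := h.mem_uu.mp hu
  exact h.mem_uu.mpr ⟨y⁻¹ * v * y, h.conj' hv, by group⟩

/-- `y` has no fixed point on `[W, y]` -/
theorem eq_one (h : Act W y) {u : G} (hu : u ∈ uu W y) (hc : y * u = u * y) : u = 1 := by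
  obtain ⟨v, hv, rfl⟩ := h.mem_uu.mp hu
  set u := v * (y * v * y⁻¹) with hu'
  have huu := h.sq u (h.uu_le hu)
  have h1 : y * v * y⁻¹ = v * u := by
    rw [hu', ← mul_assoc, h.sq v hv, one_mul]
  have h2 := comm_of_odd h.odd hc (Or.inr h1) huu
  rw [hu']
  have h3 : y * v * y⁻¹ = v := conj_eq_iff_comm.mpr h2
  rw [h3, h.sq v hv]

/-- `W = [W, y] × C_W(y)` -/
theorem exists_decomp (h : Act W y) {v : G} (hv : v ∈ W) :
    ∃ u ∈ uu W y, ∃ c ∈ W, y * c = c * y ∧ v = u * c := by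
  let φ : uu W y → uu W y := fun u => ⟨u * (y * u * y⁻¹), mul_mem u.2 (h.uu_conj u.2)⟩
  have hinj : Function.Injective φ := by
    rintro ⟨a, ha⟩ ⟨b, hb⟩ hab
    have hab' : a * (y * a * y⁻¹) = b * (y * b * y⁻¹) := congrArg Subtype.val hab
    have haW := h.uu_le ha
    have hbW := h.uu_le hb
    have h1 : y * (a * b) * y⁻¹ = a * b := by
      have e1 : y * a * y⁻¹ = a * (b * (y * b * y⁻¹)) := by
        rw [← hab', ← mul_assoc, h.sq a haW, one_mul]
      calc y * (a * b) * y⁻¹ = (y * a * y⁻¹) * (y * b * y⁻¹) := by group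
        _ = a * b * ((y * b * y⁻¹) * (y * b * y⁻¹)) := by rw [e1]; group
        _ = a * b := by rw [h.sq _ (h.conj b hbW), mul_one]
    have h2 := h.eq_one (mul_mem ha hb) (conj_eq_iff_comm.mp h1)
    apply Subtype.ext
    change a = b
    rw [eq_inv_of_mul_eq_one_left h2, h.inv_eq hbW]
  have hsurj := Finite.surjective_of_injective hinj
  obtain ⟨⟨u, hu⟩, hφ⟩ := hsurj ⟨v * (y * v * y⁻¹), h.mem_uu.mpr ⟨v, hv, rfl⟩⟩
  have hφ' : u * (y * u * y⁻¹) = v * (y * v * y⁻¹) := congrArg Subtype.val hφ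
  have huW := h.uu_le hu
  refine ⟨u, hu, u * v, mul_mem huW hv, ?_, ?_⟩
  · apply conj_eq_iff_comm.mp
    have e1 : y * v * y⁻¹ = v * (u * (y * u * y⁻¹)) := by
      rw [hφ', ← mul_assoc, h.sq v hv, one_mul]
    have hc1 := h.comm (h.conj u huW) hv
    have hc2 := h.comm (h.conj u huW) huW
    calc y * (u * v) * y⁻¹ = (y * u * y⁻¹) * (y * v * y⁻¹) := by group
      _ = (y * u * y⁻¹) * v * (u * (y * u * y⁻¹)) := by rw [e1]; group
      _ = v * (y * u * y⁻¹) * (u * (y * u * y⁻¹)) := by rw [hc1]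
      _ = v * ((y * u * y⁻¹) * u) * (y * u * y⁻¹) := by group
      _ = v * (u * (y * u * y⁻¹)) * (y * u * y⁻¹) := by rw [hc2]
      _ = v * u * ((y * u * y⁻¹) * (y * u * y⁻¹)) := by group
      _ = u * v := by rw [h.sq _ (h.conj u huW), mul_one, h.comm hv huW]
  · rw [← mul_assoc, h.sq u huW, one_mul]

theorem comm_of_sq (h : Act W y) {u : G} (hc : y * y * u = u * (y * y)) : y * u = u * y := by
  obtain ⟨n, hn⟩ := exists_sq_pow h.odd
  have h1 : Commute (y * y) u := hc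
  have h2 := h1.pow_left n
  rw [hn] at h2
  exact h2

end Act

/-- the group `[W, y]` is a four-group -/
structure Four (W : Subgroup G) (y : G) : Prop extends Act W y where
  cases : ∀ u ∈ uu W y, u ≠ 1 → ∀ u' ∈ uu W y, u' = 1 ∨ u' = u ∨ u' = y * u * y⁻¹ ∨
    u' = u * (y * u * y⁻¹)

end uu

/-! ### the action of `C_G(x)` on `ws V x` modulo `kq V x` -/

section side

variable [Finite G] {T V : Subgroup G} {z x : G}

theorem kq_cases (h : OddLine.Odd T V z) (hx : Pt z x) {k v : G} (hk : k ∈ kq V x)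
    (hv : v ∈ ws V x) : k * v * k⁻¹ = v ∨ k * v * k⁻¹ = v * x := by
  have hxx := OddBase.Pt.sq h.toGeo hx
  have h1 := (mem_kq'.mp hk).2.1 v hv
  rcases (mem_zpowers_iff_of_mul_self hxx).mp h1 with e | e
  · left
    exact mul_inv_eq_one.mp e
  · right
    have e1 : k * v * k⁻¹ = x * v := mul_inv_eq_iff_eq_mul.mp e
    rw [e1]
    exact OddBase.ws_comm h hx (self_mem_ws h.toGeo hx) hv

theorem kq_cases' (h : OddLine.Odd T V z) (hx : Pt z x) {k v : G} (hk : k ∈ kq V x)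
    (hv : v ∈ ws V x) : k⁻¹ * v * k = v ∨ k⁻¹ * v * k = v * x := by
  have := kq_cases h hx (inv_mem hk) hv
  rwa [inv_inv] at this

/-- elements of odd order of `C_G(x)` act on `ws V x` -/
theorem act (h : OddLine.Odd T V z) (hx : Pt z x) {y : G} (hy : y ∈ centralizer ({x} : Set G))
    (ho : _root_.Odd (orderOf y)) : Act (ws V x) y where
  sq := fun _ hw => OddBase.ws_sq h hx hw
  odd := ho
  conj := fun _ hw => conj_mem_of_normalizer (Geo.centralizer_le_normalizer_ws V x) hy hw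

theorem conj_mem {w v : G} (hw : w ∈ centralizer ({x} : Set G)) (hv : v ∈ ws V x) :
    w * v * w⁻¹ ∈ ws V x :=
  conj_mem_of_normalizer (Geo.centralizer_le_normalizer_ws V x) hw hv

/-- an element normalizing `⟨y⟩` modulo `kq V x` normalizes `C(y)` in `ws V x` -/
theorem comm_conj (h : OddLine.Odd T V z) (hx : Pt z x) {y w c : G}
    (hy : y ∈ centralizer ({x} : Set G)) (ho : _root_.Odd (orderOf y))
    (hw : w ∈ centralizer ({x} : Set G))
    (hn : w * y * w⁻¹ * y⁻¹ ∈ kq V x ∨ w * y * w⁻¹ * y ∈ kq V x) (hc : c ∈ ws V x)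
    (hyc : y * c = c * y) : y * (w * c * w⁻¹) = w * c * w⁻¹ * y := by
  have hxx := OddBase.Pt.sq h.toGeo hx
  have hyx : y * x = x * y := mem_centralizer_singleton_iff.mp hy
  have hc' := conj_mem (V := V) hw hc
  set c' := w * c * w⁻¹ with hc'd
  have hg : (w * y * w⁻¹) * c' * (w * y * w⁻¹)⁻¹ = c' := by
    calc (w * y * w⁻¹) * c' * (w * y * w⁻¹)⁻¹ = w * (y * c * y⁻¹) * w⁻¹ := by rw [hc'd]; group
      _ = c' := by rw [conj_eq_iff_comm.mpr hyc]
  rcases hn with hk | hk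
  · set k := w * y * w⁻¹ * y⁻¹ with hkd
    have e : w * y * w⁻¹ = k * y := by rw [hkd]; group
    rw [e] at hg
    have e2 : y * c' * y⁻¹ = k⁻¹ * c' * k := by
      nth_rewrite 2 [← hg]; group
    refine comm_of_odd ho hyx ?_ hxx
    rw [e2]
    exact kq_cases' h hx hk hc'
  · set k := w * y * w⁻¹ * y with hkd
    have e : w * y * w⁻¹ = k * y⁻¹ := by rw [hkd]; group
    rw [e] at hg
    have e2 : y⁻¹ * c' * y = k⁻¹ * c' * k := by
      nth_rewrite 2 [← hg]; group
    refine comm_of_odd ho hyx ?_ hxx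
    rcases kq_cases' h hx hk hc' with e3 | e3
    · left
      rw [e3] at e2
      calc y * c' * y⁻¹ = y * (y⁻¹ * c' * y) * y⁻¹ := by rw [e2]
        _ = c' := by group
    · right
      rw [e3] at e2
      have e4 : c' = y * c' * y⁻¹ * x := by
        calc c' = y * (y⁻¹ * c' * y) * y⁻¹ := by group
          _ = y * c' * (x * y⁻¹) := by rw [e2]; group
          _ = y * c' * (y⁻¹ * x) := by
            have : Commute y⁻¹ x := (show Commute y x from hyx).inv_left
            rw [this.eq]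
          _ = y * c' * y⁻¹ * x := by group
      calc y * c' * y⁻¹ = (y * c' * y⁻¹ * x) * x := by rw [mul_assoc _ x x, hxx, mul_one]
        _ = c' * x := by rw [← e4]

/-- an element normalizing `⟨y⟩` modulo `kq V x` normalizes `[W, y]⟨x⟩` -/
theorem uu_conj_cases (h : OddLine.Odd T V z) (hx : Pt z x) {y w u : G}
    (hy : y ∈ centralizer ({x} : Set G)) (ho : _root_.Odd (orderOf y))
    (hw : w ∈ centralizer ({x} : Set G))
    (hn : w * y * w⁻¹ * y⁻¹ ∈ kq V x ∨ w * y * w⁻¹ * y ∈ kq V x) (hu : u ∈ uu (ws V x) y) :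
    ∃ u' ∈ uu (ws V x) y, w * u * w⁻¹ = u' ∨ w * u * w⁻¹ = u' * x := by
  have ha := act h hx hy ho
  obtain ⟨v, hv, rfl⟩ := ha.mem_uu.mp hu
  have hv' := conj_mem (V := V) hw hv
  set v' := w * v * w⁻¹ with hv'd
  have e0 : w * (v * (y * v * y⁻¹)) * w⁻¹ = v' * ((w * y * w⁻¹) * v' * (w * y * w⁻¹)⁻¹) := by
    rw [hv'd]; group
  rw [e0]
  rcases hn with hk | hk
  · set k := w * y * w⁻¹ * y⁻¹ with hkd
    have e : w * y * w⁻¹ = k * y := by rw [hkd]; group
    refine ⟨v' * (y * v' * y⁻¹), ha.mem_uu.mpr ⟨v', hv', rfl⟩, ?_⟩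
    have e2 : (w * y * w⁻¹) * v' * (w * y * w⁻¹)⁻¹ = k * (y * v' * y⁻¹) * k⁻¹ := by
      rw [e]; group
    rw [e2]
    rcases kq_cases h hx hk (ha.conj v' hv') with e3 | e3
    · left; rw [e3]
    · right; rw [e3]; group
  · set k := w * y * w⁻¹ * y with hkd
    have e : w * y * w⁻¹ = k * y⁻¹ := by rw [hkd]; group
    refine ⟨v' * (y⁻¹ * v' * y), ?_, ?_⟩
    · have h1 := ha.uu_conj' (ha.mem_uu.mpr ⟨v', hv', rfl⟩)
      have h2 := ha.comm hv' (ha.conj v' hv')
      rw [h2] at h1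
      have e3 : y⁻¹ * (y * v' * y⁻¹ * v') * y = v' * (y⁻¹ * v' * y) := by group
      rwa [e3] at h1
    · have e2 : (w * y * w⁻¹) * v' * (w * y * w⁻¹)⁻¹ = k * (y⁻¹ * v' * y) * k⁻¹ := by
        rw [e]; group
      rw [e2]
      rcases kq_cases h hx hk (ha.conj' hv') with e3 | e3
      · left; rw [e3]
      · right; rw [e3]; group

theorem mem_kq_of_comm {y : G} (hy : y ∈ centralizer ({x} : Set G))
    (hc : ∀ v ∈ ws V x, y * v = v * y) : y ∈ kq V x := by
  refine mem_kq'.mpr ⟨hy, fun v hv => ?_, fun v hv => ?_⟩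
  · rw [hc v hv]; simp
  · have : y⁻¹ * v * y = v := by rw [mul_assoc, ← hc v hv]; group
    rw [this, mul_inv_cancel]; exact one_mem _

theorem exists_uu (h : OddLine.Odd T V z) (hx : Pt z x) {y : G}
    (hy : y ∈ centralizer ({x} : Set G)) (ho : _root_.Odd (orderOf y)) (hyK : y ∉ kq V x) :
    ∃ u ∈ uu (ws V x) y, u ≠ 1 := by
  have ha := act h hx hy ho
  by_contra hcon
  push Not at hcon
  apply hyK
  refine mem_kq_of_comm hy fun v hv => ?_
  have h1 := hcon _ (ha.mem_uu.mpr ⟨v, hv, rfl⟩)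
  have h2 : y * v * y⁻¹ = v := by
    have h3 := eq_inv_of_mul_eq_one_right h1
    rw [h3, ha.inv_eq hv]
  exact conj_eq_iff_comm.mp h2

/-- `[W, y]` meets `C(w) ∩ C(w^y)` trivially if `w` inverts `y` -/
theorem eq_one_of_comm (h : OddLine.Odd T V z) (hx : Pt z x) {y w u : G}
    (hy : y ∈ centralizer ({x} : Set G)) (ho : _root_.Odd (orderOf y))
    (hinv : w * y * w⁻¹ * y ∈ kq V x) (hwn : w ∈ centralizer ({x} : Set G))
    (hu : u ∈ uu (ws V x) y) (h1 : w * u = u * w)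
    (h2 : y * w * y⁻¹ * u = u * (y * w * y⁻¹)) : u = 1 := by
  have ha := act h hx hy ho
  have hxx := OddBase.Pt.sq h.toGeo hx
  have hyx : y * x = x * y := mem_centralizer_singleton_iff.mp hy
  refine ha.eq_one hu (ha.comm_of_sq ?_)
  have huW := ha.uu_le hu
  set k := w * y * w⁻¹ * y with hk
  have e1 : w * (y * w * y⁻¹)⁻¹ = k * (y * y)⁻¹ := by rw [hk]; group
  have hcu : k * (y * y)⁻¹ * u = u * (k * (y * y)⁻¹) := by
    rw [← e1]
    have c1 : Commute w u := h1
    have c2 : Commute (y * w * y⁻¹) u := h2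
    exact (c1.mul_left c2.inv_left).eq
  have e2 : (y * y)⁻¹ * u * (y * y)⁻¹⁻¹ = k⁻¹ * u * k := by
    generalize (y * y)⁻¹ = Y at hcu
    calc Y * u * Y⁻¹ = k⁻¹ * (k * Y * u) * Y⁻¹ := by group
      _ = k⁻¹ * (u * (k * Y)) * Y⁻¹ := by rw [hcu]
      _ = k⁻¹ * u * k := by group
  have ho2 : _root_.Odd (orderOf (y * y)⁻¹) := by
    rw [orderOf_inv]
    refine ho.of_dvd_nat (orderOf_dvd_of_pow_eq_one ?_)
    rw [← pow_two, ← pow_mul, mul_comm, pow_mul, pow_orderOf_eq_one, one_pow]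
  have hyyx : (y * y)⁻¹ * x = x * (y * y)⁻¹ := by
    have c : Commute y x := hyx
    exact (c.mul_left c).inv_left.eq
  have c3 : Commute (y * y)⁻¹ u := comm_of_odd ho2 hyyx (by rw [e2]; exact kq_cases' h hx hinv huW) hxx
  have := c3.inv_left
  rw [inv_inv] at this
  exact this

/-- **the four-group `[W, y]`** -/
theorem four (h : OddLine.Odd T V z) (hx : Pt z x) {y w : G}
    (hy : y ∈ centralizer ({x} : Set G)) (ho : _root_.Odd (orderOf y)) (hyK : y ∉ kq V x)
    (hwn : w ∈ centralizer ({x} : Set G)) (hinv : w * y * w⁻¹ * y ∈ kq V x)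
    (hidx : ∀ v ∈ ws V x, ∀ v' ∈ ws V x, w * v ≠ v * w → w * v' ≠ v' * w →
      w * (v * v') = v * v' * w) :
    Four (ws V x) y ∧ ∃ u0 ∈ uu (ws V x) y, u0 ≠ 1 ∧ w * u0 = u0 * w ∧
      ∀ u ∈ uu (ws V x) y, u ≠ 1 → w * u = u * w → u = u0 := by
  have ha := act h hx hy ho
  -- two elements of `uu` commuting with `w` are equal
  have huniq : ∀ u ∈ uu (ws V x) y, ∀ u' ∈ uu (ws V x) y, u ≠ 1 → u' ≠ 1 → w * u = u * w →
      w * u' = u' * w → u = u' := by
    intro u hu u' hu' hu1 hu'1 hwu hwu'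
    have hn : ∀ u ∈ uu (ws V x) y, u ≠ 1 → w * u = u * w → w * (y⁻¹ * u * y) ≠ (y⁻¹ * u * y) * w := by
      intro u hu hu1 hwu hc
      apply hu1
      refine eq_one_of_comm h hx hy ho hinv hwn hu hwu ?_
      calc y * w * y⁻¹ * u = y * (w * (y⁻¹ * u * y)) * y⁻¹ := by group
        _ = y * ((y⁻¹ * u * y) * w) * y⁻¹ := by rw [hc]
        _ = u * (y * w * y⁻¹) := by group
    have h1 := hidx _ (ha.conj' (ha.uu_le hu)) _ (ha.conj' (ha.uu_le hu')) (hn u hu hu1 hwu)
      (hn u' hu' hu'1 hwu')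
    have h2 : y⁻¹ * u * y * (y⁻¹ * u' * y) = y⁻¹ * (u * u') * y := by group
    rw [h2] at h1
    have c1 : Commute w u := hwu
    have c2 : Commute w u' := hwu'
    by_contra hne
    have h3 : u * u' ≠ 1 := fun e => hne (by
      rw [eq_inv_of_mul_eq_one_left e, ha.inv_eq (ha.uu_le hu')])
    exact hn (u * u') (mul_mem hu hu') h3 (c1.mul_right c2).eq h1
  obtain ⟨a, haU, ha1⟩ := exists_uu h hx hy ho hyK
  set b := y * a * y⁻¹ with hb
  have hbU := ha.uu_conj haU
  have hb1 : b ≠ 1 := conj_ne_one ha1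
  have hab : a ≠ b := fun e => ha1 (ha.eq_one haU (conj_eq_iff_comm.mp e.symm))
  have hab1 : a * b ≠ 1 := fun e => hab (by
    rw [eq_inv_of_mul_eq_one_left e, ha.inv_eq (ha.uu_le hbU)])
  have hex : ∃ u0 ∈ uu (ws V x) y, u0 ≠ 1 ∧ w * u0 = u0 * w := by
    by_cases c1 : w * a = a * w
    · exact ⟨a, haU, ha1, c1⟩
    by_cases c2 : w * b = b * w
    · exact ⟨b, hbU, hb1, c2⟩
    exact ⟨a * b, mul_mem haU hbU, hab1, hidx a (ha.uu_le haU) b (ha.uu_le hbU) c1 c2⟩
  obtain ⟨u0, hu0, hu01, hwu0⟩ := hex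
  refine ⟨⟨ha, ?_⟩, u0, hu0, hu01, hwu0, fun u hu hu1 hwu => huniq u hu u0 hu0 hu1 hu01 hwu hwu0⟩
  intro u hu hu1 u' hu'
  have huW := ha.uu_le hu
  have hu'W := ha.uu_le hu'
  by_cases hu'1 : u' = 1
  · exact Or.inl hu'1
  right
  set v := y * u * y⁻¹ with hv
  have hvU := ha.uu_conj hu
  have hv1 : v ≠ 1 := conj_ne_one hu1
  have huv : u ≠ v := fun e => hu1 (ha.eq_one hu (conj_eq_iff_comm.mp e.symm))
  have huv1 : u * v ≠ 1 := fun e => huv (by
    rw [eq_inv_of_mul_eq_one_left e, ha.inv_eq (ha.uu_le hvU)])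
  have hvW := ha.uu_le hvU
  have hcuv := ha.comm huW hvW
  -- the fixed element is one of `u`, `v`, `u * v`
  have hu0c : u0 = u ∨ u0 = v ∨ u0 = u * v := by
    by_cases c1 : w * u = u * w
    · exact Or.inl (huniq u0 hu0 u hu hu01 hu1 hwu0 c1)
    by_cases c2 : w * v = v * w
    · exact Or.inr (Or.inl (huniq u0 hu0 v hvU hu01 hv1 hwu0 c2))
    exact Or.inr (Or.inr (huniq u0 hu0 (u * v) (mul_mem hu hvU) hu01 huv1 hwu0
      (hidx u huW v hvW c1 c2)))
  have hmul : ∀ e ∈ uu (ws V x) y, w * e ≠ e * w → u' ≠ e → w * u' ≠ u' * w → u' = u0 * e := by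
    intro e he hwe hne hwu'
    have heW := ha.uu_le he
    have h1 := hidx u' hu'W e heW hwu' hwe
    have h2 : u' * e ≠ 1 := fun e2 => hne (by
      rw [eq_inv_of_mul_eq_one_left e2, ha.inv_eq heW])
    have h3 := huniq (u' * e) (mul_mem hu' he) u0 hu0 h2 hu01 h1 hwu0
    rw [← h3, mul_assoc, ha.sq e heW, mul_one]
  by_cases hwu' : w * u' = u' * w
  · have h1 := huniq u' hu' u0 hu0 hu'1 hu01 hwu' hwu0
    rw [h1]; exact hu0c
  · by_cases c1 : w * u = u * w
    · -- `u0 = u`, `v` does not commute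
      have h0 := huniq u0 hu0 u hu hu01 hu1 hwu0 c1
      have c2 : w * v ≠ v * w := fun c2 => huv (huniq u hu v hvU hu1 hv1 c1 c2)
      by_cases hne : u' = v
      · exact Or.inr (Or.inl hne)
      · right; right
        rw [hmul v hvU c2 hne hwu', h0]
    · by_cases hne : u' = u
      · exact Or.inl hne
      have h1 := hmul u hu c1 hne hwu'
      rcases hu0c with h0 | h0 | h0
      · exact absurd (h0 ▸ hwu0) c1
      · right; right
        rw [h1, h0, hcuv]
      · right; left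
        rw [h1, h0, mul_assoc, ← hcuv, ← mul_assoc, ha.sq u huW, one_mul]

end side

end Cfsg.Agent.MinSimple.OddTwoWeight
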