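import Cfsg.Agent.MinSimple.OddThreeMod
import Cfsg.Agent.MinSimple.OddTwoWeight
import Cfsg.Agent.MinSimple.OddRep

/-!
# (E1)(b), `n ≥ 3`: Theorem M

For a critical pair `p`, `q` with `p ∈ ws V q` we have `ws V q ≤ kq V p`, if the centralizers of the points are
maximal among the 2-locals.
-/

set_option autoImplicit false
set_option linter.unusedSectionVars false

namespace Cfsg.Agent.MinSimple.OddThreeM

open Subgroup Cfsg Cfsg.Agent.ZN Cfsg.Agent.MinSimple.Geo Cfsg.Agent.MinSimple.BTwoA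
  Cfsg.Agent.MinSimple.OddLine Cfsg.Agent.MinSimple.OddBase Cfsg.Agent.MinSimple.SecRep
  Cfsg.Agent.MinSimple.OddRep Cfsg.Agent.MinSimple.OddThreeMod
open Cfsg.Agent.ZN.Block (conj_mem_of_normalizer conj_mem_of_normalizer' le_normalizer_of_forall
  mem_normalizer_of)

universe u

variable {G : Type u} [Group G] [Finite G] {T V : Subgroup G} {z : G} {n : ℕ}

/-- `tt V j w` is abelian if `2 * j < n` -/
theorem tt_comm (h : OddN T V z n) {j : ℕ} (hj : j + j < n) {w : G} (hw : Pt z w) {a b : G}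
    (ha : a ∈ tt V j w) (hb : b ∈ tt V j w) : a * b = b * a := by
  have h1 : ∀ y, Walk V j w y → tt V j w ≤ centralizer (ws V y : Set G) := by
    intro y hy
    refine tt_le fun y' hy' b hb => mem_centralizer_iff.mpr fun a ha => ?_
    exact h.lt y y' (j + j) hj (Walk.pt h.toGeo hw hy) (hy.symm.trans hy') a ha b hb
  have h2 : tt V j w ≤ centralizer ({b} : Set G) := by
    refine tt_le fun y hy a ha => mem_centralizer_singleton_iff.mpr ?_
    exact mem_centralizer_iff.mp (h1 y hy hb) a ha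
  exact mem_centralizer_singleton_iff.mp (h2 ha)

theorem tt_sq (h : OddN T V z n) {j : ℕ} (hj : j + j < n) {w : G} (hw : Pt z w) {a : G}
    (ha : a ∈ tt V j w) : a * a = 1 := by
  let B : Subgroup G :=
    { carrier := {b | b ∈ tt V j w ∧ b * b = 1}
      mul_mem' := by
        rintro a b ⟨ha, ha1⟩ ⟨hb, hb1⟩
        refine ⟨mul_mem ha hb, ?_⟩
        calc a * b * (a * b) = a * (b * a) * b := by group
          _ = (a * a) * (b * b) := by rw [tt_comm h hj hw hb ha]; group
          _ = 1 := by rw [ha1, hb1, one_mul]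
      one_mem' := ⟨one_mem _, one_mul 1⟩
      inv_mem' := by
        rintro a ⟨ha, ha1⟩
        refine ⟨inv_mem ha, ?_⟩
        have : a⁻¹ * a⁻¹ = (a * a)⁻¹ := by group
        rw [this, ha1, inv_one] }
  have h1 : tt V j w ≤ B := tt_le fun y hy a ha => ⟨ws_le_tt hy ha, ws_sq h.toOdd (Walk.pt h.toGeo hw hy) ha⟩
  exact (h1 ha).2

/-- `tt V j w` centralizes `ws V q` if `d(w, q) ≤ i`, `i + j < n` -/
theorem tt_le_centralizer (h : OddN T V z n) {i j : ℕ} (hj : i + j < n) {q w : G} (hq : Pt z q)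
    (hw : Walk V i q w) : tt V j w ≤ centralizer (ws V q : Set G) :=
  tt_le fun y hy b hb => mem_centralizer_iff.mpr fun a ha => h.lt q y (i + j) hj hq (hw.trans hy) a ha b hb

/-- if all points collinear with `q` are in `kq V p`, then so is `ws V q` -/
theorem exists_col_notMem (h : Odd T V z) {q : G} (hq : Pt z q) {K : Subgroup G} (hK : ¬ ws V q ≤ K) :
    ∃ w, Col V q w ∧ w ∉ K := by
  by_contra hcon
  push Not at hcon
  apply hK
  have hq1 := OddBase.Pt.ne_one h.toGeo hq
  have hqq := OddBase.Pt.sq h.toGeo hq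
  refine ws_le fun L hL x hx => ?_
  have hL' := hL
  obtain ⟨⟨g, rfl⟩, hqL⟩ := hL
  by_cases hx1 : x = 1
  · rw [hx1]; exact one_mem _
  by_cases hxq : x = q
  · rw [hxq]
    obtain ⟨T', h'⟩ := h.line hqL hq1
    obtain ⟨y, hy, hy1, hyq⟩ := h'.toGeo.exists_y
    have hqy : q * y ≠ 1 := fun e => hyq (by
      rw [mul_eq_one_iff_eq_inv.mp e, h'.toGeo.inv_eq hy])
    have h1 := hcon y ⟨hq1, hy1, Ne.symm hyq, _, hL', hy⟩
    have h2 := hcon (q * y) ⟨hq1, hqy, fun e => hy1 (by simpa using e.symm), _, hL', mul_mem hqL hy⟩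
    have h3 := mul_mem h2 (inv_mem h1)
    rwa [mul_inv_cancel_right] at h3
  · exact hcon x ⟨hq1, hx1, Ne.symm hxq, _, hL', hx⟩

/-- the centralizers of the points are maximal among the 2-locals -/
def Max1 (z : G) : Prop := ∀ w, Pt z w → ∀ R : Subgroup G, IsPGroup 2 R → R ≠ ⊥ →
  centralizer ({w} : Set G) ≤ normalizer (R : Set G) → normalizer (R : Set G) ≤ centralizer ({w} : Set G)

/-- a weight of an elementary abelian group acting on `ws V p`, in the module -/
theorem exists_weight_rep (h : Odd T V z) {p : G} (hp : Pt z p) {M X : Type u} [AddCommGroup M] [Group X]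
    [DistribMulAction X M] (R : Rep V p M X) {A : Subgroup G} (hA : A ≤ centralizer ({p} : Set G))
    (hsq : ∀ a ∈ A, a * a = 1) {w : G} (hw : w ∈ A) (hwK : w ∉ kq V p) :
    ∃ η : X, _root_.Odd (orderOf η) ∧ η ≠ 1 ∧ R.rho w * η * (R.rho w)⁻¹ = η⁻¹ ∧
      ∀ a ∈ A, R.rho a * η * (R.rho a)⁻¹ = η ∨ R.rho a * η * (R.rho a)⁻¹ = η⁻¹ := by
  obtain ⟨y, hy, hyo, hyK, hinv, hall⟩ := OddTwoWeight.exists_weight h hp hA
    (fun a ha => by rw [hsq a ha]; exact one_mem _) hw hwK
  have key : ∀ a ∈ centralizer ({p} : Set G), a * y * a⁻¹ * y ∈ kq V p → R.rho a * R.rho y * (R.rho a)⁻¹ =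
      (R.rho y)⁻¹ := by
    intro a ha hay
    have hay' : a * y * a⁻¹ ∈ centralizer ({p} : Set G) := mul_mem (mul_mem ha hy) (inv_mem ha)
    have h1 := (Rep.rho_eq_one R (mul_mem hay' hy)).mpr hay
    rw [R.rho_mul _ hay' _ hy, R.rho_conj ha hy] at h1
    exact eq_inv_of_mul_eq_one_left h1
  refine ⟨R.rho y, ?_, ?_, key w (hA hw) hinv, fun a ha => ?_⟩
  · obtain ⟨k, hk⟩ := hyo
    have h1 : orderOf (R.rho y) ∣ orderOf y := orderOf_dvd_of_pow_eq_one (by
      rw [← R.rho_pow hy, pow_orderOf_eq_one, R.rho_one])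
    exact Odd.of_dvd_nat ⟨k, hk⟩ h1
  · intro e
    exact hyK ((Rep.rho_eq_one R hy).mp e)
  · rcases hall a ha with e | e
    · left
      have hay' : a * y * a⁻¹ ∈ centralizer ({p} : Set G) := mul_mem (mul_mem (hA ha) hy) (inv_mem (hA ha))
      have h1 := (Rep.rho_eq_one R (mul_mem hay' (inv_mem hy))).mpr e
      rw [R.rho_mul _ hay' _ (inv_mem hy), R.rho_conj (hA ha) hy, R.rho_inv hy] at h1
      exact mul_inv_eq_one.mp h1
    · exact Or.inr (key a (hA ha) e)

/-- **Theorem M** -/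
theorem le_kq (h : OddN T V z n) (hn : 3 ≤ n) (hmax : Max1 z) {p q : G} (hc : Crit V z n p q)
    (hpq : p ∈ ws V q) : ws V q ≤ kq V p := by
  by_contra hcon
  have hp : Pt z p := hc.pt
  have hq : Pt z q := hc.pt' h.toGeo
  obtain ⟨w, hqw, hwK⟩ := exists_col_notMem h.toOdd hq hcon
  have hw : Pt z w := hqw.pt h.toGeo
  set A := tt V 1 w with hA
  have hqA : ws V q ≤ A := ws_le_tt hqw.symm.walk
  have hAq : A ≤ centralizer (ws V q : Set G) := tt_le_centralizer h (i := 1) (by omega) hq hqw.walk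
  have hAp : A ≤ centralizer ({p} : Set G) := hAq.trans (centralizer_le (by
    rintro _ rfl; exact hpq))
  have hAsq : ∀ a ∈ A, a * a = 1 := fun a ha => tt_sq h (by omega) hw ha
  have hwA : w ∈ A := hqA hqw.mem_ws
  obtain ⟨M, X, _, _, _, ⟨R⟩⟩ := exists_rep h.toOdd hp
  have : Finite M := R.finite_left
  have two := Rep.two h.toOdd hp R
  obtain ⟨η, hηo, hη1, hinv, hall⟩ := exists_weight_rep h.toOdd hp R hAp hAsq hwA hwK
  -- the elements over `[M, η]` normalize `A`
  have hqp : ws V q ≤ centralizer ({p} : Set G) := hc.ws_le_centralizer h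
  have hpq' : ws V p ≤ normalizer ((ws V q : Subgroup G) : Set G) := (hc.symm h.toOdd).ws_le_normalizer h
  have hfix : ∀ d ∈ rg M η, R.rho w • d = d := by
    intro d hd
    obtain ⟨v, hv, rfl⟩ := R.pi_surj d
    have hvi : v⁻¹ = v := ws_inv h.toOdd hp hv
    have hconj : ∀ u ∈ A, v * u * v⁻¹ ∈ A := by
      intro u hu
      have huv : u * v * u⁻¹ ∈ ws V p := R.conj_mem (hAp hu) hv
      -- `v + u v` is centralized by `w`
      have hωfix : R.rho w • (R.pi v + R.rho u • R.pi v) = R.pi v + R.rho u • R.pi v := by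
        -- `v + w v` is centralized by `u`
        have hwv : w * v * w⁻¹ ∈ ws V p := R.conj_mem (hAp hwA) hv
        have h1 : v * (w * v * w⁻¹) ∈ ws V q := by
          have h2 : v * w * v⁻¹ ∈ ws V q := conj_mem_of_normalizer hpq' hv hqw.mem_ws
          have e : v * (w * v * w⁻¹) = v * w * v⁻¹ * w⁻¹ := by rw [hvi]; group
          rw [e]; exact mul_mem h2 (inv_mem hqw.mem_ws)
        have h2 : u * (v * (w * v * w⁻¹)) * u⁻¹ = v * (w * v * w⁻¹) := by
          rw [← mem_centralizer_iff.mp (hAq hu) _ h1, mul_inv_cancel_right]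
        have h3 : R.rho u • (R.pi v + R.rho w • R.pi v) = R.pi v + R.rho w • R.pi v := by
          rw [R.smul_pi w (hAp hwA) v hv, ← R.pi_mul v hv _ hwv, R.smul_pi u (hAp hu) _ (mul_mem hv hwv), h2]
        have h4 : R.rho u • R.rho w • R.pi v = R.rho w • R.rho u • R.pi v := by
          rw [← mul_smul, ← mul_smul, ← R.rho_mul u (hAp hu) w (hAp hwA), ← R.rho_mul w (hAp hwA) u (hAp hu),
            tt_comm h (by omega) hw hu hwA]
        rw [smul_add, h4] at h3
        rw [smul_add]
        calc R.rho w • R.pi v + R.rho w • R.rho u • R.pi v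
            = (R.rho u • R.pi v + R.rho w • R.rho u • R.pi v) + (R.rho w • R.pi v + R.rho u • R.pi v) := by
              rw [show R.rho u • R.pi v + R.rho w • R.rho u • R.pi v + (R.rho w • R.pi v + R.rho u • R.pi v) =
                R.rho w • R.pi v + R.rho w • R.rho u • R.pi v + (R.rho u • R.pi v + R.rho u • R.pi v) by abel,
                two, add_zero]
          _ = R.pi v + R.rho u • R.pi v := by
              rw [h3]
              rw [show R.pi v + R.rho w • R.pi v + (R.rho w • R.pi v + R.rho u • R.pi v) =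
                R.pi v + R.rho u • R.pi v + (R.rho w • R.pi v + R.rho w • R.pi v) by abel, two, add_zero]
      have hmem : R.pi v + R.rho u • R.pi v ∈ rg M η :=
        add_mem hd (smul_mem_rg two (hall u hu) hd)
      obtain ⟨m, -, hm⟩ := exists_add_smul two hηo hinv hmem hωfix
      obtain ⟨v', hv', rfl⟩ := R.pi_surj m
      have hwv' : w * v' * w⁻¹ ∈ ws V p := R.conj_mem (hAp hwA) hv'
      rw [R.smul_pi u (hAp hu) v hv, ← R.pi_mul v hv _ huv, R.smul_pi w (hAp hwA) v' hv',
        ← R.pi_mul v' hv' _ hwv', Rep.pi_eq_pi h.toOdd hp R (mul_mem hv huv) (mul_mem hv' hwv')] at hm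
      have h1 : v' * (w * v' * w⁻¹) ∈ ws V q := by
        have h2 : v' * w * v'⁻¹ ∈ ws V q := conj_mem_of_normalizer hpq' hv' hqw.mem_ws
        have e : v' * (w * v' * w⁻¹) = v' * w * v'⁻¹ * w⁻¹ := by rw [ws_inv h.toOdd hp hv']; group
        rw [e]; exact mul_mem h2 (inv_mem hqw.mem_ws)
      have h2 : v * (u * v * u⁻¹) ∈ A := by
        apply hqA
        rcases hm with e | e
        · rw [e]; exact h1
        · rw [e]; exact mul_mem hpq h1
      have e : v * u * v⁻¹ = v * (u * v * u⁻¹) * u := by rw [hvi]; group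
      rw [e]; exact mul_mem h2 hu
    have hvN : v ∈ normalizer (A : Set G) := by
      rw [mem_normalizer_iff]
      intro u
      refine ⟨hconj u, fun hu => ?_⟩
      have h1 := hconj _ hu
      have hvv : v * v = 1 := ws_sq h.toOdd hp hv
      have e : v * (v * u * v⁻¹) * v⁻¹ = (v * v) * u * (v * v)⁻¹ := by group
      rw [e, hvv] at h1
      simpa using h1
    have hAne : A ≠ ⊥ := by
      intro e
      rw [e, mem_bot] at hwA
      exact OddBase.Pt.ne_one h.toGeo hw hwA
    have h1 := hmax w hw A (tt_isPGroup h (by omega) hw) hAne (centralizer_le_normalizer_tt 1 w) hvN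
    rw [R.smul_pi w (hAp hwA) v hv, ← mem_centralizer_singleton_iff.mp h1, mul_inv_cancel_right]
  exact hη1 (R.faithful η (fixed_of_inv two hηo hinv hfix))

end Cfsg.Agent.MinSimple.OddThreeM
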