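import Cfsg.Agent.MinSimple.OddCase
import Cfsg.Agent.MinSimple.OddThreeM
import Cfsg.Agent.MinSimple.OddSmall

/-!
# (E1)(b), `n ≥ 3`, Case 1: non-sliding is impossible

`exists_move`: in the configuration `Cfg` some element of `ws V (s * p1 * s⁻¹)` moves `q`.
-/

set_option autoImplicit false
set_option linter.unusedSectionVars false

namespace Cfsg.Agent.MinSimple.OddNonSlide

open Subgroup Cfsg Cfsg.Agent.ZN Cfsg.Agent.MinSimple.Geo Cfsg.Agent.MinSimple.BTwoA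
  Cfsg.Agent.MinSimple.OddLine Cfsg.Agent.MinSimple.OddBase Cfsg.Agent.MinSimple.OddTwoWeight
  Cfsg.Agent.MinSimple.OddTwoStar Cfsg.Agent.MinSimple.OddPair Cfsg.Agent.MinSimple.OddRep
  Cfsg.Agent.MinSimple.OddTwoMod Cfsg.Agent.MinSimple.OddTwoDefs Cfsg.Agent.MinSimple.OddTwoRep
  Cfsg.Agent.MinSimple.OddCase
open Cfsg.Agent.ZN.Block (conj_mem_of_normalizer conj_mem_of_normalizer' le_normalizer_of_forall
  mem_normalizer_of)

universe u

variable {G : Type u} [Group G] [Finite G]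

/-! ### the norm argument -/

/-- `w` inverts `s`, `w f w⁻¹ = f e`, `s` commutes with `e`, `w` with `s⁻¹ f s`: `e = 1` -/
theorem eq_one_of_norm {U : Subgroup G} {s w f e : G} (hU : Act U s) (hwU : ∀ u ∈ U, w * u * w⁻¹ ∈ U)
    (hinv : w * s * w⁻¹ = s⁻¹) (hww : w * w = 1) (hf : f ∈ U)
    (hz : w * (s⁻¹ * f * s) = s⁻¹ * f * s * w) (he : w * f * w⁻¹ = f * e) (hse : s * e = e * s) : e = 1 := by
  have hwi : w⁻¹ = w := inv_eq_self hww
  have hinv' : w * s⁻¹ * w⁻¹ = s := by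
    have e1 : w * s⁻¹ * w⁻¹ = (w * s * w⁻¹)⁻¹ := by group
    rw [e1, hinv, inv_inv]
  obtain ⟨u, hu, c, hc, hsc, rfl⟩ := hU.exists_decomp hf
  have huU := hU.uu_le hu
  -- `w` normalizes `[U, s]`
  have hwuu : ∀ x ∈ uu U s, w * x * w⁻¹ ∈ uu U s := by
    intro x hx
    obtain ⟨a, ha, rfl⟩ := hU.mem_uu.mp hx
    have ha1 := hwU a ha
    have ha2 : s⁻¹ * (w * a * w⁻¹) * s ∈ U := hU.conj' ha1
    have e1 : w * (a * (s * a * s⁻¹)) * w⁻¹ = w * a * w⁻¹ * (s⁻¹ * (w * a * w⁻¹) * s) := by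
      calc w * (a * (s * a * s⁻¹)) * w⁻¹ = w * a * w⁻¹ * ((w * s * w⁻¹) * (w * a * w⁻¹) * (w * s⁻¹ * w⁻¹)) := by
            group
        _ = _ := by rw [hinv, hinv']
    refine hU.mem_uu.mpr ⟨s⁻¹ * (w * a * w⁻¹) * s, ha2, ?_⟩
    rw [e1, hU.comm ha1 ha2]
    group
  -- `w c w⁻¹` commutes with `s`
  have hwc : s * (w * c * w⁻¹) = w * c * w⁻¹ * s := by
    have e1 : w⁻¹ * s * w = s⁻¹ := by rw [hwi]; nth_rewrite 2 [← hwi]; exact hinv
    have e2 : s⁻¹ * c = c * s⁻¹ := by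
      have c1 : Commute s c := hsc
      exact c1.inv_left.eq
    calc s * (w * c * w⁻¹) = w * ((w⁻¹ * s * w) * c) * w⁻¹ := by group
      _ = w * (c * (w⁻¹ * s * w)) * w⁻¹ := by rw [e1, e2]
      _ = w * c * w⁻¹ * s := by group
  have hcU := hwU c hc
  set u2 := s⁻¹ * u * s with hu2
  have hu2m : u2 ∈ uu U s := hU.uu_conj' hu
  have hz' : w * (u2 * c) = u2 * c * w := by
    have e1 : s⁻¹ * (u * c) * s = u2 * c := by
      have : s⁻¹ * c * s = c := by rw [mul_assoc, ← hsc]; group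
      calc s⁻¹ * (u * c) * s = s⁻¹ * u * s * (s⁻¹ * c * s) := by group
        _ = u2 * c := by rw [this]
    rw [← e1]; exact hz
  have hz2 : (w * u2 * w⁻¹) * (w * c * w⁻¹) = u2 * c := by
    calc (w * u2 * w⁻¹) * (w * c * w⁻¹) = w * (u2 * c) * w⁻¹ := by group
      _ = u2 * c := by rw [hz']; group
  have hu2U := hU.uu_le hu2m
  have hwu2 := hwuu u2 hu2m
  have hwu2U := hU.uu_le hwu2
  -- `w c w⁻¹ = c`
  have hk : w * c * w⁻¹ = c := by
    have h1 : w * c * w⁻¹ * c⁻¹ = (w * u2 * w⁻¹)⁻¹ * u2 := by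
      have e1 : w * c * w⁻¹ = (w * u2 * w⁻¹)⁻¹ * (u2 * c) := by rw [← hz2]; group
      rw [e1]; group
    have h2 : w * c * w⁻¹ * c⁻¹ ∈ uu U s := by
      rw [h1]; exact mul_mem (inv_mem hwu2) hu2m
    have h3 : s * (w * c * w⁻¹ * c⁻¹) = w * c * w⁻¹ * c⁻¹ * s := by
      have c1 : Commute s (w * c * w⁻¹) := hwc
      have c2 : Commute s c := hsc
      exact (c1.mul_right c2.inv_right).eq
    exact mul_inv_eq_one.mp (hU.eq_one h2 h3)
  have he2 : e = u⁻¹ * (w * u * w⁻¹) := by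
    have e1 : e = (u * c)⁻¹ * (w * (u * c) * w⁻¹) := by rw [he]; group
    have e2 : w * (u * c) * w⁻¹ = (w * u * w⁻¹) * (w * c * w⁻¹) := by group
    have huw := hU.uu_le (hwuu u hu)
    rw [e1, e2, hk, hU.comm huw hc, mul_inv_rev, hU.inv_eq hc, hU.comm hc (inv_mem huU)]
    calc u⁻¹ * c * (c * (w * u * w⁻¹)) = u⁻¹ * (c * c) * (w * u * w⁻¹) := by group
      _ = u⁻¹ * (w * u * w⁻¹) := by rw [hU.sq c hc, mul_one]
  exact hU.eq_one (he2 ▸ mul_mem (inv_mem hu) (hwuu u hu)) hse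

variable {T V : Subgroup G} {z : G} {n : ℕ} {p p1 q t w s v s' : G}

/-! ### `t` is not a point collinear with `q` -/

section tv

variable {M X : Type u} [AddCommGroup M] [Group X] [DistribMulAction X M] {x : G}

/-- elements of `C(x)` which act on `ws V x` with centre `c` -/
theorem tv_mk (h : Odd T V z) (hx : Pt z x) (R : Rep V x M X) {g c b : G}
    (hg : g ∈ centralizer ({x} : Set G)) (hc : c ∈ ws V x)
    (hact : ∀ a ∈ ws V x, g * a * g⁻¹ = a ∨ g * a * g⁻¹ = a * c) (hgc : g * c = c * g)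
    (hc1 : c ≠ 1) (hcx : c ≠ x) (hb : b ∈ ws V x) (hgb : g * b * g⁻¹ ≠ b) :
    Tv (act M X (R.rho g)) (ve R c) := by
  refine ⟨fun m => ?_, ?_, ve R b, ?_⟩
  · obtain ⟨a, ha, rfl⟩ := ve_surj R m
    rw [act_ve R hg ha]
    rcases hact a ha with e | e
    · left; rw [e]
    · right; rw [e, ve_mul R ha hc]
  · rw [act_ve R hg hc, conj_eq_iff_comm.mpr hgc]
  · rw [act_ve R hg hb, (hact b hb).resolve_left hgb, ve_mul R hb hc]
    intro e
    have e1 : ve R c = 1 := mul_eq_left.mp e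
    have e2 : R.pi c = 0 := Multiplicative.ofAdd.injective e1
    rcases (Rep.pi_eq_zero' h hx R hc).mp e2 with e3 | e3
    · exact hc1 e3
    · exact hcx e3

end tv

theorem not_col (h : Cfg T V z n p p1 q t w s v s') : ¬ Col V q t := by
  intro hqt
  have hn := h.three
  have ho := h.oddN.toOdd
  obtain ⟨g, hgq, hgt⟩ := OddTwoStar.exists_conj ho hqt h.col
  have hpp := OddBase.Pt.sq ho.toGeo h.ptp
  have hnw : ¬ Walk V 1 p t := fun h1 =>
    h.crit.not_walk h.oddN (show 2 < n by omega) (h1.trans hqt.symm.walk)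
  -- the element `σ`
  set σ := g * v * g⁻¹ with hσ
  have hvq : v * q = q * v := mem_centralizer_singleton_iff.mp (h.tr.cd h.v_mem)
  have hσC : σ ∈ centralizer ({p} : Set G) := by
    rw [mem_centralizer_singleton_iff, ← hgq, hσ]
    calc g * v * g⁻¹ * (g * q * g⁻¹) = g * (v * q) * g⁻¹ := by group
      _ = g * (q * v) * g⁻¹ := by rw [hvq]
      _ = g * q * g⁻¹ * (g * v * g⁻¹) := by group
  have hmem : ∀ b ∈ ws V p, g⁻¹ * b * g ∈ ws V q := by
    intro b hb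
    rw [← hgq, ← cj_ws] at hb
    exact mem_cj.mp hb
  have hmem' : ∀ b ∈ ws V q, g * b * g⁻¹ ∈ ws V p := by
    intro b hb
    rw [← hgq, ← cj_ws]; exact conj_mem_cj hb
  have hact : ∀ b ∈ ws V p, σ * b * σ⁻¹ = b ∨ σ * b * σ⁻¹ = b * p1 := by
    intro b hb
    have e0 : σ * b * σ⁻¹ = g * (v * (g⁻¹ * b * g) * v⁻¹) * g⁻¹ := by rw [hσ]; group
    rcases h.tr.symm.conj_cases h.v_mem (hmem b hb) with e | e
    · left
      rw [e0, conj_eq_iff_comm.mpr e]; group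
    · right
      rw [e0, e, ← hgt]; group
  obtain ⟨b0, hb0, hne0⟩ := exists_noncomm h.v_not
  have hσb : σ * (g * b0 * g⁻¹) * σ⁻¹ ≠ g * b0 * g⁻¹ := by
    intro e
    apply hne0
    apply conj_eq_iff_comm.mp
    apply conj_inj (g := g)
    rw [← e, hσ]; group
  have hp1W : p1 ∈ ws V p := h.col.mem_ws
  have hσp1 : σ * p1 = p1 * σ := by
    rw [hσ, ← hgt]
    have hvt : v * t = t * v := h.tr.symm.comm_t h.v_mem
    calc g * v * g⁻¹ * (g * t * g⁻¹) = g * (v * t) * g⁻¹ := by group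
      _ = g * (t * v) * g⁻¹ := by rw [hvt]
      _ = g * t * g⁻¹ * (g * v * g⁻¹) := by group
  -- the module at `p`
  obtain ⟨M, X, _, _, _, ⟨R⟩⟩ := exists_rep ho h.ptp
  obtain ⟨P, hP⟩ := exists_ctl_rep ho h.ptp R
  obtain ⟨y, hy, hyo, hyP, hb⟩ := exists_ctl_weight h.tr h.wW h.w_not R hP
  have hwC := h.tr.cr h.wW
  have hwp1 : w * p1 = p1 * w := h.comm1 h.wW (self_mem_ws h.oddN.toGeo h.ptp1)
  have hT : Tv (act M X (R.rho σ)) (ve R p1) :=
    tv_mk ho h.ptp R hσC hp1W hact hσp1 h.col.2.1 (Ne.symm h.col.2.2.1) (hmem' b0 hb0) hσb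
  have hne : ve R p1 ≠ ve R t := by
    intro e
    rcases (ve_eq ho h.ptp R hp1W h.tr.t_memr).mp e with e | e
    · exact hnw (e ▸ h.col.walk)
    · have h1 : Col V p (p * p1) := OddSmall.col_mul ho h.col
      rw [e, ← mul_assoc, hpp, one_mul] at h1
      exact hnw h1.walk
  have hfix : act M X (R.rho σ) (ve R t) = ve R t := by
    by_contra hcon
    have h1 := hP.sym ⟨_, rfl⟩ ⟨_, rfl⟩ hT hb.tv hcon
    apply h1
    rw [act_ve R hwC hp1W, conj_eq_iff_comm.mpr hwp1]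
  obtain ⟨-, h2⟩ := hP.comm hyP hb.toRTwo ⟨_, rfl⟩ hT hne hfix
  have hyp : y * p = p * y := mem_centralizer_singleton_iff.mp hy
  have hyW : y * p1 * y⁻¹ ∈ ws V p := conj_mem (V := V) hy hp1W
  have hyp1 : y * p1 = p1 * y := by
    rw [act_ve R hy hp1W] at h2
    refine comm_of_odd hyo hyp ?_ hpp
    rcases (ve_eq ho h.ptp R hyW hp1W).mp h2 with e | e
    · exact Or.inl e
    · right
      rw [e]
      exact OddBase.ws_comm ho h.ptp (self_mem_ws ho.toGeo h.ptp) hp1W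
  have hynk : y ∉ kq V p := by
    intro hk
    apply hb.move
    rw [(Rep.rho_eq_one R hy).mpr hk, map_one]; rfl
  have hyinv : w * y * w⁻¹ * y ∈ kq V p := by
    rw [← Rep.rho_eq_one R (mul_mem (mul_mem (mul_mem hwC hy) (inv_mem hwC)) hy),
      R.rho_mul _ (mul_mem (mul_mem hwC hy) (inv_mem hwC)) _ hy, R.rho_conj hwC hy]
    apply act_injective R
    rw [map_one, map_mul, map_mul, map_mul, map_inv, hb.inv', inv_mul_cancel]
  obtain ⟨s0, hs0, hsk⟩ := h.tr.side_of h.wW hy hyo hynk hyinv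
  apply hs0.ne h.oddN h.ptp1 h.lt h.walk h.wW
  have hs0p : s0 * p = p * s0 := mem_centralizer_singleton_iff.mp hs0.mem
  refine comm_of_odd hs0.odd hs0p ?_ hpp
  have e0 : s0 * p1 * s0⁻¹ = s0 * (y * y)⁻¹ * p1 * (s0 * (y * y)⁻¹)⁻¹ := by
    have c1 : Commute y p1 := hyp1
    have c2 : (y * y)⁻¹ * p1 = p1 * (y * y)⁻¹ := ((c1.mul_left c1).inv_left).eq
    calc s0 * p1 * s0⁻¹ = s0 * (p1 * (y * y)⁻¹) * (y * y) * s0⁻¹ := by group
      _ = s0 * ((y * y)⁻¹ * p1) * (y * y) * s0⁻¹ := by rw [c2]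
      _ = s0 * (y * y)⁻¹ * p1 * (s0 * (y * y)⁻¹)⁻¹ := by
        rw [mul_inv_rev (s0) ((y * y)⁻¹), inv_inv]; simp only [mul_assoc]
  rw [e0]
  exact kq_cases ho h.ptp hsk hp1W

/-! ### the elements of `ws V (s * p1 * s⁻¹)` -/

/-- elements of `ws V q` commuting with `s'` commute with `ws V p` -/
theorem comm_p (h : Cfg T V z n p p1 q t w s v s') {c a : G} (hc : c ∈ ws V q) (hsc : s' * c = c * s')
    (ha : a ∈ ws V p) : a * c = c * a :=
  Side.comm_all h.tr.symm h.v_mem h.v_not hc (h.side'.w_comm h.tr.symm h.v_mem hc hsc) ha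

/-- elements of `ws V q` commuting with `s'` commute with the elements of `ws V w1` commuting with `q` -/
theorem comm_w1 (h : Cfg T V z n p p1 q t w s v s') {c f : G} (hc : c ∈ ws V q) (hsc : s' * c = c * s')
    (hf : f ∈ ws V (s * p1 * s⁻¹)) (hfq : f * q = q * f) : c * f = f * c := by
  have ho := h.oddN.toOdd
  have hft := h.comm_p hf h.tr.t_memr
  have hfC : f ∈ centralizer ({q} : Set G) := mem_centralizer_singleton_iff.mpr hfq
  have hcC : c ∈ centralizer ({s * p1 * s⁻¹} : Set G) :=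
    mem_centralizer_singleton_iff.mpr (comm_p h hc hsc h.col_w1.mem_ws).symm
  set g := c * f * c⁻¹ * f⁻¹ with hg
  have hg1 : g ∈ ws V (s * p1 * s⁻¹) := mul_mem (conj_mem (V := V) hcC hf) (inv_mem hf)
  have hfc : f * c⁻¹ * f⁻¹ ∈ ws V q := conj_mem (V := V) hfC (inv_mem hc)
  have hge : g = c * (f * c⁻¹ * f⁻¹) := by rw [hg]; group
  have hg2 : g ∈ ws V q := by rw [hge]; exact mul_mem hc hfc
  have hwg : w * g = g * w := OddBase.ws_comm ho h.ptq h.wW hg2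
  have hsg : s * g = g * s := h.D_comm_s hg1 ((h.mem_D_iff hg1).mpr hwg)
  have hsc' : s' * c⁻¹ = c⁻¹ * s' := by
    have c1 : Commute s' c := hsc
    exact c1.inv_right.eq
  have hs'g : s' * g = g * s' := by
    have h1 := comm_conj ho h.ptq h.side'.mem h.side'.odd hfC
      (h.ctl f hfC (Or.inl (conj_eq_iff_comm.mpr hft))) (inv_mem hc) hsc'
    have c1 : Commute s' c := hsc
    have c2 : Commute s' (f * c⁻¹ * f⁻¹) := h1
    rw [hge]
    exact (c1.mul_right c2).eq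
  have hk := h.tr.kill h.wW h.v_mem h.side h.side' hsg hs'g
    (OddBase.ws_comm ho h.ptq h.tr.t_memd hg2) (OddBase.ws_sq ho h.ptq hg2)
  rw [hg] at hk
  exact conj_eq_iff_comm.mp (mul_inv_eq_one.mp hk)

/-- `w1` moves `w` to `w t` -/
theorem w1_act (h : Cfg T V z n p p1 q t w s v s') :
    s * p1 * s⁻¹ * w * (s * p1 * s⁻¹)⁻¹ = w * t := by
  have htt := h.tr.tt_sq
  set w1 := s * p1 * s⁻¹ with hw1
  have hw1W : w1 ∈ ws V w1 := self_mem_ws h.oddN.toGeo h.ptw1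
  have hwt : w * t = t * w := OddBase.ws_comm h.oddN.toOdd h.ptq h.wW h.tr.t_memd
  have h1 : w * w1 * w⁻¹ = w1 * t := h.tr.conj_eq h.wW h.col_w1.mem_ws h.w_w1
  have hw1t : w1 * t = t * w1 := h.comm_p hw1W h.tr.t_memr
  have e1 : w * w1 = w1 * t * w := mul_inv_eq_iff_eq_mul.mp h1
  calc w1 * w * w1⁻¹ = w1 * t * (t * w) * w1⁻¹ := by
        rw [← mul_assoc (w1 * t) t w, mul_assoc w1 t t, htt, mul_one]
    _ = (w1 * t) * (w * t) * w1⁻¹ := by rw [hwt]
    _ = (w1 * t * w) * t * w1⁻¹ := by group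
    _ = w * (w1 * t) * w1⁻¹ := by rw [← e1]; group
    _ = w * t := by rw [hw1t]; group

/-- there is `f ∈ ws V w1` with `f w f⁻¹ = w t q` -/
theorem exists_f (h : Cfg T V z n p p1 q t w s v s') (hA : ∀ f ∈ ws V (s * p1 * s⁻¹), f * q = q * f) :
    ∃ f ∈ ws V (s * p1 * s⁻¹), f * w * f⁻¹ = w * t * q := by
  have hn := h.three
  have ho := h.oddN.toOdd
  obtain ⟨p2, h12, h2⟩ : ∃ p2, Col V p1 p2 ∧ Walk V (n - 2) p2 q := by
    have hw := h.walk
    obtain ⟨m, rfl⟩ : ∃ m, n = m + 2 := ⟨n - 2, by omega⟩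
    have e1 : m + 2 - 1 = m + 1 := by omega
    rw [e1] at hw
    obtain ⟨p2, h1, h2⟩ := hw.head
    rcases h1 with rfl | h1
    · exfalso
      have := h.col.walk.trans h2
      exact h.crit.not_walk h.oddN (show 1 + m < m + 2 by omega) this
    · exact ⟨p2, h1, by simpa using h2⟩
  set w1 := s * p1 * s⁻¹ with hw1
  have hw1W : w1 ∈ ws V w1 := self_mem_ws h.oddN.toGeo h.ptw1
  have hf0 : s * p2 * s⁻¹ ∈ ws V w1 := by
    rw [hw1, ← cj_ws]; exact conj_mem_cj h12.mem_ws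
  set f0 := s * p2 * s⁻¹ with hf0'
  have hft := h.comm_p hf0 h.tr.t_memr
  have hfq := hA f0 hf0
  have hqW := self_mem_ws h.oddN.toGeo h.ptq
  have htq : t * q = q * t := OddBase.ws_comm ho h.ptq h.tr.t_memd hqW
  have hcomm : ∀ a : G, s * (s * a * s⁻¹) = s * a * s⁻¹ * s → s * a = a * s := by
    intro a h3
    have h4 : s⁻¹ * (s * a * s⁻¹) * s = s * a * s⁻¹ := by rw [mul_assoc, ← h3]; group
    have h5 : a = s * a * s⁻¹ := by rw [← h4]; group
    exact conj_eq_iff_comm.mp h5.symm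
  rcases h.conj_cases hfq hft with e | e | e | e
  · exfalso
    have h1 := (h.mem_D_iff hf0).mpr (conj_eq_iff_comm.mp e).symm
    exact h.not_mem_D h12 h2 (Or.inr (Or.inl rfl)) (hcomm p2 (h.D_comm_s hf0 h1))
  · exfalso
    have h3 : f0 * w1 * w * (f0 * w1)⁻¹ = w := by
      calc f0 * w1 * w * (f0 * w1)⁻¹ = f0 * (w1 * w * w1⁻¹) * f0⁻¹ := by group
        _ = (f0 * w * f0⁻¹) * (f0 * t * f0⁻¹) := by rw [w1_act h]; group
        _ = w * t * t := by rw [e, conj_eq_iff_comm.mpr hft]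
        _ = w := by rw [mul_assoc, h.tr.tt_sq, mul_one]
    have hm := mul_mem hf0 hw1W
    have h1 := (h.mem_D_iff hm).mpr (conj_eq_iff_comm.mp h3).symm
    have h4 := h.D_comm_s hm h1
    have hpp : p1 * p2 = p2 * p1 := OddBase.ws_comm ho h.ptp1
      (self_mem_ws h.oddN.toGeo h.ptp1) h12.mem_ws
    have e0 : f0 * w1 = s * (p2 * p1) * s⁻¹ := by rw [hf0', hw1]; group
    rw [e0, ← hpp] at h4
    exact h.not_mem_D h12 h2 (Or.inr (Or.inr rfl)) (hcomm _ h4)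
  · refine ⟨f0 * w1, mul_mem hf0 hw1W, ?_⟩
    calc f0 * w1 * w * (f0 * w1)⁻¹ = f0 * (w1 * w * w1⁻¹) * f0⁻¹ := by group
      _ = (f0 * w * f0⁻¹) * (f0 * t * f0⁻¹) := by rw [w1_act h]; group
      _ = w * q * t := by rw [e, conj_eq_iff_comm.mpr hft]
      _ = w * t * q := by rw [mul_assoc, ← htq, mul_assoc]
  · exact ⟨f0, hf0, e⟩

/-- `s` does not commute with `t q` -/
theorem not_comm_tq (h : Cfg T V z n p p1 q t w s v s') {f : G} (hf : f ∈ ws V (s * p1 * s⁻¹))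
    (hfq : f * q = q * f) (hfw : f * w * f⁻¹ = w * t * q) : s * (t * q) ≠ t * q * s := by
  intro hs
  have hn := h.three
  have ho := h.oddN.toOdd
  have hww := OddBase.ws_sq ho h.ptq h.wW
  have hwi : w⁻¹ = w := inv_eq_self hww
  have hqW := self_mem_ws h.oddN.toGeo h.ptq
  have hft := h.comm_p hf h.tr.t_memr
  have htq : t * q = q * t := OddBase.ws_comm ho h.ptq h.tr.t_memd hqW
  have hwtq : w * (t * q) = t * q * w := OddBase.ws_comm ho h.ptq h.wW (mul_mem h.tr.t_memd hqW)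
  have hU : Act (tt V 1 p) s := by
    refine ⟨fun a ha => OddThreeM.tt_sq h.oddN (by omega) h.ptp ha, h.side.odd, fun a ha => ?_⟩
    exact conj_mem_of_normalizer (centralizer_le_normalizer_tt 1 p) h.side.mem ha
  have hwU : ∀ u ∈ tt V 1 p, w * u * w⁻¹ ∈ tt V 1 p := fun u hu =>
    conj_mem_of_normalizer (centralizer_le_normalizer_tt 1 p) (h.tr.cr h.wW) hu
  have hfU : f ∈ tt V 1 p := ws_le_tt h.col_w1.walk hf
  have hz : w * (s⁻¹ * f * s) = s⁻¹ * f * s * w := by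
    refine h.comm1 h.wW ?_
    rw [h.ws_w1] at hf
    exact mem_cj.mp hf
  have htqf : t * q * f = f * (t * q) := by
    rw [mul_assoc, ← hfq, ← mul_assoc, ← hft, mul_assoc]
  have he : w * f * w⁻¹ = f * (t * q) := by
    have e1 : f * w = w * (t * q) * f := by
      have := mul_inv_eq_iff_eq_mul.mp hfw
      rw [this, mul_assoc w t q]
    have e2 : w * (f * w) = t * q * f := by
      rw [e1, ← mul_assoc, ← mul_assoc, hww, one_mul]
    rw [hwi, mul_assoc, e2, htqf]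
  have h1 := eq_one_of_norm hU hwU h.side.inv hww hfU hz he hs
  have h2 : t = q := by
    rw [eq_inv_of_mul_eq_one_left h1, inv_eq_self (OddBase.ws_sq ho h.ptq hqW)]
  exact h.tr.dr (h2 ▸ h.tr.t_memr)

/-- `s a s⁻¹` commutes with `q` and `t` -/
theorem comm_conj_q (h : Cfg T V z n p p1 q t w s v s') {f a : G} (hf : f ∈ ws V (s * p1 * s⁻¹))
    (hA : ∀ f ∈ ws V (s * p1 * s⁻¹), f * q = q * f) (hfw : f * w * f⁻¹ = w * t * q)
    (ha : a ∈ ws V q) (hsa : s' * a = a * s') : s * a * s⁻¹ * q = q * (s * a * s⁻¹) := by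
  have ho := h.oddN.toOdd
  have hww := OddBase.ws_sq ho h.ptq h.wW
  have hwi : w⁻¹ = w := inv_eq_self hww
  have htt := h.tr.tt_sq
  -- `w s = s⁻¹ w`
  have hws : w⁻¹ * s = s⁻¹ * w⁻¹ := by
    rw [hwi]
    exact mul_inv_eq_iff_eq_mul.mp h.side.inv
  have hsC := h.side.mem
  have hp1W : p1 ∈ ws V p := h.col.mem_ws
  have hwp1 : w * p1 = p1 * w := h.comm1 h.wW (self_mem_ws h.oddN.toGeo h.ptp1)
  -- `s⁻¹ w2 s = w1`
  have hconj : s⁻¹ * w⁻¹ * (s * p1 * s⁻¹) * (s⁻¹ * w⁻¹)⁻¹ = s * p1 * s⁻¹ := by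
    have e1 : w⁻¹ * (s * p1 * s⁻¹) * w = s⁻¹ * p1 * s := by
      calc w⁻¹ * (s * p1 * s⁻¹) * w = (w⁻¹ * s) * p1 * (w⁻¹ * s)⁻¹ := by group
        _ = (s⁻¹ * w⁻¹) * p1 * (s⁻¹ * w⁻¹)⁻¹ := by rw [hws]
        _ = s⁻¹ * (w⁻¹ * p1 * w) * s := by group
        _ = s⁻¹ * p1 * s := by
          have : w⁻¹ * p1 * w = p1 := by rw [mul_assoc, ← hwp1]; group
          rw [this]
    have hb : s⁻¹ * (s⁻¹ * p1 * s) * s ∈ ws V p := by
      have h1 : s⁻¹ * p1 * s ∈ ws V p := h.side.four.conj' hp1W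
      exact h.side.four.conj' h1
    have e2 := h.side.cube h.tr hb
    calc s⁻¹ * w⁻¹ * (s * p1 * s⁻¹) * (s⁻¹ * w⁻¹)⁻¹ = s⁻¹ * (w⁻¹ * (s * p1 * s⁻¹) * w) * s := by group
      _ = s⁻¹ * (s⁻¹ * p1 * s) * s := by rw [e1]
      _ = s * (s * (s * (s⁻¹ * (s⁻¹ * p1 * s) * s) * s⁻¹) * s⁻¹) * s⁻¹ := e2.symm
      _ = s * p1 * s⁻¹ := by group
  -- the three parts of `s⁻¹ q s`
  have h1 : Commute a (s⁻¹ * t * s) := by
    have h2 : s⁻¹ * t * s ∈ ws V p := h.side.four.conj' h.tr.t_memr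
    exact (comm_p h ha hsa h2).symm
  have h2 : Commute a (s⁻¹ * f * s) := by
    refine h.comm1 ha ?_
    rw [h.ws_w1] at hf
    exact mem_cj.mp hf
  have h3 : Commute a (s⁻¹ * (w⁻¹ * f * w) * s) := by
    have hm : s⁻¹ * (w⁻¹ * f * w) * s ∈ ws V (s * p1 * s⁻¹) := by
      have h4 : s⁻¹ * w⁻¹ * f * (s⁻¹ * w⁻¹)⁻¹ ∈ cj (s⁻¹ * w⁻¹) (ws V (s * p1 * s⁻¹)) := conj_mem_cj hf
      rw [cj_ws, hconj] at h4
      have e : s⁻¹ * w⁻¹ * f * (s⁻¹ * w⁻¹)⁻¹ = s⁻¹ * (w⁻¹ * f * w) * s := by group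
      rwa [e] at h4
    exact comm_w1 h ha hsa hm (hA _ hm)
  have hq : s⁻¹ * q * s = (s⁻¹ * t * s) * (s⁻¹ * (w⁻¹ * f * w) * s) * (s⁻¹ * f * s)⁻¹ := by
    have e1 : q = t * (w⁻¹ * (f * w * f⁻¹)) := by
      rw [hfw]
      calc q = (t * t) * q := by rw [htt, one_mul]
        _ = t * (w⁻¹ * (w * t * q)) := by group
    nth_rewrite 1 [e1]
    group
  have h4 : Commute a (s⁻¹ * q * s) := by
    rw [hq]
    exact (h1.mul_right h3).mul_right h2.inv_right
  calc s * a * s⁻¹ * q = s * (a * (s⁻¹ * q * s)) * s⁻¹ := by group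
    _ = s * ((s⁻¹ * q * s) * a) * s⁻¹ := by rw [h4.eq]
    _ = q * (s * a * s⁻¹) := by group

/-- the action of `s a s⁻¹` on `w` -/
theorem act_cases (h : Cfg T V z n p p1 q t w s v s') {f a : G} (hf : f ∈ ws V (s * p1 * s⁻¹))
    (hA : ∀ f ∈ ws V (s * p1 * s⁻¹), f * q = q * f) (hfw : f * w * f⁻¹ = w * t * q)
    (ha : a ∈ ws V q) (hsa : s' * a = a * s') (ha1 : a ≠ 1) (hta : s * (t * a) ≠ t * a * s) :
    s * a * s⁻¹ * w * (s * a * s⁻¹)⁻¹ = w * q ∨ s * a * s⁻¹ * w * (s * a * s⁻¹)⁻¹ = w * t * q := by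
  have ho := h.oddN.toOdd
  have htt := h.tr.tt_sq
  have hwa : w * a = a * w := OddBase.ws_comm ho h.ptq h.wW ha
  have hwt : w * t = t * w := h.tr.comm_t h.wW
  have hcs : ∀ b : G, w * b = b * w → w * (s * b * s⁻¹) = s * b * s⁻¹ * w → s * b = b * s := by
    intro b hb h1
    have h2 := h.comm_s h1 (by
      calc s * w * s⁻¹ * (s * b * s⁻¹) = s * (w * b) * s⁻¹ := by group
        _ = s * (b * w) * s⁻¹ := by rw [hb]
        _ = s * b * s⁻¹ * (s * w * s⁻¹) := by group)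
    have h4 : s⁻¹ * (s * b * s⁻¹) * s = s * b * s⁻¹ := by rw [mul_assoc, ← h2]; group
    have h5 : b = s * b * s⁻¹ := by rw [← h4]; group
    exact conj_eq_iff_comm.mp h5.symm
  have hut : s * a * s⁻¹ * t = t * (s * a * s⁻¹) := by
    have h2 : s⁻¹ * t * s ∈ ws V p := h.side.four.conj' h.tr.t_memr
    have h3 := comm_p h ha hsa h2
    calc s * a * s⁻¹ * t = s * (a * (s⁻¹ * t * s)) * s⁻¹ := by group
      _ = s * ((s⁻¹ * t * s) * a) * s⁻¹ := by rw [h3]
      _ = t * (s * a * s⁻¹) := by group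
  rcases h.conj_cases (comm_conj_q h hf hA hfw ha hsa) hut with e | e | e | e
  · exfalso
    have h1 := hcs a hwa (conj_eq_iff_comm.mp e).symm
    exact ha1 (h.tr.kill h.wW h.v_mem h.side h.side' h1 hsa
      (OddBase.ws_comm ho h.ptq h.tr.t_memd ha) (OddBase.ws_sq ho h.ptq ha))
  · exfalso
    apply hta
    refine hcs (t * a) ?_ ?_
    · have c1 : Commute w t := hwt
      have c2 : Commute w a := hwa
      exact (c1.mul_right c2).eq
    · -- `s t s⁻¹` moves `w` to `w t`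
      have hst : s * t * s⁻¹ ∈ ws V p := h.side.four.uu_le (h.side.four.uu_conj h.side.t_mem)
      have hstt : s * t * s⁻¹ * t = t * (s * t * s⁻¹) := (h.tr.comm_t' hst)
      have hne : w * (s * t * s⁻¹) ≠ s * t * s⁻¹ * w := by
        intro e1
        have h4 := h.side.uniq h.tr h.wW (h.side.four.uu_conj h.side.t_mem) (conj_ne_one h.tr.t_ne) e1
        exact h.side.t_ne h.tr (conj_eq_iff_comm.mp h4)
      have h5 := h.tr.conj_eq h.wW hst hne
      have e5 : w * (s * t * s⁻¹) = s * t * s⁻¹ * t * w := mul_inv_eq_iff_eq_mul.mp h5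
      have h6 : s * t * s⁻¹ * w * (s * t * s⁻¹)⁻¹ = w * t := by
        calc s * t * s⁻¹ * w * (s * t * s⁻¹)⁻¹ = s * t * s⁻¹ * (t * t) * w * (s * t * s⁻¹)⁻¹ := by
              rw [htt, mul_one]
          _ = s * t * s⁻¹ * t * (t * w) * (s * t * s⁻¹)⁻¹ := by group
          _ = s * t * s⁻¹ * t * (w * t) * (s * t * s⁻¹)⁻¹ := by rw [hwt]
          _ = (s * t * s⁻¹ * t * w) * t * (s * t * s⁻¹)⁻¹ := by group
          _ = w * (s * t * s⁻¹ * t) * (s * t * s⁻¹)⁻¹ := by rw [← e5]; group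
          _ = w * t := by rw [hstt]; group
      have h7 : s * (t * a) * s⁻¹ * w * (s * (t * a) * s⁻¹)⁻¹ = w := by
        calc s * (t * a) * s⁻¹ * w * (s * (t * a) * s⁻¹)⁻¹ =
              s * t * s⁻¹ * (s * a * s⁻¹ * w * (s * a * s⁻¹)⁻¹) * (s * t * s⁻¹)⁻¹ := by group
          _ = (s * t * s⁻¹ * w * (s * t * s⁻¹)⁻¹) * (s * t * s⁻¹ * t * (s * t * s⁻¹)⁻¹) := by rw [e]; group
          _ = w * t * t := by rw [h6, hstt]; group
          _ = w := by rw [mul_assoc, htt, mul_one]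
      exact (conj_eq_iff_comm.mp h7).symm
  · exact Or.inl e
  · exact Or.inr e

/-- **non-sliding is impossible** -/
theorem exists_move (h : Cfg T V z n p p1 q t w s v s') : ∃ a ∈ ws V (s * p1 * s⁻¹), a * q ≠ q * a := by
  by_contra hcon
  push Not at hcon
  have hn := h.three
  have ho := h.oddN.toOdd
  obtain ⟨f, hf, hfw⟩ := exists_f h hcon
  have hqW := self_mem_ws h.oddN.toGeo h.ptq
  have hq1 : q ≠ 1 := OddBase.Pt.ne_one h.oddN.toGeo h.ptq
  have hqq := OddBase.Pt.sq h.oddN.toGeo h.ptq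
  have htt := h.tr.tt_sq
  have htq : t * q = q * t := OddBase.ws_comm ho h.ptq h.tr.t_memd hqW
  have hs'q : s' * q = q * s' := mem_centralizer_singleton_iff.mp h.side'.mem
  obtain ⟨pn, hqn, hpn⟩ := (h.crit.symm ho).head h.oddN
  have hpnW : pn ∈ ws V q := hqn.mem_ws
  have hptn : Pt z pn := hqn.pt h.oddN.toGeo
  have htpn : t * pn = pn * t := OddBase.ws_comm ho h.ptq h.tr.t_memd hpnW
  have hqpn : q * pn = pn * q := OddBase.ws_comm ho h.ptq hqW hpnW
  have hs'y : s' * (t * pn) = t * pn * s' :=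
    h.side'.comm_tp h.oddN h.tr.symm hptn hpnW h.lt hpn h.v_mem
  have hqn' : Col V q (q * pn) := OddSmall.col_mul ho hqn
  have hnc := not_col h
  -- the three elements
  have c1 := act_cases h hf hcon hfw hqW hs'q hq1 (not_comm_tq h hf (hcon f hf) hfw)
  have c2 := act_cases h hf hcon hfw (mul_mem h.tr.t_memd hpnW) hs'y (fun e => hnc (by
      have : t = pn := by rw [eq_inv_of_mul_eq_one_left e, inv_eq_self (OddBase.ws_sq ho h.ptq hpnW)]
      rw [this]; exact hqn)) (by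
    have e : t * (t * pn) = pn := by rw [← mul_assoc, htt, one_mul]
    rw [e]
    exact h.side.ne h.oddN hptn (show 1 < n by omega) hqn.symm.walk h.wW)
  have c3 := act_cases h hf hcon hfw (mul_mem (mul_mem h.tr.t_memd hpnW) hqW) (by
      have k1 : Commute s' (t * pn) := hs'y
      have k2 : Commute s' q := hs'q
      exact (k1.mul_right k2).eq) (fun e => hnc (by
      have : t = q * pn := by
        rw [mul_assoc] at e
        rw [eq_inv_of_mul_eq_one_left e, inv_eq_self (OddBase.ws_sq ho h.ptq (mul_mem hpnW hqW)), hqpn]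
      rw [this]; exact hqn')) (by
    have e : t * (t * pn * q) = q * pn := by
      rw [← mul_assoc, ← mul_assoc, htt, one_mul, hqpn]
    rw [e]
    exact h.side.ne h.oddN (hqn'.pt h.oddN.toGeo) (show 1 < n by omega) hqn'.symm.walk h.wW)
  -- multiplicativity
  have hu1q := comm_conj_q h hf hcon hfw (mul_mem h.tr.t_memd hpnW) hs'y
  have hu1t : s * (t * pn) * s⁻¹ * t = t * (s * (t * pn) * s⁻¹) := by
    have h2 : s⁻¹ * t * s ∈ ws V p := h.side.four.conj' h.tr.t_memr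
    have h3 := comm_p h (mul_mem h.tr.t_memd hpnW) hs'y h2
    calc s * (t * pn) * s⁻¹ * t = s * ((t * pn) * (s⁻¹ * t * s)) * s⁻¹ := by group
      _ = s * ((s⁻¹ * t * s) * (t * pn)) * s⁻¹ := by rw [h3]
      _ = t * (s * (t * pn) * s⁻¹) := by group
  set u1 := s * (t * pn) * s⁻¹ with hu1
  set u2 := s * q * s⁻¹ with hu2
  have e3 : s * (t * pn * q) * s⁻¹ = u1 * u2 := by rw [hu1, hu2]; group
  rw [e3] at c3
  have hmul : ∀ c d : G, u1 * c = c * u1 → u2 * w * u2⁻¹ = w * c → u1 * w * u1⁻¹ = w * d →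
      u1 * u2 * w * (u1 * u2)⁻¹ = w * (d * c) := by
    intro c d h1 h2 h3
    calc u1 * u2 * w * (u1 * u2)⁻¹ = u1 * (u2 * w * u2⁻¹) * u1⁻¹ := by group
      _ = (u1 * w * u1⁻¹) * (u1 * c * u1⁻¹) := by rw [h2]; group
      _ = w * (d * c) := by rw [h3, h1]; group
  have hu1tq : u1 * (t * q) = t * q * u1 := by
    have k1 : Commute u1 t := hu1t
    have k2 : Commute u1 q := hu1q
    exact (k1.mul_right k2).eq
  have hqtq : q * (t * q) = t := by rw [htq, ← mul_assoc, hqq, one_mul]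
  have key : u1 * u2 * w * (u1 * u2)⁻¹ = w ∨ u1 * u2 * w * (u1 * u2)⁻¹ = w * t := by
    rcases c1 with e1 | e1 <;> rcases c2 with e2 | e2
    · left; rw [hmul q q hu1q e1 e2, hqq, mul_one]
    · right
      rw [hmul q (t * q) hu1q e1 (e2.trans (mul_assoc _ _ _)), mul_assoc t, hqq, mul_one]
    · right
      rw [hmul (t * q) q hu1tq (e1.trans (mul_assoc _ _ _)) e2, hqtq]
    · left
      rw [hmul (t * q) (t * q) hu1tq (e1.trans (mul_assoc _ _ _)) (e2.trans (mul_assoc _ _ _))]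
      have : t * q * (t * q) = 1 := by rw [mul_assoc, hqtq, htt]
      rw [this, mul_one]
  have hqt : t ≠ q := fun e => h.tr.dr (e ▸ h.tr.t_memr)
  rcases c3 with e3 | e3 <;> rcases key with e4 | e4 <;> rw [e3] at e4
  · exact hq1 (mul_eq_left.mp e4)
  · exact hqt (mul_left_cancel e4).symm
  · rw [mul_assoc] at e4
    have e5 : t * q = 1 := mul_eq_left.mp e4
    exact hqt (by rw [eq_inv_of_mul_eq_one_left e5, inv_eq_self hqq])
  · exact hq1 (mul_eq_left.mp e4)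

end Cfsg.Agent.MinSimple.OddNonSlide
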