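import Cfsg.Agent.MinSimple.OddCaseCfg
import Cfsg.Agent.MinSimple.OddNonSlide

/-!
# (E1)(b), `n ≥ 3`: Case 1 is impossible
-/

set_option autoImplicit false

namespace Cfsg.Agent.MinSimple.OddSlide

open Subgroup Cfsg Cfsg.Agent.ZN Cfsg.Agent.MinSimple.Geo Cfsg.Agent.MinSimple.BTwoA
  Cfsg.Agent.MinSimple.OddLine Cfsg.Agent.MinSimple.OddBase

universe u

variable {G : Type u} [Group G] [Finite G] {T V : Subgroup G} {z : G}

/-- **Case 1** is impossible for `n ≥ 3` -/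
theorem false_of_crit {n : ℕ} (h : OddN T V z n) (h3 : 3 ≤ n) {x y : G}
    (hc : Crit V z n x y) (hxy : x ∉ ws V y) (hyx : y ∉ ws V x) : False :=
  false_of_cfg h h3 (fun _ _ _ _ _ _ _ _ hC => OddNonSlide.exists_move hC) hc hxy hyx

end Cfsg.Agent.MinSimple.OddSlide
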