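import Mathlib
import Cfsg.Prelude.Def_Transfer
import Cfsg.Agent.Lib.CoprimeHyperplane

/-!
# Thompson's dihedral lemma

An elementary abelian 2-group `A` acting faithfully on a nilpotent group `R` of odd order: `A` has a basis
`b₁, …, bₙ` and `R` contains commuting elements `y₁, …, yₙ` of prime order such that `bⱼ` inverts `yⱼ` and
centralizes `yᵢ` for `i ≠ j`.
-/

set_option autoImplicit false
set_option linter.dupNamespace false

namespace Cfsg.Agent.MinSimple.Dihedral

open Subgroup

variable {G : Type*} [Group G]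

theorem eq_one_of_mul_self {R : Subgroup G} (hodd : Odd (Nat.card R)) {k : G} (hk : k ∈ R)
    (h : k * k = 1) : k = 1 := by
  have h1 : orderOf (⟨k, hk⟩ : R) ∣ Nat.card R := orderOf_dvd_natCard _
  have h2 : orderOf (⟨k, hk⟩ : R) ∣ 2 := orderOf_dvd_of_pow_eq_one (by
    rw [pow_two]; exact Subtype.ext h)
  have h3 : (Nat.card R).Coprime 2 := Nat.Coprime.symm (Nat.coprime_two_left.mpr hodd)
  have h4 := Nat.eq_one_of_dvd_coprimes h3 h1 h2
  have h5 := orderOf_eq_one_iff.mp h4
  exact congrArg Subtype.val h5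

/-- `A × B`-lemma for an involution acting on a nilpotent group of odd order. -/
theorem centralizes_of {R : Subgroup G} (hR : Group.IsNilpotent R) (hodd : Odd (Nat.card R)) {β : G}
    (hβ : β * β = 1) (hβR : ∀ r ∈ R, β * r * β⁻¹ ∈ R) (X : Set G) (hX : X ⊆ R)
    (hXβ : ∀ x ∈ X, β * x = x * β)
    (h : ∀ r ∈ R, (∀ x ∈ X, x * r = r * x) → β * r = r * β) : ∀ r ∈ R, β * r = r * β := by
  have hβi : β⁻¹ = β := inv_eq_of_mul_eq_one_left hβ
  let C : Subgroup R := {
    carrier := {r | β * (r : G) = r * β}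
    mul_mem' := by
      intro a b ha hb
      change β * ((a : G) * b) = (a : G) * b * β
      rw [← mul_assoc, show β * (a : G) = a * β from ha, mul_assoc, show β * (b : G) = b * β from hb,
        mul_assoc]
    one_mem' := by
      change β * ((1 : R) : G) = ((1 : R) : G) * β
      simp
    inv_mem' := by
      intro a ha
      change β * ((a⁻¹ : R) : G) = ((a⁻¹ : R) : G) * β
      have ha' : β * (a : G) = a * β := ha
      have : Commute β (a : G) := ha'
      exact (this.inv_right).eq }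
  have hmem : ∀ r : R, r ∈ C ↔ β * (r : G) = r * β := fun r => Iff.rfl
  by_contra hcon
  push Not at hcon
  obtain ⟨r0, hr0, hr0'⟩ := hcon
  have hCtop : C < ⊤ := by
    refine lt_of_le_of_ne le_top fun e => hr0' ?_
    have : (⟨r0, hr0⟩ : R) ∈ C := by rw [e]; exact mem_top _
    exact this
  have hN := Group.normalizerCondition_of_isNilpotent (G := R) C hCtop
  obtain ⟨g, hg, hgC⟩ := SetLike.exists_of_lt hN
  apply hgC
  rw [hmem]
  set k : G := (g : G)⁻¹ * (β * g * β⁻¹) with hk
  have hkR : k ∈ R := mul_mem (inv_mem g.2) (hβR _ g.2)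
  have hkX : ∀ x ∈ X, x * k = k * x := by
    intro x hx
    have hxC : (⟨x, hX hx⟩ : R) ∈ C := hXβ x hx
    have h1 := (mem_normalizer_iff.mp hg _).mp hxC
    rw [hmem] at h1
    have h2 : β * ((g : G) * x * (g : G)⁻¹) = ((g : G) * x * (g : G)⁻¹) * β := h1
    have h3 : β * x = x * β := hXβ x hx
    have h4 : x * β⁻¹ = β⁻¹ * x := by rw [hβi, h3]
    have h5 : β * g * β⁻¹ * x = (g * x * (g : G)⁻¹) * (β * g * β⁻¹) := by
      calc β * g * β⁻¹ * x = β * g * (x * β⁻¹) := by rw [h4]; group
        _ = β * (g * x * (g : G)⁻¹) * (g * β⁻¹) := by group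
        _ = (g * x * (g : G)⁻¹) * (β * g * β⁻¹) := by rw [h2]; group
    calc x * k = (g : G)⁻¹ * ((g * x * (g : G)⁻¹) * (β * g * β⁻¹)) := by rw [hk]; group
      _ = k * x := by rw [← h5, hk]; group
  have hkβ := h k hkR hkX
  have hkinv : β * k * β⁻¹ = k⁻¹ := by
    rw [hk]
    have : β * ((g : G)⁻¹ * (β * g * β⁻¹)) * β⁻¹ = β * (g : G)⁻¹ * (β * g * (β * β)⁻¹) := by group
    rw [this, hβ, inv_one, mul_one]
    have : ((g : G)⁻¹ * (β * g * β⁻¹))⁻¹ = β * (g : G)⁻¹ * (β⁻¹ * g) := by group
    rw [this, hβi]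
  have hkk : k * k = 1 := by
    have : k = k⁻¹ := by
      rw [← hkinv, hkβ]; group
    nth_rewrite 2 [this]
    exact mul_inv_cancel k
  have hk1 : k = 1 := eq_one_of_mul_self hodd hkR hkk
  have h6 : β * g * β⁻¹ = g := by
    have h7 : (g : G) * k = β * g * β⁻¹ := by rw [hk]; group
    rw [← h7, hk1, mul_one]
  calc β * (g : G) = (β * g * β⁻¹) * β := by group
    _ = g * β := by rw [h6]

/-- A dihedral system. -/
structure Sys (A R : Subgroup G) (n : ℕ) (b y : Fin n → G) : Prop where
  bA : ∀ j, b j ∈ A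
  yR : ∀ j, y j ∈ R
  pr : ∀ j, (orderOf (y j)).Prime
  inv : ∀ j, b j * y j * (b j)⁻¹ = (y j)⁻¹
  fix : ∀ i j, i ≠ j → b i * y j = y j * b i
  comm : ∀ i j, y i * y j = y j * y i
  eig : ∀ a ∈ A, ∀ j, a * y j = y j * a ∨ a * y j * a⁻¹ = (y j)⁻¹

theorem exists_larger [Finite G] {A R : Subgroup G} (hA : ∀ a ∈ A, a * a = 1)
    (hR : Group.IsNilpotent R) (hodd : Odd (Nat.card R)) (hAR : A ≤ normalizer (R : Set G))
    (hf : ∀ a ∈ A, (∀ r ∈ R, a * r = r * a) → a = 1) {n : ℕ} {b y : Fin n → G}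
    (h : Sys A R n b y) (hne : A ⊓ centralizer (Set.range y) ≠ ⊥) :
    ∃ b' y' : Fin (n + 1) → G, Sys A R (n + 1) b' y' ∧
      A ⊓ centralizer (Set.range y') < A ⊓ centralizer (Set.range y) := by
  have hinv : ∀ a ∈ A, a⁻¹ = a := fun a ha => inv_eq_of_mul_eq_one_left (hA a ha)
  have hcommA : ∀ a ∈ A, ∀ c ∈ A, a * c = c * a := by
    intro a ha c hc
    have h1 := hA _ (mul_mem ha hc)
    calc a * c = (a * c)⁻¹ := (inv_eq_of_mul_eq_one_left h1).symm
      _ = c⁻¹ * a⁻¹ := by group
      _ = c * a := by rw [hinv a ha, hinv c hc]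
  have hAR' : ∀ a ∈ A, ∀ r ∈ R, a * r * a⁻¹ ∈ R := fun a ha r hr =>
    (mem_normalizer_iff.mp (hAR ha) r).mp hr
  -- an element of `A` centralizing the `y j`
  obtain ⟨β, hβ, hβ1⟩ : ∃ β : G, β ∈ A ⊓ centralizer (Set.range y) ∧ β ≠ 1 := by
    obtain ⟨x, hx⟩ := Subgroup.ne_bot_iff_exists_ne_one.mp hne
    exact ⟨x, x.2, fun e => hx (Subtype.ext e)⟩
  have hβA : β ∈ A := hβ.1
  have hβy : ∀ j, β * y j = y j * β := by
    intro j
    have := mem_centralizer_iff.mp hβ.2 (y j) ⟨j, rfl⟩
    exact this.symm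
  -- the subgroup `R₁`
  set R1 : Subgroup G := R ⊓ centralizer (Set.range y) with hR1
  have hR1n : A ≤ normalizer (R1 : Set G) := by
    intro a ha
    have key : ∀ a ∈ A, ∀ r ∈ R1, a * r * a⁻¹ ∈ R1 := by
      rintro a ha r ⟨hr, hr2⟩
      refine mem_inf.mpr ⟨hAR' a ha r hr, ?_⟩
      rw [mem_centralizer_iff]
      rintro _ ⟨j, rfl⟩
      have h1 : y j * r = r * y j := mem_centralizer_iff.mp hr2 _ ⟨j, rfl⟩
      have h2 : a⁻¹ * y j * a * r = r * (a⁻¹ * y j * a) := by
        rcases h.eig a ha j with h3 | h3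
        · have : a⁻¹ * y j * a = y j := by rw [mul_assoc, ← h3]; group
          rw [this, h1]
        · have h4 : a⁻¹ * y j * a = (y j)⁻¹ := by
            have h5' : a * (y j)⁻¹ * a⁻¹ = (a * y j * a⁻¹)⁻¹ := by group
            have h5 : a * (y j)⁻¹ * a⁻¹ = y j := by rw [h5', h3, inv_inv]
            calc a⁻¹ * y j * a = a⁻¹ * (a * (y j)⁻¹ * a⁻¹) * a := by rw [h5]
              _ = (y j)⁻¹ := by group
          rw [h4]
          have : Commute (y j) r := h1
          exact this.inv_left.eq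
      calc y j * (a * r * a⁻¹) = a * (a⁻¹ * y j * a * r) * a⁻¹ := by group
        _ = a * r * a⁻¹ * y j := by rw [h2]; group
    rw [mem_normalizer_iff]
    intro r
    constructor
    · exact key a ha r
    · intro hr
      have := key a⁻¹ (inv_mem ha) _ hr
      have e : a⁻¹ * (a * r * a⁻¹) * a⁻¹⁻¹ = r := by group
      rwa [e] at this
  have hR1odd : Odd (Nat.card R1) :=
    Odd.of_dvd_nat hodd (card_dvd_of_le inf_le_left)
  -- `β` does not centralize `R₁`
  have hβR1 : ¬ ∀ r ∈ R1, β * r = r * β := by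
    intro hcon
    refine hβ1 (hf β hβA ?_)
    refine centralizes_of hR hodd (hA β hβA) (hAR' β hβA) (Set.range y) ?_ ?_ ?_
    · rintro _ ⟨j, rfl⟩; exact h.yR j
    · rintro _ ⟨j, rfl⟩; exact hβy j
    · intro r hr hr2
      exact hcon r ⟨hr, mem_centralizer_iff.mpr hr2⟩
  -- a hyperplane
  have hAne : A ≠ ⊥ := by
    intro e
    exact hβ1 (by simpa [e] using hβA)
  have hEA : Cfsg.IsElementaryAbelian 2 A :=
    ⟨⟨⟨fun a c => Subtype.ext (hcommA a a.2 c c.2)⟩⟩, fun a ha => by rw [pow_two]; exact hA a ha⟩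
  have hgen := Cfsg.Agent.Lib.CoprimeHyperplane.le_iSup_hyperplane (p := 2) A R1 hEA hAne
    (Nat.Coprime.symm (Nat.coprime_two_left.mpr hR1odd)) hR1n
  obtain ⟨H, hHA, hHi, r, hrR1, hrH, hrβ⟩ : ∃ H : Subgroup G, H ≤ A ∧ H.relIndex A = 2 ∧
      ∃ r ∈ R1, r ∈ centralizer (H : Set G) ∧ ¬ β * r = r * β := by
    by_contra hcon
    push Not at hcon
    apply hβR1
    have hle : R1 ≤ centralizer ({β} : Set G) := by
      conv_lhs => rw [hgen]
      refine iSup_le ?_
      rintro ⟨B, hB1, hB2⟩ r ⟨hr, hr2⟩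
      rw [mem_centralizer_singleton_iff]
      exact (hcon B hB1 hB2 r hr hr2).symm
    intro r hr
    exact (mem_centralizer_singleton_iff.mp (hle hr)).symm
  have hrR : r ∈ R := hrR1.1
  have hry : ∀ j, y j * r = r * y j := fun j => mem_centralizer_iff.mp hrR1.2 _ ⟨j, rfl⟩
  have hrH' : ∀ c ∈ H, c * r = r * c := fun c hc => mem_centralizer_iff.mp hrH c hc
  have hβH : β ∉ H := fun hc => hrβ (hrH' β hc)
  -- `A = H ∪ H β`
  have hcos : ∀ a ∈ A, a ∈ H ∨ a * β ∈ H := by
    intro a ha
    by_cases haH : a ∈ H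
    · exact Or.inl haH
    right
    have hi : (H.subgroupOf A).index = 2 := hHi
    have h1 := Subgroup.mul_mem_iff_of_index_two hi (a := ⟨a, ha⟩) (b := ⟨β, hβA⟩)
    rw [mem_subgroupOf, mem_subgroupOf, mem_subgroupOf] at h1
    exact h1.mpr ⟨fun h => absurd h haH, fun h => absurd h hβH⟩
  set k : G := r⁻¹ * (β * r * β⁻¹) with hk
  have hkR : k ∈ R := mul_mem (inv_mem hrR) (hAR' β hβA r hrR)
  have hk1 : k ≠ 1 := by
    intro e
    apply hrβ
    have h7 : r * k = β * r * β⁻¹ := by rw [hk]; group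
    rw [e, mul_one] at h7
    calc β * r = (β * r * β⁻¹) * β := by group
      _ = r * β := by rw [← h7]
  have hkinv : β * k * β⁻¹ = k⁻¹ := by
    rw [hk]
    have : β * (r⁻¹ * (β * r * β⁻¹)) * β⁻¹ = β * r⁻¹ * (β * r * (β * β)⁻¹) := by group
    rw [this, hA β hβA, inv_one, mul_one]
    have : (r⁻¹ * (β * r * β⁻¹))⁻¹ = β * r⁻¹ * (β⁻¹ * r) := by group
    rw [this, hinv β hβA]
  have hkH : ∀ c ∈ H, Commute c k := by
    intro c hc
    have h1 : Commute c r := hrH' c hc
    have h2 : Commute c β := hcommA c (hHA hc) β hβA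
    rw [hk]
    exact h1.inv_right.mul_right ((h2.mul_right h1).mul_right h2.inv_right)
  have hky : ∀ j, Commute (y j) k := by
    intro j
    have h1 : Commute (y j) r := hry j
    have h2 : Commute (y j) β := (hβy j).symm
    rw [hk]
    exact h1.inv_right.mul_right ((h2.mul_right h1).mul_right h2.inv_right)
  -- an element of prime order
  obtain ⟨m, hm⟩ : ∃ m : ℕ, (orderOf (k ^ m)).Prime := by
    have hko : orderOf k ≠ 1 := fun e => hk1 (orderOf_eq_one_iff.mp e)
    obtain ⟨p, hp, hpk⟩ := Nat.exists_prime_and_dvd hko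
    refine ⟨orderOf k / p, ?_⟩
    rw [orderOf_pow_orderOf_div (orderOf_pos k).ne' hpk]
    exact hp
  set y0 : G := k ^ m with hy0
  have hy0R : y0 ∈ R := pow_mem hkR m
  have hy0inv : β * y0 * β⁻¹ = y0⁻¹ := by
    rw [hy0, ← conj_pow, hkinv, inv_pow]
  have hy0H : ∀ c ∈ H, c * y0 = y0 * c := fun c hc => ((hkH c hc).pow_right m).eq
  have hy0y : ∀ j, y j * y0 = y0 * y j := fun j => ((hky j).pow_right m).eq
  have hy0ne : y0 ≠ 1 := by
    intro e
    rw [e, orderOf_one] at hm
    exact Nat.not_prime_one hm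
  have hy0β : ¬ β * y0 = y0 * β := by
    intro e
    have h1 : y0 = y0⁻¹ := by
      rw [← hy0inv, e]; group
    apply hy0ne
    refine eq_one_of_mul_self hodd hy0R ?_
    nth_rewrite 2 [h1]
    exact mul_inv_cancel _
  -- the new `b`
  have hadj : ∀ a ∈ A, ∃ c ∈ A, (c = a ∨ c = a * β) ∧ c * y0 = y0 * c := by
    intro a ha
    rcases hcos a ha with h1 | h1
    · exact ⟨a, ha, Or.inl rfl, hy0H a h1⟩
    · exact ⟨a * β, mul_mem ha hβA, Or.inr rfl, hy0H _ h1⟩
  choose! f hfA hfc hfy using hadj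
  have hfconj : ∀ a ∈ A, ∀ j, f a * y j * (f a)⁻¹ = a * y j * a⁻¹ := by
    intro a ha j
    rcases hfc a ha with e | e
    · rw [e]
    · rw [e]
      calc a * β * y j * (a * β)⁻¹ = a * (β * y j) * β⁻¹ * a⁻¹ := by group
        _ = a * y j * a⁻¹ := by rw [hβy j]; group
  refine ⟨Fin.cons β (fun i => f (b i)), Fin.cons y0 y, ?_, ?_⟩
  · refine ⟨?_, ?_, ?_, ?_, ?_, ?_, ?_⟩
    · intro j
      refine Fin.cases ?_ (fun i => ?_) j
      · simpa using hβA
      · simpa using hfA _ (h.bA i)
    · intro j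
      refine Fin.cases ?_ (fun i => ?_) j
      · simpa using hy0R
      · simpa using h.yR i
    · intro j
      refine Fin.cases ?_ (fun i => ?_) j
      · simpa using hm
      · simpa using h.pr i
    · intro j
      refine Fin.cases ?_ (fun i => ?_) j
      · simpa using hy0inv
      · simp only [Fin.cons_succ]
        rw [hfconj _ (h.bA i)]
        exact h.inv i
    · intro i j
      refine Fin.cases ?_ (fun j => ?_) j
      · refine Fin.cases ?_ (fun i => ?_) i
        · intro e; exact absurd rfl e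
        · intro _
          simpa using hfy _ (h.bA i)
      · refine Fin.cases ?_ (fun i => ?_) i
        · intro _
          simpa using hβy j
        · intro hij
          simp only [Fin.cons_succ]
          have hij' : i ≠ j := fun e => hij (by rw [e])
          have h1 := hfconj _ (h.bA i) j
          rw [h.fix i j hij', mul_inv_cancel_right] at h1
          calc f (b i) * y j = (f (b i) * y j * (f (b i))⁻¹) * f (b i) := by group
            _ = y j * f (b i) := by rw [h1]
    · intro i j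
      refine Fin.cases ?_ (fun j => ?_) j
      · refine Fin.cases ?_ (fun i => ?_) i
        · rfl
        · simpa using hy0y i
      · refine Fin.cases ?_ (fun i => ?_) i
        · simpa using (hy0y j).symm
        · simpa using h.comm i j
    · intro a ha j
      refine Fin.cases ?_ (fun j => ?_) j
      · simp only [Fin.cons_zero]
        rcases hcos a ha with h1 | h1
        · exact Or.inl (hy0H a h1)
        · right
          have h2 := hy0H _ h1
          have h3 : a = (a * β) * β⁻¹ := by group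
          have h4 : β⁻¹ * y0 * β⁻¹⁻¹ = y0⁻¹ := by rw [hinv β hβA]; exact hy0inv
          calc a * y0 * a⁻¹ = (a * β) * (β⁻¹ * y0 * β⁻¹⁻¹) * (a * β)⁻¹ := by group
            _ = (a * β) * y0⁻¹ * (a * β)⁻¹ := by rw [h4]
            _ = y0⁻¹ := by
              have : Commute (a * β) y0 := h2
              rw [this.inv_right.eq]; group
      · simpa using h.eig a ha j
  · refine lt_of_le_of_ne ?_ ?_
    · refine inf_le_inf le_rfl (centralizer_le ?_)
      rintro _ ⟨j, rfl⟩
      exact ⟨j.succ, by simp⟩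
    · intro e
      have : β ∈ A ⊓ centralizer (Set.range (Fin.cons y0 y : Fin (n + 1) → G)) := by
        rw [e]; exact hβ
      apply hy0β
      exact (mem_centralizer_iff.mp this.2 y0 ⟨0, by simp⟩).symm

theorem exists_full [Finite G] {A R : Subgroup G} (hA : ∀ a ∈ A, a * a = 1)
    (hR : Group.IsNilpotent R) (hodd : Odd (Nat.card R)) (hAR : A ≤ normalizer (R : Set G))
    (hf : ∀ a ∈ A, (∀ r ∈ R, a * r = r * a) → a = 1) :
    ∃ (n : ℕ) (b y : Fin n → G), Sys A R n b y ∧ A ⊓ centralizer (Set.range y) = ⊥ := by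
  have key : ∀ N : ℕ, ∀ (n : ℕ) (b y : Fin n → G), Sys A R n b y →
      Nat.card (A ⊓ centralizer (Set.range y) : Subgroup G) ≤ N →
      ∃ (n : ℕ) (b y : Fin n → G), Sys A R n b y ∧ A ⊓ centralizer (Set.range y) = ⊥ := by
    intro N
    induction N with
    | zero =>
      intro n b y h hN
      exact absurd hN (by have := Nat.card_pos (α := (A ⊓ centralizer (Set.range y) : Subgroup G)); omega)
    | succ N ih =>
      intro n b y h hN
      by_cases hne : A ⊓ centralizer (Set.range y) = ⊥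
      · exact ⟨n, b, y, h, hne⟩
      · obtain ⟨b', y', h', hlt⟩ := exists_larger hA hR hodd hAR hf h hne
        refine ih (n + 1) b' y' h' ?_
        have h1 := Set.ncard_lt_ncard (show ((A ⊓ centralizer (Set.range y') : Subgroup G) : Set G) ⊂
          ((A ⊓ centralizer (Set.range y) : Subgroup G) : Set G) from hlt) (Set.toFinite _)
        have h2 : ((A ⊓ centralizer (Set.range y') : Subgroup G) : Set G).ncard
          = Nat.card (A ⊓ centralizer (Set.range y') : Subgroup G) := rfl
        have h3 : ((A ⊓ centralizer (Set.range y) : Subgroup G) : Set G).ncard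
          = Nat.card (A ⊓ centralizer (Set.range y) : Subgroup G) := rfl
        omega
  exact key _ 0 Fin.elim0 Fin.elim0
    ⟨fun j => j.elim0, fun j => j.elim0, fun j => j.elim0, fun j => j.elim0, fun j => j.elim0,
      fun j => j.elim0, fun a _ j => j.elim0⟩ le_rfl

namespace Sys

variable {A R : Subgroup G} {n : ℕ} {b y : Fin n → G}

theorem ne_one (h : Sys A R n b y) (j : Fin n) : y j ≠ 1 := by
  intro e
  have := h.pr j
  rw [e, orderOf_one] at this
  exact Nat.not_prime_one this

/-- inverting and centralizing exclude each other -/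
theorem not_both (h : Sys A R n b y) (hodd : Odd (Nat.card R)) {a : G} {j : Fin n}
    (h1 : a * y j = y j * a) (h2 : a * y j * a⁻¹ = (y j)⁻¹) : False := by
  have h3 : y j = (y j)⁻¹ := by rw [← h2, h1]; group
  apply h.ne_one j
  refine eq_one_of_mul_self hodd (h.yR j) ?_
  nth_rewrite 2 [h3]
  exact mul_inv_cancel _

/-- products of the `b j` -/
theorem exists_mem_closure (h : Sys A R n b y) (s : Finset (Fin n)) :
    ∃ a ∈ closure (Set.range b), (∀ j ∈ s, a * y j * a⁻¹ = (y j)⁻¹) ∧ ∀ j ∉ s, a * y j = y j * a := by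
  classical
  induction s using Finset.induction_on with
  | empty => exact ⟨1, one_mem _, fun j hj => absurd hj (Finset.notMem_empty j), fun j _ => by simp⟩
  | insert i s his ih =>
    obtain ⟨a, ha, h1, h2⟩ := ih
    refine ⟨a * b i, mul_mem ha (subset_closure ⟨i, rfl⟩), ?_, ?_⟩
    · intro j hj
      have e : a * b i * y j * (a * b i)⁻¹ = a * (b i * y j * (b i)⁻¹) * a⁻¹ := by group
      rw [e]
      rcases Finset.mem_insert.mp hj with rfl | hj
      · rw [h.inv j]
        have : Commute a (y j) := h2 j his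
        rw [this.inv_right.eq]; group
      · have hij : i ≠ j := fun e => his (e ▸ hj)
        rw [h.fix i j hij, mul_inv_cancel_right]
        exact h1 j hj
    · intro j hj
      rw [Finset.mem_insert, not_or] at hj
      have hij : i ≠ j := fun e => hj.1 e.symm
      rw [mul_assoc, h.fix i j hij, ← mul_assoc, h2 j hj.2, mul_assoc]

theorem closure_eq (h : Sys A R n b y)
    (hbot : A ⊓ centralizer (Set.range y) = ⊥) : A = closure (Set.range b) := by
  classical
  refine le_antisymm ?_ ?_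
  · intro a ha
    obtain ⟨c, hc, h1, h2⟩ := h.exists_mem_closure (Finset.univ.filter fun j => ¬ a * y j = y j * a)
    have hcA : c ∈ A := by
      refine (closure_le A).mpr ?_ hc
      rintro _ ⟨j, rfl⟩; exact h.bA j
    have h3 : c⁻¹ * a ∈ A ⊓ centralizer (Set.range y) := by
      refine mem_inf.mpr ⟨mul_mem (inv_mem hcA) ha, ?_⟩
      rw [mem_centralizer_iff]
      rintro _ ⟨j, rfl⟩
      have h4 : a * y j * a⁻¹ = c * y j * c⁻¹ := by
        by_cases hj : a * y j = y j * a
        · rw [h2 j (by simp [hj]), hj]; group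
        · rw [h1 j (by simp [hj])]
          exact (h.eig a ha j).resolve_left hj
      calc y j * (c⁻¹ * a) = c⁻¹ * (c * y j * c⁻¹) * a := by group
        _ = c⁻¹ * a * y j := by rw [← h4]; group
    rw [hbot, mem_bot] at h3
    have : a = c := (inv_mul_eq_one.mp h3).symm
    rw [this]; exact hc
  · rw [closure_le]
    rintro _ ⟨j, rfl⟩; exact h.bA j

theorem card_eq (h : Sys A R n b y) (hodd : Odd (Nat.card R))
    (hbot : A ⊓ centralizer (Set.range y) = ⊥) : Nat.card A = 2 ^ n := by
  classical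
  have hcl := h.closure_eq hbot
  let F : A → Finset (Fin n) := fun a => Finset.univ.filter fun j => ¬ (a : G) * y j = y j * a
  have hF : Function.Bijective F := by
    constructor
    · rintro ⟨a, ha⟩ ⟨c, hc⟩ hac
      have hmem : ∀ j, (a * y j = y j * a ↔ c * y j = y j * c) := by
        intro j
        have : j ∈ F ⟨a, ha⟩ ↔ j ∈ F ⟨c, hc⟩ := by rw [hac]
        simp only [F, Finset.mem_filter, Finset.mem_univ, true_and] at this
        exact not_iff_not.mp this
      have h3 : c⁻¹ * a ∈ A ⊓ centralizer (Set.range y) := by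
        refine mem_inf.mpr ⟨mul_mem (inv_mem hc) ha, ?_⟩
        rw [mem_centralizer_iff]
        rintro _ ⟨j, rfl⟩
        have h4 : a * y j * a⁻¹ = c * y j * c⁻¹ := by
          by_cases hj : a * y j = y j * a
          · rw [(hmem j).mp hj, hj]; group
          · rw [(h.eig a ha j).resolve_left hj,
              (h.eig c hc j).resolve_left (fun e => hj ((hmem j).mpr e))]
        calc y j * (c⁻¹ * a) = c⁻¹ * (c * y j * c⁻¹) * a := by group
          _ = c⁻¹ * a * y j := by rw [← h4]; group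
      rw [hbot, mem_bot] at h3
      exact Subtype.ext (inv_mul_eq_one.mp h3).symm
    · intro s
      obtain ⟨c, hc, h1, h2⟩ := h.exists_mem_closure s
      refine ⟨⟨c, by rw [hcl]; exact hc⟩, ?_⟩
      ext j
      simp only [F, Finset.mem_filter, Finset.mem_univ, true_and]
      constructor
      · intro hj
        by_contra hjs
        exact hj (h2 j hjs)
      · intro hj hcon
        exact h.not_both hodd hcon (h1 j hj)
  rw [Nat.card_congr (Equiv.ofBijective F hF), Nat.card_eq_fintype_card, Fintype.card_finset,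
    Fintype.card_fin]

end Sys

/-- **Thompson's dihedral lemma.** -/
theorem exists_dihedral [Finite G] (A R : Subgroup G) (hA : ∀ a ∈ A, a * a = 1)
    (hR : Group.IsNilpotent R) (hodd : Odd (Nat.card R)) (hAR : A ≤ normalizer (R : Set G))
    (hf : ∀ a ∈ A, (∀ r ∈ R, a * r = r * a) → a = 1) :
    ∃ (n : ℕ) (b y : Fin n → G), Nat.card A = 2 ^ n ∧ A = closure (Set.range b) ∧
      (∀ j, b j ∈ A) ∧ (∀ j, y j ∈ R) ∧ (∀ j, (orderOf (y j)).Prime) ∧
      (∀ j, b j * y j * (b j)⁻¹ = (y j)⁻¹) ∧ (∀ i j, i ≠ j → b i * y j = y j * b i) ∧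
      (∀ i j, y i * y j = y j * y i) ∧
      (∀ a ∈ A, ∀ j, a * y j = y j * a ∨ a * y j * a⁻¹ = (y j)⁻¹) := by
  obtain ⟨n, b, y, h, hbot⟩ := exists_full hA hR hodd hAR hf
  exact ⟨n, b, y, h.card_eq hodd hbot, h.closure_eq hbot, h.bA, h.yR, h.pr, h.inv, h.fix,
    h.comm, h.eig⟩

end Cfsg.Agent.MinSimple.Dihedral
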