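import Mathlib

/-!
# The killing lemma (N)

In a solvable group no element `v ≠ 1` lies in `[N, N]`, `N = ⟨v^H⟩`.  Hence, if `v ≠ 1` lies in
`[⟨v^X⟩, ⟨v^Y⟩]`, then no solvable group contains `X` and `Y`, and, in a group all of whose 2-locals
are solvable, `X` and `Y` normalise no common nontrivial 2-subgroup.
-/

set_option autoImplicit false

namespace Cfsg.Agent.MinSimple.Killing

open Subgroup

variable {G : Type*} [Group G]

/-- `⟨v^X⟩` -/
def ncl (X : Subgroup G) (v : G) : Subgroup G := closure {g | ∃ x ∈ X, g = x * v * x⁻¹}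

theorem conj_mem_ncl {X : Subgroup G} {v : G} {x : G} (hx : x ∈ X) : x * v * x⁻¹ ∈ ncl X v :=
  subset_closure ⟨x, hx, rfl⟩

theorem self_mem_ncl (X : Subgroup G) (v : G) : v ∈ ncl X v := by
  simpa using conj_mem_ncl (v := v) (one_mem X)

theorem ncl_mono {X Y : Subgroup G} (h : X ≤ Y) (v : G) : ncl X v ≤ ncl Y v := by
  refine (closure_le _).mpr ?_
  rintro _ ⟨x, hx, rfl⟩
  exact conj_mem_ncl (h hx)

theorem ncl_le {X : Subgroup G} {v : G} (hv : v ∈ X) : ncl X v ≤ X := by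
  refine (closure_le _).mpr ?_
  rintro _ ⟨x, hx, rfl⟩
  exact mul_mem (mul_mem hx hv) (inv_mem hx)

/-- `⟨v^X⟩` is the smallest subgroup containing `v` normalised by `X`. -/
theorem ncl_le_of_conj {X K : Subgroup G} {v : G} (hv : v ∈ K)
    (hK : ∀ x ∈ X, ∀ k ∈ K, x * k * x⁻¹ ∈ K) : ncl X v ≤ K := by
  refine (closure_le _).mpr ?_
  rintro _ ⟨x, hx, rfl⟩
  exact hK x hx v hv

theorem conj_mem_of_mem_ncl {X : Subgroup G} {v x k : G} (hx : x ∈ X) (hk : k ∈ ncl X v) :
    x * k * x⁻¹ ∈ ncl X v := by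
  have h : ncl X v ≤ (ncl X v).comap (MulAut.conj x).toMonoidHom := by
    refine (closure_le _).mpr ?_
    rintro _ ⟨y, hy, rfl⟩
    show x * (y * v * y⁻¹) * x⁻¹ ∈ ncl X v
    have : x * (y * v * y⁻¹) * x⁻¹ = (x * y) * v * (x * y)⁻¹ := by group
    rw [this]
    exact conj_mem_ncl (mul_mem hx hy)
  exact h hk

/-- In a solvable group `v ∈ [⟨v^G⟩, ⟨v^G⟩]` implies `v = 1`. -/
theorem eq_one_of_mem_commutator_normalClosure [Group.IsSolvable G] {v : G}
    (h : v ∈ ⁅normalClosure ({v} : Set G), normalClosure ({v} : Set G)⁆) : v = 1 := by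
  set N := normalClosure ({v} : Set G) with hN
  have hle : N ≤ ⁅N, N⁆ := by
    refine normalClosure_le_normal ?_
    rintro _ rfl
    exact h
  have hder : ∀ n : ℕ, N ≤ derivedSeries G n := by
    intro n
    induction n with
    | zero => exact le_top
    | succ n ih => exact hle.trans (commutator_mono ih ih)
  obtain ⟨n, hn⟩ := (Group.isSolvable_def G).mp inferInstance
  have h2 : N = ⊥ := by rw [eq_bot_iff, ← hn]; exact hder n
  have h3 : v ∈ N := subset_normalClosure rfl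
  rw [h2] at h3
  exact mem_bot.mp h3

/-- **Killing lemma (N)**: if `v ≠ 1` lies in `[⟨v^X⟩, ⟨v^Y⟩]` then no solvable subgroup contains
`X`, `Y` and `v`. -/
theorem killing {H X Y : Subgroup G} (hH : Group.IsSolvable H) (hX : X ≤ H) (hY : Y ≤ H) {v : G}
    (hvH : v ∈ H) (hv1 : v ≠ 1) {V W : Subgroup G} (hV : V ≤ ncl X v) (hW : W ≤ ncl Y v)
    (h : v ∈ ⁅V, W⁆) : False := by
  have h1 : v ∈ ⁅ncl H v, ncl H v⁆ :=
    commutator_mono (hV.trans (ncl_mono hX v)) (hW.trans (ncl_mono hY v)) h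
  have h2 : ncl H v ≤ (normalClosure ({⟨v, hvH⟩} : Set H)).map H.subtype := by
    refine ncl_le_of_conj ⟨⟨v, hvH⟩, subset_normalClosure rfl, rfl⟩ ?_
    rintro x hx _ ⟨k, hk, rfl⟩
    exact ⟨⟨x, hx⟩ * k * ⟨x, hx⟩⁻¹, normalClosure_normal.conj_mem k hk _, rfl⟩
  have h3 := commutator_mono h2 h2 h1
  rw [← map_commutator] at h3
  obtain ⟨w, hw, hwv⟩ := h3
  have h4 : w = ⟨v, hvH⟩ := Subtype.ext hwv
  rw [h4] at hw
  have h5 := eq_one_of_mem_commutator_normalClosure hw
  exact hv1 (congrArg Subtype.val h5)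

/-- (N), 2-local form: if all normalisers of nontrivial 2-subgroups are solvable and `v ≠ 1` lies
in `[⟨v^X⟩, ⟨v^Y⟩]`, `v ∈ X`, then `X` and `Y` normalise no common nontrivial 2-subgroup. -/
theorem killing_local
    (hL : ∀ U : Subgroup G, IsPGroup 2 U → U ≠ ⊥ → Group.IsSolvable (normalizer (U : Set G)))
    {X Y : Subgroup G} {v : G} (hvX : v ∈ X) (hv1 : v ≠ 1) {V W : Subgroup G}
    (hV : V ≤ ncl X v) (hW : W ≤ ncl Y v) (h : v ∈ ⁅V, W⁆) {R : Subgroup G}
    (hR : IsPGroup 2 R) (hXR : X ≤ normalizer (R : Set G)) (hYR : Y ≤ normalizer (R : Set G)) :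
    R = ⊥ := by
  by_contra hne
  exact killing (hL R hR hne) hXR hYR (hXR hvX) hv1 hV hW h

/-- (N), centraliser form: under the hypotheses of `killing_local` no element of order 2
is centralised by `X` and `Y`. -/
theorem killing_centralizer
    (hL : ∀ U : Subgroup G, IsPGroup 2 U → U ≠ ⊥ → Group.IsSolvable (normalizer (U : Set G)))
    {X Y : Subgroup G} {v : G} (hvX : v ∈ X) (hv1 : v ≠ 1) {V W : Subgroup G}
    (hV : V ≤ ncl X v) (hW : W ≤ ncl Y v) (h : v ∈ ⁅V, W⁆) {u : G} (hu : orderOf u = 2)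
    (hX : X ≤ centralizer ({u} : Set G)) (hY : Y ≤ centralizer ({u} : Set G)) : False := by
  have hz : IsPGroup 2 (zpowers u) :=
    IsPGroup.of_card (n := 1) (by rw [Nat.card_zpowers, hu, pow_one])
  have hcn : centralizer ({u} : Set G) ≤ normalizer (zpowers u : Set G) := by
    rw [← centralizer_closure, ← zpowers_eq_closure]
    exact centralizer_le_normalizer _
  have := killing_local hL hvX hv1 hV hW h hz (hX.trans hcn) (hY.trans hcn)
  rw [zpowers_eq_bot] at this
  rw [this, orderOf_one] at hu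
  exact absurd hu (by norm_num)

end Cfsg.Agent.MinSimple.Killing
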