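import Mathlib

/-!
# A lemma on involutions acting on modules in characteristic 2

`H` acts faithfully on the elementary abelian 2-group `M`, `F` is a normal subgroup of `H` of odd order which
contains its centraliser, `w ∈ H` is an involution, and `M` is generated by the `H`-conjugates of the vector `δ`.
If `[M, w]` is not contained in `⟨δ⟩`, then `F` contains an element `x` inverted by `w` such that
`[M, x, w]` is not contained in `⟨δ⟩`.
-/

set_option autoImplicit false

namespace Cfsg.Agent.MinSimple.OddKMod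

variable {H M : Type*} [Group H] [AddCommGroup M] [DistribMulAction H M]

/-- the counterexample configuration -/
structure Bad (F : Subgroup H) (w : H) (δ : M) : Prop where
  h2 : ∀ m : M, m + m = 0
  faithful : ∀ h : H, (∀ m : M, h • m = m) → h = 1
  hF : F.Normal
  odd : Odd (Nat.card F)
  ww : w * w = 1
  bad : ∀ x ∈ F, w * x * w⁻¹ = x⁻¹ → ∀ m : M,
    w • (x • m + m) + (x • m + m) = 0 ∨ w • (x • m + m) + (x • m + m) = δ

theorem exists_pow (h2 : ∀ m : M, m + m = 0) (g : H) (k : ℕ) (m : M) : ∃ m' : M, g ^ k • m + m = g • m' + m' := by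
  induction k with
  | zero => exact ⟨0, by rw [pow_zero, one_smul, h2, smul_zero, add_zero]⟩
  | succ k ih =>
    obtain ⟨m', h⟩ := ih
    refine ⟨g • m' + m, ?_⟩
    have e1 : g ^ k • m = g • m' + m' + m := by
      rw [← h, add_assoc, h2, add_zero]
    rw [pow_succ', mul_smul, e1]
    simp only [smul_add]
    have := h2 (g • m')
    calc g • g • m' + g • m' + g • m + m = g • g • m' + g • m + (g • m' + m) := by abel
      _ = _ := rfl

/-- odd order: `x²`-fixed implies `x`-fixed -/
theorem smul_eq_of_sq {F : Subgroup H} (odd : Odd (Nat.card F)) {x : H} (hx : x ∈ F) {m : M}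
    (h : x • x • m = m) : x • m = m := by
  have h1 : ∀ k : ℕ, (x ^ 2) ^ k • m = m := by
    intro k
    induction k with
    | zero => rw [pow_zero, one_smul]
    | succ k ih => rw [pow_succ, mul_smul, pow_two, mul_smul, h, ← pow_two, ih]
  have h2 : x ^ Nat.card F = 1 := by
    exact congrArg Subtype.val (pow_card_eq_one' (x := (⟨x, hx⟩ : F)))
  obtain ⟨k, hk⟩ := odd
  have h3 : (x ^ 2) ^ (k + 1) = x := by
    rw [← pow_mul]
    have : 2 * (k + 1) = Nat.card F + 1 := by omega
    rw [this, pow_succ, h2, one_mul]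
  have := h1 (k + 1)
  rwa [h3] at this

theorem exists_sq (h2 : ∀ m : M, m + m = 0) {F : Subgroup H} (odd : Odd (Nat.card F)) {x : H} (hx : x ∈ F)
    (m : M) : ∃ m' : M, x • m + m = x • x • m' + m' := by
  have h3 : x ^ Nat.card F = 1 := by
    exact congrArg Subtype.val (pow_card_eq_one' (x := (⟨x, hx⟩ : F)))
  obtain ⟨k, hk⟩ := odd
  obtain ⟨m', h⟩ := exists_pow h2 (x ^ 2) (k + 1) m
  have h4 : (x ^ 2) ^ (k + 1) = x := by
    rw [← pow_mul]
    have : 2 * (k + 1) = Nat.card F + 1 := by omega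
    rw [this, pow_succ, h3, one_mul]
  refine ⟨m', ?_⟩
  rw [h4, pow_two, mul_smul] at h
  exact h

namespace Bad

variable {F : Subgroup H} {w x y : H} {δ : M}

theorem neg_eq (h : Bad F w δ) (m : M) : -m = m := neg_eq_of_add_eq_zero_left (h.h2 m)

theorem add_cancel (h : Bad F w δ) (a b : M) : a + (a + b) = b := by
  rw [← add_assoc, h.h2, zero_add]

theorem eq_of_add (h : Bad F w δ) {a b : M} (hab : a + b = 0) : a = b := by
  rw [← h.neg_eq b]; exact eq_neg_of_add_eq_zero_left hab

theorem w_inv (h : Bad F w δ) : w⁻¹ = w := inv_eq_of_mul_eq_one_left h.ww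

theorem w_w (h : Bad F w δ) (m : M) : w • w • m = m := by
  rw [← mul_smul, h.ww, one_smul]

/-- `w` inverts `x` -/
theorem w_smul (_ : Bad F w δ) (hx : w * x * w⁻¹ = x⁻¹) (m : M) : w • x • m = x⁻¹ • w • m := by
  rw [← mul_smul, ← mul_smul]
  congr 1
  rw [← hx]; group

theorem inv_inverts (_ : Bad F w δ) (hx : w * x * w⁻¹ = x⁻¹) : w * x⁻¹ * w⁻¹ = x⁻¹⁻¹ := by
  calc w * x⁻¹ * w⁻¹ = (w * x * w⁻¹)⁻¹ := by group
    _ = x⁻¹⁻¹ := by rw [hx]

theorem smul_inv_eq (h : Bad F w δ) (hx : w * x * w⁻¹ = x⁻¹) (m : M) : w • x⁻¹ • m = x • w • m := by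
  have := h.w_smul (h.inv_inverts hx) m
  rwa [inv_inv] at this

/-- (L1) -/
theorem exists_eq (h : Bad F w δ) (hx : x ∈ F) (hw : w * x * w⁻¹ = x⁻¹) (hx1 : x ≠ 1) :
    δ ≠ 0 ∧ ∃ m : M, w • (x • m + m) + (x • m + m) = δ := by
  by_contra hcon
  have hall : ∀ m : M, w • (x • m + m) = x • m + m := by
    intro m
    apply h.eq_of_add
    rcases h.bad x hx hw m with e | e
    · exact e
    · by_contra hne
      apply hcon
      exact ⟨fun h0 => hne (by rw [e, h0]), m, e⟩
  apply hx1
  apply h.faithful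
  intro m
  apply smul_eq_of_sq h.odd hx
  -- `x • (x • m + m)` is again of this form
  have e1 := hall (x • m)
  have e2 := hall m
  have e3 : x • x • m + x • m = x • (x • m + m) := by rw [smul_add]
  rw [e3, h.w_smul hw, e2] at e1
  -- `x⁻¹ • b = x • b`
  have e4 : x • x • (x • m + m) = x • m + m := by
    rw [← e1, smul_inv_smul]
  have e5 := smul_eq_of_sq h.odd hx e4
  rw [smul_add] at e5
  have := h.add_cancel (x • m) m
  have e6 : x • x • m + x • m = x • m + m := e5
  have e7 : x • x • m = m := by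
    calc x • x • m = x • x • m + (x • m + x • m) := by rw [h.h2, add_zero]
      _ = (x • x • m + x • m) + x • m := by abel
      _ = (x • m + x • m) + m := by rw [e6]; abel
      _ = m := by rw [h.h2, zero_add]
  exact e7

/-- (L2) -/
theorem mem_cases (h : Bad F w δ) (hx : x ∈ F) (hw : w * x * w⁻¹ = x⁻¹) (m : M) :
    x • m + m = 0 ∨ x • m + m = δ ∨ x • m + m = x • δ ∨ x • m + m = x • δ + δ := by
  obtain ⟨m', h1⟩ := exists_sq h.h2 h.odd hx m
  obtain ⟨m'', h2⟩ := exists_sq h.h2 h.odd hx m'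
  set b := x • m'' + m'' with hb
  have e1 : x • m + m = x • x • b + b := by
    rw [h1]
    calc x • x • m' + m' = x • (x • m' + m') + (x • m' + m') := by
          rw [smul_add]
          calc x • x • m' + m' = x • x • m' + (x • m' + x • m') + m' := by rw [h.h2, add_zero]
            _ = _ := by abel
      _ = x • x • b + b := by
          rw [h2, hb]
          simp only [smul_add]
          abel
  have e2 := h.bad x hx hw m''
  have e3 := h.bad x hx hw (x • m'')
  rw [← hb] at e2
  have e4 : x • x • m'' + x • m'' = x • b := by rw [hb, smul_add]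
  rw [e4, h.w_smul hw] at e3
  have e5 : x • (x⁻¹ • w • b + x • b) = w • b + x • x • b := by rw [smul_add, smul_inv_smul]
  rw [e1]
  rcases e2 with e2 | e2
  · have e6 := h.eq_of_add e2
    rcases e3 with e3 | e3
    · left
      rw [e3, smul_zero, e6] at e5
      rw [add_comm, e5]
    · right; right; left
      rw [e3, e6] at e5
      rw [e5, add_comm]
  · have e6 : w • b = b + δ := by
      rw [← e2]
      calc w • b = (b + b) + w • b := by rw [h.h2, zero_add]
        _ = _ := by abel
    rcases e3 with e3 | e3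
    · right; left
      rw [e3, smul_zero, e6] at e5
      symm
      apply h.eq_of_add
      rw [e5]; abel
    · right; right; right
      rw [e3, e6] at e5
      rw [e5]
      calc x • x • b + b = (x • x • b + b) + (δ + δ) := by rw [h.h2, add_zero]
        _ = _ := by abel

/-- basic facts on a nontrivial inverted element -/
structure Inv (F : Subgroup H) (w : H) (δ : M) (x : H) : Prop where
  mem : x ∈ F
  inv : w * x * w⁻¹ = x⁻¹
  ne : x ≠ 1
  wδ : w • δ = δ
  δ0 : δ ≠ 0
  xδ : x • δ ≠ δ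
  sq : x • x • δ = x • δ + δ
  cube : x * x * x = 1

theorem mk_inv (h : Bad F w δ) (hx : x ∈ F) (hw : w * x * w⁻¹ = x⁻¹) (hx1 : x ≠ 1) : Inv F w δ x := by
  obtain ⟨hδ, m, hm⟩ := h.exists_eq hx hw hx1
  have h1 : w • δ = δ := by
    rw [← hm, smul_add, h.w_w, add_comm]
  obtain ⟨m₀, hm₀⟩ : ∃ m₀ : M, x • m₀ + m₀ = δ := by
    refine ⟨m + x⁻¹ • w • m, ?_⟩
    rw [smul_add, smul_inv_smul, ← hm, smul_add, h.w_smul hw]
    abel
  have h2 : x • δ ≠ δ := by
    intro e
    apply hδ
    have e1 : x • x • m₀ = m₀ := by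
      have e2 : x • (x • m₀ + m₀) = x • m₀ + m₀ := by rw [hm₀, e]
      rw [smul_add] at e2
      calc x • x • m₀ = x • x • m₀ + (x • m₀ + x • m₀) := by rw [h.h2, add_zero]
        _ = (x • x • m₀ + x • m₀) + x • m₀ := by abel
        _ = (x • m₀ + x • m₀) + m₀ := by rw [e2]; abel
        _ = m₀ := by rw [h.h2, zero_add]
    rw [← hm₀, smul_eq_of_sq h.odd hx e1, h.h2]
  have h3 : x • x • δ = x • δ + δ := by
    rcases h.mem_cases hx hw (x • δ) with e | e | e | e
    · exact absurd (smul_left_cancel x (h.eq_of_add e)) h2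
    · linear_combination (norm := abel) e - h.h2 (x • δ)
    · exfalso
      apply hδ
      have : x • x • δ = 0 := by
        calc x • x • δ = x • x • δ + (x • δ + x • δ) := by rw [h.h2, add_zero]
          _ = (x • x • δ + x • δ) + x • δ := by abel
          _ = 0 := by rw [e, h.h2]
      rwa [← mul_smul, smul_eq_zero_iff_eq] at this
    · exfalso
      apply h2
      apply smul_eq_of_sq h.odd hx
      calc x • x • δ = x • x • δ + (x • δ + x • δ) := by rw [h.h2, add_zero]
        _ = (x • x • δ + x • δ) + x • δ := by abel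
        _ = (x • δ + x • δ) + δ := by rw [e]; abel
        _ = δ := by rw [h.h2, zero_add]
  refine ⟨hx, hw, hx1, h1, hδ, h2, h3, ?_⟩
  apply h.faithful
  intro m
  -- `x² b + x b + b = 0` for `b = x m + m`
  have h4 : x • x • x • δ = δ := by
    rw [h3, smul_add, h3]
    calc x • δ + δ + x • δ = (x • δ + x • δ) + δ := by abel
      _ = δ := by rw [h.h2, zero_add]
  have h5 : x • x • (x • m + m) + x • (x • m + m) + (x • m + m) = 0 := by
    have h6 : ∀ a : M, x • x • a = x • a + a → x • x • a + x • a + a = 0 := by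
      intro a ha
      rw [ha]
      calc x • a + a + x • a + a = (x • a + x • a) + (a + a) := by abel
        _ = 0 := by rw [h.h2, h.h2, add_zero]
    rcases h.mem_cases hx hw m with e | e | e | e
    · rw [e]; simp
    · rw [e]; exact h6 _ h3
    · rw [e]
      apply h6
      rw [h4, h3]
      calc δ = δ + (x • δ + x • δ) := by rw [h.h2, add_zero]
        _ = _ := by abel
    · rw [e, ← h3]
      apply h6
      rw [h4, h3]
      calc x • δ = x • δ + (δ + δ) := by rw [h.h2, add_zero]
        _ = _ := by abel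
  rw [mul_smul, mul_smul]
  apply h.eq_of_add
  rw [← h5]
  simp only [smul_add]
  calc x • x • x • m + m = x • x • x • m + m + (x • x • m + x • x • m) + (x • m + x • m) := by
        rw [h.h2, h.h2, add_zero, add_zero]
    _ = _ := by abel

theorem Inv.inv_smul (hx : Inv F w δ x) (m : M) : x⁻¹ • m = x • x • m := by
  rw [inv_smul_eq_iff, ← mul_smul, ← mul_smul, mul_assoc, ← mul_assoc]
  have := hx.cube
  rw [this, one_smul]

theorem Inv.inv' (h : Bad F w δ) (hx : Inv F w δ x) : Inv F w δ x⁻¹ :=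
  h.mk_inv (inv_mem hx.mem) (h.inv_inverts hx.inv) (fun e => hx.ne (inv_eq_one.mp e))

theorem Inv.w_x (h : Bad F w δ) (hx : Inv F w δ x) : w • x • δ = x • δ + δ := by
  rw [h.w_smul hx.inv, hx.wδ, hx.inv_smul, hx.sq]

/-- `z = x y x` is inverted by `w` -/
theorem mul_mul_mem (hx : Inv F w δ x) (hy : Inv F w δ y) :
    x * y * x ∈ F ∧ w * (x * y * x) * w⁻¹ = (x * y * x)⁻¹ := by
  refine ⟨mul_mem (mul_mem hx.mem hy.mem) hx.mem, ?_⟩
  calc w * (x * y * x) * w⁻¹ = (w * x * w⁻¹) * (w * y * w⁻¹) * (w * x * w⁻¹) := by group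
    _ = (x * y * x)⁻¹ := by rw [hx.inv, hy.inv]; group

/-- the common part of the proof of uniqueness -/
theorem exists_c (h : Bad F w δ) (hx : Inv F w δ x) (hy : Inv F w δ y) :
    ∃ c : M, x • c = c ∧ w • c = c ∧ (y • δ = c + x • δ ∨ y • δ = c + x • δ + δ) := by
  have hx3 : ∀ m : M, x • x • x • m = m := by
    intro m
    rw [← mul_smul, ← mul_smul, hx.cube, one_smul]
  have h3 : ∀ m : M, x⁻¹ • m = x • x • m := fun m => hx.inv_smul m
  have h4 : ∀ m : M, x • x⁻¹ • m = m := fun m => smul_inv_smul x m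
  have hwc : w • (y • δ + x • y • δ + x • x • y • δ) = y • δ + x • y • δ + x • x • y • δ := by
    simp only [smul_add]
    rw [h.w_smul hx.inv, h.w_smul hx.inv, h.w_smul hx.inv, hy.w_x h, h3, h3]
    simp only [smul_add]
    rw [hx3, hx3, hx.sq]
    linear_combination (norm := abel) h.h2 δ + h.h2 (x • δ)
  refine ⟨y • δ + x • y • δ + x • x • y • δ, ?_, hwc, ?_⟩
  · simp only [smul_add]
    rw [hx3]; abel
  · have h5 := h.mem_cases hx.mem hx.inv (x • y • δ)
    have h6 : w • (x • x • y • δ + x • y • δ) = x • x • y • δ + x • y • δ + δ := by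
      have h7 := hwc
      rw [add_assoc, smul_add, hy.w_x h] at h7
      rw [add_comm (x • x • y • δ)]
      linear_combination (norm := abel) h7 - h.h2 δ
    rcases h5 with e | e | e | e
    · exfalso
      rw [e, smul_zero, zero_add] at h6
      exact hx.δ0 h6.symm
    · exfalso
      rw [e, hx.wδ] at h6
      apply hx.δ0
      linear_combination (norm := abel) -h6
    · left
      linear_combination (norm := abel) -e - h.h2 (x • δ)
    · right
      linear_combination (norm := abel) -e - h.h2 (x • δ) - h.h2 δ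

/-- uniqueness, main case -/
theorem eq_of_c (h : Bad F w δ) (hx : Inv F w δ x) (hy : Inv F w δ y) {c : M} (hc : x • c = c)
    (hwc : w • c = c) (he : y • δ = c + x • δ) : y = x := by
  obtain ⟨hzF, hzw⟩ := mul_mul_mem hx hy
  obtain ⟨c', hc', -, h1⟩ := h.exists_c hy hx
  have h3 : ∀ m : M, x⁻¹ • m = x • x • m := fun m => hx.inv_smul m
  rcases h1 with e | e
  · -- `c' = c`
    have e1 : c' = c := by
      linear_combination (norm := abel) he + e + h.h2 c'
    rw [e1] at hc'
    have e2 : (x * y * x) • δ = δ := by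
      rw [mul_smul, mul_smul, e, e1, smul_add, hc', hy.sq, he]
      have : c + (c + x • δ + δ) = x • x • δ := by
        rw [hx.sq]
        linear_combination (norm := abel) h.h2 c
      rw [this]
      have h4 : x • x • x • δ = δ := by
        rw [← mul_smul, ← mul_smul, hx.cube, one_smul]
      exact h4
    have e3 : x * y * x = 1 := by
      by_contra hne
      exact (h.mk_inv hzF hzw hne).xδ e2
    have e4 : y = x⁻¹ * x⁻¹ := by
      calc y = x⁻¹ * (x * y * x) * x⁻¹ := by group
        _ = x⁻¹ * x⁻¹ := by rw [e3, mul_one]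
    rw [e4]
    calc x⁻¹ * x⁻¹ = x⁻¹ * x⁻¹ * (x * x * x) := by rw [hx.cube, mul_one]
      _ = x := by group
  · exfalso
    have e1 : c' = c + δ := by
      linear_combination (norm := abel) he + e + h.h2 c'
    have e2 : (x * y * x) • δ = c := by
      rw [mul_smul, mul_smul, e, add_assoc, ← hy.sq, smul_add, hc']
      have h4 : y • y • y • δ = δ := by
        rw [← mul_smul, ← mul_smul, hy.cube, one_smul]
      rw [h4, e1, add_assoc, h.h2, add_zero, hc]
    by_cases hz : x * y * x = 1
    · rw [hz, one_smul] at e2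
      rw [← e2] at hc
      exact hx.xδ hc
    · have h5 := (h.mk_inv hzF hzw hz).w_x h
      rw [e2, hwc] at h5
      exact hx.δ0 (by simpa using h5)

/-- uniqueness of the inverted elements -/
theorem eq_or (h : Bad F w δ) (hx : Inv F w δ x) (hy : Inv F w δ y) : y = x ∨ y = x⁻¹ := by
  obtain ⟨c, hc, hwc, h1⟩ := h.exists_c hx hy
  rcases h1 with e | e
  · exact Or.inl (h.eq_of_c hx hy hc hwc e)
  · right
    refine h.eq_of_c (hx.inv' h) hy (c := c) ?_ hwc ?_
    · rw [hx.inv_smul, hc, hc]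
    · rw [hx.inv_smul, hx.sq, e, add_assoc]

theorem comm_mem (h : Bad F w δ) {f : H} (hf : f ∈ F) :
    f⁻¹ * (w * f * w⁻¹) ∈ F ∧ w * (f⁻¹ * (w * f * w⁻¹)) * w⁻¹ = (f⁻¹ * (w * f * w⁻¹))⁻¹ := by
  refine ⟨mul_mem (inv_mem hf) (h.hF.conj_mem f hf w), ?_⟩
  rw [h.w_inv]
  calc w * (f⁻¹ * (w * f * w)) * w = w * f⁻¹ * w * f * (w * w) := by group
    _ = w * f⁻¹ * w * f := by rw [h.ww, mul_one]
    _ = (f⁻¹ * (w⁻¹ * f * w⁻¹))⁻¹ := by group
    _ = (f⁻¹ * (w * f * w))⁻¹ := by rw [h.w_inv]

theorem comm_cases (h : Bad F w δ) (hx : Inv F w δ x) {f : H} (hf : f ∈ F) :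
    f⁻¹ * (w * f * w⁻¹) = 1 ∨ f⁻¹ * (w * f * w⁻¹) = x ∨ f⁻¹ * (w * f * w⁻¹) = x⁻¹ := by
  obtain ⟨h1, h2⟩ := h.comm_mem hf
  by_cases hne : f⁻¹ * (w * f * w⁻¹) = 1
  · exact Or.inl hne
  · exact Or.inr (h.eq_or hx (h.mk_inv h1 h2 hne))

/-- `x` is central in `F` -/
theorem comm_of_mem (h : Bad F w δ) (hx : Inv F w δ x) {g : H} (hg : g ∈ F) : g * x = x * g := by
  have hxx : x⁻¹ * x⁻¹ = x := by
    calc x⁻¹ * x⁻¹ = x⁻¹ * x⁻¹ * (x * x * x) := by rw [hx.cube, mul_one]
      _ = x := by group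
  have h1 := h.comm_cases hx hg
  have h2 := h.comm_cases hx (mul_mem hx.mem hg)
  have e1 : (x * g)⁻¹ * (w * (x * g) * w⁻¹) = (g⁻¹ * x * g) * (g⁻¹ * (w * g * w⁻¹)) := by
    calc (x * g)⁻¹ * (w * (x * g) * w⁻¹) = g⁻¹ * (x⁻¹ * (w * x * w⁻¹)) * (w * g * w⁻¹) := by group
      _ = g⁻¹ * x * (w * g * w⁻¹) := by rw [hx.inv, hxx]
      _ = _ := by group
  rw [e1] at h2
  -- `g⁻¹ x g ∈ {1, x, x⁻¹}`
  have hp : ∀ a b : H, (a = 1 ∨ a = x ∨ a = x⁻¹) → (b = 1 ∨ b = x ∨ b = x⁻¹) →
      (a * b⁻¹ = 1 ∨ a * b⁻¹ = x ∨ a * b⁻¹ = x⁻¹) := by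
    have hxi : x * x = x⁻¹ := by
      calc x * x = (x * x * x) * x⁻¹ := by group
        _ = x⁻¹ := by rw [hx.cube, one_mul]
    rintro a b (rfl | rfl | rfl) (rfl | rfl | rfl)
    · left; group
    · right; right; group
    · right; left; group
    · right; left; group
    · left; group
    · right; right; rw [inv_inv, hxi]
    · right; right; group
    · right; left; exact hxx
    · left; group
  have h3 := hp _ _ h2 h1
  rw [mul_inv_cancel_right] at h3
  rcases h3 with e | e | e
  · exfalso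
    apply hx.ne
    calc x = g * (g⁻¹ * x * g) * g⁻¹ := by group
      _ = 1 := by rw [e]; group
  · calc g * x = g * (g⁻¹ * x * g) := by rw [e]
      _ = x * g := by group
  · exfalso
    have hg2 : ∀ k : ℕ, (g ^ 2) ^ k * x = x * (g ^ 2) ^ k := by
      have h5 : Commute (g ^ 2) x := by
        have e' : g⁻¹ * x⁻¹ * g = x := by
          calc g⁻¹ * x⁻¹ * g = (g⁻¹ * x * g)⁻¹ := by group
            _ = x := by rw [e, inv_inv]
        have : (g ^ 2)⁻¹ * x * g ^ 2 = x := by
          calc (g ^ 2)⁻¹ * x * g ^ 2 = g⁻¹ * (g⁻¹ * x * g) * g := by rw [pow_two]; group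
            _ = x := by rw [e, e']
        show g ^ 2 * x = x * g ^ 2
        calc g ^ 2 * x = g ^ 2 * ((g ^ 2)⁻¹ * x * g ^ 2) := by rw [this]
          _ = x * g ^ 2 := by group
      intro k
      exact (h5.pow_left k).eq
    have h6 : g ^ Nat.card F = 1 := congrArg Subtype.val (pow_card_eq_one' (x := (⟨g, hg⟩ : F)))
    obtain ⟨k, hk⟩ := h.odd
    have h7 : (g ^ 2) ^ (k + 1) = g := by
      rw [← pow_mul]
      have : 2 * (k + 1) = Nat.card F + 1 := by omega
      rw [this, pow_succ, h6, one_mul]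
    have h8 := hg2 (k + 1)
    rw [h7] at h8
    have h9 : x = x⁻¹ := by
      rw [← e, mul_assoc, ← h8, inv_mul_cancel_left]
    apply hx.xδ
    have h10 : x⁻¹ • δ = x • δ := by rw [← h9]
    rw [hx.inv_smul, hx.sq] at h10
    exact absurd (by simpa using h10) hx.δ0

/-- the block of `x` -/
def blk (M : Type*) [AddCommGroup M] [DistribMulAction H M] (x : H) : Set M := {m | ∃ n : M, m = x • n + n}

theorem smul_mem_blk {x g : H} (hg : g * x = x * g) {m : M} (hm : m ∈ blk M x) : g • m ∈ blk M x := by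
  obtain ⟨n, rfl⟩ := hm
  refine ⟨g • n, ?_⟩
  rw [smul_add, ← mul_smul, ← mul_smul, hg]

theorem blk_cases (h : Bad F w δ) (hx : Inv F w δ x) {m : M} (hm : m ∈ blk M x) :
    m = 0 ∨ m = δ ∨ m = x • δ ∨ m = x • x • δ := by
  obtain ⟨n, rfl⟩ := hm
  rw [hx.sq]
  exact h.mem_cases hx.mem hx.inv n

theorem delta_mem (h : Bad F w δ) (hx : Inv F w δ x) : δ ∈ blk M x := by
  obtain ⟨-, m, hm⟩ := h.exists_eq hx.mem hx.inv hx.ne
  refine ⟨m + x⁻¹ • w • m, ?_⟩
  rw [smul_add, smul_inv_smul, ← hm, smul_add, h.w_smul hx.inv]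
  abel

theorem blk_conj {x t : H} {m : M} (hm : m ∈ blk M (t * x * t⁻¹)) : t⁻¹ • m ∈ blk M x := by
  obtain ⟨n, rfl⟩ := hm
  refine ⟨t⁻¹ • n, ?_⟩
  rw [smul_add, ← mul_smul, ← mul_smul]
  congr 2
  group

theorem blk_conj' {x t : H} {m : M} (hm : m ∈ blk M x) : t • m ∈ blk M (t * x * t⁻¹) := by
  obtain ⟨n, rfl⟩ := hm
  refine ⟨t • n, ?_⟩
  rw [smul_add, ← mul_smul, ← mul_smul]
  congr 2
  group

theorem orbit (h : Bad F w δ) (hx : Inv F w δ x) (t : H) :
    w • t • δ + t • δ = 0 ∨ w • t • δ + t • δ = δ := by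
  set z := t * x * t⁻¹ with hz
  set ε := t • δ with hε
  have hzF : z ∈ F := h.hF.conj_mem x hx.mem t
  have hzx : z * x = x * z := h.comm_of_mem hx hzF
  have hz3 : z * z * z = 1 := by
    calc z * z * z = t * (x * x * x) * t⁻¹ := by rw [hz]; group
      _ = 1 := by rw [hx.cube]; group
  have hzε : z • ε = t • x • δ := by
    have e : z * t = t * x := by rw [hz]; group
    rw [hε, ← mul_smul, e, mul_smul]
  have hzzε : z • z • ε = t • x • x • δ := by
    have e : z * t = t * x := by rw [hz]; group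
    rw [hzε, ← mul_smul, e, mul_smul]
  have hεz : ε ∈ blk M z := blk_conj' (h.delta_mem hx)
  have hcases : ∀ m ∈ blk M z, m = 0 ∨ m = ε ∨ m = z • ε ∨ m = z • z • ε := by
    intro m hm
    have h1 := h.blk_cases hx (blk_conj hm)
    rw [hzzε, hzε]
    rcases h1 with e | e | e | e
    · left
      rw [← smul_zero t, ← e, smul_inv_smul]
    · right; left
      rw [hε, ← e, smul_inv_smul]
    · right; right; left
      rw [← e, smul_inv_smul]
    · right; right; right
      rw [← e, smul_inv_smul]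
  have hε0 : ε ≠ 0 := fun e => hx.δ0 ((smul_eq_zero_iff_eq t).mp e)
  have hzε1 : z • ε ≠ ε := by
    rw [hzε]; exact fun e => hx.xδ (smul_left_cancel t e)
  have hz3' : ∀ m : M, z • z • z • m = m := by
    intro m
    rw [← mul_smul, ← mul_smul, hz3, one_smul]
  have hgen : ε ∈ blk M x → w • ε + ε = 0 ∨ w • ε + ε = δ := by
    rintro ⟨n, hn⟩
    rw [hn]
    exact h.bad x hx.mem hx.inv n
  by_cases hxε : x • ε = ε
  · -- `x` fixes the block of `z`
    have hxzm : ∀ m : M, x • z • m = z • x • m := by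
      intro m
      rw [← mul_smul, ← hzx, mul_smul]
    have hfix : ∀ m ∈ blk M z, x • m = m := by
      intro m hm
      rcases hcases m hm with e | e | e | e
      · rw [e, smul_zero]
      · rw [e, hxε]
      · rw [e, hxzm, hxε]
      · rw [e, hxzm, hxzm, hxε]
    have hzδ : z • δ = δ := by
      obtain ⟨m₀, hm₀⟩ := h.delta_mem hx
      apply h.eq_of_add
      have h1 := hfix (z • m₀ + m₀) ⟨m₀, rfl⟩
      have e1 : z • x • m₀ = x • z • m₀ := by rw [← mul_smul, hzx, mul_smul]
      rw [smul_add] at h1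
      rw [hm₀, smul_add, e1]
      linear_combination (norm := abel) h1 + h.h2 (z • m₀ + m₀)
    have hu := h.comm_cases hx hzF
    have hwz : w * z * w⁻¹ = z := by
      have e1 : (w * z * w⁻¹) • δ = δ := by
        rw [mul_smul, mul_smul, h.w_inv, hx.wδ, hzδ, hx.wδ]
      have e2 : (z⁻¹ * (w * z * w⁻¹)) • δ = δ := by
        rw [mul_smul, e1, inv_smul_eq_iff, hzδ]
      rcases hu with e | e | e
      · calc w * z * w⁻¹ = z * (z⁻¹ * (w * z * w⁻¹)) := by group
          _ = z := by rw [e, mul_one]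
      · rw [e] at e2; exact absurd e2 hx.xδ
      · rw [e] at e2; exact absurd e2 (hx.inv' h).xδ
    have hwz' : w * z = z * w := by
      calc w * z = (w * z * w⁻¹) * w := by group
        _ = z * w := by rw [hwz]
    have hwzm : ∀ m : M, w • z • m = z • w • m := by
      intro m
      rw [← mul_smul, hwz', mul_smul]
    left
    have h3 := h.w_w ε
    rcases hcases _ (smul_mem_blk hwz' hεz) with e | e | e | e
    · exact absurd ((smul_eq_zero_iff_eq w).mp e) hε0
    · rw [e, h.h2]
    · exfalso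
      rw [e, hwzm, e] at h3
      apply hzε1
      calc z • ε = z • z • z • ε := by rw [h3]
        _ = ε := hz3' ε
    · exfalso
      rw [e, hwzm, hwzm, e, hz3'] at h3
      exact hzε1 h3
  · apply hgen
    have hb0 : x • ε + ε ≠ 0 := fun e => hxε (h.eq_of_add e)
    have hbx : x • ε + ε ∈ blk M x := ⟨ε, rfl⟩
    have hbz : x • ε + ε ∈ blk M z := by
      obtain ⟨n, hn⟩ := hεz
      refine ⟨x • n + n, ?_⟩
      have e1 : z • x • n = x • z • n := by rw [← mul_smul, hzx, mul_smul]
      rw [hn]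
      simp only [smul_add]
      rw [e1]
      abel
    rcases hcases _ hbz with e | e | e | e
    · exact absurd e hb0
    · rwa [e] at hbx
    · have := smul_mem_blk hzx (smul_mem_blk hzx hbx)
      rwa [e, hz3'] at this
    · have := smul_mem_blk hzx hbx
      rwa [e, hz3'] at this

end Bad

/-- **The module lemma.** -/
theorem exists_good (h2 : ∀ m : M, m + m = 0) (faithful : ∀ h : H, (∀ m : M, h • m = m) → h = 1)
    {F : Subgroup H} (hF : F.Normal) (odd : Odd (Nat.card F)) {w : H} (ww : w * w = 1)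
    (hc : (∀ f ∈ F, w * f * w⁻¹ = f) → w = 1) {δ : M}
    (hgen : ∀ N : AddSubgroup M, δ ∈ N → (∀ h : H, ∀ m ∈ N, h • m ∈ N) → ∀ m : M, m ∈ N)
    (hnot : ∃ m : M, w • m + m ≠ 0 ∧ w • m + m ≠ δ) :
    ∃ x ∈ F, w * x * w⁻¹ = x⁻¹ ∧
      ∃ m : M, w • (x • m + m) + (x • m + m) ≠ 0 ∧ w • (x • m + m) + (x • m + m) ≠ δ := by
  by_contra hcon
  have hb : Bad F w δ := by
    refine ⟨h2, faithful, hF, odd, ww, ?_⟩
    intro x hx hw m
    by_contra hne
    push Not at hne
    exact hcon ⟨x, hx, hw, m, hne⟩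
  obtain ⟨m, hm0, hmδ⟩ := hnot
  have hw1 : w ≠ 1 := by
    rintro rfl
    rw [one_smul] at hm0
    exact hm0 (h2 m)
  obtain ⟨f, hf, hne⟩ : ∃ f ∈ F, w * f * w⁻¹ ≠ f := by
    by_contra hall
    push Not at hall
    exact hw1 (hc hall)
  obtain ⟨h1, h3⟩ := hb.comm_mem hf
  have hx : Bad.Inv F w δ (f⁻¹ * (w * f * w⁻¹)) := hb.mk_inv h1 h3 (fun e => hne (inv_mul_eq_one.mp e).symm)
  have key : ∀ m : M, w • m + m = 0 ∨ w • m + m = δ := by
    let N' : AddSubgroup M :=
      { carrier := {m | w • m + m = 0 ∨ w • m + m = δ}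
        add_mem' := by
          rintro a b ha hb'
          have e : w • (a + b) + (a + b) = (w • a + a) + (w • b + b) := by rw [smul_add]; abel
          show w • (a + b) + (a + b) = 0 ∨ w • (a + b) + (a + b) = δ
          rw [e]
          rcases ha with ha | ha <;> rcases hb' with hb' | hb' <;> rw [ha, hb']
          · left; rw [add_zero]
          · right; rw [zero_add]
          · right; rw [add_zero]
          · left; exact h2 δ
        zero_mem' := by left; rw [smul_zero, add_zero]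
        neg_mem' := by
          intro a ha
          rw [hb.neg_eq]; exact ha }
    have hle : AddSubgroup.closure (Set.range fun t : H => t • δ) ≤ N' := by
      rw [AddSubgroup.closure_le]
      rintro _ ⟨t, rfl⟩
      exact hb.orbit hx t
    intro m
    apply hle
    refine hgen (AddSubgroup.closure (Set.range fun t : H => t • δ))
      (AddSubgroup.subset_closure ⟨1, one_smul _ _⟩) ?_ m
    intro g m hm
    induction hm using AddSubgroup.closure_induction with
    | mem m hm =>
      obtain ⟨t, rfl⟩ := hm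
      exact AddSubgroup.subset_closure ⟨g * t, by simp only [mul_smul]⟩
    | zero => rw [smul_zero]; exact zero_mem _
    | add a b _ _ ha hb => rw [smul_add]; exact add_mem ha hb
    | neg a _ ha => rw [smul_neg]; exact neg_mem ha
  rcases key m with e | e
  · exact hm0 e
  · exact hmδ e

end Cfsg.Agent.MinSimple.OddKMod
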