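import Mathlib
import Cfsg.Agent.MinSimple.OddKMod
import Cfsg.Agent.MinSimple.Killing

/-!
# An element of odd order acting on an elementary abelian 2-group

`D` is an elementary abelian 2-subgroup normalised by `y` of odd order; `ub D y = [D, y]`.
-/

set_option autoImplicit false

namespace Cfsg.Agent.MinSimple.OddKHalf

open Subgroup Cfsg.Agent.MinSimple.OddKMod

section additive

variable {H M : Type*} [Group H] [AddCommGroup M] [DistribMulAction H M]

theorem sum_blk (h2 : ∀ m : M, m + m = 0) (y : H) (n : M) (k : ℕ) :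
    ∑ l ∈ Finset.range k, y ^ l • (y • n + n) = y ^ k • n + n := by
  induction k with
  | zero => rw [Finset.sum_range_zero, pow_zero, one_smul, h2]
  | succ k ih =>
    rw [Finset.sum_range_succ, ih, smul_add, ← mul_smul, ← pow_succ]
    linear_combination (norm := abel) h2 (y ^ k • n)

theorem sum_eq_zero (h2 : ∀ m : M, m + m = 0) {y : H} {k : ℕ} (hk : y ^ k = 1) {v : M}
    (hv : v ∈ Bad.blk M y) : ∑ l ∈ Finset.range k, y ^ l • v = 0 := by
  obtain ⟨n, rfl⟩ := hv
  rw [sum_blk h2, hk, one_smul, h2]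

theorem sum_eq (h2 : ∀ m : M, m + m = 0) {y : H} {k : ℕ} (hk : y ^ (k + 1) = 1) {v : M}
    (hv : v ∈ Bad.blk M y) : ∑ l ∈ Finset.range k, y ^ (l + 1) • v = v := by
  have h1 := sum_eq_zero h2 hk hv
  rw [Finset.sum_range_succ', pow_zero, one_smul] at h1
  linear_combination (norm := abel) h1 - h2 v

theorem blk_add {y : H} {a b : M} (ha : a ∈ Bad.blk M y) (hb : b ∈ Bad.blk M y) : a + b ∈ Bad.blk M y := by
  obtain ⟨m, rfl⟩ := ha
  obtain ⟨n, rfl⟩ := hb
  exact ⟨m + n, by rw [smul_add]; abel⟩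

theorem blk_zero {y : H} : (0 : M) ∈ Bad.blk M y := ⟨0, by rw [smul_zero, add_zero]⟩

theorem blk_smul_inv {y g : H} (hg : g * y * g⁻¹ = y⁻¹) {m : M} (hm : m ∈ Bad.blk M y) :
    g • m ∈ Bad.blk M y := by
  obtain ⟨n, rfl⟩ := hm
  refine ⟨y⁻¹ • g • n, ?_⟩
  have e : g * y = y⁻¹ * g := by rw [← hg]; group
  rw [smul_add, smul_inv_smul, ← mul_smul, e, mul_smul]
  abel

theorem exists_decomp (h2 : ∀ m : M, m + m = 0) {y : H} {h : ℕ} (hn : y ^ (2 * h + 1) = 1) (u : M) :
    ∃ c p : M, y • c = c ∧ p ∈ Bad.blk M y ∧ u = c + p := by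
  have h1 : ∀ k : ℕ, (∑ l ∈ Finset.range (2 * k + 1), y ^ l • u) + u ∈ Bad.blk M y := by
    intro k
    induction k with
    | zero => rw [Finset.sum_range_one, pow_zero, one_smul, h2]; exact blk_zero
    | succ k ih =>
      have e : 2 * (k + 1) + 1 = (2 * k + 1) + 1 + 1 := by ring
      rw [e, Finset.sum_range_succ, Finset.sum_range_succ]
      have h3 : y ^ (2 * k + 1) • u + y ^ (2 * k + 1 + 1) • u ∈ Bad.blk M y :=
        ⟨y ^ (2 * k + 1) • u, by rw [pow_succ' y (2 * k + 1), mul_smul]; abel⟩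
      have := blk_add ih h3
      convert this using 1
      abel
  refine ⟨∑ l ∈ Finset.range (2 * h + 1), y ^ l • u, (∑ l ∈ Finset.range (2 * h + 1), y ^ l • u) + u,
    ?_, h1 h, ?_⟩
  · have h3 : y • ∑ l ∈ Finset.range (2 * h + 1), y ^ l • u =
        ∑ l ∈ Finset.range (2 * h + 1), y ^ (l + 1) • u := by
      rw [Finset.smul_sum]
      refine Finset.sum_congr rfl fun l _ => ?_
      rw [pow_succ', mul_smul]
    rw [h3]
    have h4 := Finset.sum_range_succ (fun l => y ^ l • u) (2 * h + 1)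
    have h5 := Finset.sum_range_succ' (fun l => y ^ l • u) (2 * h + 1)
    rw [h4, hn, pow_zero] at h5
    exact (add_right_cancel h5).symm
  · rw [← add_assoc, h2, zero_add]

theorem eq_zero_of_fix (h2 : ∀ m : M, m + m = 0) {y : H} {h : ℕ} (hn : y ^ (2 * h + 1) = 1) {u : M}
    (hu : u ∈ Bad.blk M y) (hf : y • u = u) : u = 0 := by
  have h1 := sum_eq_zero h2 hn hu
  have h3 : ∀ l : ℕ, y ^ l • u = u := by
    intro l
    induction l with
    | zero => rw [pow_zero, one_smul]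
    | succ l ih => rw [pow_succ, mul_smul, hf, ih]
  have h4 : ∀ k : ℕ, ∑ l ∈ Finset.range (2 * k + 1), y ^ l • u = u := by
    intro k
    induction k with
    | zero => rw [Finset.sum_range_one, pow_zero, one_smul]
    | succ k ih =>
      have e : 2 * (k + 1) + 1 = (2 * k + 1) + 1 + 1 := by ring
      rw [e, Finset.sum_range_succ, Finset.sum_range_succ, ih, h3, h3, add_assoc, h2, add_zero]
  rw [← h4 h, h1]

theorem mem_of_invariant (h2 : ∀ m : M, m + m = 0) {y : H} {h : ℕ} (hn : y ^ (2 * h + 1) = 1) {v : M}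
    (hv : v ∈ Bad.blk M y) (S : AddSubgroup M) (hS : ∀ m ∈ S, y • m ∈ S) (h1 : y • v + v ∈ S) : v ∈ S := by
  have hpow : ∀ l : ℕ, ∀ m ∈ S, y ^ l • m ∈ S := by
    intro l
    induction l with
    | zero => intro m hm; rwa [pow_zero, one_smul]
    | succ l ih => intro m hm; rw [pow_succ, mul_smul]; exact ih _ (hS m hm)
  have h3 : ∀ k : ℕ, ∑ l ∈ Finset.range (2 * k), y ^ (l + 1) • v ∈ S := by
    intro k
    induction k with
    | zero => rw [mul_zero, Finset.sum_range_zero]; exact zero_mem _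
    | succ k ih =>
      have e : 2 * (k + 1) = 2 * k + 1 + 1 := by ring
      rw [e, Finset.sum_range_succ, Finset.sum_range_succ, add_assoc]
      refine add_mem ih ?_
      have h4 := hpow (2 * k + 1) _ h1
      rw [smul_add, ← mul_smul, ← pow_succ, add_comm] at h4
      exact h4
  have h5 := h3 h
  rwa [sum_eq h2 hn hv] at h5

/-- the half-sum -/
theorem exists_half (h2 : ∀ m : M, m + m = 0) {y b : H} {h : ℕ} (hn : y ^ (2 * h + 1) = 1)
    (hb : b * y * b⁻¹ = y⁻¹) {v : M} (hbv : b • v = v) (hv : v ∈ Bad.blk M y) :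
    ∃ w ∈ Bad.blk M y, w + b • w = v ∧ ∀ S : AddSubgroup M, (∀ m ∈ S, y • m ∈ S) → v ∈ S → w ∈ S := by
  have hpow : ∀ l : ℕ, y ^ l • v ∈ Bad.blk M y := by
    intro l
    exact Bad.smul_mem_blk ((Commute.refl y).pow_left l).eq hv
  refine ⟨∑ l ∈ Finset.range h, y ^ (l + 1) • v, ?_, ?_, ?_⟩
  · have : ∀ k : ℕ, ∑ l ∈ Finset.range k, y ^ (l + 1) • v ∈ Bad.blk M y := by
      intro k
      induction k with
      | zero => rw [Finset.sum_range_zero]; exact blk_zero
      | succ k ih => rw [Finset.sum_range_succ]; exact blk_add ih (hpow _)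
    exact this h
  · have h3 : ∀ l : ℕ, b • y ^ l • v = (y ^ l)⁻¹ • v := by
      intro l
      have e : b * y ^ l * b⁻¹ = (y ^ l)⁻¹ := by
        rw [← conj_pow, hb, inv_pow]
      rw [← mul_smul, show b * y ^ l = (y ^ l)⁻¹ * b by rw [← e]; group, mul_smul, hbv]
    have h4 : b • ∑ l ∈ Finset.range h, y ^ (l + 1) • v =
        ∑ l ∈ Finset.range h, y ^ (h + l + 1) • v := by
      rw [Finset.smul_sum, ← Finset.sum_range_reflect]
      refine Finset.sum_congr rfl fun l hl => ?_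
      rw [Finset.mem_range] at hl
      rw [h3]
      congr 1
      rw [inv_eq_iff_mul_eq_one, ← pow_add]
      have : h - 1 - l + 1 + (h + l + 1) = 2 * h + 1 := by omega
      rw [this, hn]
    rw [h4]
    have h5 := sum_eq h2 hn hv
    rw [two_mul, Finset.sum_range_add] at h5
    exact h5
  · intro S hS hvS
    refine sum_mem fun l _ => ?_
    have : ∀ l : ℕ, y ^ l • v ∈ S := by
      intro l
      induction l with
      | zero => rwa [pow_zero, one_smul]
      | succ l ih => rw [pow_succ', mul_smul]; exact hS _ ih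
    exact this _

end additive

section group

variable {G : Type*} [Group G]

/-- `[D, y]` -/
def ub (D : Subgroup G) (y : G) : Set G := {p | ∃ m ∈ D, p = y * m * y⁻¹ * m⁻¹}

theorem inv_of_sq {D : Subgroup G} (sq : ∀ u ∈ D, u * u = 1) {a : G} (ha : a ∈ D) : a⁻¹ = a :=
  inv_eq_of_mul_eq_one_left (sq a ha)

theorem comm_of_sq {D : Subgroup G} (sq : ∀ u ∈ D, u * u = 1) {a b : G} (ha : a ∈ D) (hb : b ∈ D) :
    a * b = b * a := by
  have h := inv_of_sq sq (mul_mem ha hb)
  rw [mul_inv_rev, inv_of_sq sq ha, inv_of_sq sq hb] at h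
  exact h.symm

/-- the commutative group structure -/
abbrev cg (D : Subgroup G) (sq : ∀ u ∈ D, u * u = 1) : CommGroup D :=
  { (inferInstance : Group D) with
    mul_comm := fun a b => Subtype.ext (comm_of_sq sq a.2 b.2) }

/-- the conjugation action -/
abbrev actn (D : Subgroup G) (sq : ∀ u ∈ D, u * u = 1) :
    letI := cg D sq
    DistribMulAction (normalizer (D : Set G)) (Additive D) :=
  letI := cg D sq
  { smul := fun g m => Additive.ofMul ⟨(g : G) * (m.toMul : D) * (g : G)⁻¹,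
      (mem_normalizer_iff.mp g.2 _).mp m.toMul.2⟩
    one_smul := fun m => by
      show Additive.ofMul _ = m
      apply Additive.toMul.injective
      apply Subtype.ext
      show (1 : G) * _ * (1 : G)⁻¹ = _
      rw [one_mul, inv_one, mul_one]
    mul_smul := fun g h m => by
      apply Additive.toMul.injective
      apply Subtype.ext
      show ((g : G) * (h : G)) * (m.toMul : D) * ((g : G) * (h : G))⁻¹ =
        (g : G) * ((h : G) * (m.toMul : D) * (h : G)⁻¹) * (g : G)⁻¹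
      group
    smul_zero := fun g => by
      apply Additive.toMul.injective
      apply Subtype.ext
      show (g : G) * (1 : G) * (g : G)⁻¹ = 1
      group
    smul_add := fun g a b => by
      apply Additive.toMul.injective
      apply Subtype.ext
      show (g : G) * ((a.toMul : D) * (b.toMul : D)) * (g : G)⁻¹ =
        (g : G) * (a.toMul : D) * (g : G)⁻¹ * ((g : G) * (b.toMul : D) * (g : G)⁻¹)
      group }

theorem actn_h2 (D : Subgroup G) (sq : ∀ u ∈ D, u * u = 1) : letI := cg D sq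
    ∀ m : Additive D, m + m = 0 := by
  intro m
  apply Additive.toMul.injective
  apply Subtype.ext
  exact sq _ m.toMul.2

theorem mem_ub_of_blk {D : Subgroup G} {sq : ∀ u ∈ D, u * u = 1} {y : normalizer (D : Set G)}
    {p : Additive D}
    (h : letI := cg D sq; letI := actn D sq; p ∈ Bad.blk (Additive D) y) :
    ((p.toMul : D) : G) ∈ ub D y := by
  obtain ⟨n, hn⟩ := h
  refine ⟨(n.toMul : D), n.toMul.2, ?_⟩
  have e : ((p.toMul : D) : G) = (y : G) * (n.toMul : D) * (y : G)⁻¹ * (n.toMul : D) := by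
    rw [hn]; rfl
  rw [e, inv_of_sq sq n.toMul.2]

theorem blk_of_mem_ub {D : Subgroup G} {sq : ∀ u ∈ D, u * u = 1} {y : normalizer (D : Set G)}
    {p : G} (hp : p ∈ D) (h : p ∈ ub D y) :
    letI := cg D sq; letI := actn D sq; Additive.ofMul (⟨p, hp⟩ : D) ∈ Bad.blk (Additive D) y := by
  obtain ⟨m, hm, rfl⟩ := h
  refine ⟨Additive.ofMul ⟨m, hm⟩, ?_⟩
  apply Additive.toMul.injective
  apply Subtype.ext
  show (y : G) * m * (y : G)⁻¹ * m⁻¹ = (y : G) * m * (y : G)⁻¹ * m
  rw [inv_of_sq sq hm]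

theorem ub_subset {D : Subgroup G} {y : G} (hy : y ∈ normalizer (D : Set G)) {p : G} (hp : p ∈ ub D y) :
    p ∈ D := by
  obtain ⟨m, hm, rfl⟩ := hp
  exact mul_mem ((mem_normalizer_iff.mp hy m).mp hm) (inv_mem hm)

theorem exists_pow_eq {y : G} (ho : Odd (orderOf y)) : ∃ h : ℕ, y ^ (2 * h + 1) = 1 := by
  obtain ⟨h, hh⟩ := ho
  exact ⟨h, by rw [← hh, pow_orderOf_eq_one]⟩

theorem exists_decomp' {D : Subgroup G} (sq : ∀ u ∈ D, u * u = 1) {y : G}
    (hy : y ∈ normalizer (D : Set G)) (ho : Odd (orderOf y)) {u : G} (hu : u ∈ D) :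
    ∃ c ∈ D, ∃ p ∈ ub D y, y * c = c * y ∧ u = c * p := by
  let := cg D sq
  let := actn D sq
  obtain ⟨h, hn⟩ := exists_pow_eq ho
  have hn' : (⟨y, hy⟩ : normalizer (D : Set G)) ^ (2 * h + 1) = 1 := Subtype.ext hn
  obtain ⟨c, p, hc, hp, hcp⟩ := exists_decomp (actn_h2 D sq) hn' (Additive.ofMul (⟨u, hu⟩ : D))
  refine ⟨(c.toMul : D), c.toMul.2, (p.toMul : D), mem_ub_of_blk hp, ?_, ?_⟩
  · have e : y * ((c.toMul : D) : G) * y⁻¹ = (c.toMul : D) := congrArg (fun t => ((Additive.toMul t : D) : G)) hc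
    calc y * ((c.toMul : D) : G) = (y * ((c.toMul : D) : G) * y⁻¹) * y := by group
      _ = _ := by rw [e]
  · exact congrArg (fun t => ((Additive.toMul t : D) : G)) hcp

theorem eq_one_of_comm {D : Subgroup G} (sq : ∀ u ∈ D, u * u = 1) {y : G}
    (hy : y ∈ normalizer (D : Set G)) (ho : Odd (orderOf y)) {u : G} (hu : u ∈ ub D y)
    (hc : y * u = u * y) : u = 1 := by
  let := cg D sq
  let := actn D sq
  obtain ⟨h, hn⟩ := exists_pow_eq ho
  have hn' : (⟨y, hy⟩ : normalizer (D : Set G)) ^ (2 * h + 1) = 1 := Subtype.ext hn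
  have hf : (⟨y, hy⟩ : normalizer (D : Set G)) • Additive.ofMul (⟨u, ub_subset hy hu⟩ : D) =
      Additive.ofMul (⟨u, ub_subset hy hu⟩ : D) := by
    apply Additive.toMul.injective
    apply Subtype.ext
    show y * u * y⁻¹ = u
    rw [hc, mul_inv_cancel_right]
  have := eq_zero_of_fix (actn_h2 D sq) hn' (blk_of_mem_ub (sq := sq) (y := ⟨y, hy⟩) (ub_subset hy hu) hu) hf
  exact congrArg (fun t => ((Additive.toMul t : D) : G)) this

theorem ub_mul {D : Subgroup G} (sq : ∀ u ∈ D, u * u = 1) {y : G} (hy : y ∈ normalizer (D : Set G))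
    {u v : G} (hu : u ∈ ub D y) (hv : v ∈ ub D y) : u * v ∈ ub D y := by
  let := cg D sq
  let := actn D sq
  exact mem_ub_of_blk (blk_add (blk_of_mem_ub (sq := sq) (y := ⟨y, hy⟩) (ub_subset hy hu) hu)
    (blk_of_mem_ub (sq := sq) (y := ⟨y, hy⟩) (ub_subset hy hv) hv))

theorem ub_one (D : Subgroup G) (y : G) : (1 : G) ∈ ub D y := ⟨1, one_mem _, by group⟩

theorem ub_conj {D : Subgroup G} {y g : G} (hg : g ∈ normalizer (D : Set G)) (hgy : g * y = y * g)
    {u : G} (hu : u ∈ ub D y) : g * u * g⁻¹ ∈ ub D y := by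
  obtain ⟨m, hm, rfl⟩ := hu
  refine ⟨g * m * g⁻¹, (mem_normalizer_iff.mp hg m).mp hm, ?_⟩
  have e : g * y * g⁻¹ = y := by rw [hgy]; group
  have e' : g * y⁻¹ * g⁻¹ = y⁻¹ := by
    calc g * y⁻¹ * g⁻¹ = (g * y * g⁻¹)⁻¹ := by group
      _ = y⁻¹ := by rw [e]
  calc g * (y * m * y⁻¹ * m⁻¹) * g⁻¹ = (g * y * g⁻¹) * (g * m * g⁻¹) * (g * y⁻¹ * g⁻¹) * (g * m * g⁻¹)⁻¹ := by
        group
    _ = _ := by rw [e, e']

theorem ub_conj_inv {D : Subgroup G} (sq : ∀ u ∈ D, u * u = 1) {y g : G}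
    (hy : y ∈ normalizer (D : Set G)) (hg : g ∈ normalizer (D : Set G)) (hgy : g * y * g⁻¹ = y⁻¹)
    {u : G} (hu : u ∈ ub D y) : g * u * g⁻¹ ∈ ub D y := by
  let := cg D sq
  let := actn D sq
  have hg' : (⟨g, hg⟩ : normalizer (D : Set G)) * ⟨y, hy⟩ * (⟨g, hg⟩ : normalizer (D : Set G))⁻¹ =
      (⟨y, hy⟩ : normalizer (D : Set G))⁻¹ := Subtype.ext hgy
  exact mem_ub_of_blk (blk_smul_inv hg' (blk_of_mem_ub (sq := sq) (y := ⟨y, hy⟩) (ub_subset hy hu) hu))

theorem exists_half' {D : Subgroup G} (sq : ∀ u ∈ D, u * u = 1) {y b : G}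
    (hy : y ∈ normalizer (D : Set G)) (ho : Odd (orderOf y)) (hb : b ∈ normalizer (D : Set G))
    (hby : b * y * b⁻¹ = y⁻¹) {v : G} (hbv : b * v = v * b) (hv : v ∈ ub D y) :
    ∃ w ∈ ub D y, w * (b * w * b⁻¹) = v ∧ w ∈ Killing.ncl (zpowers y) v ∧
      ∀ d ∈ D, y * d = d * y → w ∈ Killing.ncl (zpowers y) (v * d) := by
  let := cg D sq
  let := actn D sq
  obtain ⟨h, hn⟩ := exists_pow_eq ho
  have hn' : (⟨y, hy⟩ : normalizer (D : Set G)) ^ (2 * h + 1) = 1 := Subtype.ext hn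
  have hb' : (⟨b, hb⟩ : normalizer (D : Set G)) * ⟨y, hy⟩ * (⟨b, hb⟩ : normalizer (D : Set G))⁻¹ =
      (⟨y, hy⟩ : normalizer (D : Set G))⁻¹ := Subtype.ext hby
  have hbv' : (⟨b, hb⟩ : normalizer (D : Set G)) • Additive.ofMul (⟨v, ub_subset hy hv⟩ : D) =
      Additive.ofMul (⟨v, ub_subset hy hv⟩ : D) := by
    apply Additive.toMul.injective
    apply Subtype.ext
    show b * v * b⁻¹ = v
    rw [hbv, mul_inv_cancel_right]
  have hvb := blk_of_mem_ub (sq := sq) (y := ⟨y, hy⟩) (ub_subset hy hv) hv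
  obtain ⟨w, hw, hwb, hS⟩ := exists_half (actn_h2 D sq) hn' hb' hbv' hvb
  -- the `y`-invariant subgroup of elements with value in `ncl (zpowers y) t`
  let S : G → AddSubgroup (Additive D) := fun t =>
    { carrier := {m | ((m.toMul : D) : G) ∈ Killing.ncl (zpowers y) t}
      add_mem' := fun {a b} ha hb => (Killing.ncl (zpowers y) t).mul_mem ha hb
      zero_mem' := (Killing.ncl (zpowers y) t).one_mem
      neg_mem' := fun {a} ha => (Killing.ncl (zpowers y) t).inv_mem ha }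
  have hSy : ∀ t : G, ∀ m ∈ S t, (⟨y, hy⟩ : normalizer (D : Set G)) • m ∈ S t := fun t m hm =>
    Killing.conj_mem_of_mem_ncl (mem_zpowers y) hm
  refine ⟨(w.toMul : D), mem_ub_of_blk hw, ?_, ?_, ?_⟩
  · exact congrArg (fun t => ((Additive.toMul t : D) : G)) hwb
  · exact hS (S v) (hSy v) (Killing.self_mem_ncl _ _)
  · intro d hd hyd
    refine hS (S (v * d)) (hSy _) (mem_of_invariant (actn_h2 D sq) hn' hvb _ (hSy _) ?_)
    show y * v * y⁻¹ * v ∈ Killing.ncl (zpowers y) (v * d)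
    have h1 := Killing.self_mem_ncl (zpowers y) (v * d)
    have h2 := mul_mem (Killing.conj_mem_of_mem_ncl (mem_zpowers y) h1) h1
    have hvD := ub_subset hy hv
    have e : y * (v * d) * y⁻¹ * (v * d) = y * v * y⁻¹ * v := by
      calc y * (v * d) * y⁻¹ * (v * d) = y * v * (d * y⁻¹) * (v * d) := by group
        _ = y * v * (y⁻¹ * d) * (v * d) := by
          congr 2
          calc d * y⁻¹ = y⁻¹ * (y * d) * y⁻¹ := by group
            _ = y⁻¹ * d := by rw [hyd]; group
        _ = y * v * y⁻¹ * (d * (v * d)) := by group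
        _ = y * v * y⁻¹ * v := by
          rw [comm_of_sq sq hvD hd, ← mul_assoc d d v, sq d hd, one_mul]
    rwa [e] at h2

end group

end Cfsg.Agent.MinSimple.OddKHalf
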