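import Mathlib
import Cfsg.Agent.MinSimple.OddKMod
import Cfsg.Agent.MinSimple.OddKHalf
import Cfsg.Agent.MinSimple.Killing
import Cfsg.Agent.MinSimple.Dihedral
import Cfsg.Agent.ZN.Block

/-!
# Two mutually normalising elementary abelian 2-groups: `k ≤ 1`

Abstract form of `(E1)(b)`, `n = 1`: `r ≠ d` are collinear points, `R = ws V r`, `D = ws V d`, `K = kq V r`,
`L = kq V d`; result: `|R : R ∩ L| ≤ 2`.
-/

set_option autoImplicit false
set_option linter.dupNamespace false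

namespace Cfsg.Agent.MinSimple.OddKPair

open Subgroup Cfsg.Agent.MinSimple Cfsg.Agent.MinSimple.OddKMod Cfsg.Agent.MinSimple.OddKHalf

universe u

/-! ### module lemmas -/

section module

variable {X M : Type*} [Group X] [AddCommGroup M] [DistribMulAction X M]

theorem smul_eq_of_sq' {y : X} {h : ℕ} (hn : y ^ (2 * h + 1) = 1) {m : M} (hm : y • y • m = m) :
    y • m = m := by
  have h1 : ∀ k : ℕ, (y ^ 2) ^ k • m = m := by
    intro k
    induction k with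
    | zero => rw [pow_zero, one_smul]
    | succ k ih => rw [pow_succ, mul_smul, pow_two, mul_smul, hm, ← pow_two, ih]
  have h3 : (y ^ 2) ^ (h + 1) = y := by
    rw [← pow_mul]
    have : 2 * (h + 1) = 2 * h + 1 + 1 := by ring
    rw [this, pow_succ, hn, one_mul]
  have := h1 (h + 1)
  rwa [h3] at this

theorem smul_inv_conj {y a : X} (ha : a * y * a⁻¹ = y⁻¹) (m : M) : a • y • m = y⁻¹ • a • m := by
  rw [← mul_smul, ← mul_smul]
  congr 1
  rw [← ha]; group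

/-- `a` inverts `y` and fixes `m`, `y m`: `y` fixes `m` -/
theorem fix_inv {y a : X} {h : ℕ} (hn : y ^ (2 * h + 1) = 1) (ha : a * y * a⁻¹ = y⁻¹) {m : M}
    (h1 : a • m = m) (h2 : a • y • m = y • m) : y • m = m := by
  apply smul_eq_of_sq' hn
  rw [smul_inv_conj ha, h1] at h2
  rw [← h2, smul_inv_smul]

theorem fix_of (h2 : ∀ m : M, m + m = 0) {y a c : X} {h : ℕ} (hn : y ^ (2 * h + 1) = 1)
    (ha : a * y * a⁻¹ = y⁻¹) (hc : c * y = y * c)
    (hac : ∀ m ∈ Bad.blk M y, a • (c • m + m) = c • m + m) : ∀ p ∈ Bad.blk M y, c • p = p := by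
  intro p hp
  have hy : y • p ∈ Bad.blk M y := Bad.smul_mem_blk rfl hp
  have hcp : c • p ∈ Bad.blk M y := Bad.smul_mem_blk hc hp
  have e1 : y • (c • p + p) = c • y • p + y • p := by
    rw [smul_add, ← mul_smul, ← hc, mul_smul]
  have h3 : y • (c • p + p) = c • p + p := by
    apply fix_inv hn ha (hac p hp)
    rw [e1]; exact hac _ hy
  have h4 := eq_zero_of_fix h2 hn (blk_add hcp hp) h3
  linear_combination (norm := abel) h4 - h2 p

end module

variable {G : Type u} [Group G]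

/-- one side: the action of `C_G(r)` on `R/⟨r⟩` -/
structure Side (r : G) (R K : Subgroup G) where
  M : Type u
  X : Type u
  [addM : AddCommGroup M]
  [grp : Group X]
  [act : DistribMulAction X M]
  π : G → M
  ρ : (centralizer ({r} : Set G) : Subgroup G) →* X
  F : Subgroup X
  r1 : r ≠ 1
  rR : r ∈ R
  sq : ∀ a ∈ R, a * a = 1
  nR : centralizer ({r} : Set G) ≤ normalizer (R : Set G)
  KC : K ≤ centralizer ({r} : Set G)
  pi_mul : ∀ a ∈ R, ∀ b ∈ R, π (a * b) = π a + π b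
  pi_zero : ∀ a ∈ R, π a = 0 ↔ a = 1 ∨ a = r
  pi_surj : ∀ m : M, ∃ a ∈ R, π a = m
  pi_conj : ∀ (c : (centralizer ({r} : Set G) : Subgroup G)), ∀ a ∈ R,
    π ((c : G) * a * (c : G)⁻¹) = ρ c • π a
  surj : Function.Surjective ρ
  ker : ∀ c, ρ c = 1 ↔ (c : G) ∈ K
  faithful : ∀ g : X, (∀ m : M, g • m = m) → g = 1
  fin : Finite X
  normal : F.Normal
  odd : Odd (Nat.card F)
  nil : Group.IsNilpotent F
  cent : centralizer (F : Set X) ≤ F

attribute [instance] Side.addM Side.grp Side.act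

namespace Side

variable {r : G} {R K : Subgroup G} (s : Side r R K)

include s

theorem comm {a b : G} (ha : a ∈ R) (hb : b ∈ R) : a * b = b * a := comm_of_sq s.sq ha hb

theorem inv_eq {a : G} (ha : a ∈ R) : a⁻¹ = a := inv_of_sq s.sq ha

theorem R_le : R ≤ centralizer ({r} : Set G) := fun _ ha =>
  mem_centralizer_singleton_iff.mpr (s.comm ha s.rR)

theorem pi_one : s.π 1 = 0 := (s.pi_zero 1 (one_mem _)).mpr (Or.inl rfl)

theorem pi_r : s.π r = 0 := (s.pi_zero r s.rR).mpr (Or.inr rfl)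

theorem two (m : s.M) : m + m = 0 := by
  obtain ⟨a, ha, rfl⟩ := s.pi_surj m
  rw [← s.pi_mul a ha a ha, s.sq a ha, s.pi_one]

theorem conj_mem {c a : G} (hc : c ∈ centralizer ({r} : Set G)) (ha : a ∈ R) : c * a * c⁻¹ ∈ R :=
  (mem_normalizer_iff.mp (s.nR hc) a).mp ha

theorem pi_comm {c : G} (hc : c ∈ centralizer ({r} : Set G)) {a : G} (ha : a ∈ R) :
    s.π (c * a * c⁻¹ * a⁻¹) = s.ρ ⟨c, hc⟩ • s.π a + s.π a := by
  rw [s.inv_eq ha, s.pi_mul _ (s.conj_mem hc ha) _ ha, ← s.pi_conj ⟨c, hc⟩ a ha]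

theorem pi_eq_iff {a b : G} (ha : a ∈ R) (hb : b ∈ R) : s.π a = s.π b ↔ a = b ∨ a = b * r := by
  have h1 : s.π a = s.π b ↔ s.π (a * b) = 0 := by
    rw [s.pi_mul a ha b hb]
    constructor
    · intro e; rw [e, s.two]
    · intro e
      linear_combination (norm := abel) e - s.two (s.π b)
  rw [h1, s.pi_zero _ (mul_mem ha hb)]
  constructor
  · rintro (e | e)
    · left
      rw [mul_eq_one_iff_eq_inv.mp e, s.inv_eq hb]
    · right
      calc a = a * b * b := by rw [mul_assoc, s.sq b hb, mul_one]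
        _ = b * r := by rw [e, s.comm s.rR hb]
  · rintro (e | e)
    · left; rw [e, s.sq b hb]
    · right
      rw [e, mul_assoc, s.comm s.rR hb, ← mul_assoc, s.sq b hb, one_mul]

theorem comm_of_K {c a : G} (hc : c ∈ K) (ha : a ∈ R) : c * a * c⁻¹ * a⁻¹ = 1 ∨ c * a * c⁻¹ * a⁻¹ = r := by
  have hcC := s.KC hc
  apply (s.pi_zero _ (mul_mem (s.conj_mem hcC ha) (inv_mem ha))).mp
  rw [s.pi_comm hcC ha, (s.ker ⟨c, hcC⟩).mpr hc, one_smul, s.two]

theorem mem_K {c : G} (hc : c ∈ centralizer ({r} : Set G))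
    (h : ∀ a ∈ R, c * a * c⁻¹ * a⁻¹ = 1 ∨ c * a * c⁻¹ * a⁻¹ = r) : c ∈ K := by
  apply (s.ker ⟨c, hc⟩).mp
  apply s.faithful
  intro m
  obtain ⟨a, ha, rfl⟩ := s.pi_surj m
  have h1 := s.pi_comm hc ha
  rw [(s.pi_zero _ (mul_mem (s.conj_mem hc ha) (inv_mem ha))).mpr (h a ha)] at h1
  linear_combination (norm := abel) -h1 - s.two (s.π a)

theorem pi_ub {x p : G} (hx : x ∈ centralizer ({r} : Set G)) (hp : p ∈ ub R x) :
    s.π p ∈ Bad.blk s.M (s.ρ ⟨x, hx⟩) := by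
  obtain ⟨m, hm, rfl⟩ := hp
  exact ⟨s.π m, s.pi_comm hx hm⟩

theorem exists_ub {x : G} (hx : x ∈ centralizer ({r} : Set G)) {m : s.M}
    (hm : m ∈ Bad.blk s.M (s.ρ ⟨x, hx⟩)) : ∃ p ∈ ub R x, s.π p = m := by
  obtain ⟨n, rfl⟩ := hm
  obtain ⟨a, ha, rfl⟩ := s.pi_surj n
  exact ⟨x * a * x⁻¹ * a⁻¹, ⟨a, ha, rfl⟩, s.pi_comm hx ha⟩

theorem rho_comm {b y : G} (hb : b ∈ centralizer ({r} : Set G)) (hy : y ∈ centralizer ({r} : Set G)) :
    b * y * b⁻¹ * y⁻¹ ∈ K ↔ s.ρ ⟨b, hb⟩ * s.ρ ⟨y, hy⟩ = s.ρ ⟨y, hy⟩ * s.ρ ⟨b, hb⟩ := by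
  have h1 : s.ρ (⟨b, hb⟩ * ⟨y, hy⟩ * (⟨b, hb⟩)⁻¹ * (⟨y, hy⟩)⁻¹) = 1 ↔ b * y * b⁻¹ * y⁻¹ ∈ K :=
    s.ker _
  rw [← h1, map_mul, map_mul, map_mul, map_inv, map_inv, mul_inv_eq_one, mul_inv_eq_iff_eq_mul]

theorem rho_inv {b y : G} (hb : b ∈ centralizer ({r} : Set G)) (hy : y ∈ centralizer ({r} : Set G)) :
    b * y * b⁻¹ * y ∈ K ↔ s.ρ ⟨b, hb⟩ * s.ρ ⟨y, hy⟩ * (s.ρ ⟨b, hb⟩)⁻¹ = (s.ρ ⟨y, hy⟩)⁻¹ := by
  have h1 : s.ρ (⟨b, hb⟩ * ⟨y, hy⟩ * (⟨b, hb⟩)⁻¹ * ⟨y, hy⟩) = 1 ↔ b * y * b⁻¹ * y ∈ K :=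
    s.ker _
  rw [← h1, map_mul, map_mul, map_mul, map_inv, mul_eq_one_iff_eq_inv]

theorem rho_pow {y : G} (hy : y ∈ centralizer ({r} : Set G)) {k : ℕ} (hk : y ^ k = 1) :
    s.ρ ⟨y, hy⟩ ^ k = 1 := by
  rw [← map_pow, show (⟨y, hy⟩ : (centralizer ({r} : Set G) : Subgroup G)) ^ k = 1 from Subtype.ext hk,
    map_one]

/-- exact lift of an inverted element of odd order -/
theorem exists_lift [Finite G] {b : G} (hb : b ∈ centralizer ({r} : Set G)) (hbb : b * b = 1) {x : s.X}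
    (hx : Odd (orderOf x)) (hinv : s.ρ ⟨b, hb⟩ * x * (s.ρ ⟨b, hb⟩)⁻¹ = x⁻¹) :
    ∃ (y : G) (hy : y ∈ centralizer ({r} : Set G)), Odd (orderOf y) ∧ b * y * b⁻¹ = y⁻¹ ∧
      s.ρ ⟨y, hy⟩ = x := by
  obtain ⟨⟨g, hg⟩, hgx⟩ := s.surj x
  set c := g * b * g⁻¹ * b⁻¹ with hc
  have hcC : c ∈ centralizer ({r} : Set G) := mul_mem (mul_mem (mul_mem hg hb) (inv_mem hg)) (inv_mem hb)
  have hbi : b⁻¹ = b := inv_eq_of_mul_eq_one_left hbb
  have hbc : b * c * b⁻¹ = c⁻¹ := by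
    rw [hc, hbi]
    calc b * (g * b * g⁻¹ * b) * b = b * g * b * g⁻¹ * (b * b) := by group
      _ = b * g * b⁻¹ * g⁻¹ := by rw [hbb, mul_one, hbi]
      _ = (g * b * g⁻¹ * b⁻¹)⁻¹ := by group
      _ = (g * b * g⁻¹ * b)⁻¹ := by rw [hbi]
  have hρc : s.ρ ⟨c, hcC⟩ = x ^ 2 := by
    have e : (⟨c, hcC⟩ : (centralizer ({r} : Set G) : Subgroup G)) =
        ⟨g, hg⟩ * ⟨b, hb⟩ * (⟨g, hg⟩)⁻¹ * (⟨b, hb⟩)⁻¹ := rfl
    rw [e, map_mul, map_mul, map_mul, map_inv, map_inv, hgx]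
    have e2 : s.ρ ⟨b, hb⟩ * x⁻¹ * (s.ρ ⟨b, hb⟩)⁻¹ = x := by
      calc s.ρ ⟨b, hb⟩ * x⁻¹ * (s.ρ ⟨b, hb⟩)⁻¹ = (s.ρ ⟨b, hb⟩ * x * (s.ρ ⟨b, hb⟩)⁻¹)⁻¹ := by group
        _ = x := by rw [hinv, inv_inv]
    calc x * s.ρ ⟨b, hb⟩ * x⁻¹ * (s.ρ ⟨b, hb⟩)⁻¹ = x * (s.ρ ⟨b, hb⟩ * x⁻¹ * (s.ρ ⟨b, hb⟩)⁻¹) := by group
      _ = x ^ 2 := by rw [e2, pow_two]
  obtain ⟨k, m, hm, hkm⟩ := Nat.exists_eq_two_pow_mul_odd (orderOf_pos c).ne'
  have hcop : (2 ^ (k + 1)).Coprime (orderOf x) := Nat.Coprime.pow_left _ (Nat.coprime_two_left.mpr hx)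
  obtain ⟨l, hl⟩ := exists_pow_eq_self_of_coprime hcop
  refine ⟨c ^ (2 ^ k * l), pow_mem hcC _, ?_, ?_, ?_⟩
  · have h1 : (c ^ (2 ^ k * l)) ^ m = 1 := by
      rw [← pow_mul]
      have : 2 ^ k * l * m = orderOf c * l := by rw [hkm]; ring
      rw [this, pow_mul, pow_orderOf_eq_one, one_pow]
    exact hm.of_dvd_nat (orderOf_dvd_of_pow_eq_one h1)
  · rw [← conj_pow, hbc, inv_pow]
  · have e : (⟨c ^ (2 ^ k * l), pow_mem hcC _⟩ : (centralizer ({r} : Set G) : Subgroup G)) =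
        ⟨c, hcC⟩ ^ (2 ^ k * l) := rfl
    rw [e, map_pow, hρc, ← pow_mul]
    have : 2 * (2 ^ k * l) = 2 ^ (k + 1) * l := by ring
    rw [this, pow_mul, hl]

/-- a dihedral system for the elementary abelian group `A ≤ C_G(r)` modulo `K` -/
structure Sys (r : G) (K A : Subgroup G) (n : ℕ) (a y : Fin n → G) : Prop where
  aA : ∀ i, a i ∈ A
  yC : ∀ i, y i ∈ centralizer ({r} : Set G)
  odd : ∀ i, Odd (orderOf (y i))
  inv : ∀ i, a i * y i * (a i)⁻¹ = (y i)⁻¹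
  nK : ∀ i, y i ∉ K
  eig : ∀ b ∈ A, ∀ j, b * y j * b⁻¹ * (y j)⁻¹ ∈ K ∨ b * y j * b⁻¹ * y j ∈ K
  fix : ∀ i j, i ≠ j → a i * y j * (a i)⁻¹ * (y j)⁻¹ ∈ K
  comm : ∀ i j, y i * y j * (y i)⁻¹ * (y j)⁻¹ ∈ K
  faith : ∀ b ∈ A, (∀ j, b * y j * b⁻¹ * (y j)⁻¹ ∈ K) → b ∈ K

theorem eq_one_of_F {g : s.X} (hg : g ∈ s.F) (hgg : g * g = 1) : g = 1 :=
  Dihedral.eq_one_of_mul_self s.odd hg hgg

theorem exists_sys [Finite G] {A : Subgroup G} (hA : A ≤ centralizer ({r} : Set G))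
    (hA2 : ∀ a ∈ A, a * a = 1) : ∃ (n : ℕ) (a y : Fin n → G), Sys r K A n a y := by
  classical
  have := s.fin
  set B : Subgroup s.X := (A.subgroupOf (centralizer ({r} : Set G))).map s.ρ with hB
  have hBmem : ∀ b ∈ B, ∃ (a : G) (ha : a ∈ A), s.ρ ⟨a, hA ha⟩ = b := by
    rintro _ ⟨⟨a, haC⟩, ha, rfl⟩
    exact ⟨a, ha, rfl⟩
  have hmemB : ∀ (a : G) (ha : a ∈ A), s.ρ ⟨a, hA ha⟩ ∈ B := fun a ha => ⟨⟨a, hA ha⟩, ha, rfl⟩
  have hB2 : ∀ b ∈ B, b * b = 1 := by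
    intro b hb
    obtain ⟨a, ha, rfl⟩ := hBmem b hb
    rw [← map_mul]
    have : (⟨a, hA ha⟩ : (centralizer ({r} : Set G) : Subgroup G)) * ⟨a, hA ha⟩ = 1 :=
      Subtype.ext (hA2 a ha)
    rw [this, map_one]
  have hBF : B ≤ normalizer (s.F : Set s.X) := by
    have := s.normal
    rw [normalizer_eq_top]; exact le_top
  obtain ⟨n, b, y, h, hbot⟩ := Dihedral.exists_full (A := B) (R := s.F) hB2 s.nil s.odd hBF (by
    intro a ha hc
    have h1 : a ∈ s.F := s.cent (mem_centralizer_iff.mpr fun f hf => (hc f hf).symm)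
    exact s.eq_one_of_F h1 (hB2 a ha))
  choose a haA hab using fun i => hBmem (b i) (h.bA i)
  have hodd : ∀ i, Odd (orderOf (y i)) := by
    intro i
    have h1 : orderOf (⟨y i, h.yR i⟩ : s.F) ∣ Nat.card s.F := orderOf_dvd_natCard _
    have h2 : orderOf (⟨y i, h.yR i⟩ : s.F) = orderOf (y i) := Subgroup.orderOf_mk _ _
    rw [h2] at h1
    exact s.odd.of_dvd_nat h1
  choose Y hYC hYo hYi hY using fun i => s.exists_lift (hA (haA i)) (hA2 _ (haA i)) (hodd i)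
    (by rw [hab i]; exact h.inv i)
  refine ⟨n, a, Y, haA, hYC, hYo, hYi, ?_, ?_, ?_, ?_, ?_⟩
  · intro i hK
    have h1 : y i = 1 := by
      rw [← hY i]; exact (s.ker ⟨Y i, hYC i⟩).mpr hK
    exact h.ne_one i h1
  · intro c hc j
    rw [s.rho_comm (hA hc) (hYC j), s.rho_inv (hA hc) (hYC j), hY j]
    exact h.eig _ (hmemB c hc) j
  · intro i j hij
    rw [s.rho_comm (hA (haA i)) (hYC j), hY j, hab i]
    exact h.fix i j hij
  · intro i j
    rw [s.rho_comm (hYC i) (hYC j), hY j, hY i]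
    exact h.comm i j
  · intro c hc hall
    have h1 : s.ρ ⟨c, hA hc⟩ ∈ B ⊓ centralizer (Set.range y) := by
      refine ⟨hmemB c hc, mem_centralizer_iff.mpr ?_⟩
      rintro _ ⟨j, rfl⟩
      have := (s.rho_comm (hA hc) (hYC j)).mp (hall j)
      rw [hY j] at this
      exact this.symm
    rw [hbot, mem_bot] at h1
    exact (s.ker _).mp h1

/-- the module lemma, in the group -/
theorem exists_good' [Finite G] {V : Subgroup G} {d : G} (hdR : d ∈ R)
    (hV : ∀ v ∈ V, v = 1 ∨ v = r ∨ v = d ∨ v = r * d) (hrV : r ∈ V) (hdV : d ∈ V)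
    (hgen : ∀ N : Subgroup G, V ≤ N → centralizer ({r} : Set G) ≤ normalizer (N : Set G) → R ≤ N)
    {w : G} (hw : w ∈ centralizer ({r} : Set G)) (hww : w * w = 1)
    (hnot : ∃ a ∈ R, w * a * w⁻¹ * a⁻¹ ∉ V) :
    ∃ x ∈ centralizer ({r} : Set G), Odd (orderOf x) ∧ w * x * w⁻¹ = x⁻¹ ∧
      ∃ a ∈ ub R x, w * a * w⁻¹ * a⁻¹ ∉ V := by
  have := s.normal
  have := s.fin
  have hpiV : ∀ v ∈ V, s.π v = 0 ∨ s.π v = s.π d := by
    intro v hv
    rcases hV v hv with rfl | rfl | rfl | rfl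
    · left; exact s.pi_one
    · left; exact s.pi_r
    · right; rfl
    · right; rw [s.pi_mul _ s.rR _ hdR, s.pi_r, zero_add]
  have hVpi : ∀ v ∈ R, (s.π v = 0 ∨ s.π v = s.π d) → v ∈ V := by
    rintro v hv (e | e)
    · rcases (s.pi_zero v hv).mp e with rfl | rfl
      · exact one_mem _
      · exact hrV
    · rcases (s.pi_eq_iff hv hdR).mp e with rfl | rfl
      · exact hdV
      · exact mul_mem hdV hrV
  have hww' : s.ρ ⟨w, hw⟩ * s.ρ ⟨w, hw⟩ = 1 := by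
    rw [← map_mul]
    have : (⟨w, hw⟩ : (centralizer ({r} : Set G) : Subgroup G)) * ⟨w, hw⟩ = 1 := Subtype.ext hww
    rw [this, map_one]
  obtain ⟨x, hxF, hwx, m, hm0, hmd⟩ := exists_good (H := s.X) (M := s.M) s.two s.faithful s.normal s.odd
    (w := s.ρ ⟨w, hw⟩) hww' (by
      intro hc
      have h1 : s.ρ ⟨w, hw⟩ ∈ s.F := by
        apply s.cent
        rw [mem_centralizer_iff]
        intro f hf
        calc f * s.ρ ⟨w, hw⟩ = (s.ρ ⟨w, hw⟩ * f * (s.ρ ⟨w, hw⟩)⁻¹) * s.ρ ⟨w, hw⟩ := by rw [hc f hf]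
          _ = _ := by group
      exact s.eq_one_of_F h1 hww') (δ := s.π d) (by
      intro N hdN hN m
      let N' : Subgroup G :=
        { carrier := {a | a ∈ R ∧ s.π a ∈ N}
          mul_mem' := by
            rintro a b ⟨ha, ha'⟩ ⟨hb, hb'⟩
            refine ⟨mul_mem ha hb, ?_⟩
            rw [s.pi_mul a ha b hb]; exact add_mem ha' hb'
          one_mem' := ⟨one_mem _, by rw [s.pi_one]; exact zero_mem _⟩
          inv_mem' := by
            rintro a ⟨ha, ha'⟩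
            rw [s.inv_eq ha]; exact ⟨ha, ha'⟩ }
      have h1 : R ≤ N' := by
        apply hgen
        · intro v hv
          have hvR : v ∈ R := by
            rcases hV v hv with rfl | rfl | rfl | rfl
            · exact one_mem _
            · exact s.rR
            · exact hdR
            · exact mul_mem s.rR hdR
          refine ⟨hvR, ?_⟩
          rcases hpiV v hv with e | e
          · rw [e]; exact zero_mem _
          · rw [e]; exact hdN
        · refine ZN.Block.le_normalizer_of_forall ?_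
          rintro c hc a ⟨ha, ha'⟩
          refine ⟨s.conj_mem hc ha, ?_⟩
          rw [s.pi_conj ⟨c, hc⟩ a ha]
          exact hN _ _ ha'
      obtain ⟨a, ha, rfl⟩ := s.pi_surj m
      exact (h1 ha).2) (by
      obtain ⟨a, ha, hna⟩ := hnot
      refine ⟨s.π a, ?_, ?_⟩
      · intro e
        apply hna
        apply hVpi _ (mul_mem (s.conj_mem hw ha) (inv_mem ha))
        left
        rw [s.pi_comm hw ha, e]
      · intro e
        apply hna
        apply hVpi _ (mul_mem (s.conj_mem hw ha) (inv_mem ha))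
        right
        rw [s.pi_comm hw ha, e])
  have hodd : Odd (orderOf x) := by
    have h1 : orderOf (⟨x, hxF⟩ : s.F) ∣ Nat.card s.F := orderOf_dvd_natCard _
    rw [Subgroup.orderOf_mk] at h1
    exact s.odd.of_dvd_nat h1
  obtain ⟨y, hyC, hyo, hyi, hyx⟩ := s.exists_lift hw hww hodd hwx
  obtain ⟨a, ha, ham⟩ := s.exists_ub hyC (m := x • m + m) ⟨m, by rw [hyx]⟩
  have haR : a ∈ R := ub_subset (s.nR hyC) ha
  refine ⟨y, hyC, hyo, hyi, a, ha, fun hV' => ?_⟩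
  rcases hpiV _ hV' with e | e
  · rw [s.pi_comm hw haR, ham] at e
    exact hm0 e
  · rw [s.pi_comm hw haR, ham] at e
    exact hmd e

end Side

/-- the pair of collinear points `r`, `d` on the line `V`; `R = ws V r`, `D = ws V d` -/
structure Pr (r d : G) (V R D K L : Subgroup G) where
  left : Side r R K
  right : Side d D L
  ne : r ≠ d
  rV : r ∈ V
  dV : d ∈ V
  four : ∀ v ∈ V, v = 1 ∨ v = r ∨ v = d ∨ v = r * d
  VR : V ≤ R
  VD : V ≤ D
  genR : ∀ N : Subgroup G, V ≤ N → centralizer ({r} : Set G) ≤ normalizer (N : Set G) → R ≤ N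
  genD : ∀ N : Subgroup G, V ≤ N → centralizer ({d} : Set G) ≤ normalizer (N : Set G) → D ≤ N
  loc : ∀ U : Subgroup G, IsPGroup 2 U → U ≠ ⊥ → Group.IsSolvable (normalizer (U : Set G))

namespace Pr

variable {r d : G} {V R D K L : Subgroup G} (h : Pr r d V R D K L)

include h

theorem rd : r * d = d * r := h.left.comm h.left.rR (h.VR h.dV)

/-- the other side -/
def symm : Pr d r V D R L K where
  left := h.right
  right := h.left
  ne := h.ne.symm
  rV := h.dV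
  dV := h.rV
  four := by
    intro v hv
    rw [← h.rd]
    rcases h.four v hv with e | e | e | e
    · exact Or.inl e
    · exact Or.inr (Or.inr (Or.inl e))
    · exact Or.inr (Or.inl e)
    · exact Or.inr (Or.inr (Or.inr e))
  VR := h.VD
  VD := h.VR
  genR := h.genD
  genD := h.genR
  loc := h.loc

theorem R_le : R ≤ centralizer ({d} : Set G) := fun _ ha =>
  mem_centralizer_singleton_iff.mpr (h.left.comm ha (h.VR h.dV))

theorem D_le : D ≤ centralizer ({r} : Set G) := fun _ ha =>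
  mem_centralizer_singleton_iff.mpr (h.right.comm ha (h.VD h.rV))

theorem nRD : R ≤ normalizer (D : Set G) := h.R_le.trans h.right.nR

theorem nDR : D ≤ normalizer (R : Set G) := h.D_le.trans h.left.nR

/-- commutators lie in `R ⊓ D` -/
theorem comm_mem {b u : G} (hb : b ∈ R) (hu : u ∈ D) : b * u * b⁻¹ * u⁻¹ ∈ R ∧ b * u * b⁻¹ * u⁻¹ ∈ D := by
  refine ⟨?_, mul_mem ((mem_normalizer_iff.mp (h.nRD hb) u).mp hu) (inv_mem hu)⟩
  have e : b * u * b⁻¹ * u⁻¹ = b * (u * b⁻¹ * u⁻¹) := by group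
  rw [e]
  exact mul_mem hb ((mem_normalizer_iff.mp (h.nDR hu) _).mp (inv_mem hb))

/-- `(N)` -/
theorem killing {y x v w a u : G} (hv1 : v ≠ 1) (hvR : v ∈ R) (hw : w ∈ Killing.ncl (zpowers y) v)
    (ha : a ∈ Killing.ncl (zpowers x) v) (hwa : w * a * w⁻¹ * a⁻¹ = v) (hu1 : u ≠ 1) (huR : u ∈ R)
    (huy : y * u = u * y) (hux : x * u = u * x) : False := by
  have huv : v * u = u * v := h.left.comm hvR huR
  have hou : orderOf u = 2 := orderOf_eq_prime (by rw [pow_two]; exact h.left.sq u huR) hu1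
  have hX : zpowers v ⊔ zpowers y ≤ centralizer ({u} : Set G) := by
    rw [sup_le_iff, zpowers_le, zpowers_le, mem_centralizer_singleton_iff, mem_centralizer_singleton_iff]
    exact ⟨huv, huy⟩
  have hY : zpowers x ≤ centralizer ({u} : Set G) := by
    rw [zpowers_le, mem_centralizer_singleton_iff]; exact hux
  refine Killing.killing_centralizer h.loc (X := zpowers v ⊔ zpowers y) (Y := zpowers x)
    (mem_sup_left (mem_zpowers v)) hv1 (V := zpowers w) (W := zpowers a) ?_ ?_ ?_ hou hX hY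
  · rw [zpowers_le]; exact Killing.ncl_mono le_sup_right v hw
  · rw [zpowers_le]; exact ha
  · have := commutator_mem_commutator (mem_zpowers w) (mem_zpowers a)
    rw [commutatorElement_def, hwa] at this
    exact this

end Pr

/-- `a ∈ R` inverts `y ∈ C_G(d)` of odd order, all of `R` centralises or inverts `y` modulo `L` -/
structure Wt (d : G) (R L : Subgroup G) (a y : G) : Prop where
  aR : a ∈ R
  yC : y ∈ centralizer ({d} : Set G)
  odd : Odd (orderOf y)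
  inv : a * y * a⁻¹ = y⁻¹
  nL : y ∉ L
  eig : ∀ b ∈ R, b * y * b⁻¹ * y⁻¹ ∈ L ∨ b * y * b⁻¹ * y ∈ L

namespace Wt

variable {r d : G} {V R D K L : Subgroup G} {a y : G}

/-- elements of `R` centralising `y` modulo `L` act trivially on `[D, y]⟨d⟩/⟨d⟩` -/
theorem comm_cases (hy : Wt d R L a y) (h : Pr r d V R D K L) {c p : G} (hc : c ∈ R)
    (hcy : c * y * c⁻¹ * y⁻¹ ∈ L) (hp : p ∈ ub D y) : c * p * c⁻¹ * p⁻¹ = 1 ∨ c * p * c⁻¹ * p⁻¹ = d := by
  obtain ⟨k, hk⟩ := exists_pow_eq hy.odd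
  have hpD := ub_subset (h.right.nR hy.yC) hp
  have h1 := fix_of (y := h.right.ρ ⟨y, hy.yC⟩) (a := h.right.ρ ⟨a, h.R_le hy.aR⟩)
    (c := h.right.ρ ⟨c, h.R_le hc⟩) h.right.two (h.right.rho_pow hy.yC hk)
    ((h.right.rho_inv (h.R_le hy.aR) hy.yC).mp (by rw [hy.inv, inv_mul_cancel]; exact one_mem _))
    ((h.right.rho_comm (h.R_le hc) hy.yC).mp hcy) (by
      intro m hm
      obtain ⟨q, hq, rfl⟩ := h.right.exists_ub hy.yC hm
      have hqD := ub_subset (h.right.nR hy.yC) hq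
      rw [← h.right.pi_comm (h.R_le hc) hqD]
      obtain ⟨h2, h3⟩ := h.comm_mem hc hqD
      rw [← h.right.pi_conj ⟨a, h.R_le hy.aR⟩ _ h3]
      congr 1
      rw [h.left.comm hy.aR h2, mul_inv_cancel_right]) _ (h.right.pi_ub hy.yC hp)
  rw [← h.right.pi_zero _ (h.comm_mem hc hpD).2, h.right.pi_comm (h.R_le hc) hpD, h1, h.right.two]

/-- `[w, R] ≤ ⟨v, d⟩` for `w ∈ [D, y]`, `v = [w, a]` -/
theorem comm_R (hy : Wt d R L a y) (h : Pr r d V R D K L) {w v : G} (hw : w ∈ ub D y)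
    (hv : w * (a * w * a⁻¹) = v) {b : G} (hb : b ∈ R) :
    w * (b * w * b⁻¹) = 1 ∨ w * (b * w * b⁻¹) = d ∨ w * (b * w * b⁻¹) = v ∨ w * (b * w * b⁻¹) = v * d := by
  have hwD := ub_subset (h.right.nR hy.yC) hw
  have hww := h.right.sq w hwD
  have hwi := h.right.inv_eq hwD
  rcases hy.eig b hb with e | e
  · rcases hy.comm_cases h hb e hw with e1 | e1
    · left
      have : b * w * b⁻¹ = w := mul_inv_eq_one.mp e1
      rw [this, hww]
    · right; left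
      have : b * w * b⁻¹ = d * w := by rw [← e1]; group
      rw [this, h.right.comm h.right.rR hwD, ← mul_assoc, hww, one_mul]
  · -- `a⁻¹ b` centralises `y` modulo `L`
    have hab : a⁻¹ * b ∈ R := mul_mem (inv_mem hy.aR) hb
    have h1 : (a⁻¹ * b) * y * (a⁻¹ * b)⁻¹ * y⁻¹ ∈ L := by
      rw [h.right.rho_comm (h.R_le hab) hy.yC]
      have e1 := (h.right.rho_inv (h.R_le hb) hy.yC).mp e
      have e2 := (h.right.rho_inv (h.R_le hy.aR) hy.yC).mp (by rw [hy.inv, inv_mul_cancel]; exact one_mem _)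
      have e3 : h.right.ρ ⟨a⁻¹ * b, h.R_le hab⟩ =
          (h.right.ρ ⟨a, h.R_le hy.aR⟩)⁻¹ * h.right.ρ ⟨b, h.R_le hb⟩ := by
        rw [← map_inv, ← map_mul]; rfl
      set A := h.right.ρ ⟨a, h.R_le hy.aR⟩
      set B := h.right.ρ ⟨b, h.R_le hb⟩
      set Y := h.right.ρ ⟨y, hy.yC⟩
      rw [e3]
      have e4 : A⁻¹ * B * Y * (A⁻¹ * B)⁻¹ = Y := by
        calc A⁻¹ * B * Y * (A⁻¹ * B)⁻¹ = A⁻¹ * (B * Y * B⁻¹) * A := by group
          _ = A⁻¹ * (A * Y * A⁻¹) * A := by rw [e1, e2]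
          _ = Y := by group
      calc A⁻¹ * B * Y = (A⁻¹ * B * Y * (A⁻¹ * B)⁻¹) * (A⁻¹ * B) := by group
        _ = Y * (A⁻¹ * B) := by rw [e4]
    have e0 : b * w * b⁻¹ = a * ((a⁻¹ * b) * w * (a⁻¹ * b)⁻¹) * a⁻¹ := by group
    rcases hy.comm_cases h hab h1 hw with e1 | e1
    · right; right; left
      have : (a⁻¹ * b) * w * (a⁻¹ * b)⁻¹ = w := mul_inv_eq_one.mp e1
      rw [e0, this, hv]
    · right; right; right
      have : (a⁻¹ * b) * w * (a⁻¹ * b)⁻¹ = d * w := by rw [← e1]; group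
      rw [e0, this]
      have had : a * d * a⁻¹ = d := by
        rw [h.left.comm hy.aR (h.VR h.dV), mul_inv_cancel_right]
      have hawD : a * w * a⁻¹ ∈ D := (mem_normalizer_iff.mp (h.nRD hy.aR) w).mp hwD
      calc w * (a * (d * w) * a⁻¹) = w * ((a * d * a⁻¹) * (a * w * a⁻¹)) := by group
        _ = w * ((a * w * a⁻¹) * d) := by rw [had, h.right.comm h.right.rR hawD]
        _ = v * d := by rw [← mul_assoc, hv]

/-- there is a nontrivial element in `[D, y] ∩ R` -/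
theorem exists_v (hy : Wt d R L a y) (h : Pr r d V R D K L) : ∃ v ∈ ub D y, v ∈ R ∧ v ≠ 1 := by
  by_contra hcon
  push Not at hcon
  obtain ⟨k, hk⟩ := exists_pow_eq hy.odd
  have hyN := h.right.nR hy.yC
  have hinv := (h.right.rho_inv (h.R_le hy.aR) hy.yC).mp (by rw [hy.inv, inv_mul_cancel]; exact one_mem _)
  -- `a` centralises `[D, y]`
  have h1 : ∀ p ∈ ub D y, a * p * a⁻¹ = p := by
    intro p hp
    have hpD := ub_subset hyN hp
    have h2 := ub_conj_inv h.right.sq hyN (h.nRD hy.aR) hy.inv hp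
    have h3 : a * p * a⁻¹ * p⁻¹ ∈ ub D y := by
      rw [h.right.inv_eq hpD]
      exact ub_mul h.right.sq hyN h2 hp
    exact mul_inv_eq_one.mp (hcon _ h3 (h.comm_mem hy.aR hpD).1)
  have h4 : ∀ m ∈ Bad.blk h.right.M (h.right.ρ ⟨y, hy.yC⟩), m = 0 := by
    intro m hm
    have h5 : ∀ m ∈ Bad.blk h.right.M (h.right.ρ ⟨y, hy.yC⟩), h.right.ρ ⟨a, h.R_le hy.aR⟩ • m = m := by
      intro m hm
      obtain ⟨q, hq, rfl⟩ := h.right.exists_ub hy.yC hm
      rw [← h.right.pi_conj ⟨a, h.R_le hy.aR⟩ _ (ub_subset hyN hq)]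
      congr 1
      exact h1 q hq
    exact eq_zero_of_fix h.right.two (h.right.rho_pow hy.yC hk) hm
      (fix_inv (h.right.rho_pow hy.yC hk) hinv (h5 m hm) (h5 _ (Bad.smul_mem_blk rfl hm)))
  apply hy.nL
  apply (h.right.ker ⟨y, hy.yC⟩).mp
  apply h.right.faithful
  intro m
  have := h4 _ ⟨m, rfl⟩
  linear_combination (norm := abel) this - h.right.two m

theorem not_mem_V (hy : Wt d R L a y) (h : Pr r d V R D K L) (hr1 : r ∉ ub D y) (hr2 : r * d ∉ ub D y)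
    {v : G} (hv : v ∈ ub D y) (hv1 : v ≠ 1) : v ∉ V := by
  intro hV
  rcases h.four v hV with rfl | rfl | rfl | rfl
  · exact hv1 rfl
  · exact hr1 hv
  · exact hv1 (eq_one_of_comm h.right.sq (h.right.nR hy.yC) hy.odd hv
      (mem_centralizer_singleton_iff.mp hy.yC))
  · exact hr2 hv

/-- decomposition of an element centralised by `a` -/
theorem exists_dec {G : Type u} [Group G] {D : Subgroup G} (sq : ∀ u ∈ D, u * u = 1) {y a : G}
    (hyD : y ∈ normalizer (D : Set G)) (ho : Odd (orderOf y)) (haD : a ∈ normalizer (D : Set G))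
    (inv : a * y * a⁻¹ = y⁻¹) {u : G} (hu : u ∈ D) (hau : a * u = u * a) :
    ∃ c ∈ D, y * c = c * y ∧ ∃ p ∈ ub D y, u = c * p ∧ ∃ w ∈ ub D y, w * (a * w * a⁻¹) = p := by
  obtain ⟨c, hc, p, hp, hyc, hcp⟩ := exists_decomp' sq hyD ho hu
  have hpD := ub_subset hyD hp
  -- uniqueness gives that `a` centralises `p`
  have hap : a * p = p * a := by
    have h1 := ub_conj_inv sq hyD haD inv hp
    have hacD : a * c * a⁻¹ ∈ D := (mem_normalizer_iff.mp haD c).mp hc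
    have hac : y * (a * c * a⁻¹) = (a * c * a⁻¹) * y := by
      have e1 : y * a = a * y⁻¹ := by
        have : a⁻¹ * (a * y * a⁻¹)⁻¹ * a = a⁻¹ * y⁻¹⁻¹ * a := by rw [inv]
        have e2 : a⁻¹ * (a * y * a⁻¹)⁻¹ * a = y⁻¹ := by group
        rw [e2, inv_inv] at this
        rw [this]; group
      have e2 : a⁻¹ * y = y⁻¹ * a⁻¹ := by
        calc a⁻¹ * y = a⁻¹ * (y * a) * a⁻¹ := by group
          _ = y⁻¹ * a⁻¹ := by rw [e1]; group
      have e3 : y⁻¹ * c = c * y⁻¹ := by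
        calc y⁻¹ * c = y⁻¹ * (c * y) * y⁻¹ := by group
          _ = c * y⁻¹ := by rw [← hyc]; group
      calc y * (a * c * a⁻¹) = (y * a) * c * a⁻¹ := by group
        _ = a * (y⁻¹ * c) * a⁻¹ := by rw [e1]; group
        _ = a * c * (y⁻¹ * a⁻¹) := by rw [e3]; group
        _ = a * c * a⁻¹ * y := by rw [← e2]; group
    have h2 : (a * c * a⁻¹) * (a * p * a⁻¹) = c * p := by
      calc (a * c * a⁻¹) * (a * p * a⁻¹) = a * (c * p) * a⁻¹ := by group
        _ = c * p := by rw [← hcp, hau, mul_inv_cancel_right]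
    have hapD := ub_subset hyD h1
    have h3 : (a * p * a⁻¹) * p = c * (a * c * a⁻¹) := by
      have hci := inv_of_sq sq hacD
      have hpi := inv_of_sq sq hpD
      calc (a * p * a⁻¹) * p = (a * c * a⁻¹)⁻¹ * ((a * c * a⁻¹) * (a * p * a⁻¹)) * p := by group
        _ = (a * c * a⁻¹) * (c * p) * p := by rw [h2, hci]
        _ = (a * c * a⁻¹) * c := by rw [mul_assoc, mul_assoc c p p, sq p hpD, mul_one]
        _ = c * (a * c * a⁻¹) := comm_of_sq sq hacD hc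
    have h4 : (a * p * a⁻¹) * p = 1 := by
      refine eq_one_of_comm sq hyD ho (ub_mul sq hyD h1 hp) ?_
      rw [h3, ← mul_assoc, hyc, mul_assoc, hac, ← mul_assoc, ← mul_assoc]
    have h5 : a * p * a⁻¹ = p := by
      rw [mul_eq_one_iff_eq_inv.mp h4, inv_of_sq sq hpD]
    calc a * p = (a * p * a⁻¹) * a := by group
      _ = p * a := by rw [h5]
  obtain ⟨w, hw, hwp, -, -⟩ := exists_half' sq hyD ho haD inv hap hp
  exact ⟨c, hc, hyc, p, hp, hcp, w, hw, hwp⟩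

/-- **Step A** -/
theorem stepA [Finite G] (hy : Wt d R L a y) (h : Pr r d V R D K L) (hr1 : r ∉ ub D y)
    (hr2 : r * d ∉ ub D y) :
    y * r ≠ r * y ∧ Nat.card (R ⊓ D ⊓ centralizer ({y} : Set G) : Subgroup G) ≤ 4 := by
  have hyD := h.right.nR hy.yC
  obtain ⟨v, hv, hvR, hv1⟩ := hy.exists_v h
  have hvD := ub_subset hyD hv
  have hvV := hy.not_mem_V h hr1 hr2 hv hv1
  obtain ⟨w, hw, hwv, hwn, hwn'⟩ := exists_half' h.right.sq hyD hy.odd (h.nRD hy.aR) hy.inv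
    (h.left.comm hy.aR hvR) hv
  have hwD := ub_subset hyD hw
  have hwC := h.D_le hwD
  have hww := h.right.sq w hwD
  have hwi := h.right.inv_eq hwD
  have hwb : ∀ b ∈ R, w * b * w⁻¹ * b⁻¹ = w * (b * w * b⁻¹) := by
    intro b _
    rw [hwi]; group
  obtain ⟨x, hxC, hxo, hwx, a₁, ha₁, ha₁V⟩ := h.left.exists_good' (h.VR h.dV) h.four h.rV h.dV h.genR hwC hww
    ⟨a, hy.aR, by rw [hwb a hy.aR, hwv]; exact hvV⟩
  have hxR := h.left.nR hxC
  have ha₁R := ub_subset hxR ha₁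
  -- the common commutator
  obtain ⟨v₁, hv₁⟩ : ∃ v₁, v₁ = w * a₁ * w⁻¹ * a₁⁻¹ := ⟨_, rfl⟩
  rw [← hv₁] at ha₁V
  have hv₁c : v₁ = v ∨ v₁ = v * d := by
    have := hy.comm_R h hw hwv ha₁R
    rw [← hwb a₁ ha₁R, ← hv₁] at this
    rcases this with e | e | e | e
    · exact absurd (by rw [e]; exact one_mem _) ha₁V
    · exact absurd (by rw [e]; exact h.dV) ha₁V
    · exact Or.inl e
    · exact Or.inr e
  have hv₁1 : v₁ ≠ 1 := fun e => ha₁V (by rw [e]; exact one_mem _)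
  have hv₁x : v₁ ∈ ub R x := by
    rw [hv₁, h.left.inv_eq ha₁R]
    exact ub_mul h.left.sq hxR (ub_conj_inv h.left.sq hxR (h.nDR hwD) hwx ha₁) ha₁
  have hv₁R := ub_subset hxR hv₁x
  have hv₁D : v₁ ∈ D := by
    rcases hv₁c with e | e
    · rw [e]; exact hvD
    · rw [e]; exact mul_mem hvD (h.VD h.dV)
  obtain ⟨w', hw', hw'v, hw'n, -⟩ := exists_half' h.left.sq hxR hxo (h.nDR hwD) hwx
    (h.right.comm hwD hv₁D) hv₁x
  have hw'R := ub_subset hxR hw'
  have hww' : w * w' * w⁻¹ * w'⁻¹ = v₁ := by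
    rw [← hw'v, h.left.inv_eq hw'R, h.left.comm hw'R ((mem_normalizer_iff.mp (h.nDR hwD) w').mp hw'R)]
  have hwn₁ : w ∈ Killing.ncl (zpowers y) v₁ := by
    rcases hv₁c with e | e
    · rw [e]; exact hwn
    · rw [e]
      exact hwn' d (h.VD h.dV) (mem_centralizer_singleton_iff.mp hy.yC)
  have kill : ∀ u ∈ R, y * u = u * y → x * u = u * x → u = 1 := by
    intro u hu hyu hxu
    by_contra hu1
    exact h.killing hv₁1 hv₁R hwn₁ hw'n hww' hu1 hu hyu hxu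
  have hxr : x * r = r * x := mem_centralizer_singleton_iff.mp hxC
  refine ⟨fun e => h.left.r1 (kill r h.left.rR e hxr), ?_⟩
  -- the projection to `[R, x]`
  set S : Subgroup G := R ⊓ D ⊓ centralizer ({y} : Set G) with hS
  set T : Set G := {1, d, v, v * d} with hT
  have hTfin : T.Finite := by rw [hT]; exact Set.toFinite _
  have hTc : T.ncard ≤ 4 := by
    rw [hT]
    refine (Set.ncard_insert_le _ _).trans ?_
    refine Nat.succ_le_succ ((Set.ncard_insert_le _ _).trans ?_)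
    refine Nat.succ_le_succ ((Set.ncard_insert_le _ _).trans ?_)
    rw [Set.ncard_singleton]
  have hdec : ∀ u : S, ∃ p : T, ∃ c ∈ R, x * c = c * x ∧ (u : G) = c * p := by
    rintro ⟨u, ⟨huR, huD⟩, hyu⟩
    obtain ⟨c, hc, hxc, p, hp, hcp, q, hq, hqp⟩ := exists_dec h.left.sq hxR hxo (h.nDR hwD) hwx huR
      (h.right.comm hwD huD)
    have hqR := ub_subset hxR hq
    have hpT : p ∈ T := by
      have := hy.comm_R h hw hwv hqR
      have e : w * (q * w * q⁻¹) = p := by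
        rw [← hqp, ← hwb q hqR, h.left.inv_eq hqR,
          h.left.comm hqR ((mem_normalizer_iff.mp (h.nDR hwD) q).mp hqR)]
      rw [e] at this
      simpa [hT] using this
    exact ⟨⟨p, hpT⟩, c, hc, hxc, hcp⟩
  choose f hf using hdec
  have hinj : Function.Injective f := by
    intro u₁ u₂ he
    obtain ⟨c₁, hc₁, hxc₁, e₁⟩ := hf u₁
    obtain ⟨c₂, hc₂, hxc₂, e₂⟩ := hf u₂
    have hS₁ := u₁.2
    have hS₂ := u₂.2
    have e : ((u₁ : G))⁻¹⁻¹ * ((u₂ : G))⁻¹ = c₁ * c₂⁻¹ := by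
      rw [inv_inv, e₁, e₂, he]; group
    have h1 : c₁ * c₂⁻¹ = 1 := by
      apply kill _ (mul_mem hc₁ (inv_mem hc₂))
      · rw [← e, inv_inv]
        have h1 : Commute y (u₁ : G) := (mem_centralizer_singleton_iff.mp hS₁.2).symm
        have h2 : Commute y (u₂ : G) := (mem_centralizer_singleton_iff.mp hS₂.2).symm
        exact (h1.mul_right h2.inv_right).eq
      · have h1 : Commute x c₁ := hxc₁
        have h2 : Commute x c₂ := hxc₂
        exact (h1.mul_right h2.inv_right).eq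
    apply Subtype.ext
    rw [e₁, e₂, he, mul_inv_eq_one.mp h1]
  have := hTfin.to_subtype
  calc Nat.card S ≤ Nat.card T := Nat.card_le_card_of_injective f hinj
    _ ≤ 4 := hTc

/-- the common last step -/
theorem final {b x : G} (hy : Wt d R L a y) (hx : Wt r D K b x) (h : Pr r d V R D K L)
    (hd1 : d ∉ ub R x) (hd2 : d * r ∉ ub R x) {v w : G}
    (hw : w ∈ ub D y) (hwv : w * (a * w * a⁻¹) = v) (hwn : w ∈ Killing.ncl (zpowers y) v)
    (hwn' : ∀ d ∈ D, y * d = d * y → w ∈ Killing.ncl (zpowers y) (v * d))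
    {v' : G} (hv' : v' ∈ ub R x) (hv'D : v' ∈ D) (hv'1 : v' ≠ 1)
    (hI : ∀ u ∈ R, u ∈ D → ∃ c ∈ R, x * c = c * x ∧ (u = c ∨ u = c * v'))
    {u₁ u₂ : G} (hu₁R : u₁ ∈ R) (hu₁D : u₁ ∈ D) (hyu₁ : y * u₁ = u₁ * y) (hu₁ : u₁ ≠ 1)
    (hu₂R : u₂ ∈ R) (hu₂D : u₂ ∈ D) (hyu₂ : y * u₂ = u₂ * y) (hu₂ : u₂ ≠ 1) (hne : u₁ ≠ u₂)
    (hwb : (w * b) * x * (w * b)⁻¹ * x⁻¹ ∈ K) : False := by
  have hyD := h.right.nR hy.yC
  have hxR := h.left.nR hx.yC
  have hwD := ub_subset hyD hw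
  have hv'R := ub_subset hxR hv'
  have hbD := hx.aR
  have hwi := h.right.inv_eq hwD
  obtain ⟨a', ha', ha'v, ha'n, ha'n'⟩ := exists_half' h.left.sq hxR hx.odd (h.nDR hbD) hx.inv
    (h.right.comm hbD hv'D) hv'
  have ha'R := ub_subset hxR ha'
  have ha'i := h.left.inv_eq ha'R
  have hwa'R : w * a' * w⁻¹ ∈ R := (mem_normalizer_iff.mp (h.nDR hwD) a').mp ha'R
  -- the commutator
  obtain ⟨z₀, hz₀⟩ : ∃ z₀, z₀ = w * a' * w⁻¹ * a'⁻¹ := ⟨_, rfl⟩
  have h1 : z₀ = 1 ∨ z₀ = d ∨ z₀ = v ∨ z₀ = v * d := by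
    have := hy.comm_R h hw hwv ha'R
    have e : w * (a' * w * a'⁻¹) = z₀ := by rw [hz₀, hwi]; group
    rwa [e] at this
  have h2 : z₀ = v' ∨ z₀ = r * v' := by
    have hba : b * a' * b⁻¹ = a' * v' := by
      rw [← ha'v, ← mul_assoc, h.left.sq a' ha'R, one_mul]
    have hwv' : w * v' * w⁻¹ = v' := by
      rw [h.right.comm hwD hv'D, mul_inv_cancel_right]
    have e0 : (w * b) * a' * (w * b)⁻¹ * a'⁻¹ = (w * a' * w⁻¹ * a'⁻¹) * v' := by
      calc (w * b) * a' * (w * b)⁻¹ * a'⁻¹ = w * (b * a' * b⁻¹) * w⁻¹ * a'⁻¹ := by group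
        _ = (w * a' * w⁻¹) * (w * v' * w⁻¹) * a'⁻¹ := by rw [hba]; group
        _ = (w * a' * w⁻¹) * (v' * a'⁻¹) := by rw [hwv']; group
        _ = (w * a' * w⁻¹) * (a'⁻¹ * v') := by rw [h.left.comm hv'R (inv_mem ha'R)]
        _ = _ := by group
    rw [← hz₀] at e0
    rcases hx.comm_cases h.symm (mul_mem hwD hbD) hwb ha' with e | e
    · left
      rw [e0] at e
      rw [mul_eq_one_iff_eq_inv.mp e, h.left.inv_eq hv'R]
    · right
      rw [e0] at e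
      rw [← e, mul_assoc, h.left.sq v' hv'R, mul_one]
  have hv'V := hx.not_mem_V h.symm hd1 hd2 hv' hv'1
  have hz₀V : z₀ ∉ V := by
    intro hV
    apply hv'V
    rcases h2 with e | e
    · rwa [← e]
    · have : v' = r⁻¹ * z₀ := by rw [e, inv_mul_cancel_left]
      rw [this]; exact mul_mem (inv_mem h.rV) hV
  have h3 : w ∈ Killing.ncl (zpowers y) z₀ := by
    rcases h1 with e | e | e | e
    · exact absurd (by rw [e]; exact one_mem _) hz₀V
    · exact absurd (by rw [e]; exact h.dV) hz₀V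
    · rw [e]; exact hwn
    · rw [e]; exact hwn' d (h.VD h.dV) (mem_centralizer_singleton_iff.mp hy.yC)
  have h4 : a' ∈ Killing.ncl (zpowers x) z₀ := by
    rcases h2 with e | e
    · rw [e]; exact ha'n
    · rw [e, h.left.comm h.left.rR hv'R]
      exact ha'n' r h.left.rR (mem_centralizer_singleton_iff.mp hx.yC)
  have hz₀1 : z₀ ≠ 1 := fun e => hz₀V (by rw [e]; exact one_mem _)
  have hz₀R : z₀ ∈ R := by rw [hz₀]; exact mul_mem hwa'R (inv_mem ha'R)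
  obtain ⟨c₁, hc₁, hxc₁, e₁⟩ := hI u₁ hu₁R hu₁D
  obtain ⟨c₂, hc₂, hxc₂, e₂⟩ := hI u₂ hu₂R hu₂D
  rcases e₁ with e₁ | e₁
  · exact h.killing hz₀1 hz₀R h3 h4 hz₀.symm hu₁ hu₁R hyu₁ (by rw [e₁]; exact hxc₁)
  · rcases e₂ with e₂ | e₂
    · exact h.killing hz₀1 hz₀R h3 h4 hz₀.symm hu₂ hu₂R hyu₂ (by rw [e₂]; exact hxc₂)
    · refine h.killing hz₀1 hz₀R h3 h4 hz₀.symm (u := u₁ * u₂) ?_ (mul_mem hu₁R hu₂R) ?_ ?_
      · intro e
        apply hne
        rw [mul_eq_one_iff_eq_inv.mp e, h.left.inv_eq hu₂R]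
      · exact ((show Commute y u₁ from hyu₁).mul_right (show Commute y u₂ from hyu₂)).eq
      · have : u₁ * u₂ = c₁ * c₂ := by
          rw [e₁, e₂]
          calc c₁ * v' * (c₂ * v') = c₁ * (v' * c₂) * v' := by group
            _ = c₁ * (c₂ * v') * v' := by rw [h.left.comm hv'R hc₂]
            _ = c₁ * c₂ * (v' * v') := by group
            _ = c₁ * c₂ := by rw [h.left.sq v' hv'R, mul_one]
        rw [this]
        exact ((show Commute x c₁ from hxc₁).mul_right (show Commute x c₂ from hxc₂)).eq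

end Wt

namespace Side.Sys

variable {r d : G} {V R D K L : Subgroup G} {n : ℕ} {a y : Fin n → G}

theorem wt (hs : Sys d L R n a y) (i : Fin n) : Wt d R L (a i) (y i) :=
  ⟨hs.aA i, hs.yC i, hs.odd i, hs.inv i, hs.nK i, fun b hb => hs.eig b hb i⟩

theorem comm_ub (hs : Sys d L R n a y) (h : Pr r d V R D K L) {i l : Fin n} (hil : i ≠ l) {p : G}
    (hp : p ∈ ub D (y l)) : y i * p = p * y i := by
  have hyl := hs.yC l
  have hyi := hs.yC i
  have hylD := h.right.nR hyl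
  have hyiD := h.right.nR hyi
  obtain ⟨k, hk⟩ := exists_pow_eq (hs.odd i)
  have haC := h.R_le (hs.aA i)
  have hinv := (h.right.rho_inv haC hyi).mp (by rw [hs.inv i, inv_mul_cancel]; exact one_mem _)
  have hfix : ∀ m ∈ Bad.blk h.right.M (h.right.ρ ⟨y l, hyl⟩), h.right.ρ ⟨a i, haC⟩ • m = m := by
    intro m hm
    obtain ⟨q, hq, rfl⟩ := h.right.exists_ub hyl hm
    have hqD := ub_subset hylD hq
    have h1 := (hs.wt l).comm_cases h (hs.aA i) (hs.fix i l hil) hq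
    rw [← h.right.pi_zero _ (h.comm_mem (hs.aA i) hqD).2, h.right.pi_comm haC hqD] at h1
    linear_combination (norm := abel) h1 - h.right.two (h.right.π q)
  have hcomm := (h.right.rho_comm hyi hyl).mp (hs.comm i l)
  have hpD := ub_subset hylD hp
  have h2 : h.right.ρ ⟨y i, hyi⟩ • h.right.π p = h.right.π p :=
    fix_inv (h.right.rho_pow hyi hk) hinv (hfix _ (h.right.pi_ub hyl hp))
      (hfix _ (Bad.smul_mem_blk hcomm (h.right.pi_ub hyl hp)))
  have h3 := h.right.pi_comm hyi hpD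
  rw [h2, h.right.two, h.right.pi_zero _ (mul_mem (h.right.conj_mem hyi hpD) (inv_mem hpD))] at h3
  have h4 : y i * p * (y i)⁻¹ * p⁻¹ = 1 := by
    refine eq_one_of_comm h.right.sq hyiD (hs.odd i) ⟨p, hpD, rfl⟩ ?_
    rcases h3 with e | e
    · rw [e, mul_one, one_mul]
    · rw [e]; exact mem_centralizer_singleton_iff.mp hyi
  calc y i * p = (y i * p * (y i)⁻¹ * p⁻¹) * p * y i := by group
    _ = p * y i := by rw [h4, one_mul]

theorem not_mem [Finite G] (hs : Sys d L R n a y) (h : Pr r d V R D K L) {i l : Fin n} (hil : i ≠ l) :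
    r ∉ ub D (y l) ∧ r * d ∉ ub D (y l) := by
  have hyiD := h.right.nR (hs.yC i)
  have hid : y i * d = d * y i := mem_centralizer_singleton_iff.mp (hs.yC i)
  have key : y i * r = r * y i → False := by
    intro hir
    refine ((hs.wt i).stepA h ?_ ?_).1 hir
    · intro hr
      exact h.left.r1 (eq_one_of_comm h.right.sq hyiD (hs.odd i) hr hir)
    · intro hr
      have h1 : r * d = 1 := eq_one_of_comm h.right.sq hyiD (hs.odd i) hr
        ((show Commute (y i) r from hir).mul_right (show Commute (y i) d from hid)).eq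
      apply h.ne
      rw [mul_eq_one_iff_eq_inv.mp h1, h.right.inv_eq h.right.rR]
  constructor
  · intro hr
    exact key (hs.comm_ub h hil hr)
  · intro hr
    apply key
    have h1 : Commute (y i) (r * d) := hs.comm_ub h hil hr
    have h2 : Commute (y i) d := hid
    have h3 : r = (r * d) * d⁻¹ := by group
    rw [h3]
    exact (h1.mul_right h2.inv_right).eq

theorem mem_I [Finite G] (hs : Sys d L R n a y) (h : Pr r d V R D K L) {i l : Fin n} (hil : i ≠ l) {v : G}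
    (hv : v ∈ ub D (y i)) (hvR : v ∈ R) (hv1 : v ≠ 1) {u : G} (huR : u ∈ R) (huD : u ∈ D)
    (hu : y l * u = u * y l) : u = 1 ∨ u = d ∨ u = v ∨ u = d * v := by
  have hyiD := h.right.nR (hs.yC i)
  have hvD := ub_subset hyiD hv
  obtain ⟨h1, h2⟩ := hs.not_mem h hil
  obtain ⟨-, hcard⟩ := (hs.wt l).stepA h h1 h2
  have hvd : v ≠ d := by
    intro e
    exact hv1 (eq_one_of_comm h.right.sq hyiD (hs.odd i) hv (by
      rw [e]; exact mem_centralizer_singleton_iff.mp (hs.yC i)))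
  have hd1 := h.right.r1
  have hsub : ({1, d, v, d * v} : Set G) ⊆ (R ⊓ D ⊓ centralizer ({y l} : Set G) : Subgroup G) := by
    have hdS : d ∈ R ⊓ D ⊓ centralizer ({y l} : Set G) :=
      ⟨⟨h.VR h.dV, h.VD h.dV⟩, mem_centralizer_singleton_iff.mpr
        (mem_centralizer_singleton_iff.mp (hs.yC l)).symm⟩
    have hvS : v ∈ R ⊓ D ⊓ centralizer ({y l} : Set G) :=
      ⟨⟨hvR, hvD⟩, mem_centralizer_singleton_iff.mpr (hs.comm_ub h hil.symm hv).symm⟩
    rintro t (rfl | rfl | rfl | rfl)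
    · exact one_mem _
    · exact hdS
    · exact hvS
    · exact mul_mem hdS hvS
  have hn : ({1, d, v, d * v} : Set G).ncard = 4 := by
    rw [Set.ncard_insert_of_notMem, Set.ncard_insert_of_notMem, Set.ncard_pair]
    · intro e
      exact hd1 (by simpa using e)
    · rintro (e | e)
      · exact hvd e.symm
      · exact hv1 (by simpa using e)
    · rintro (e | e | e)
      · exact hd1 e.symm
      · exact hv1 e.symm
      · apply hvd
        rw [← h.right.inv_eq h.right.rR]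
        exact (inv_eq_of_mul_eq_one_right e.symm).symm
  have heq : ({1, d, v, d * v} : Set G) = (R ⊓ D ⊓ centralizer ({y l} : Set G) : Subgroup G) :=
    Set.eq_of_subset_of_ncard_le hsub (by rw [hn]; exact hcard) (Set.toFinite _)
  have hmem : u ∈ ((R ⊓ D ⊓ centralizer ({y l} : Set G) : Subgroup G) : Set G) :=
    ⟨⟨huR, huD⟩, mem_centralizer_singleton_iff.mpr hu.symm⟩
  rw [← heq] at hmem
  simpa using hmem

theorem dec [Finite G] (hs : Sys d L R n a y) (h : Pr r d V R D K L) {i l : Fin n} (hil : i ≠ l) {v : G}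
    (hv : v ∈ ub D (y i)) (hvR : v ∈ R) (hv1 : v ≠ 1) {u : G} (huR : u ∈ R) (huD : u ∈ D) :
    ∃ c ∈ D, y i * c = c * y i ∧ (u = c ∨ u = c * v) := by
  have hyiD := h.right.nR (hs.yC i)
  obtain ⟨c, hc, hyc, p, hp, hcp, w, hw, hwp⟩ := Wt.exists_dec h.right.sq hyiD (hs.odd i)
    (h.nRD (hs.aA i)) (hs.inv i) huD (h.left.comm (hs.aA i) huR)
  refine ⟨c, hc, hyc, ?_⟩
  have hwD := ub_subset hyiD hw
  have hpR : p ∈ R := by
    have h1 := (h.comm_mem (hs.aA i) hwD).1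
    rw [h.right.inv_eq hwD, h.right.comm ((mem_normalizer_iff.mp (h.nRD (hs.aA i)) w).mp hwD) hwD, hwp] at h1
    exact h1
  have hpD := ub_subset hyiD hp
  have hdn : d ∉ ub D (y i) := fun hd => h.right.r1
    (eq_one_of_comm h.right.sq hyiD (hs.odd i) hd (mem_centralizer_singleton_iff.mp (hs.yC i)))
  rcases hs.mem_I h hil hv hvR hv1 hpR hpD (hs.comm_ub h hil.symm hp) with e | e | e | e
  · left; rw [hcp, e, mul_one]
  · exact absurd (by rw [← e]; exact hp) hdn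
  · right; rw [hcp, e]
  · exfalso
    apply hdn
    have : d = p * v := by
      rw [e, mul_assoc, h.right.sq v (ub_subset hyiD hv), mul_one]
    rw [this]
    exact ub_mul h.right.sq hyiD hp hv

theorem two_le {A : Subgroup G} (s : Side r R K) (hs : Sys r K A n a y) (hA : A ≤ centralizer ({r} : Set G))
    {w₁ w₂ : G} (h₁ : w₁ ∈ A) (h₂ : w₂ ∈ A) (hK₁ : w₁ ∉ K) (hK₂ : w₂ ∉ K) (hK : w₁ * w₂ ∉ K) : 2 ≤ n := by
  by_contra hn
  push Not at hn
  have key : ∀ w ∈ A, w ∉ K → ∀ j, w * y j * w⁻¹ * y j ∈ K := by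
    intro w hw hwK j
    rcases hs.eig w hw j with e | e
    · exfalso
      apply hwK
      apply hs.faith w hw
      intro i
      have : i = j := by
        apply Fin.ext
        have := i.2
        have := j.2
        omega
      rw [this]; exact e
    · exact e
  apply hK
  apply hs.faith _ (mul_mem h₁ h₂)
  intro j
  have e₁ := (s.rho_inv (hA h₁) (hs.yC j)).mp (key w₁ h₁ hK₁ j)
  have e₂ := (s.rho_inv (hA h₂) (hs.yC j)).mp (key w₂ h₂ hK₂ j)
  rw [s.rho_comm (hA (mul_mem h₁ h₂)) (hs.yC j)]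
  have e3 : s.ρ ⟨w₁ * w₂, hA (mul_mem h₁ h₂)⟩ = s.ρ ⟨w₁, hA h₁⟩ * s.ρ ⟨w₂, hA h₂⟩ := by
    rw [← map_mul]; rfl
  rw [e3]
  set A₁ := s.ρ ⟨w₁, hA h₁⟩
  set A₂ := s.ρ ⟨w₂, hA h₂⟩
  set Y := s.ρ ⟨y j, hs.yC j⟩
  have e₁' : A₁ * Y⁻¹ * A₁⁻¹ = Y := by
    calc A₁ * Y⁻¹ * A₁⁻¹ = (A₁ * Y * A₁⁻¹)⁻¹ := by group
      _ = Y := by rw [e₁, inv_inv]
  calc A₁ * A₂ * Y = A₁ * (A₂ * Y * A₂⁻¹) * A₁⁻¹ * (A₁ * A₂) := by group
    _ = Y * (A₁ * A₂) := by rw [e₂, e₁']

end Side.Sys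

namespace Pr

variable {r d : G} {V R D K L : Subgroup G}

/-- **`k ≤ 1`** -/
theorem mul_mem_L [Finite G] (h : Pr r d V R D K L) {c₁ c₂ : G} (hc₁ : c₁ ∈ R) (hc₂ : c₂ ∈ R)
    (h₁ : c₁ ∉ L) (h₂ : c₂ ∉ L) : c₁ * c₂ ∈ L := by
  by_contra h₁₂
  obtain ⟨n, a, y, hs⟩ := h.right.exists_sys h.R_le h.left.sq
  have hn := hs.two_le h.right h.R_le hc₁ hc₂ h₁ h₂ h₁₂
  set i₀ : Fin n := ⟨0, by omega⟩ with hi₀
  set i₁ : Fin n := ⟨1, by omega⟩ with hi₁
  have h01 : i₀ ≠ i₁ := by simp [hi₀, hi₁]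
  have hyD₀ := h.right.nR (hs.yC i₀)
  have hyD₁ := h.right.nR (hs.yC i₁)
  obtain ⟨v₀, hv₀, hv₀R, hv₀1⟩ := (hs.wt i₀).exists_v h
  obtain ⟨v₁, hv₁, hv₁R, hv₁1⟩ := (hs.wt i₁).exists_v h
  have hv₀D := ub_subset hyD₀ hv₀
  have hv₁D := ub_subset hyD₁ hv₁
  obtain ⟨hr₀, hrd₀⟩ := hs.not_mem h h01.symm
  obtain ⟨hr₁, hrd₁⟩ := hs.not_mem h h01
  have hv₀V := (hs.wt i₀).not_mem_V h hr₀ hrd₀ hv₀ hv₀1
  have hv₁V := (hs.wt i₁).not_mem_V h hr₁ hrd₁ hv₁ hv₁1
  obtain ⟨w₀, hw₀, hwv₀, hwn₀, hwn₀'⟩ := exists_half' h.right.sq hyD₀ (hs.odd i₀) (h.nRD (hs.aA i₀))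
    (hs.inv i₀) (h.left.comm (hs.aA i₀) hv₀R) hv₀
  obtain ⟨w₁, hw₁, hwv₁, -, -⟩ := exists_half' h.right.sq hyD₁ (hs.odd i₁) (h.nRD (hs.aA i₁))
    (hs.inv i₁) (h.left.comm (hs.aA i₁) hv₁R) hv₁
  have hw₀D := ub_subset hyD₀ hw₀
  have hw₁D := ub_subset hyD₁ hw₁
  have hnV : ∀ v : G, v ∉ V → ¬ (v = 1 ∨ v = r) := by
    rintro v hv (rfl | rfl)
    · exact hv (one_mem _)
    · exact hv h.rV
  have hwc : ∀ w ∈ D, ∀ b : G, w * b * w⁻¹ * b⁻¹ = w * (b * w * b⁻¹) := by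
    intro w hw b
    rw [h.right.inv_eq hw]; group
  have hK₀ : w₀ ∉ K := by
    intro hK
    have := h.left.comm_of_K hK (hs.aA i₀)
    rw [hwc w₀ hw₀D, hwv₀] at this
    exact hnV _ hv₀V this
  have hK₁ : w₁ ∉ K := by
    intro hK
    have := h.left.comm_of_K hK (hs.aA i₁)
    rw [hwc w₁ hw₁D, hwv₁] at this
    exact hnV _ hv₁V this
  have hK₀₁ : w₀ * w₁ ∉ K := by
    intro hK
    have h3 := h.left.comm_of_K hK (hs.aA i₀)
    have h4 := (hs.wt i₁).comm_cases h (hs.aA i₀) (hs.fix i₀ i₁ h01) hw₁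
    have haw₁ := (mem_normalizer_iff.mp (h.nRD (hs.aA i₀)) w₁).mp hw₁D
    have haw₀ := (mem_normalizer_iff.mp (h.nRD (hs.aA i₀)) w₀).mp hw₀D
    have e : (w₀ * w₁) * a i₀ * (w₀ * w₁)⁻¹ * (a i₀)⁻¹ = v₀ * (a i₀ * w₁ * (a i₀)⁻¹ * w₁⁻¹) := by
      rw [hwc _ (mul_mem hw₀D hw₁D), ← hwv₀, h.right.inv_eq hw₁D]
      calc w₀ * w₁ * (a i₀ * (w₀ * w₁) * (a i₀)⁻¹)
          = w₀ * (w₁ * ((a i₀ * w₀ * (a i₀)⁻¹) * (a i₀ * w₁ * (a i₀)⁻¹))) := by group
        _ = w₀ * (((a i₀ * w₀ * (a i₀)⁻¹) * (a i₀ * w₁ * (a i₀)⁻¹)) * w₁) := by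
          rw [h.right.comm hw₁D (mul_mem haw₀ haw₁)]
        _ = _ := by group
    rw [e] at h3
    have h5 : v₀ ∈ V := by
      rcases h4 with e4 | e4
      · rw [e4, mul_one] at h3
        rcases h3 with e3 | e3
        · rw [e3]; exact one_mem _
        · rw [e3]; exact h.rV
      · rw [e4] at h3
        have e5 : v₀ = (v₀ * d) * d⁻¹ := by group
        rcases h3 with e3 | e3
        · rw [e5, e3]; exact mul_mem (one_mem _) (inv_mem h.dV)
        · rw [e5, e3]; exact mul_mem h.rV (inv_mem h.dV)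
    exact hv₀V h5
  -- the other side
  obtain ⟨n', b, x, hs'⟩ := h.left.exists_sys h.D_le h.right.sq
  have hn' := hs'.two_le h.left h.D_le hw₀D hw₁D hK₀ hK₁ hK₀₁
  obtain ⟨j, hj⟩ : ∃ j, w₀ * x j * w₀⁻¹ * x j ∈ K := by
    by_contra hcon
    push Not at hcon
    exact hK₀ (hs'.faith w₀ hw₀D fun j => (hs'.eig w₀ hw₀D j).resolve_right (hcon j))
  obtain ⟨l, hl⟩ : ∃ l : Fin n', l ≠ j := by
    by_cases h0 : j = ⟨0, by omega⟩
    · exact ⟨⟨1, by omega⟩, by rw [h0]; simp⟩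
    · exact ⟨⟨0, by omega⟩, fun e => h0 e.symm⟩
  obtain ⟨v', hv', hv'D, hv'1⟩ := (hs'.wt j).exists_v h.symm
  obtain ⟨hd₁, hd₂⟩ := hs'.not_mem h.symm hl
  have hwb : (w₀ * b j) * x j * (w₀ * b j)⁻¹ * (x j)⁻¹ ∈ K := by
    have hwC := h.D_le hw₀D
    have hbC := h.D_le (hs'.aA j)
    have e₁ := (h.left.rho_inv hwC (hs'.yC j)).mp hj
    have e₂ := (h.left.rho_inv hbC (hs'.yC j)).mp (by rw [hs'.inv j, inv_mul_cancel]; exact one_mem _)
    rw [h.left.rho_comm (mul_mem hwC hbC) (hs'.yC j)]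
    have e3 : h.left.ρ ⟨w₀ * b j, mul_mem hwC hbC⟩ = h.left.ρ ⟨w₀, hwC⟩ * h.left.ρ ⟨b j, hbC⟩ := by
      rw [← map_mul]; rfl
    rw [e3]
    set A₁ := h.left.ρ ⟨w₀, hwC⟩
    set A₂ := h.left.ρ ⟨b j, hbC⟩
    set Y := h.left.ρ ⟨x j, hs'.yC j⟩
    have e₁' : A₁ * Y⁻¹ * A₁⁻¹ = Y := by
      calc A₁ * Y⁻¹ * A₁⁻¹ = (A₁ * Y * A₁⁻¹)⁻¹ := by group
        _ = Y := by rw [e₁, inv_inv]
    calc A₁ * A₂ * Y = A₁ * (A₂ * Y * A₂⁻¹) * A₁⁻¹ * (A₁ * A₂) := by group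
      _ = Y * (A₁ * A₂) := by rw [e₂, e₁']
  have hv₁d : d ≠ v₁ := by
    intro e
    exact hv₁V (by rw [← e]; exact h.dV)
  exact (hs.wt i₀).final (hs'.wt j) h hd₁ hd₂ hw₀ hwv₀ hwn₀ hwn₀' hv' hv'D hv'1
    (fun u huR huD => hs'.dec h.symm hl.symm hv' hv'D hv'1 huD huR)
    (h.VR h.dV) (h.VD h.dV) (mem_centralizer_singleton_iff.mp (hs.yC i₀)) h.right.r1
    hv₁R hv₁D (hs.comm_ub h h01 hv₁) hv₁1 hv₁d hwb

/-- for `k = 1`: every inverted element is a weight -/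
theorem wt_of_inv [Finite G] (h : Pr r d V R D K L) {a y : G} (ha : a ∈ R)
    (hyC : y ∈ centralizer ({d} : Set G)) (ho : Odd (orderOf y)) (inv : a * y * a⁻¹ = y⁻¹) (nL : y ∉ L) :
    Wt d R L a y := by
  refine ⟨ha, hyC, ho, inv, nL, ?_⟩
  intro b hb
  have hinv := (h.right.rho_inv (h.R_le ha) hyC).mp (by rw [inv, inv_mul_cancel]; exact one_mem _)
  by_cases hbL : b ∈ L
  · left
    rw [h.right.rho_comm (h.R_le hb) hyC, (h.right.ker ⟨b, h.R_le hb⟩).mpr hbL, one_mul, mul_one]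
  · right
    have haL : a ∉ L := by
      intro haL
      apply nL
      rw [(h.right.ker ⟨a, h.R_le ha⟩).mpr haL, one_mul, inv_one, mul_one] at hinv
      obtain ⟨k, hk⟩ := exists_pow_eq ho
      have h1 := h.right.rho_pow hyC hk
      rw [pow_succ, pow_mul] at h1
      have h2 : h.right.ρ ⟨y, hyC⟩ ^ 2 = 1 := by
        rw [pow_two]
        nth_rewrite 2 [hinv]
        exact mul_inv_cancel _
      rw [h2, one_pow, one_mul] at h1
      exact (h.right.ker ⟨y, hyC⟩).mp h1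
    have hba := h.mul_mem_L hb ha hbL haL
    have h1 := (h.right.ker ⟨b * a, h.R_le (mul_mem hb ha)⟩).mpr hba
    have h2 : h.right.ρ ⟨b * a, h.R_le (mul_mem hb ha)⟩ =
        h.right.ρ ⟨b, h.R_le hb⟩ * h.right.ρ ⟨a, h.R_le ha⟩ := by
      rw [← map_mul]; rfl
    rw [h2] at h1
    rw [h.right.rho_inv (h.R_le hb) hyC, mul_eq_one_iff_eq_inv.mp h1]
    set A := h.right.ρ ⟨a, h.R_le ha⟩
    set Y := h.right.ρ ⟨y, hyC⟩
    calc A⁻¹ * Y * A⁻¹⁻¹ = A⁻¹ * Y⁻¹⁻¹ * A := by group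
      _ = A⁻¹ * (A * Y * A⁻¹)⁻¹ * A := by rw [hinv]
      _ = Y⁻¹ := by group

/-- natural blocks contain the line vector (one of the two sides) -/
theorem natural [Finite G] (h : Pr r d V R D K L) {a y b x v₀ v' : G} (ha : a ∈ R)
    (hyC : y ∈ centralizer ({d} : Set G)) (hyo : Odd (orderOf y)) (hyi : a * y * a⁻¹ = y⁻¹) (hyL : y ∉ L)
    (hv₀ : ∀ v ∈ ub D y, v ∈ R → v = 1 ∨ v = v₀)
    (hb : b ∈ D) (hxC : x ∈ centralizer ({r} : Set G)) (hxo : Odd (orderOf x)) (hxi : b * x * b⁻¹ = x⁻¹)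
    (hxK : x ∉ K) (hv' : ∀ v ∈ ub R x, v ∈ D → v = 1 ∨ v = v') :
    r ∈ ub D y ∨ r * d ∈ ub D y ∨ d ∈ ub R x ∨ d * r ∈ ub R x := by
  by_contra hcon
  push Not at hcon
  obtain ⟨hr1, hr2, hd1, hd2⟩ := hcon
  have hy := h.wt_of_inv ha hyC hyo hyi hyL
  have hx := h.symm.wt_of_inv hb hxC hxo hxi hxK
  have hyD := h.right.nR hyC
  have hxR := h.left.nR hxC
  obtain ⟨v, hv, hvR, hv1⟩ := hy.exists_v h
  obtain ⟨t, ht, htD, ht1⟩ := hx.exists_v h.symm
  have ev : v₀ = v := by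
    rcases hv₀ v hv hvR with e | e
    · exact absurd e hv1
    · exact e.symm
  have et : v' = t := by
    rcases hv' t ht htD with e | e
    · exact absurd e ht1
    · exact e.symm
  rw [ev] at hv₀
  rw [et] at hv'
  obtain ⟨w, hw, hwv, hwn, hwn'⟩ := exists_half' h.right.sq hyD hyo (h.nRD ha) hyi (h.left.comm ha hvR) hv
  have hwD := ub_subset hyD hw
  have hvV := hy.not_mem_V h hr1 hr2 hv hv1
  have hwK : w ∉ K := by
    intro hK
    have h1 := h.left.comm_of_K hK ha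
    have h2 : w * a * w⁻¹ * a⁻¹ = v := by
      rw [← hwv, h.right.inv_eq hwD]; group
    rw [h2] at h1
    rcases h1 with e | e
    · exact hv1 e
    · exact hvV (by rw [e]; exact h.rV)
  have hbK : b ∉ K := by
    intro hbK
    have hbC := h.D_le hb
    have hinv := (h.left.rho_inv hbC hxC).mp (by rw [hxi, inv_mul_cancel]; exact one_mem _)
    apply hxK
    rw [(h.left.ker ⟨b, hbC⟩).mpr hbK, one_mul, inv_one, mul_one] at hinv
    obtain ⟨k, hk⟩ := exists_pow_eq hxo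
    have h1 := h.left.rho_pow hxC hk
    rw [pow_succ, pow_mul] at h1
    have h2 : h.left.ρ ⟨x, hxC⟩ ^ 2 = 1 := by
      rw [pow_two]
      nth_rewrite 2 [hinv]
      exact mul_inv_cancel _
    rw [h2, one_pow, one_mul] at h1
    exact (h.left.ker ⟨x, hxC⟩).mp h1
  have hwb := h.symm.mul_mem_L hwD hb hwK hbK
  have hwb' : (w * b) * x * (w * b)⁻¹ * x⁻¹ ∈ K := by
    have hC := h.D_le (mul_mem hwD hb)
    rw [h.left.rho_comm hC hxC, (h.left.ker ⟨w * b, hC⟩).mpr hwb, one_mul, mul_one]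
  -- the second common element
  obtain ⟨c, hc, hyc, p, hp, hcp, q, hq, hqp⟩ := Wt.exists_dec h.right.sq hyD hyo (h.nRD ha) hyi
    (h.VD h.rV) (h.left.comm ha h.left.rR)
  have hpR : p ∈ R := by
    have hqD := ub_subset hyD hq
    have h1 := (h.comm_mem ha hqD).1
    rw [h.right.inv_eq hqD, h.right.comm ((mem_normalizer_iff.mp (h.nRD ha) q).mp hqD) hqD, hqp] at h1
    exact h1
  have hpD := ub_subset hyD hp
  have hc' : c = r * p := by rw [hcp, mul_assoc, h.right.sq p hpD, mul_one]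
  have hcR : c ∈ R := by rw [hc']; exact mul_mem h.left.rR hpR
  have hc1 : c ≠ 1 := by
    intro e
    apply hr1
    rw [hcp, e, one_mul]; exact hp
  have hcd : d ≠ c := by
    intro e
    apply hr2
    have : r * d = p := by
      rw [hcp, ← e, mul_assoc, h.right.comm hpD h.right.rR, ← mul_assoc, h.right.sq d h.right.rR, one_mul]
    rw [this]; exact hp
  refine hy.final hx h hd1 hd2 hw hwv hwn hwn' ht htD ht1 ?_ (h.VR h.dV) (h.VD h.dV)
    (mem_centralizer_singleton_iff.mp hyC) h.right.r1 hcR hc hyc hc1 hcd hwb'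
  intro u huR huD
  obtain ⟨c, hc, hxc, p, hp, hcp, q, hq, hqp⟩ := Wt.exists_dec h.left.sq hxR hxo (h.nDR hb) hxi huR
    (h.right.comm hb huD)
  refine ⟨c, hc, hxc, ?_⟩
  have hpD : p ∈ D := by
    have hqR := ub_subset hxR hq
    have h1 := (h.symm.comm_mem hb hqR).1
    rw [h.left.inv_eq hqR, h.left.comm ((mem_normalizer_iff.mp (h.nDR hb) q).mp hqR) hqR, hqp] at h1
    exact h1
  rcases hv' p hp hpD with e | e
  · left; rw [hcp, e, mul_one]
  · right; rw [hcp, e]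

end Pr

end Cfsg.Agent.MinSimple.OddKPair
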