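import Mathlib
import Cfsg.Agent.MinSimple.OddRep
import Cfsg.Agent.MinSimple.OddOne
import Cfsg.Agent.MinSimple.OddKPair
import Cfsg.Agent.Lib.Cores
import Cfsg.Agent.S0044

/-!
# (E1)(b), `n = 1`: `k = 1`

* `exists_pair`: two collinear points give a pair in the sense of `OddKPair`;
* `mul_mem_kq`, `relIndex_le_two`: `|ws V y : ws V y ∩ kq V x| ≤ 2` for collinear `x`, `y`;
* `exists_one`: `OddN T V z 1 → One T V z`;
* `mem_of_natural`.
-/

set_option autoImplicit false
set_option linter.unusedSectionVars false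

namespace Cfsg.Agent.MinSimple.OddK

open Subgroup Cfsg Cfsg.Agent.ZN Cfsg.Agent.MinSimple.Geo Cfsg.Agent.MinSimple.BTwoA
  Cfsg.Agent.MinSimple.OddLine Cfsg.Agent.MinSimple.OddBase Cfsg.Agent.MinSimple.SecRep
  Cfsg.Agent.MinSimple.OddRep Cfsg.Agent.MinSimple.OddKPair Cfsg.Agent.MinSimple.OddKHalf
open Cfsg.Agent.ZN.Block (conj_mem_of_normalizer conj_mem_of_normalizer' le_normalizer_of_forall
  mem_normalizer_of)

universe u

variable {G : Type u} [Group G]

/-- the Fitting subgroup of a solvable group with `O₂ = 1` has odd order -/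
theorem odd_card_fitting {X : Type u} [Group X] [Finite X] (ho : pCore 2 X = ⊥) :
    Odd (Nat.card (fittingSubgroup X)) := by
  have hf : Fact (Nat.Prime 2) := ⟨Nat.prime_two⟩
  have h2 : fittingSubgroup X ≤ pPrimeCore 2 X := by
    rw [Lib.Cores.fittingSubgroup_eq_iSup_pCore]
    refine iSup_le fun p => ?_
    have hp : Fact (p : ℕ).Prime := ⟨p.2⟩
    by_cases hp2 : (p : ℕ) = 2
    · rw [hp2, ho]
      exact bot_le
    · refine Lib.Cores.le_pPrimeCore (Lib.Cores.pCore_normal _) ?_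
      obtain ⟨n, hn⟩ := IsPGroup.iff_card.mp (Lib.Cores.pCore_isPGroup (G := X) (p : ℕ))
      rw [hn]
      exact Nat.Coprime.pow_left n ((Nat.coprime_primes p.2 Nat.prime_two).mpr hp2)
  have h3 := (Nat.coprime_two_right.mp (Lib.Cores.pPrimeCore_coprime (G := X) 2))
  exact h3.of_dvd_nat (card_dvd_of_le h2)

variable [Finite G] {T V : Subgroup G} {z x y : G}

/-- the side given by a representation -/
def side (h : Odd T V z) (hx : Pt z x) {M X : Type u} [AddCommGroup M] [Group X] [DistribMulAction X M]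
    (R : Rep V x M X) : Side x (ws V x) (kq V x) where
  M := M
  X := X
  π := R.pi
  ρ := R.hom
  F := fittingSubgroup X
  r1 := OddBase.Pt.ne_one h.toGeo hx
  rR := self_mem_ws h.toGeo hx
  sq := fun a ha => OddBase.ws_sq h hx ha
  nR := Geo.centralizer_le_normalizer_ws V x
  KC := BTwoB.kq_le V x
  pi_mul := R.pi_mul
  pi_zero := fun a ha => OddRep.Rep.pi_eq_zero' h hx R ha
  pi_surj := R.pi_surj
  pi_conj := fun c a ha => (R.smul_pi c c.2 a ha).symm
  surj := R.hom_surj
  ker := fun c => OddRep.Rep.rho_eq_one R c.2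
  faithful := R.faithful
  fin := R.finite_right
  normal := Lib.Cores.fittingSubgroup_normal
  odd := by
    have hf : Fact (Nat.Prime 2) := ⟨Nat.prime_two⟩
    have := R.finite_right
    exact odd_card_fitting
      (OddRep.Rep.o2_eq_bot h hx R (Lib.Cores.pCore_normal 2) (Lib.Cores.pCore_isPGroup 2))
  nil := by
    have := R.finite_right
    exact Lib.Cores.fittingSubgroup_isNilpotent
  cent := by
    have := R.finite_right
    have hsol : Group.IsSolvable X := OddRep.Rep.isSolvable h hx R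
    exact Cfsg.Agent.S0044.result

theorem exists_side (h : Odd T V z) (hx : Pt z x) : Nonempty (Side x (ws V x) (kq V x)) := by
  obtain ⟨M, X, _, _, _, ⟨R⟩⟩ := exists_rep h hx
  exact ⟨side h hx R⟩

/-- the line through two collinear points -/
theorem exists_line (h : Odd T V z) (hc : Col V x y) : ∃ g : G, x ∈ cj g V ∧ y ∈ cj g V ∧
    Odd (cj g T) (cj g V) x := by
  obtain ⟨g, hg, hy, h1⟩ := exists_odd_col h hc
  exact ⟨g, h1.toGeo.z_mem, hy, h1⟩

theorem gen (h : Odd T V z) (N : Subgroup G) (hVN : V ≤ N)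
    (hn : centralizer ({z} : Set G) ≤ normalizer (N : Set G)) : ws V z ≤ N := by
  refine ws_le fun L hL => ?_
  obtain ⟨c, hc, rfl⟩ := h.toGeo.exists_of_mem_lines hL
  intro t ht
  rw [mem_cj] at ht
  have h1 := conj_mem_of_normalizer hn hc (hVN ht)
  have e : c * (c⁻¹ * t * c) * c⁻¹ = t := by group
  rwa [e] at h1

theorem exists_pair' (h : Odd T V z) (hc : Col V x y) (s : Side x (ws V x) (kq V x))
    (t : Side y (ws V y) (kq V y)) :
    ∃ (V' : Subgroup G) (p : Pr x y V' (ws V x) (ws V y) (kq V x) (kq V y)), p.left = s ∧ p.right = t := by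
  have hx := hc.pt_left h.toGeo
  have hy := hc.pt h.toGeo
  obtain ⟨g, hxg, hyg, h1⟩ := exists_line h hc
  obtain ⟨k, hk, hk2, h2⟩ := h1.toGeo.point hyg hc.2.1
  have hx1 := hc.1
  have hy1 := hc.2.1
  refine ⟨cj g V, {
    left := s
    right := t
    ne := hc.2.2.1
    rV := hxg
    dV := hyg
    four := fun v hv => h1.toGeo.four hxg hyg hx1 hy1 hc.2.2.1 hv
    VR := ?_
    VD := ?_
    genR := ?_
    genD := ?_
    loc := ?_ }, rfl, rfl⟩
  · have := h1.toGeo.V_le_ws
    rwa [ws_cj] at this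
  · have := h2.V_le_ws
    rwa [ws_cj] at this
  · intro N hN hn
    have := gen h1 N hN hn
    rwa [ws_cj] at this
  · intro N hN hn
    have h3 : Odd (cj k (cj g T)) (cj g V) y := by
      have := h1.conj k
      rwa [cj_eq_of_mem_normalizer hk, hk2] at this
    have := gen h3 N hN hn
    rwa [ws_cj] at this
  · intro U hU hU1
    exact h.solv _ ⟨U, hU, hU1, rfl⟩

theorem exists_pair (h : Odd T V z) (hc : Col V x y) :
    ∃ V' : Subgroup G, Nonempty (Pr x y V' (ws V x) (ws V y) (kq V x) (kq V y)) := by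
  obtain ⟨s⟩ := exists_side h (hc.pt_left h.toGeo)
  obtain ⟨t⟩ := exists_side h (hc.pt h.toGeo)
  obtain ⟨V', p, -, -⟩ := exists_pair' h hc s t
  exact ⟨V', ⟨p⟩⟩

/-- **`k ≤ 1`** -/
theorem mul_mem_kq (h : Odd T V z) (hc : Col V x y) {a b : G} (ha : a ∈ ws V x) (hb : b ∈ ws V x)
    (h1 : a ∉ kq V y) (h2 : b ∉ kq V y) : a * b ∈ kq V y := by
  obtain ⟨V', ⟨p⟩⟩ := exists_pair h hc
  exact p.mul_mem_L ha hb h1 h2

theorem relIndex_le_two (h : Odd T V z) (hc : Col V x y) : (kq V x).relIndex (ws V y) ≤ 2 := by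
  by_cases hall : ws V y ≤ kq V x
  · rw [relIndex_eq_one.mpr hall]; norm_num
  · obtain ⟨a, ha, hna⟩ := Set.not_subset.mp hall
    have : ((kq V x).subgroupOf (ws V y)).index = 2 := by
      rw [index_eq_two_iff]
      refine ⟨⟨a, ha⟩, fun b => ?_⟩
      rw [mem_subgroupOf, mem_subgroupOf]
      by_cases hb : (b : G) ∈ kq V x
      · right
        refine ⟨hb, fun h3 => hna ?_⟩
        have := mul_mem (inv_mem hb) h3
        rwa [coe_mul, inv_mul_cancel_left] at this
      · left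
        exact ⟨mul_mem_kq h hc.symm b.2 ha hb hna, hb⟩
    exact this.le

/-- all ordered pairs of collinear points are conjugate -/
theorem exists_cj (h : Odd T V z) {x' y' : G} (hc : Col V x y) (hc' : Col V x' y') :
    ∃ k : G, k * x * k⁻¹ = x' ∧ k * y * k⁻¹ = y' := by
  have key : ∀ {x y : G}, Col V x y → ∃ g : G, x = g * z * g⁻¹ ∧ g⁻¹ * y * g ∈ V ∧ g⁻¹ * y * g ≠ 1 ∧
      g⁻¹ * y * g ≠ z := by
    intro x y hc
    obtain ⟨g, hg, hy, -⟩ := exists_odd_col h hc
    refine ⟨g, hg, mem_cj.mp hy, fun e => hc.2.1 ?_, fun e => hc.2.2.1 ?_⟩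
    · have : y = g * (g⁻¹ * y * g) * g⁻¹ := by group
      rw [this, e]; group
    · have : y = g * (g⁻¹ * y * g) * g⁻¹ := by group
      rw [this, e, hg]
  obtain ⟨g, rfl, hq, hq1, hqz⟩ := key hc
  obtain ⟨g', rfl, hq', hq1', hqz'⟩ := key hc'
  have hy : y = g * (g⁻¹ * y * g) * g⁻¹ := by group
  have hy' : y' = g' * (g'⁻¹ * y' * g') * g'⁻¹ := by group
  rcases h.toGeo.four h.z_mem hq h.z_ne hq1 (Ne.symm hqz) hq' with e | e | e | e
  · exact absurd e hq1'
  · exact absurd e hqz'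
  · refine ⟨g' * g⁻¹, by group, ?_⟩
    rw [hy', e]; group
  · obtain ⟨t, ht, ht2⟩ := h.exists_swap
    have htz : t * z * t⁻¹ = z := h.kq_conj ht.2
    refine ⟨g' * t * g⁻¹, ?_, ?_⟩
    · calc g' * t * g⁻¹ * (g * z * g⁻¹) * (g' * t * g⁻¹)⁻¹ = g' * (t * z * t⁻¹) * g'⁻¹ := by group
        _ = g' * z * g'⁻¹ := by rw [htz]
    · rw [hy', e, ← ht2 _ hq hq1 hqz]; group

theorem not_le (h : OddN T V z 1) (hc : Col V x y) : ¬ ws V y ≤ kq V x := by
  intro hle
  have h0 := h.toOdd
  have hall : ∀ {x' y' : G}, Col V x' y' → ws V y' ≤ kq V x' := by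
    intro x' y' hc'
    obtain ⟨k, rfl, rfl⟩ := exists_cj h0 hc hc'
    rw [← cj_ws, ← OddBase.cj_kq]
    exact cj_mono hle
  obtain ⟨x₀, y₀, hx₀, hw, a, ha, b, hb, hab⟩ := h.crit
  rcases walk_one.mp hw with rfl | hc₀
  · exact hab (OddBase.ws_comm h0 hx₀ ha hb)
  · have h1 := (hall hc₀.symm ha).2.1 b hb
    have h2 := (hall hc₀ hb).2.1 a ha
    have h3 : a * b * a⁻¹ * b⁻¹ = (b * a * b⁻¹ * a⁻¹)⁻¹ := by group
    have h4 : a * b * a⁻¹ * b⁻¹ ∈ zpowers x₀ := by rw [h3]; exact inv_mem h2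
    have hy₀ := hc₀.pt h0.toGeo
    rw [mem_zpowers_iff_of_mul_self (OddBase.Pt.sq h0.toGeo hy₀)] at h1
    rw [mem_zpowers_iff_of_mul_self (OddBase.Pt.sq h0.toGeo hx₀)] at h4
    rcases h1 with e | e
    · apply hab
      calc a * b = (a * b * a⁻¹ * b⁻¹) * (b * a) := by group
        _ = b * a := by rw [e, one_mul]
    · rcases h4 with e' | e'
      · exact hc₀.2.1 (by rw [← e, e'])
      · exact hc₀.2.2.1 (by rw [← e', e])

/-- **`n = 1` implies `k = 1`** -/
theorem one (h : OddN T V z 1) : OddOne.One T V z where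
  toOdd := h.toOdd
  k1 := by
    intro x y _ hc
    have h1 := relIndex_le_two h.toOdd hc
    have h2 : (kq V x).relIndex (ws V y) ≠ 1 := fun e => not_le h hc (relIndex_eq_one.mp e)
    have h3 : (kq V x).relIndex (ws V y) ≠ 0 := index_ne_zero_of_finite
    omega

/-- **(D1)** If `b ∈ ws V y` inverts `g ≠ 1` of odd order and `[M, g, b]` has order at most two, then
`π y ∈ [M, g]`. -/
theorem pi_mem_of_inverts (h : Odd T V z) (hc : Col V x y) {M X : Type u} [AddCommGroup M] [Group X]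
    [DistribMulAction X M] (R : Rep V x M X) {b : G} (hb : b ∈ ws V y) {g : X} (hgo : Odd (orderOf g))
    (hg1 : g ≠ 1) (hinv : R.rho b * g * (R.rho b)⁻¹ = g⁻¹)
    (hnat : ∃ n₀ : M, ∀ m : M, R.rho b • (g • m + m) + (g • m + m) = 0 ∨
      R.rho b • (g • m + m) + (g • m + m) = n₀) : ∃ m : M, R.pi y = g • m + m := by
  have hx := hc.pt_left h.toGeo
  have hy := hc.pt h.toGeo
  obtain ⟨s⟩ := exists_side h hy
  obtain ⟨V', p, -, hp⟩ := exists_pair' h hc.symm s (side h hx R)
  obtain ⟨k, hkx, hky⟩ := exists_cj h hc hc.symm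
  have hbC : b ∈ centralizer ({x} : Set G) := p.R_le hb
  -- exact lift of `g`
  obtain ⟨c, hcC, hco, hci, hcg⟩ := (side h hx R).exists_lift hbC (OddBase.ws_sq h hy hb) (x := g) hgo hinv
  have hcg' : R.rho c = g := hcg
  have hxN := (side h hx R).nR hcC
  have hsq := (side h hx R).sq
  have hbN : b ∈ normalizer ((ws V x : Subgroup G) : Set G) := (side h hx R).nR hbC
  have hck : c ∉ kq V x := by
    intro hk
    exact hg1 (by rw [← hcg']; exact (OddRep.Rep.rho_eq_one R hcC).mpr hk)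
  have hxc : c * x = x * c := mem_centralizer_singleton_iff.mp hcC
  have hxub : x ∉ ub (ws V x) c := fun hxu =>
    (side h hx R).r1 (eq_one_of_comm hsq hxN hco hxu hxc)
  have hpi : ∀ v ∈ ub (ws V x) c, ∃ m : M, R.pi v = g • m + m := by
    intro v hv
    obtain ⟨m, hm⟩ := (side h hx R).pi_ub hcC hv
    refine ⟨m, ?_⟩
    have e : (side h hx R).ρ ⟨c, hcC⟩ = g := hcg
    rw [e] at hm
    exact hm
  obtain ⟨n₀, hn₀⟩ := hnat
  -- uniqueness of the common element
  have huniq : ∃ v₀, ∀ v ∈ ub (ws V x) c, v ∈ ws V y → v = 1 ∨ v = v₀ := by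
    have h1 : ∀ v ∈ ub (ws V x) c, v ∈ ws V y → v = 1 ∨ R.pi v = n₀ := by
      intro v hv hvy
      have hvx := ub_subset hxN hv
      obtain ⟨w, hw, hwv, -, -⟩ := exists_half' hsq hxN hco hbN hci (OddBase.ws_comm h hy hb hvy) hv
      have hwx := ub_subset hxN hw
      have hbw : b * w * b⁻¹ ∈ ws V x := (mem_normalizer_iff.mp hbN w).mp hwx
      have h2 : R.pi v = R.rho b • R.pi w + R.pi w := by
        rw [← hwv, R.pi_mul w hwx _ hbw, R.smul_pi b hbC w hwx, add_comm]
      obtain ⟨m, hm'⟩ := hpi w hw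
      rw [hm'] at h2
      rcases hn₀ m with e | e
      · left
        rw [← h2] at e
        rcases (OddRep.Rep.pi_eq_zero' h hx R hvx).mp e with e | e
        · exact e
        · rw [e] at hv
          exact absurd hv hxub
      · right; rw [h2, e]
    by_cases hex : ∃ v₀ ∈ ub (ws V x) c, v₀ ∈ ws V y ∧ v₀ ≠ 1
    · obtain ⟨v₀, hv₀, hv₀y, hv₀1⟩ := hex
      refine ⟨v₀, fun v hv hvy => ?_⟩
      rcases h1 v hv hvy with e | e
      · exact Or.inl e
      · right
        have e₀ := (h1 v₀ hv₀ hv₀y).resolve_left hv₀1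
        have hvx := ub_subset hxN hv
        have hv₀x := ub_subset hxN hv₀
        have h3 : R.pi (v * v₀) = 0 := by
          rw [R.pi_mul v hvx v₀ hv₀x, e, e₀]
          exact OddRep.Rep.two h hx R n₀
        rcases (OddRep.Rep.pi_eq_zero' h hx R (mul_mem hvx hv₀x)).mp h3 with e4 | e4
        · rw [mul_eq_one_iff_eq_inv.mp e4, OddBase.ws_inv h hx hv₀x]
        · have h5 := ub_mul hsq hxN hv hv₀
          rw [e4] at h5
          exact absurd h5 hxub
    · push Not at hex
      exact ⟨1, fun v hv hvy => Or.inl (hex v hv hvy)⟩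
  obtain ⟨v₀, hv₀⟩ := huniq
  -- the conjugate configuration
  have hkx' : k⁻¹ * y * k = x := by rw [← hkx]; group
  have hky' : k⁻¹ * x * k = y := by rw [← hky]; group
  have hub : ∀ v, v ∈ ub (ws V y) (k * c * k⁻¹) → k⁻¹ * v * k ∈ ub (ws V x) c := by
    rintro v ⟨m, hm, rfl⟩
    refine ⟨k⁻¹ * m * k, ?_, by group⟩
    rw [← hkx, ← cj_ws, mem_cj] at hm
    exact hm
  have hconj : ∀ v, v ∈ ws V x → k⁻¹ * v * k ∈ ws V y := by
    intro v hv
    rw [← hky, ← cj_ws, mem_cj] at hv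
    exact hv
  have hnat' := p.natural (a := b) (y := c) (b := k * b * k⁻¹) (x := k * c * k⁻¹) (v₀ := v₀)
    (v' := k * v₀ * k⁻¹) hb hcC hco hci hck hv₀
    (by rw [← hky, ← cj_ws]; exact conj_mem_cj hb)
    (by
      rw [← hkx, ← cj_centralizer_singleton]
      exact conj_mem_cj hcC)
    (by
      have : orderOf (k * c * k⁻¹) = orderOf c := by
        have := orderOf_injective (MulAut.conj k).toMonoidHom (MulAut.conj k).injective c
        exact this
      rw [this]; exact hco)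
    (by
      calc k * b * k⁻¹ * (k * c * k⁻¹) * (k * b * k⁻¹)⁻¹ = k * (b * c * b⁻¹) * k⁻¹ := by group
        _ = (k * c * k⁻¹)⁻¹ := by rw [hci]; group)
    (by
      rw [← hkx, ← OddBase.cj_kq, mem_cj]
      have : k⁻¹ * (k * c * k⁻¹) * k = c := by group
      rw [this]; exact hck)
    (by
      intro v hv hvx
      have h5 := hv₀ _ (hub v hv) (hconj v hvx)
      have e : v = k * (k⁻¹ * v * k) * k⁻¹ := by group
      rcases h5 with e5 | e5
      · left; rw [e, e5]; group
      · right; rw [e, e5])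
  have hyx := hc.symm.mem_ws
  have hyx' := hc.mem_ws
  have hfin : y ∈ ub (ws V x) c ∨ y * x ∈ ub (ws V x) c := by
    rcases hnat' with e | e | e | e
    · exact Or.inl e
    · exact Or.inr e
    · left
      have := hub _ e
      rwa [hky'] at this
    · right
      have := hub _ e
      have e2 : k⁻¹ * (x * y) * k = (k⁻¹ * x * k) * (k⁻¹ * y * k) := by group
      rwa [e2, hky', hkx'] at this
  rcases hfin with e | e
  · exact hpi y e
  · obtain ⟨m, hm⟩ := hpi _ e
    refine ⟨m, ?_⟩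
    rw [← hm, R.pi_mul y hyx' x (self_mem_ws h.toGeo hx), OddRep.Rep.pi_self h hx R, add_zero]

end Cfsg.Agent.MinSimple.OddK
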