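import Mathlib
import Cfsg.Prelude.Def_Solvable
import Cfsg.Agent.Lib.Cores
import Cfsg.Agent.Lib.SylowNormalInf
import Cfsg.Agent.Lib.PSolvable
import Cfsg.Agent.Lib.PGroupCoprimeAction
import Cfsg.Agent.Lib.LocalCore
import Cfsg.Agent.Lib.ProductSet

/-!
# Minimal parabolics

`IsMinPar S P`: `S ≤ P`, `S` is not normal in `P` and `S` lies in a unique maximal subgroup of `P`.

* `IsMinPar.le_of_forall` : a subgroup `X ≥ S` lies in `Y` as soon as `N_X(S)` and all minimal
  parabolics over `S` in `X` do.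
* `sup_eq_top_or_inf_le` : a normal subgroup `N` of a minimal parabolic `P` satisfies `N S = P` or
  `N ∩ S ≤ O_p(P)` (`S` a Sylow `p`-subgroup).
* `exists_isPGroup` : structure of a solvable minimal parabolic with `O_p = 1`.
-/

set_option autoImplicit false

namespace Cfsg.Agent.MinSimple.MinParabolic

open Subgroup Cfsg

variable {G : Type*} [Group G]

/-- `P` is a minimal parabolic over `S`: `S ≤ P`, `S` is not normal in `P`, and `S` lies in a unique
maximal subgroup of `P`. -/
structure IsMinPar (S P : Subgroup G) : Prop where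
  le : S ≤ P
  not_le : ¬ P ≤ normalizer (S : Set G)
  exists_max : ∃ M : Subgroup G, M < P ∧ ∀ K : Subgroup G, S ≤ K → K < P → K ≤ M

/-- Generation by the minimal parabolics. -/
theorem le_of_forall [Finite G] {S X Y : Subgroup G} (hSX : S ≤ X)
    (hN : X ⊓ normalizer (S : Set G) ≤ Y) (hP : ∀ P : Subgroup G, IsMinPar S P → P ≤ X → P ≤ Y) :
    X ≤ Y := by
  induction hn : Nat.card X using Nat.strong_induction_on generalizing X with
  | _ n IH =>
    by_cases h1 : X ≤ normalizer (S : Set G)
    · exact (le_inf le_rfl h1).trans hN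
    by_cases h2 : ∃ M : Subgroup G, M < X ∧ ∀ K : Subgroup G, S ≤ K → K < X → K ≤ M
    · exact hP X ⟨hSX, h1, h2⟩ le_rfl
    by_contra h3
    push Not at h2
    obtain ⟨K, hSK, hKX, hK⟩ := h2 (Y ⊓ X)
      (lt_of_le_of_ne inf_le_right fun h => h3 (inf_eq_right.mp h))
    refine hK (le_inf ?_ hKX.le)
    have hlt : Nat.card K < n := by
      rw [← hn]
      refine lt_of_le_of_ne (Nat.le_of_dvd Nat.card_pos (card_dvd_of_le hKX.le)) fun h => ?_
      exact hKX.ne (eq_of_le_of_card_ge hKX.le h.ge)
    exact IH _ hlt hSK (le_trans (inf_le_inf_right _ hKX.le) hN)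
      (fun P hP1 hPK => hP P hP1 (hPK.trans hKX.le)) rfl

/-- The lattice form of the generation by minimal parabolics. -/
theorem sup_iSup_eq [Finite G] {S X : Subgroup G} (hSX : S ≤ X) :
    (X ⊓ normalizer (S : Set G)) ⊔ (⨆ P : {P : Subgroup G // IsMinPar S P ∧ P ≤ X}, (P : Subgroup G))
      = X := by
  apply le_antisymm
  · exact sup_le inf_le_left (iSup_le fun P => P.2.2)
  · refine le_of_forall hSX le_sup_left fun P hP hPX => ?_
    exact le_sup_of_le_right (le_iSup (fun P : {P : Subgroup G // IsMinPar S P ∧ P ≤ X} =>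
      (P : Subgroup G)) ⟨P, hP, hPX⟩)

/-! ### Abstract minimal parabolics -/

section Abstract

variable {X : Type*} [Group X] {p : ℕ} [hp : Fact p.Prime]

/-- `S` lies in a unique maximal subgroup `M` of `X`. -/
structure IsMin (S M : Subgroup X) : Prop where
  ne_top : M ≠ ⊤
  le_of : ∀ K : Subgroup X, S ≤ K → K ≠ ⊤ → K ≤ M

/-- A normal subgroup `N` of a minimal parabolic `X` satisfies `N S = X` or `S ∩ N ≤ O_p(X)`. -/
theorem sup_eq_top_or_inf_le [Finite X] {S : Sylow p X} {M : Subgroup X}
    (h : IsMin (S : Subgroup X) M) (N : Subgroup X) [hN : N.Normal] :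
    N ⊔ (S : Subgroup X) = ⊤ ∨ (S : Subgroup X) ⊓ N ≤ pCore p X := by
  by_cases h1 : N ⊔ (S : Subgroup X) = ⊤
  · exact Or.inl h1
  right
  have hNM : N ≤ M := le_sup_left.trans (h.le_of _ le_sup_right h1)
  have hfr := Lib.SylowNormalInf.normalizer_inf_sup_eq_top S N
  have hSn : (S : Subgroup X) ≤ normalizer (((S : Subgroup X) ⊓ N : Subgroup X) : Set X) := by
    intro s hs
    rw [mem_normalizer_iff]
    intro x
    constructor
    · rintro ⟨hx1, hx2⟩
      exact ⟨(S : Subgroup X).mul_mem ((S : Subgroup X).mul_mem hs hx1)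
        ((S : Subgroup X).inv_mem hs), hN.conj_mem x hx2 s⟩
    · rintro ⟨hx1, hx2⟩
      have e : x = s⁻¹ * (s * x * s⁻¹) * s⁻¹⁻¹ := by group
      rw [e]
      exact ⟨(S : Subgroup X).mul_mem ((S : Subgroup X).mul_mem ((S : Subgroup X).inv_mem hs) hx1)
        ((S : Subgroup X).inv_mem ((S : Subgroup X).inv_mem hs)), hN.conj_mem _ hx2 s⁻¹⟩
  have htop : normalizer (((S : Subgroup X) ⊓ N : Subgroup X) : Set X) = ⊤ := by
    by_contra h2
    have h3 := h.le_of _ hSn h2
    exact h.ne_top (top_le_iff.mp (hfr.symm.le.trans (sup_le h3 hNM)))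
  have hnorm : ((S : Subgroup X) ⊓ N).Normal := normalizer_eq_top_iff.mp htop
  exact Lib.Cores.le_pCore hnorm (S.isPGroup'.to_le inf_le_left)

/-- The structure of a solvable minimal parabolic with trivial `p`-core. -/
theorem exists_isPGroup_of_pCore_eq_bot [Finite X] (hX : Group.IsSolvable X) {S : Sylow p X}
    {M : Subgroup X} (h : IsMin (S : Subgroup X) M) (hO : pCore p X = ⊥) :
    pPrimeCore p X ⊔ (S : Subgroup X) = ⊤ ∧
      ∃ r : ℕ, r.Prime ∧ r ≠ p ∧ IsPGroup r (pPrimeCore p X) := by
  classical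
  set K := pPrimeCore p X with hK
  have hKn : K.Normal := Lib.Cores.pPrimeCore_normal p
  have hKc : (Nat.card K).Coprime p := Lib.Cores.pPrimeCore_coprime p
  -- `K S = X`
  have htop : K ⊔ (S : Subgroup X) = ⊤ := by
    by_contra hne
    have hKM : K ≤ M := le_sup_left.trans (h.le_of _ le_sup_right hne)
    -- the preimage of `O_p(X/K)`
    set N : Subgroup X := (pCore p (X ⧸ K)).comap (QuotientGroup.mk' K) with hNdef
    have hNn : N.Normal := (Lib.Cores.pCore_normal p).comap _
    have hKN : K ≤ N := by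
      intro x hx
      rw [hNdef, mem_comap]
      rw [(QuotientGroup.eq_one_iff x).mpr hx |> fun e => (show (QuotientGroup.mk' K) x = 1 from e)]
      exact one_mem _
    have hle : N ≤ K ⊔ ((S : Subgroup X) ⊓ N) := by
      refine Lib.SylowNormalInf.le_sup_inf S N K fun x hx => ?_
      obtain ⟨k, hk⟩ := (Lib.Cores.pCore_isPGroup (G := X ⧸ K) p)
        ⟨(QuotientGroup.mk' K) x, hx⟩
      refine ⟨k, ?_⟩
      rw [← QuotientGroup.eq_one_iff]
      have := congrArg Subtype.val hk
      simpa using this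
    have hSN : (S : Subgroup X) ⊓ N ≤ pCore p X := by
      rcases sup_eq_top_or_inf_le h N with h1 | h1
      · exfalso
        -- `N S ≤ K S ≤ M`
        have : N ⊔ (S : Subgroup X) ≤ M := by
          refine sup_le (hle.trans (sup_le hKM (inf_le_left.trans ?_))) ?_
          · exact le_sup_right.trans (h.le_of _ le_sup_right hne)
          · exact le_sup_right.trans (h.le_of _ le_sup_right hne)
        exact h.ne_top (top_le_iff.mp (h1.symm.le.trans this))
      · exact h1
    have hNK : N = K := by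
      apply le_antisymm _ hKN
      refine hle.trans (sup_le le_rfl (hSN.trans ?_))
      rw [hO]
      exact bot_le
    have hp1 : pCore p (X ⧸ K) = ⊥ := by
      have h1 : (N.map (QuotientGroup.mk' K)) = pCore p (X ⧸ K) :=
        map_comap_eq_self_of_surjective (QuotientGroup.mk'_surjective _) _
      rw [← h1, hNK, Subgroup.map_eq_bot_iff, QuotientGroup.ker_mk']
    have hp2 : pPrimeCore p (X ⧸ K) = ⊥ := by
      have h1 := Lib.Cores.comap_mk_pPrimeCore (G := X) p (N := K) hKc
      have h2 := congrArg (Subgroup.map (QuotientGroup.mk' K)) h1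
      rw [map_comap_eq_self_of_surjective (QuotientGroup.mk'_surjective _)] at h2
      rw [h2, Subgroup.map_eq_bot_iff, QuotientGroup.ker_mk']
    have hsub : Subsingleton (X ⧸ K) := by
      by_contra hns
      rw [not_subsingleton_iff_nontrivial] at hns
      have hsol : Group.IsSolvable (X ⧸ K) := inferInstance
      rcases Lib.PSolvable.exists_core_ne_bot (G := X ⧸ K) p
        (Lib.PSolvable.IsPSolvable_of_solvable p) with h1 | h1
      · exact h1 hp1
      · exact h1 hp2
    have : K = ⊤ := by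
      rw [eq_top_iff]
      intro x _
      rw [← QuotientGroup.eq_one_iff]
      exact Subsingleton.elim _ _
    exact hne (by rw [this, top_sup_eq])
  refine ⟨htop, ?_⟩
  -- some invariant Sylow subgroup of `K` generates `X` together with `S`
  have hinv : ∀ (q : ℕ) [Fact q.Prime], ∃ T : Subgroup X,
      (∃ T' : Sylow q K, (T' : Subgroup K).map K.subtype = T) ∧
        ∀ b ∈ (S : Subgroup X), ∀ u ∈ T, b * u * b⁻¹ ∈ T := by
    intro q hq
    refine Lib.PGroupCoprimeAction.exists_invariant_sylow S.isPGroup' ?_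
      (fun b _ u hu => hKn.conj_mem u hu b) q
    intro hd
    exact hp.out.one_lt.ne' (Nat.dvd_one.mp (hKc ▸ Nat.dvd_gcd hd dvd_rfl))
  have hex : ∃ (q : ℕ) (_ : Fact q.Prime) (T : Subgroup X),
      (∃ T' : Sylow q K, (T' : Subgroup K).map K.subtype = T) ∧
        (∀ b ∈ (S : Subgroup X), ∀ u ∈ T, b * u * b⁻¹ ∈ T) ∧ T ⊔ (S : Subgroup X) = ⊤ := by
    by_contra hcon
    push Not at hcon
    have hKM : K ≤ M := by
      have : M.subgroupOf K = ⊤ := by
        refine Lib.Cores.eq_top_of_sylow_le fun q hq => ?_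
        obtain ⟨T, ⟨T', hT'⟩, hT⟩ := hinv q
        refine ⟨T', ?_⟩
        have h1 : T ≤ M := le_sup_left.trans (h.le_of _ le_sup_right
          (hcon q hq T ⟨T', hT'⟩ hT))
        intro x hx
        rw [mem_subgroupOf]
        exact h1 (hT' ▸ ⟨x, hx, rfl⟩)
      exact subgroupOf_eq_top.mp this
    have hSM : (S : Subgroup X) ≤ M := by
      by_cases hS : (S : Subgroup X) = ⊤
      · exfalso
        obtain ⟨T, ⟨T', hT'⟩, hT⟩ := hinv 2
        exact hcon 2 ⟨Nat.prime_two⟩ T ⟨T', hT'⟩ hT (by rw [hS, sup_top_eq])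
      · exact h.le_of _ le_rfl hS
    exact h.ne_top (top_le_iff.mp (htop.symm.le.trans (sup_le hKM hSM)))
  obtain ⟨q, hq, T, ⟨T', hT'⟩, hT, hTS⟩ := hex
  have hcardK : Nat.card X = Nat.card K * Nat.card (S : Subgroup X) := by
    have h1 := Lib.LocalCore.card_sup_of_coprime (S : Subgroup X) K ?_
    · rw [sup_comm, htop, Subgroup.card_top] at h1
      rw [h1, mul_comm]
    · obtain ⟨n, hn⟩ := IsPGroup.iff_card.mp S.isPGroup'
      rw [hn]
      exact (Nat.Coprime.pow_right n hKc).symm
  have hTK : T ≤ K := by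
    rw [← hT']
    exact map_subtype_le _
  have hcardT : Nat.card X ∣ Nat.card T * Nat.card (S : Subgroup X) := by
    have h1 : Nat.card (T ⊔ (S : Subgroup X) : Subgroup X) ∣ Nat.card T * Nat.card (S : Subgroup X) := by
      have hle : (S : Subgroup X) ≤ normalizer (T : Set X) := by
        intro s hs
        rw [mem_normalizer_iff]
        intro x
        constructor
        · exact hT s hs x
        · intro hx
          have := hT s⁻¹ (inv_mem hs) _ hx
          have e : s⁻¹ * (s * x * s⁻¹) * s⁻¹⁻¹ = x := by group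
          rwa [e] at this
      rw [← Lib.ProductSet.card_mul_card_inf, ← SetLike.coe_sort_coe,
        ← coe_mul_of_right_le_normalizer_left T _ hle]
      exact dvd_mul_right _ _
    rwa [hTS, Subgroup.card_top] at h1
  have hKT : Nat.card K ∣ Nat.card T := by
    rw [hcardK] at hcardT
    exact Nat.dvd_of_mul_dvd_mul_right Nat.card_pos hcardT
  have hKeq : T = K := eq_of_le_of_card_ge hTK (Nat.le_of_dvd Nat.card_pos hKT)
  have hpK : IsPGroup q K := by
    rw [← hKeq, ← hT']
    exact T'.isPGroup'.map _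
  by_cases hqp : q = p
  · -- then `K = 1`
    subst hqp
    obtain ⟨n, hn⟩ := IsPGroup.iff_card.mp hpK
    have hK1 : Nat.card K = 1 := by
      rcases Nat.eq_zero_or_pos n with h0 | h0
      · rw [hn, h0, pow_zero]
      · exfalso
        have h1 : q ∣ Nat.card K := hn ▸ dvd_pow_self q h0.ne'
        exact hp.out.one_lt.ne' (Nat.dvd_one.mp (hKc ▸ Nat.dvd_gcd h1 dvd_rfl))
    have hKb : K = ⊥ := card_eq_one.mp hK1
    obtain ⟨r, hr1, hr⟩ := Nat.exists_infinite_primes (q + 1)
    exact ⟨r, hr, by omega, hKb ▸ IsPGroup.of_bot⟩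
  · exact ⟨q, hq.out, hqp, hpK⟩

/-- The structure of a solvable minimal parabolic: `X = K S`, `K = O_p(X) R`, `R` an `r`-group. -/
theorem exists_structure [Finite X] (hX : Group.IsSolvable X) {S : Sylow p X}
    {M : Subgroup X} (h : IsMin (S : Subgroup X) M) :
    ∃ r : ℕ, r.Prime ∧ r ≠ p ∧ ∃ K : Subgroup X, K.Normal ∧ pCore p X ≤ K ∧
      K ⊔ (S : Subgroup X) = ⊤ ∧ (S : Subgroup X) ⊓ K = pCore p X ∧
      ∀ R : Sylow r X, K = pCore p X ⊔ (R : Subgroup X) := by
  classical
  set O := pCore p X with hOdef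
  have hOn : O.Normal := Lib.Cores.pCore_normal p
  have hOp : IsPGroup p O := Lib.Cores.pCore_isPGroup p
  have hOS : O ≤ (S : Subgroup X) := Lib.Cores.pCore_le_sylow S
  by_cases hS : (S : Subgroup X) = ⊤
  · have hO : O = ⊤ := (Lib.Cores.pCore_eq_top_iff p).mpr (by
      have := S.isPGroup'
      rw [hS] at this
      exact this.of_equiv topEquiv)
    obtain ⟨r, hr1, hr⟩ := Nat.exists_infinite_primes (p + 1)
    refine ⟨r, hr, by omega, ⊤, inferInstance, le_top, by simp, by rw [hO, hS]; simp, fun R => ?_⟩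
    rw [hO, top_sup_eq]
  have hSM : (S : Subgroup X) ≤ M := h.le_of _ le_rfl hS
  set π := QuotientGroup.mk' O with hπ
  have hπs : Function.Surjective π := QuotientGroup.mk'_surjective O
  have hker : π.ker = O := QuotientGroup.ker_mk' O
  set S' : Sylow p (X ⧸ O) := S.mapSurjective hπs with hS'
  have hS'c : (S' : Subgroup (X ⧸ O)) = (S : Subgroup X).map π := rfl
  have hcm : ((S : Subgroup X).map π).comap π = (S : Subgroup X) := by
    rw [comap_map_eq, hker, sup_eq_left]
    exact hOS
  have hMcm : (M.map π).comap π = M := by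
    rw [comap_map_eq, hker, sup_eq_left]
    exact hOS.trans hSM
  have hmin : IsMin (S' : Subgroup (X ⧸ O)) (M.map π) := by
    refine ⟨fun htop => h.ne_top ?_, fun K hK hK1 => ?_⟩
    · rw [← hMcm, htop, comap_top]
    · have h1 : K.comap π ≤ M := by
        refine h.le_of _ ?_ fun h2 => hK1 ?_
        · rw [← hcm]
          exact comap_mono hK
        · rw [← map_comap_eq_self_of_surjective hπs K, h2, map_top_of_surjective _ hπs]
      rw [← map_comap_eq_self_of_surjective hπs K]
      exact map_mono h1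
  have hsol : Group.IsSolvable (X ⧸ O) := inferInstance
  obtain ⟨h1, r, hr, hrp, h2⟩ := exists_isPGroup_of_pCore_eq_bot hsol hmin
    (Lib.Cores.pCore_quotient_pCore p)
  have hrF : Fact r.Prime := ⟨hr⟩
  set L := pPrimeCore p (X ⧸ O) with hL
  have hLn : L.Normal := Lib.Cores.pPrimeCore_normal p
  have hLc : (Nat.card L).Coprime p := Lib.Cores.pPrimeCore_coprime p
  refine ⟨r, hr, hrp, L.comap π, hLn.comap _, ?_, ?_, ?_, fun R => ?_⟩
  · intro x hx
    rw [mem_comap, show π x = 1 from (QuotientGroup.eq_one_iff x).mpr hx]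
    exact one_mem _
  · have h3 : (L.comap π ⊔ (S : Subgroup X)).map π = ⊤ := by
      rw [Subgroup.map_sup, map_comap_eq_self_of_surjective hπs, ← hS'c, h1]
    have h4 : ((L.comap π ⊔ (S : Subgroup X)).map π).comap π = L.comap π ⊔ (S : Subgroup X) := by
      rw [comap_map_eq, hker, sup_eq_left]
      exact hOS.trans le_sup_right
    rw [← h4, h3, comap_top]
  · apply le_antisymm
    · rintro x ⟨hx1, hx2⟩
      have h3 : π x = 1 := by
        have h4 : π x ∈ (S' : Subgroup (X ⧸ O)) ⊓ L := ⟨⟨x, hx1, rfl⟩, hx2⟩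
        have h5 : (S' : Subgroup (X ⧸ O)) ⊓ L = ⊥ := by
          obtain ⟨n, hn⟩ := IsPGroup.iff_card.mp S'.isPGroup'
          refine (disjoint_of_coprime_natCard ?_).eq_bot
          rw [hn]
          exact (Nat.Coprime.pow_right n hLc).symm
        rw [h5] at h4
        exact h4
      exact (QuotientGroup.eq_one_iff x).mp h3
    · refine le_inf hOS ?_
      intro x hx
      rw [mem_comap, show π x = 1 from (QuotientGroup.eq_one_iff x).mpr hx]
      exact one_mem _
  · -- the Sylow `r`-subgroup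
    have hidx : ¬ r ∣ L.index := by
      intro hd
      have h3 : L.index ∣ Nat.card (S' : Subgroup (X ⧸ O)) := by
        have h4 := relIndex_sup_right (H := (S' : Subgroup (X ⧸ O))) (K := L)
        rw [sup_comm, h1, relIndex_top_right] at h4
        rw [h4]
        exact relIndex_dvd_card _ _
      obtain ⟨n, hn⟩ := IsPGroup.iff_card.mp S'.isPGroup'
      rw [hn] at h3
      exact hrp ((Nat.prime_dvd_prime_iff_eq hr hp.out).mp
        (hr.dvd_of_dvd_pow (hd.trans h3)))
    have h3 : R.mapSurjective hπs = h2.toSylow hidx := by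
      have : Unique (Sylow r (X ⧸ O)) := Sylow.unique_of_normal (h2.toSylow hidx) hLn
      exact Subsingleton.elim _ _
    have h4 : (R : Subgroup X).map π = L := congrArg (fun T : Sylow r (X ⧸ O) => (T : Subgroup (X ⧸ O))) h3
    rw [← h4, comap_map_eq, hker, sup_comm]

end Abstract

/-! ### The same inside a group -/

section Internal

variable {p : ℕ} [hp : Fact p.Prime] {S P : Subgroup G}

theorem IsMinPar.ne (h : IsMinPar S P) : S ≠ P := by
  rintro rfl
  exact h.not_le le_normalizer

omit hp in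
theorem map_top_subtype (P : Subgroup G) : (⊤ : Subgroup P).map P.subtype = P := by
  rw [← MonoidHom.range_eq_map, range_subtype]

theorem IsMinPar.exists_isMin (h : IsMinPar S P) :
    ∃ M : Subgroup P, IsMin (S.subgroupOf P) M := by
  obtain ⟨M, hMP, hM⟩ := h.exists_max
  refine ⟨M.subgroupOf P, fun htop => hMP.not_ge (subgroupOf_eq_top.mp htop), fun K hK hK1 => ?_⟩
  have h1 : K.map P.subtype ≤ M := by
    refine hM _ ?_ ?_
    · have h2 := Subgroup.map_mono (f := P.subtype) hK
      rwa [subgroupOf_map_subtype, inf_eq_left.mpr h.le] at h2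
    · refine lt_of_le_of_ne (map_subtype_le K) fun h2 => hK1 ?_
      exact map_subtype_inj.mp (h2.trans (map_top_subtype P).symm)
  intro x hx
  rw [mem_subgroupOf]
  exact h1 ⟨x, hx, rfl⟩

/-- A subgroup over `S` of a minimal parabolic is the parabolic or lies in its maximal subgroup. -/
theorem IsMinPar.sup_eq_or_inf_le [Finite G] (h : IsMinPar S P) (hS : IsPGroup p S)
    (hSP : ¬ p ∣ S.relIndex P) {N : Subgroup G} (hNP : N ≤ P)
    (hN : P ≤ normalizer (N : Set G)) : N ⊔ S = P ∨ S ⊓ N ≤ (pCore p P).map P.subtype := by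
  obtain ⟨M, hM⟩ := h.exists_isMin
  have h1 : IsPGroup p (S.subgroupOf P) := hS.comap_of_injective _ P.subtype_injective
  have hM' : IsMin ((h1.toSylow hSP : Sylow p P) : Subgroup P) M := hM
  have hn : (N.subgroupOf P).Normal := normal_subgroupOf_of_le_normalizer hN
  rcases sup_eq_top_or_inf_le hM' (N.subgroupOf P) with h2 | h2
  · left
    have h3 := congrArg (Subgroup.map P.subtype) h2
    rw [map_top_subtype, Subgroup.map_sup] at h3
    rw [← h3]
    congr 1
    · rw [subgroupOf_map_subtype, inf_eq_left.mpr hNP]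
    · exact ((subgroupOf_map_subtype S P).trans (inf_eq_left.mpr h.le)).symm
  · right
    rintro x ⟨hx1, hx2⟩
    exact ⟨⟨x, h.le hx1⟩, h2 ⟨mem_subgroupOf.mpr hx1, mem_subgroupOf.mpr hx2⟩, rfl⟩

/-- The structure of a solvable minimal parabolic `P` over its Sylow `p`-subgroup `S`: with
`O = O_p(P)` there is a prime `r ≠ p` such that for every Sylow `r`-subgroup `R` of `P`: `O R` is
normal in `P`, `P = O R S`, `S ∩ O R = O`. -/
theorem IsMinPar.exists_structure [Finite G] (h : IsMinPar S P) (hS : IsPGroup p S)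
    (hSP : ¬ p ∣ S.relIndex P) (hsol : Group.IsSolvable P) :
    ∃ r : ℕ, r.Prime ∧ r ≠ p ∧ ∀ R : Sylow r P,
      P ≤ normalizer (((pCore p P).map P.subtype ⊔ (R : Subgroup P).map P.subtype : Subgroup G) :
        Set G) ∧
      (pCore p P).map P.subtype ⊔ (R : Subgroup P).map P.subtype ⊔ S = P ∧
      S ⊓ ((pCore p P).map P.subtype ⊔ (R : Subgroup P).map P.subtype) =
        (pCore p P).map P.subtype := by
  obtain ⟨M, hM⟩ := h.exists_isMin
  have h1 : IsPGroup p (S.subgroupOf P) := hS.comap_of_injective _ P.subtype_injective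
  have hM' : IsMin ((h1.toSylow hSP : Sylow p P) : Subgroup P) M := hM
  obtain ⟨r, hr, hrp, K, hK, hOK, hKS, hSK, hKR⟩ := MinParabolic.exists_structure hsol hM'
  have hSmap : ((h1.toSylow hSP : Sylow p P) : Subgroup P).map P.subtype = S :=
    (subgroupOf_map_subtype S P).trans (inf_eq_left.mpr h.le)
  refine ⟨r, hr, hrp, fun R => ?_⟩
  have e : (pCore p P).map P.subtype ⊔ (R : Subgroup P).map P.subtype = K.map P.subtype := by
    rw [← Subgroup.map_sup, ← hKR R]
  rw [e]
  refine ⟨?_, ?_, ?_⟩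
  · intro x hx
    rw [mem_normalizer_iff]
    intro y
    constructor
    · rintro ⟨k, hk, rfl⟩
      exact ⟨⟨x, hx⟩ * k * ⟨x, hx⟩⁻¹, hK.conj_mem k hk _, rfl⟩
    · rintro ⟨k, hk, hk2⟩
      refine ⟨⟨x, hx⟩⁻¹ * k * ⟨x, hx⟩⁻¹⁻¹, hK.conj_mem k hk _, ?_⟩
      have hk3 : (k : G) = x * y * x⁻¹ := hk2
      change x⁻¹ * (k : G) * x⁻¹⁻¹ = y
      rw [hk3]
      group
  · have h3 := congrArg (Subgroup.map P.subtype) hKS
    rw [map_top_subtype, Subgroup.map_sup, hSmap] at h3
    exact h3
  · conv_lhs => rw [← hSmap]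
    rw [← Subgroup.map_inf _ _ _ P.subtype_injective, hSK]

end Internal

end Cfsg.Agent.MinSimple.MinParabolic
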