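import Mathlib
import Cfsg.Agent.ZN.Defs
import Cfsg.Agent.Lib.CoprimeAbelian
import Cfsg.Agent.Lib.CoprimeCommutator
import Cfsg.Agent.MinSimple.MinParabolic

/-!
# The module `V_P = ⟨Ω₁(Z(S))^P⟩` of a solvable parabolic

Basic API for `o2`, `zc`, `zl` of `Cfsg.Agent.ZN.Defs`, the subgroup `oddGen P = O²(P)` generated by
the elements of odd order of `P`, and for a solvable minimal parabolic `P` over its Sylow 2-subgroup
`S` with `C_P(O₂(P)) ≤ O₂(P)`:

* `zl_le_zc` : `V_P ≤ Ω₁(Z(O₂(P)))`;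
* `inf_centralizer_zl` : `C_S(V_P) = O₂(P)` if `P` does not normalize `Ω₁(Z(S))`;
* `sup_eq_zl`, `inf_eq_bot` : `V_P = [V_P, O²(P)] × C_{Ω₁Z(S)}(P)`.
-/

set_option autoImplicit false

namespace Cfsg.Agent.MinSimple.VModule

open Subgroup Cfsg Cfsg.Agent.ZN Cfsg.Agent.MinSimple.MinParabolic
open scoped commutatorElement

universe u

variable {G : Type u} [Group G]

/-! ### Basic API -/

theorem mem_zc {B : Subgroup G} {x : G} :
    x ∈ zc B ↔ x ∈ B ∧ (∀ b ∈ B, b * x = x * b) ∧ x ^ 2 = 1 := by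
  constructor
  · intro hx
    refine closure_induction (p := fun y _ => y ∈ B ∧ (∀ b ∈ B, b * y = y * b) ∧ y ^ 2 = 1)
      ?_ ?_ ?_ ?_ hx
    · rintro y ⟨⟨hy1, hy2⟩, hy3⟩
      exact ⟨hy1, fun b hb => mem_centralizer_iff.mp hy2 b hb, hy3⟩
    · exact ⟨one_mem _, by simp, one_pow 2⟩
    · rintro y z _ _ ⟨hy1, hy2, hy3⟩ ⟨hz1, hz2, hz3⟩
      refine ⟨mul_mem hy1 hz1, fun b hb => ?_, ?_⟩
      · rw [← mul_assoc, hy2 b hb, mul_assoc, hz2 b hb, mul_assoc]
      · have h1 : Commute y z := hz2 y hy1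
        rw [h1.mul_pow, hy3, hz3, one_mul]
    · rintro y _ ⟨hy1, hy2, hy3⟩
      refine ⟨inv_mem hy1, fun b hb => ?_, by rw [inv_pow, hy3, inv_one]⟩
      have h1 : Commute b y := hy2 b hb
      exact h1.inv_right
  · rintro ⟨h1, h2, h3⟩
    exact subset_closure ⟨⟨h1, mem_centralizer_iff.mpr fun b hb => h2 b hb⟩, h3⟩

theorem zc_le (B : Subgroup G) : zc B ≤ B := fun _ hx => (mem_zc.mp hx).1

theorem zc_le_centralizer (B : Subgroup G) : zc B ≤ centralizer (B : Set G) :=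
  fun _ hx => mem_centralizer_iff.mpr fun b hb => (mem_zc.mp hx).2.1 b hb

theorem le_centralizer_zc (B : Subgroup G) : B ≤ centralizer (zc B : Set G) :=
  fun b hb => mem_centralizer_iff.mpr fun _ hx => ((mem_zc.mp hx).2.1 b hb).symm

theorem zc_comm (B : Subgroup G) : ∀ x ∈ zc B, ∀ y ∈ zc B, x * y = y * x :=
  fun _ hx _ hy => (mem_zc.mp hy).2.1 _ (zc_le B hx)

theorem zc_sq (B : Subgroup G) : ∀ x ∈ zc B, x ^ 2 = 1 := fun _ hx => (mem_zc.mp hx).2.2

theorem normalizer_le_normalizer_zc (B : Subgroup G) :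
    normalizer (B : Set G) ≤ normalizer (zc B : Set G) := by
  have key : ∀ g ∈ normalizer (B : Set G), ∀ x ∈ zc B, g * x * g⁻¹ ∈ zc B := by
    intro g hg x hx
    obtain ⟨h1, h2, h3⟩ := mem_zc.mp hx
    refine mem_zc.mpr ⟨(mem_normalizer_iff.mp hg x).mp h1, fun b hb => ?_, ?_⟩
    · have h4 : g⁻¹ * b * g ∈ B := by
        have := (mem_normalizer_iff.mp (inv_mem hg) b).mp hb
        rwa [inv_inv] at this
      have h5 := h2 _ h4
      calc b * (g * x * g⁻¹) = g * ((g⁻¹ * b * g) * x) * g⁻¹ := by group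
        _ = g * (x * (g⁻¹ * b * g)) * g⁻¹ := by rw [h5]
        _ = g * x * g⁻¹ * b := by group
    · rw [conj_pow, h3, mul_one, mul_inv_cancel]
  intro g hg
  rw [mem_normalizer_iff]
  refine fun x => ⟨key g hg x, fun hx => ?_⟩
  have := key g⁻¹ (inv_mem hg) _ hx
  have e : g⁻¹ * (g * x * g⁻¹) * g⁻¹⁻¹ = x := by group
  rwa [e] at this

theorem o2_def (L : Subgroup G) : o2 L = (pCore 2 ↥L).map L.subtype := rfl

theorem o2_le (L : Subgroup G) : o2 L ≤ L := map_subtype_le _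

theorem o2_isPGroup (L : Subgroup G) : IsPGroup 2 (o2 L) := (Lib.Cores.pCore_isPGroup 2).map _

theorem le_normalizer_map_of_normal {L : Subgroup G} {K : Subgroup L} (hK : K.Normal) :
    L ≤ normalizer ((K.map L.subtype : Subgroup G) : Set G) := by
  intro x hx
  rw [mem_normalizer_iff]
  intro y
  constructor
  · rintro ⟨k, hk, rfl⟩
    exact ⟨⟨x, hx⟩ * k * ⟨x, hx⟩⁻¹, hK.conj_mem k hk _, rfl⟩
  · rintro ⟨k, hk, hk2⟩
    refine ⟨⟨x, hx⟩⁻¹ * k * ⟨x, hx⟩⁻¹⁻¹, hK.conj_mem k hk _, ?_⟩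
    have hk3 : (k : G) = x * y * x⁻¹ := hk2
    change x⁻¹ * (k : G) * x⁻¹⁻¹ = y
    rw [hk3]
    group

theorem le_normalizer_o2 (L : Subgroup G) : L ≤ normalizer (o2 L : Set G) :=
  le_normalizer_map_of_normal (Lib.Cores.pCore_normal 2)

/-- A normal 2-subgroup of `L` lies in `O₂(L)`. -/
theorem le_o2 {L N : Subgroup G} (hNL : N ≤ L) (hN : IsPGroup 2 N)
    (hn : L ≤ normalizer (N : Set G)) : N ≤ o2 L := by
  have h1 : (N.subgroupOf L).Normal := normal_subgroupOf_of_le_normalizer hn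
  have h2 : IsPGroup 2 (N.subgroupOf L) := hN.comap_of_injective _ L.subtype_injective
  have h3 := Subgroup.map_mono (f := L.subtype) (Lib.Cores.le_pCore h1 h2)
  rwa [subgroupOf_map_subtype, inf_eq_left.mpr hNL] at h3

/-- `O₂(L)` lies in every Sylow 2-subgroup of `L`. -/
theorem o2_le_of_sylow [Finite G] {L S : Subgroup G} (hS : IsPGroup 2 S)
    (hSL : ¬ 2 ∣ S.relIndex L) : o2 L ≤ S := by
  have h1 : IsPGroup 2 (S.subgroupOf L) := hS.comap_of_injective _ L.subtype_injective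
  have h2 := Lib.Cores.pCore_le_sylow (h1.toSylow hSL : Sylow 2 L)
  have h3 := Subgroup.map_mono (f := L.subtype) h2
  refine h3.trans ?_
  rintro _ ⟨x, hx, rfl⟩
  exact hx

theorem mem_normalizer_of_map_le [Finite G] {T : Subgroup G} {g : G}
    (h : T.map (MulAut.conj g).toMonoidHom ≤ T) : g ∈ normalizer (T : Set G) :=
  mem_normalizer_iff_map_conj_eq.mpr
    (eq_of_le_of_card_ge h (card_map_of_injective (MulAut.conj g).injective).ge)

/-! ### `zl` -/

theorem zc_le_zl (B L : Subgroup G) : zc B ≤ zl B L := by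
  refine le_trans ?_ (le_iSup (fun g : L => (zc B).map (MulAut.conj (g : G)).toMonoidHom) 1)
  intro x hx
  exact ⟨x, hx, by simp⟩

theorem zl_le {B L T : Subgroup G} (h : zc B ≤ T) (hL : L ≤ normalizer (T : Set G)) :
    zl B L ≤ T := by
  refine iSup_le fun g => ?_
  rintro _ ⟨x, hx, rfl⟩
  exact (mem_normalizer_iff.mp (hL g.2) x).mp (h hx)

theorem le_normalizer_zl (B L : Subgroup G) : L ≤ normalizer (zl B L : Set G) := by
  have key : ∀ g ∈ L, (zl B L).map (MulAut.conj g).toMonoidHom ≤ zl B L := by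
    intro g hg
    rw [zl, Subgroup.map_iSup]
    refine iSup_le fun k => ?_
    refine le_trans ?_ (le_iSup (fun g : L => (zc B).map (MulAut.conj (g : G)).toMonoidHom)
      (⟨g, hg⟩ * k))
    rintro _ ⟨_, ⟨x, hx, rfl⟩, rfl⟩
    refine ⟨x, hx, ?_⟩
    simp [mul_assoc]
  intro g hg
  rw [mem_normalizer_iff]
  refine fun x => ⟨fun hx => key g hg ⟨x, hx, rfl⟩, fun hx => ?_⟩
  have := key g⁻¹ (inv_mem hg) ⟨_, hx, rfl⟩
  have e : g⁻¹ * (g * x * g⁻¹) * g⁻¹⁻¹ = x := by group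
  change g⁻¹ * (g * x * g⁻¹) * g⁻¹⁻¹ ∈ _ at this
  rwa [e] at this

/-! ### `O²(P)` -/

/-- `O²(P)`, the subgroup generated by the elements of odd order of `P`. -/
def oddGen (P : Subgroup G) : Subgroup G := closure {x : G | x ∈ P ∧ Odd (orderOf x)}

theorem oddGen_def (P : Subgroup G) : oddGen P = closure {x : G | x ∈ P ∧ Odd (orderOf x)} := rfl

theorem oddGen_le (P : Subgroup G) : oddGen P ≤ P := (closure_le _).mpr fun _ hx => hx.1

theorem mem_oddGen {P : Subgroup G} {x : G} (hx : x ∈ P) (ho : Odd (orderOf x)) : x ∈ oddGen P :=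
  subset_closure ⟨hx, ho⟩

theorem oddGen_mono {P Q : Subgroup G} (h : P ≤ Q) : oddGen P ≤ oddGen Q :=
  closure_mono fun _ hx => ⟨h hx.1, hx.2⟩

/-- A subgroup of odd order of `P` lies in `O²(P)`. -/
theorem le_oddGen [Finite G] {P R : Subgroup G} (hR : R ≤ P) (ho : Odd (Nat.card R)) :
    R ≤ oddGen P := by
  intro x hx
  refine mem_oddGen (hR hx) (Odd.of_dvd_nat ho ?_)
  have := orderOf_dvd_natCard (⟨x, hx⟩ : R)
  rwa [orderOf_mk] at this

theorem normalizer_le_normalizer_oddGen (P : Subgroup G) :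
    normalizer (P : Set G) ≤ normalizer (oddGen P : Set G) := by
  have key : ∀ g ∈ normalizer (P : Set G), ∀ x ∈ oddGen P, g * x * g⁻¹ ∈ oddGen P := by
    intro g hg x hx
    have : (oddGen P).map (MulAut.conj g).toMonoidHom ≤ oddGen P := by
      rw [oddGen_def, MonoidHom.map_closure, closure_le]
      rintro _ ⟨y, ⟨hy, ho⟩, rfl⟩
      refine mem_oddGen ((mem_normalizer_iff.mp hg y).mp hy) ?_
      have : orderOf ((MulAut.conj g).toMonoidHom y) = orderOf y :=
        orderOf_injective _ (MulAut.conj g).injective y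
      rw [this]
      exact ho
    exact this ⟨x, hx, rfl⟩
  intro g hg
  rw [mem_normalizer_iff]
  refine fun x => ⟨key g hg x, fun hx => ?_⟩
  have := key g⁻¹ (inv_mem hg) _ hx
  have e : g⁻¹ * (g * x * g⁻¹) * g⁻¹⁻¹ = x := by group
  rwa [e] at this

theorem le_normalizer_oddGen (P : Subgroup G) : P ≤ normalizer (oddGen P : Set G) :=
  le_normalizer.trans (normalizer_le_normalizer_oddGen P)

/-- `O²(P) ≤ K` if `K` is normal in `P` and `P = K S` for a 2-group `S`. -/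
theorem oddGen_le_of_sup [Finite G] {P K S : Subgroup G} (hK : P ≤ normalizer (K : Set G))
    (hKS : P ≤ K ⊔ S) (hSP : S ≤ P) (hKP : K ≤ P) (hS : IsPGroup 2 S) : oddGen P ≤ K := by
  rw [oddGen_def, closure_le]
  rintro x ⟨hx, ho⟩
  have hn : (K.subgroupOf P).Normal := normal_subgroupOf_of_le_normalizer hK
  have h2 : IsPGroup 2 (P ⧸ K.subgroupOf P) := by
    have h3 : K.subgroupOf P ⊔ S.subgroupOf P = ⊤ := by
      rw [← map_subtype_inj, Subgroup.map_sup, subgroupOf_map_subtype, subgroupOf_map_subtype,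
        inf_eq_left.mpr hKP, inf_eq_left.mpr hSP, map_top_subtype]
      exact le_antisymm (sup_le hKP hSP) hKS
    have h4 : ((S.subgroupOf P).map (QuotientGroup.mk' (K.subgroupOf P))) = ⊤ := by
      have h5 := congrArg (Subgroup.map (QuotientGroup.mk' (K.subgroupOf P))) h3
      rw [Subgroup.map_sup, map_top_of_surjective _ (QuotientGroup.mk'_surjective _)] at h5
      rw [← h5]
      symm
      rw [sup_eq_right]
      have : (K.subgroupOf P).map (QuotientGroup.mk' (K.subgroupOf P)) = ⊥ := by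
        rw [Subgroup.map_eq_bot_iff, QuotientGroup.ker_mk']
      rw [this]
      exact bot_le
    have h6 : IsPGroup 2 ((S.subgroupOf P).map (QuotientGroup.mk' (K.subgroupOf P))) :=
      (hS.comap_of_injective _ P.subtype_injective).map _
    rw [h4] at h6
    exact h6.of_equiv topEquiv
  have h7 : (QuotientGroup.mk' (K.subgroupOf P)) ⟨x, hx⟩ = 1 := by
    obtain ⟨n, hn⟩ := h2 ((QuotientGroup.mk' (K.subgroupOf P)) ⟨x, hx⟩)
    have h8 : orderOf ((QuotientGroup.mk' (K.subgroupOf P)) ⟨x, hx⟩) ∣ 2 ^ n :=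
      orderOf_dvd_of_pow_eq_one hn
    have h9 : orderOf ((QuotientGroup.mk' (K.subgroupOf P)) ⟨x, hx⟩) ∣ orderOf x := by
      have := orderOf_map_dvd (QuotientGroup.mk' (K.subgroupOf P)) ⟨x, hx⟩
      rwa [orderOf_mk] at this
    have h10 : (2 ^ n).Coprime (orderOf x) :=
      Nat.Coprime.pow_left n (Nat.coprime_two_left.mpr ho)
    exact orderOf_eq_one_iff.mp (Nat.eq_one_of_dvd_coprimes h10 h8 h9)
  exact mem_subgroupOf.mp ((QuotientGroup.eq_one_iff _).mp h7)

/-! ### Subgroups of characteristic 2 over `S` -/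

section Char2

variable [Finite G] {S P : Subgroup G}

/-- `Ω₁(Z(S)) ≤ Ω₁(Z(O₂(P)))`. -/
theorem zc_le_zc_o2 (hSP : S ≤ P) (hS : IsPGroup 2 S) (hSyl : ¬ 2 ∣ S.relIndex P)
    (hc : P ⊓ centralizer (o2 P : Set G) ≤ o2 P) : zc S ≤ zc (o2 P) := by
  have hO : o2 P ≤ S := o2_le_of_sylow hS hSyl
  intro z hz
  obtain ⟨h1, h2, h3⟩ := mem_zc.mp hz
  have h4 : z ∈ o2 P := hc ⟨hSP h1, mem_centralizer_iff.mpr fun b hb => h2 b (hO hb)⟩
  exact mem_zc.mpr ⟨h4, fun b hb => h2 b (hO hb), h3⟩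

/-- `V_P ≤ Ω₁(Z(O₂(P)))`. -/
theorem zl_le_zc (hSP : S ≤ P) (hS : IsPGroup 2 S) (hSyl : ¬ 2 ∣ S.relIndex P)
    (hc : P ⊓ centralizer (o2 P : Set G) ≤ o2 P) : zl S P ≤ zc (o2 P) :=
  zl_le (zc_le_zc_o2 hSP hS hSyl hc)
    ((le_normalizer_o2 P).trans (normalizer_le_normalizer_zc _))

theorem zl_comm (hSP : S ≤ P) (hS : IsPGroup 2 S) (hSyl : ¬ 2 ∣ S.relIndex P)
    (hc : P ⊓ centralizer (o2 P : Set G) ≤ o2 P) : ∀ x ∈ zl S P, ∀ y ∈ zl S P, x * y = y * x :=
  fun _ hx _ hy => zc_comm _ _ (zl_le_zc hSP hS hSyl hc hx) _ (zl_le_zc hSP hS hSyl hc hy)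

theorem zl_sq (hSP : S ≤ P) (hS : IsPGroup 2 S) (hSyl : ¬ 2 ∣ S.relIndex P)
    (hc : P ⊓ centralizer (o2 P : Set G) ≤ o2 P) : ∀ x ∈ zl S P, x ^ 2 = 1 :=
  fun _ hx => zc_sq _ _ (zl_le_zc hSP hS hSyl hc hx)

theorem o2_le_centralizer_zl (hSP : S ≤ P) (hS : IsPGroup 2 S) (hSyl : ¬ 2 ∣ S.relIndex P)
    (hc : P ⊓ centralizer (o2 P : Set G) ≤ o2 P) : o2 P ≤ centralizer (zl S P : Set G) :=
  (le_centralizer_zc _).trans (centralizer_le (zl_le_zc hSP hS hSyl hc))

omit [Finite G] in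
/-- `C_P(V_P)` is normal in `P`. -/
theorem le_normalizer_centralizer_zl (B L : Subgroup G) :
    L ≤ normalizer ((L ⊓ centralizer (zl B L : Set G) : Subgroup G) : Set G) := by
  have h2 : ∀ g ∈ L, ∀ z ∈ zl B L, g⁻¹ * z * g ∈ zl B L := by
    intro g hg z hz
    have := (mem_normalizer_iff.mp (le_normalizer_zl B L (inv_mem hg)) z).mp hz
    rwa [inv_inv] at this
  have h3 : ∀ g ∈ L, ∀ x ∈ centralizer (zl B L : Set G), g * x * g⁻¹ ∈ centralizer (zl B L : Set G) := by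
    intro g hg x hx
    rw [mem_centralizer_iff]
    intro z hz
    have := mem_centralizer_iff.mp hx _ (h2 g hg z hz)
    calc z * (g * x * g⁻¹) = g * ((g⁻¹ * z * g) * x) * g⁻¹ := by group
      _ = g * (x * (g⁻¹ * z * g)) * g⁻¹ := by rw [this]
      _ = g * x * g⁻¹ * z := by group
  intro g hg
  rw [mem_normalizer_iff]
  intro x
  constructor
  · rintro ⟨hx1, hx2⟩
    exact ⟨L.mul_mem (L.mul_mem hg hx1) (L.inv_mem hg), h3 g hg x hx2⟩
  · rintro ⟨hx1, hx2⟩
    have e : g⁻¹ * (g * x * g⁻¹) * g⁻¹⁻¹ = x := by group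
    have h4 := h3 g⁻¹ (inv_mem hg) _ hx2
    rw [e] at h4
    have h5 := L.mul_mem (L.mul_mem (L.inv_mem hg) hx1) (L.inv_mem (L.inv_mem hg))
    rw [e] at h5
    exact ⟨h5, h4⟩

/-- `C_S(V_P) = O₂(P)` for a minimal parabolic `P` not normalizing `Ω₁(Z(S))`. -/
theorem inf_centralizer_zl (h : IsMinPar S P) (hS : IsPGroup 2 S) (hSyl : ¬ 2 ∣ S.relIndex P)
    (hc : P ⊓ centralizer (o2 P : Set G) ≤ o2 P) (hZ : ¬ P ≤ normalizer (zc S : Set G)) :
    S ⊓ centralizer (zl S P : Set G) = o2 P := by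
  have hfact : Fact (Nat.Prime 2) := ⟨Nat.prime_two⟩
  apply le_antisymm
  · rcases h.sup_eq_or_inf_le (p := 2) hS hSyl (N := P ⊓ centralizer (zl S P : Set G)) inf_le_left
      (le_normalizer_centralizer_zl S P) with h1 | h1
    · exfalso
      apply hZ
      have h2 : P ≤ centralizer (zc S : Set G) := by
        rw [← h1]
        exact sup_le (inf_le_right.trans (centralizer_le (zc_le_zl S P))) (le_centralizer_zc S)
      exact h2.trans (centralizer_le_normalizer _)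
    · refine le_trans ?_ h1
      exact fun x hx => ⟨hx.1, h.le hx.1, hx.2⟩
  · exact le_inf (o2_le_of_sylow hS hSyl) (o2_le_centralizer_zl h.le hS hSyl hc)

/-- `O²(P) ≤ O₂(P) R` and `P = O²(P) S` in a solvable minimal parabolic. -/
theorem exists_sylow_oddGen (h : IsMinPar S P) (hS : IsPGroup 2 S) (hSyl : ¬ 2 ∣ S.relIndex P)
    (hsol : Group.IsSolvable P) : ∃ r : ℕ, r.Prime ∧ r ≠ 2 ∧ ∃ R : Subgroup G, R ≤ P ∧
      IsPGroup r R ∧ oddGen P ≤ o2 P ⊔ R ∧ R ≤ oddGen P ∧ oddGen P ⊔ S = P ∧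
      P ≤ normalizer ((o2 P ⊔ R : Subgroup G) : Set G) ∧ S ⊓ (o2 P ⊔ R) = o2 P := by
  have hfact : Fact (Nat.Prime 2) := ⟨Nat.prime_two⟩
  obtain ⟨r, hr, hr2, hR⟩ := h.exists_structure (p := 2) hS hSyl hsol
  have hfr : Fact r.Prime := ⟨hr⟩
  obtain ⟨R'⟩ := (inferInstance : Nonempty (Sylow r P))
  obtain ⟨h1, h2, h3⟩ := hR R'
  set R := (R' : Subgroup P).map P.subtype with hRdef
  have hRP : R ≤ P := map_subtype_le _
  have hRr : IsPGroup r R := R'.isPGroup'.map _
  have hRodd : Odd (Nat.card R) := by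
    obtain ⟨n, hn⟩ := IsPGroup.iff_card.mp hRr
    rw [hn]
    exact (hr.odd_of_ne_two hr2).pow
  have hRE : R ≤ oddGen P := le_oddGen hRP hRodd
  refine ⟨r, hr, hr2, R, hRP, hRr, ?_, hRE, ?_, h1, h3⟩
  · exact oddGen_le_of_sup h1 h2.ge h.le (sup_le (o2_le P) hRP) hS
  · apply le_antisymm (sup_le (oddGen_le P) h.le)
    conv_lhs => rw [← h2]
    exact sup_le (sup_le ((o2_le_of_sylow hS hSyl).trans le_sup_right) (hRE.trans le_sup_left))
      le_sup_right

/-- `V_P = [V_P, O²(P)] × C_{Ω₁Z(S)}(P)` for a solvable minimal parabolic `P`. -/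
theorem zl_decomp (h : IsMinPar S P) (hS : IsPGroup 2 S) (hSyl : ¬ 2 ∣ S.relIndex P)
    (hsol : Group.IsSolvable P) (hc : P ⊓ centralizer (o2 P : Set G) ≤ o2 P) :
    ⁅zl S P, oddGen P⁆ ⊔ (zc S ⊓ centralizer (P : Set G)) = zl S P ∧
      ⁅zl S P, oddGen P⁆ ⊓ (zc S ⊓ centralizer (P : Set G)) = ⊥ ∧
      zc S ⊔ ⁅zl S P, oddGen P⁆ = zl S P ∧
      zl S P ⊓ centralizer (oddGen P : Set G) = zc S ⊓ centralizer (P : Set G) := by
  obtain ⟨r, hr, hr2, R, hRP, hRr, hER, hRE, hES, hnorm, -⟩ := exists_sylow_oddGen h hS hSyl hsol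
  have hfr : Fact r.Prime := ⟨hr⟩
  set V := zl S P with hV
  set E := oddGen P with hE
  have hVc : ∀ x ∈ V, ∀ y ∈ V, x * y = y * x := zl_comm h.le hS hSyl hc
  have hPV : P ≤ normalizer (V : Set G) := le_normalizer_zl S P
  have hOV : o2 P ≤ centralizer (V : Set G) := o2_le_centralizer_zl h.le hS hSyl hc
  have hVP : V ≤ P := ((zl_le_zc h.le hS hSyl hc).trans (zc_le _)).trans (o2_le P)
  have hV2 : IsPGroup 2 V := (o2_isPGroup P).to_le ((zl_le_zc h.le hS hSyl hc).trans (zc_le _))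
  have hcop : (Nat.card R).Coprime (Nat.card V) := by
    obtain ⟨n, hn⟩ := IsPGroup.iff_card.mp hRr
    have h2 : Fact (Nat.Prime 2) := ⟨Nat.prime_two⟩
    obtain ⟨m, hm⟩ := IsPGroup.iff_card.mp hV2
    rw [hn, hm]
    exact Nat.Coprime.pow _ _ ((Nat.coprime_primes hr Nat.prime_two).mpr hr2)
  have hRV : R ≤ normalizer (V : Set G) := hRP.trans hPV
  have hEP : E ≤ P := oddGen_le P
  -- `[V, E] = [V, R]` and `C_V(E) = C_V(R)`
  have hcomm : ⁅V, E⁆ = ⁅V, R⁆ := by
    apply le_antisymm _ (commutator_mono le_rfl hRE)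
    rw [commutator_le]
    intro v hv e he
    have h1 : e ∈ o2 P ⊔ R := hER he
    have hRO : R ≤ normalizer (o2 P : Set G) := hRP.trans (le_normalizer_o2 P)
    rw [← SetLike.mem_coe, coe_mul_of_right_le_normalizer_left _ _ hRO] at h1
    obtain ⟨o, ho, x, hx, rfl⟩ := h1
    have h2 : o * v = v * o := (mem_centralizer_iff.mp (hOV ho) v hv).symm
    have h4 : o * (x * v⁻¹ * x⁻¹) * o⁻¹ = x * v⁻¹ * x⁻¹ := by
      have h5 : x * v⁻¹ * x⁻¹ ∈ V :=
        (mem_normalizer_iff.mp (hRV hx) v⁻¹).mp (inv_mem hv)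
      have h6 := mem_centralizer_iff.mp (hOV ho) _ h5
      rw [← h6]
      group
    have h3 : ⁅v, o * x⁆ = ⁅v, x⁆ := by
      rw [commutatorElement_def, commutatorElement_def]
      calc v * (o * x) * v⁻¹ * (o * x)⁻¹ = v * (o * (x * v⁻¹ * x⁻¹) * o⁻¹) := by group
        _ = v * (x * v⁻¹ * x⁻¹) := by rw [h4]
        _ = v * x * v⁻¹ * x⁻¹ := by group
    change ⁅v, o * x⁆ ∈ _
    rw [h3]
    exact commutator_mem_commutator hv hx
  have hcent : V ⊓ centralizer (E : Set G) = V ⊓ centralizer (R : Set G) := by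
    apply le_antisymm (inf_le_inf_left _ (centralizer_le hRE))
    refine le_inf inf_le_left ?_
    rintro v ⟨hv, hvR⟩
    rw [mem_centralizer_iff]
    intro e he
    have h1 : e ∈ o2 P ⊔ R := hER he
    have h2 : o2 P ⊔ R ≤ centralizer ({v} : Set G) := by
      refine sup_le (fun o ho => ?_) (fun x hx => ?_)
      · rw [mem_centralizer_singleton_iff]
        exact (mem_centralizer_iff.mp (hOV ho) v hv).symm
      · rw [mem_centralizer_singleton_iff]
        exact mem_centralizer_iff.mp hvR x hx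
    exact mem_centralizer_singleton_iff.mp (h2 h1)
  have hinf := Lib.CoprimeAbelian.inf_commutator_eq_bot R V hVc hRV hcop
  have hsup := Lib.CoprimeAbelian.sup_commutator_eq R V hVc hRV hcop
  rw [← hcomm, ← hcent] at hinf hsup
  -- `V = Z [V, E]`
  have hPE : P ≤ normalizer (E : Set G) := le_normalizer_oddGen P
  have hPcomm : P ≤ normalizer ((⁅V, E⁆ : Subgroup G) : Set G) := by
    intro g hg
    rw [mem_normalizer_iff_map_conj_eq, Subgroup.map_commutator]
    have h1 := mem_normalizer_iff_map_conj_eq.mp (hPV hg)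
    have h2 := mem_normalizer_iff_map_conj_eq.mp (hPE hg)
    rw [h1, h2]
  have hVE : ⁅V, E⁆ ≤ V := Lib.CoprimeCommutator.commutator_le_left (hEP.trans hPV)
  have hZV : zc S ⊔ ⁅V, E⁆ = V := by
    apply le_antisymm (sup_le (zc_le_zl S P) hVE)
    refine zl_le le_sup_left ?_
    conv_lhs => rw [← hES]
    refine sup_le (fun e he => ?_) (fun g hg => ?_)
    · refine mem_normalizer_of_map_le ?_
      rw [Subgroup.map_sup]
      refine sup_le ?_ ?_
      · rintro _ ⟨z, hz, rfl⟩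
        have h1 : z * e * z⁻¹ * e⁻¹ ∈ ⁅V, E⁆ := by
          have := commutator_mem_commutator (zc_le_zl S P hz) he
          rwa [commutatorElement_def] at this
        have h2 : e * z * e⁻¹ = (z * e * z⁻¹ * e⁻¹)⁻¹ * z := by group
        change e * z * e⁻¹ ∈ _
        rw [h2]
        exact mul_mem (mem_sup_right (inv_mem h1)) (mem_sup_left hz)
      · exact (mem_normalizer_iff_map_conj_eq.mp (hPcomm (hEP he))).le.trans le_sup_right
    · refine mem_normalizer_of_map_le ?_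
      rw [Subgroup.map_sup]
      refine sup_le ?_ ?_
      · rintro _ ⟨z, hz, rfl⟩
        have h2 : g * z * g⁻¹ = z := by
          rw [(mem_zc.mp hz).2.1 g hg]
          group
        change g * z * g⁻¹ ∈ _
        rw [h2]
        exact mem_sup_left hz
      · exact (mem_normalizer_iff_map_conj_eq.mp (hPcomm (h.le hg))).le.trans le_sup_right
  -- `C_V(E) = C_Z(P)`
  have hCVE : V ⊓ centralizer (E : Set G) = zc S ⊓ centralizer (P : Set G) := by
    apply le_antisymm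
    · rintro c ⟨hcV, hcE⟩
      have hcS : ∀ s ∈ S, s * c = c * s := by
        intro g hg
        -- `[c, s] ∈ C_V(E) ∩ [V, E]`
        have h1 : g * c * g⁻¹ * c⁻¹ ∈ V ⊓ centralizer (E : Set G) := by
          have hgP : g ∈ P := h.le hg
          have h2 : g * c * g⁻¹ ∈ V := (mem_normalizer_iff.mp (hPV hgP) c).mp hcV
          have h3 : g * c * g⁻¹ ∈ centralizer (E : Set G) := by
            rw [mem_centralizer_iff]
            intro e he
            have h4 : g⁻¹ * e * g ∈ E := by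
              have := (mem_normalizer_iff.mp (hPE (inv_mem hgP)) e).mp he
              rwa [inv_inv] at this
            have h5 := mem_centralizer_iff.mp hcE _ h4
            calc e * (g * c * g⁻¹) = g * ((g⁻¹ * e * g) * c) * g⁻¹ := by group
              _ = g * (c * (g⁻¹ * e * g)) * g⁻¹ := by rw [h5]
              _ = g * c * g⁻¹ * e := by group
          exact ⟨V.mul_mem h2 (V.inv_mem hcV),
            (centralizer (E : Set G)).mul_mem h3 ((centralizer (E : Set G)).inv_mem hcE)⟩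
        have h2 : g * c * g⁻¹ * c⁻¹ ∈ ⁅V, E⁆ := by
          have h3 : c ∈ zc S ⊔ ⁅V, E⁆ := hZV.symm ▸ hcV
          have hZn : zc S ≤ normalizer ((⁅V, E⁆ : Subgroup G) : Set G) :=
            ((zc_le S).trans h.le).trans hPcomm
          rw [← SetLike.mem_coe, coe_mul_of_left_le_normalizer_right _ _ hZn] at h3
          obtain ⟨z, hz, w, hw, rfl⟩ := h3
          have hgw : g * w * g⁻¹ ∈ ⁅V, E⁆ :=
            (mem_normalizer_iff.mp (hPcomm (h.le hg)) w).mp hw
          have hgz : g * z * g⁻¹ = z := by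
            rw [(mem_zc.mp hz).2.1 g hg]
            group
          have hwV : w ∈ V := hVE hw
          have h4 : g * (z * w) * g⁻¹ * (z * w)⁻¹ = g * w * g⁻¹ * w⁻¹ := by
            have h5 : z * (g * w * g⁻¹ * w⁻¹) = (g * w * g⁻¹ * w⁻¹) * z :=
              hVc z (zc_le_zl S P hz) _ (mul_mem (hVE hgw) (inv_mem hwV))
            calc g * (z * w) * g⁻¹ * (z * w)⁻¹
                = (g * z * g⁻¹) * (g * w * g⁻¹ * w⁻¹) * z⁻¹ := by group
              _ = z * (g * w * g⁻¹ * w⁻¹) * z⁻¹ := by rw [hgz]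
              _ = (g * w * g⁻¹ * w⁻¹) * z * z⁻¹ := by rw [h5]
              _ = g * w * g⁻¹ * w⁻¹ := by group
          change g * (z * w) * g⁻¹ * (z * w)⁻¹ ∈ _
          rw [h4]
          exact mul_mem hgw (inv_mem hw)
        have h3 : g * c * g⁻¹ * c⁻¹ ∈ (⊥ : Subgroup G) := hinf.le ⟨h1, h2⟩
        have h4 : g * c * g⁻¹ * c⁻¹ = 1 := h3
        calc g * c = (g * c * g⁻¹ * c⁻¹) * c * g := by group
          _ = c * g := by rw [h4, one_mul]
      have hcSm : c ∈ S := (o2_le_of_sylow hS hSyl) ((zc_le _) (zl_le_zc h.le hS hSyl hc hcV))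
      refine ⟨mem_zc.mpr ⟨hcSm, hcS, zl_sq h.le hS hSyl hc c hcV⟩, ?_⟩
      have hP : P ≤ centralizer ({c} : Set G) := by
        conv_lhs => rw [← hES]
        refine sup_le (fun e he => ?_) (fun g hg => ?_)
        · rw [mem_centralizer_singleton_iff]
          exact mem_centralizer_iff.mp hcE e he
        · rw [mem_centralizer_singleton_iff]
          exact hcS g hg
      exact mem_centralizer_iff.mpr fun x hx => mem_centralizer_singleton_iff.mp (hP hx)
    · exact le_inf (inf_le_left.trans (zc_le_zl S P)) (inf_le_right.trans (centralizer_le hEP))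
  rw [← hCVE]
  exact ⟨by rw [sup_comm]; exact hsup, by rw [inf_comm]; exact hinf, hZV, rfl⟩

end Char2

end Cfsg.Agent.MinSimple.VModule
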