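import Mathlib
import Cfsg.Prelude.Def_CaseTheorems
import Cfsg.Agent.MinSimple.VModule
import Cfsg.Agent.PLocal.ThompsonFrattini
import Cfsg.Agent.TwoFusion.ElemCent
import Cfsg.Agent.Lib.HallHigman
import Cfsg.Agent.S0044
import Cfsg.Agent.Lib.NormalAbelian

/-!
# Groups of characteristic 2 type: basic API

Everything is a subgroup of the ambient group `G`; `o2`, `zc`, `zl`, `jj` are those of
`Cfsg.Agent.ZN.Defs`. "`X` has characteristic 2" is written `X ⊓ centralizer (o2 X) ≤ o2 X`.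
-/

set_option autoImplicit false

namespace Cfsg.Agent.MinSimple.Basic

open Subgroup Cfsg Cfsg.Agent.ZN Cfsg.Agent.MinSimple.MinParabolic Cfsg.Agent.MinSimple.VModule
open Cfsg.Agent.PLocal.ThompsonJ
open scoped commutatorElement

universe u

variable {G : Type u} [Group G]

/-! ### Characteristic 2 -/

theorem char2_iff (X : Subgroup G) :
    IsOfCharacteristicTwo ↥X ↔ X ⊓ centralizer (o2 X : Set G) ≤ o2 X := by
  constructor
  · rintro h x ⟨hx, hxc⟩
    refine ⟨⟨x, hx⟩, h ?_, rfl⟩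
    rw [mem_centralizer_iff]
    intro y hy
    exact Subtype.ext (mem_centralizer_iff.mp hxc y ⟨y, hy, rfl⟩)
  · intro h x hx
    obtain ⟨y, hy, hyx⟩ := h ⟨x.2, mem_centralizer_iff.mpr (by
      rintro _ ⟨z, hz, rfl⟩
      exact congrArg Subtype.val (mem_centralizer_iff.mp hx z hz))⟩
    rwa [Subtype.ext hyx] at hy

theorem o2_normal_le_o2 {N X : Subgroup G} (h1 : o2 N ≤ X) (h2 : X ≤ N) : o2 N ≤ o2 X :=
  le_o2 h1 (o2_isPGroup N) (h2.trans (le_normalizer_o2 N))

/-- A subgroup between `O₂(N)` and `N` has characteristic 2 if `N` has. -/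
theorem char2_of_le {N X : Subgroup G} (hN : N ⊓ centralizer (o2 N : Set G) ≤ o2 N)
    (h1 : o2 N ≤ X) (h2 : X ≤ N) : X ⊓ centralizer (o2 X : Set G) ≤ o2 X := by
  have h3 := o2_normal_le_o2 h1 h2
  exact (inf_le_inf h2 (centralizer_le h3)).trans (hN.trans h3)

theorem char2_normalizer (hG : IsCharacteristicTwoType G) {U : Subgroup G} (hU : IsPGroup 2 U)
    (hU1 : U ≠ ⊥) : normalizer (U : Set G) ⊓
      centralizer (o2 (normalizer (U : Set G)) : Set G) ≤ o2 (normalizer (U : Set G)) :=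
  (char2_iff _).mp (hG.2 U hU hU1)

/-- (i) A subgroup between a Sylow 2-subgroup of `N_G(U)` and `N_G(U)` has characteristic 2. -/
theorem char2_of_sylow [Finite G] (hG : IsCharacteristicTwoType G) {U X T : Subgroup G}
    (hU : IsPGroup 2 U) (hU1 : U ≠ ⊥) (hX : X ≤ normalizer (U : Set G)) (hTX : T ≤ X)
    (hT : IsPGroup 2 T) (hTs : ¬ 2 ∣ T.relIndex (normalizer (U : Set G))) :
    X ⊓ centralizer (o2 X : Set G) ≤ o2 X :=
  char2_of_le (char2_normalizer hG hU hU1) ((o2_le_of_sylow hT hTs).trans hTX) hX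

/-- For a Sylow 2-subgroup `S` of `G`: every `X ≥ S` with `O₂(X) ≠ 1` has characteristic 2. -/
theorem char2_of_o2_ne_bot [Finite G] (hG : IsCharacteristicTwoType G) (S : Sylow 2 G)
    {X : Subgroup G} (hSX : (S : Subgroup G) ≤ X) (hX : o2 X ≠ ⊥) :
    X ⊓ centralizer (o2 X : Set G) ≤ o2 X := by
  have hf : Fact (Nat.Prime 2) := ⟨Nat.prime_two⟩
  refine char2_of_sylow hG (o2_isPGroup X) hX (le_normalizer_o2 X) hSX S.isPGroup' fun h => ?_
  exact S.not_dvd_index (h.trans (relIndex_dvd_index_of_le (hSX.trans (le_normalizer_o2 X))))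

/-- A subgroup containing a Sylow 2-subgroup of `G` contains it as a Sylow 2-subgroup. -/
theorem not_dvd_relIndex [Finite G] (S : Sylow 2 G) {X : Subgroup G}
    (hSX : (S : Subgroup G) ≤ X) : ¬ 2 ∣ (S : Subgroup G).relIndex X := fun h => by
  have hf : Fact (Nat.Prime 2) := ⟨Nat.prime_two⟩
  exact S.not_dvd_index (h.trans (relIndex_dvd_index_of_le hSX))

/-- Subgroups of `N_G(U)`, `1 ≠ U` a 2-group, are solvable. -/
theorem solvable_of_le (hL : ∀ N : Subgroup G, IsTwoLocal N → Group.IsSolvable N)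
    {U X : Subgroup G} (hU : IsPGroup 2 U) (hU1 : U ≠ ⊥) (hX : X ≤ normalizer (U : Set G)) :
    Group.IsSolvable X := by
  have h1 := hL _ ⟨U, hU, hU1, rfl⟩
  exact Group.isSolvable_of_isSolvable_injective (inclusion_injective hX)

theorem solvable_of_o2_ne_bot (hL : ∀ N : Subgroup G, IsTwoLocal N → Group.IsSolvable N)
    {X : Subgroup G} (hX : o2 X ≠ ⊥) : Group.IsSolvable X :=
  solvable_of_le hL (o2_isPGroup X) hX (le_normalizer_o2 X)

/-- A normal subgroup of odd order of a group of characteristic 2 is trivial. -/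
theorem eq_bot_of_odd [Finite G] {X K : Subgroup G}
    (hX : X ⊓ centralizer (o2 X : Set G) ≤ o2 X) (hKX : K ≤ X)
    (hK : X ≤ normalizer (K : Set G)) (hodd : Odd (Nat.card K)) : K = ⊥ := by
  have hf : Fact (Nat.Prime 2) := ⟨Nat.prime_two⟩
  have hdis : K ⊓ o2 X = ⊥ := by
    obtain ⟨n, hn⟩ := IsPGroup.iff_card.mp (o2_isPGroup X)
    refine (disjoint_of_coprime_natCard ?_).eq_bot
    rw [hn]
    exact Nat.Coprime.pow_right n (Nat.coprime_two_right.mpr hodd)
  have hcom : ∀ k ∈ K, ∀ x ∈ o2 X, k * x = x * k := by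
    intro k hk x hx
    have h1 : k * x * k⁻¹ * x⁻¹ ∈ K ⊓ o2 X := by
      refine ⟨?_, ?_⟩
      · have h2 := (mem_normalizer_iff.mp (hK (o2_le X hx)) k⁻¹).mp (inv_mem hk)
        have e : k * x * k⁻¹ * x⁻¹ = k * (x * k⁻¹ * x⁻¹) := by group
        rw [e]
        exact K.mul_mem hk h2
      · have h2 := (mem_normalizer_iff.mp (le_normalizer_o2 X (hKX hk)) x).mp hx
        exact (o2 X).mul_mem h2 ((o2 X).inv_mem hx)
    rw [hdis, mem_bot] at h1
    calc k * x = (k * x * k⁻¹ * x⁻¹) * x * k := by group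
      _ = x * k := by rw [h1, one_mul]
  have hle : K ≤ o2 X := fun k hk => hX ⟨hKX hk, mem_centralizer_iff.mpr fun x hx =>
    (hcom k hk x hx).symm⟩
  rw [← hdis, inf_eq_left.mpr hle]

/-! ### The Thompson subgroup -/

/-- `J(U) = J(S)` for `J(S) ≤ U ≤ S`. -/
theorem jj_eq_of_le [Finite G] {S U : Subgroup G} (h1 : jj S ≤ U) (h2 : U ≤ S) : jj U = jj S := by
  have h3 : thompsonSubgroup 2 S ≤ U.subgroupOf S := by
    intro x hx
    rw [mem_subgroupOf]
    exact h1 ⟨x, hx, rfl⟩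
  have h4 := thompsonSubgroupOf_eq_of_le h3
  have h5 := thompsonSubgroupOf_map 2 S.subtype_injective (U.subgroupOf S)
  rw [subgroupOf_map_subtype, inf_eq_left.mpr h2] at h5
  rw [jj, h5, h4]
  rfl

theorem jj_le (S : Subgroup G) : jj S ≤ S := thompsonSubgroupOf_le_self 2 S

theorem normalizer_le_normalizer_jj (S : Subgroup G) :
    normalizer (S : Set G) ≤ normalizer (jj S : Set G) :=
  PLocal.ThompsonFrattini.normalizer_le_normalizer_thompson 2 S

/-- The Frattini argument in `X` for the normal subgroup `L` and the Sylow 2-subgroup `S`. -/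
theorem frattini [Finite G] {X L S : Subgroup G} (hSX : S ≤ X) (hS : IsPGroup 2 S)
    (hSs : ¬ 2 ∣ S.relIndex X) (hL : X ≤ normalizer (L : Set G)) :
    X ≤ L ⊔ (X ⊓ normalizer ((S ⊓ L : Subgroup G) : Set G)) := by
  have hf : Fact (Nat.Prime 2) := ⟨Nat.prime_two⟩
  have h1 : IsPGroup 2 (S.subgroupOf X) := hS.comap_of_injective _ X.subtype_injective
  have hn : (L.subgroupOf X).Normal := normal_subgroupOf_of_le_normalizer hL
  have h2 := Lib.SylowNormalInf.normalizer_inf_sup_eq_top (h1.toSylow hSs : Sylow 2 X)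
    (L.subgroupOf X)
  intro x hx
  have h3 : (⟨x, hx⟩ : X) ∈ normalizer ((S.subgroupOf X ⊓ L.subgroupOf X : Subgroup X) : Set X) ⊔
      L.subgroupOf X := by
    have : normalizer ((S.subgroupOf X ⊓ L.subgroupOf X : Subgroup X) : Set X) ⊔
      L.subgroupOf X = ⊤ := h2
    rw [this]
    exact mem_top _
  rw [mem_sup_of_normal_right] at h3
  obtain ⟨a, ha, b, hb, hab⟩ := h3
  have hx2 : x = (a : G) * (b : G) := (congrArg Subtype.val hab).symm
  rw [hx2]
  have ha2 : (a : G) ∈ X ⊓ normalizer ((S ⊓ L : Subgroup G) : Set G) := by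
    refine ⟨a.2, ?_⟩
    have hkey : ∀ c : X, c ∈ normalizer ((S.subgroupOf X ⊓ L.subgroupOf X : Subgroup X) : Set X) →
        ∀ y ∈ S ⊓ L, (c : G) * y * (c : G)⁻¹ ∈ S ⊓ L := by
      intro c hc y hy
      have h4 := (mem_normalizer_iff.mp hc ⟨y, hSX hy.1⟩).mp ⟨hy.1, hy.2⟩
      exact h4
    refine mem_normalizer_iff.mpr fun y => ⟨hkey a ha y, fun hy => ?_⟩
    have h4 := hkey a⁻¹ (inv_mem ha) _ hy
    have e : ((a⁻¹ : X) : G) * ((a : G) * y * (a : G)⁻¹) * ((a⁻¹ : X) : G)⁻¹ = y := by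
      rw [coe_inv]; group
    rwa [e] at h4
  exact mul_mem (mem_sup_right ha2) (mem_sup_left hb)

/-- (iv) If `J(S) ≤ L ⊴ X` then `X = L N_X(J(S))`. -/
theorem frattini_jj [Finite G] {X L S : Subgroup G} (hSX : S ≤ X) (hS : IsPGroup 2 S)
    (hSs : ¬ 2 ∣ S.relIndex X) (hL : X ≤ normalizer (L : Set G)) (hJ : jj S ≤ L) :
    X ≤ L ⊔ (X ⊓ normalizer (jj S : Set G)) := by
  refine (frattini hSX hS hSs hL).trans (sup_le_sup_left (inf_le_inf_left _ ?_) _)
  have h1 : jj (S ⊓ L) = jj S := jj_eq_of_le (le_inf (jj_le S) hJ) inf_le_left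
  rw [← h1]
  exact normalizer_le_normalizer_jj _

/-- `X = C_X(V) N_X(J(S))` if `J(S)` centralizes `V = ⟨Ω₁(Z(S))^X⟩`. -/
theorem frattini_zl [Finite G] {X S : Subgroup G} (hSX : S ≤ X) (hS : IsPGroup 2 S)
    (hSs : ¬ 2 ∣ S.relIndex X) (hJ : jj S ≤ centralizer (zl S X : Set G)) :
    X = (X ⊓ centralizer (zl S X : Set G)) ⊔ (X ⊓ normalizer (jj S : Set G)) :=
  le_antisymm (frattini_jj hSX hS hSs (le_normalizer_centralizer_zl S X)
    (le_inf ((jj_le S).trans hSX) hJ)) (sup_le inf_le_left inf_le_left)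

/-- `J(S)` is normal in `X` iff it lies in `O₂(X)` (`S` a Sylow 2-subgroup of `X`). -/
theorem le_normalizer_jj_iff [Finite G] {X S : Subgroup G} (hSX : S ≤ X) (hS : IsPGroup 2 S)
    (hSs : ¬ 2 ∣ S.relIndex X) : X ≤ normalizer (jj S : Set G) ↔ jj S ≤ o2 X := by
  constructor
  · intro h
    exact le_o2 ((jj_le S).trans hSX) (hS.to_le (jj_le S)) h
  · intro h
    have h1 : jj (o2 X) = jj S := jj_eq_of_le h (o2_le_of_sylow hS hSs)
    rw [← h1]
    exact (le_normalizer_o2 X).trans (normalizer_le_normalizer_jj _)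

/-! ### `O₂(X/C_X(V)) = 1` -/

/-- (ii) A normal subgroup `D` of `X` inducing a 2-group on `V = ⟨Ω₁(Z(S))^X⟩` centralizes `V`. -/
theorem le_centralizer_zl [Finite G] {X S D : Subgroup G} (hSX : S ≤ X) (hS : IsPGroup 2 S)
    (hSs : ¬ 2 ∣ S.relIndex X) (hD : X ≤ normalizer (D : Set G))
    (h : D ≤ centralizer (zl S X : Set G) ⊔ (S ⊓ D)) : D ≤ centralizer (zl S X : Set G) := by
  set V := zl S X with hV
  have hXV : X ≤ normalizer (V : Set G) := le_normalizer_zl S X
  -- `C_V(S ∩ D)` is normal in `X`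
  have hC : zc S ≤ V ⊓ centralizer ((S ⊓ D : Subgroup G) : Set G) :=
    le_inf (zc_le_zl S X) ((zc_le_centralizer S).trans (centralizer_le inf_le_left))
  have hn : X ≤ normalizer ((V ⊓ centralizer ((S ⊓ D : Subgroup G) : Set G) : Subgroup G) :
      Set G) := by
    refine (frattini hSX hS hSs hD).trans (sup_le (h.trans (sup_le ?_ ?_)) ?_)
    · intro c hc
      refine mem_normalizer_of_map_le ?_
      rintro _ ⟨v, ⟨hv1, hv2⟩, rfl⟩
      have e : c * v * c⁻¹ = v := by
        rw [← mem_centralizer_iff.mp hc v hv1]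
        group
      change c * v * c⁻¹ ∈ _
      rw [e]
      exact ⟨hv1, hv2⟩
    · intro c hc
      refine mem_normalizer_of_map_le ?_
      rintro _ ⟨v, ⟨hv1, hv2⟩, rfl⟩
      have e : c * v * c⁻¹ = v := by
        rw [mem_centralizer_iff.mp hv2 c hc]
        group
      change c * v * c⁻¹ ∈ _
      rw [e]
      exact ⟨hv1, hv2⟩
    · rintro c ⟨hcX, hcN⟩
      refine mem_normalizer_of_map_le ?_
      rintro _ ⟨v, ⟨hv1, hv2⟩, rfl⟩
      refine ⟨(mem_normalizer_iff.mp (hXV hcX) v).mp hv1, ?_⟩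
      change c * v * c⁻¹ ∈ centralizer ((S ⊓ D : Subgroup G) : Set G)
      rw [mem_centralizer_iff]
      intro t ht
      have h4 : c⁻¹ * t * c ∈ S ⊓ D := by
        have := (mem_normalizer_iff.mp (inv_mem hcN) t).mp ht
        rwa [inv_inv] at this
      have h5 := mem_centralizer_iff.mp hv2 _ h4
      calc t * (c * v * c⁻¹) = c * ((c⁻¹ * t * c) * v) * c⁻¹ := by group
        _ = c * (v * (c⁻¹ * t * c)) * c⁻¹ := by rw [h5]
        _ = c * v * c⁻¹ * t := by group
  have hle : V ≤ V ⊓ centralizer ((S ⊓ D : Subgroup G) : Set G) := zl_le hC hn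
  refine h.trans (sup_le le_rfl ?_)
  exact le_centralizer_iff.mp (hle.trans inf_le_right)

/-- (ii) The same, elementwise. -/
theorem le_centralizer_zl_of_pow [Finite G] {X S D : Subgroup G} (hSX : S ≤ X) (hS : IsPGroup 2 S)
    (hSs : ¬ 2 ∣ S.relIndex X) (hDX : D ≤ X) (hD : X ≤ normalizer (D : Set G))
    (h : ∀ x ∈ D, ∃ k : ℕ, x ^ 2 ^ k ∈ centralizer (zl S X : Set G)) :
    D ≤ centralizer (zl S X : Set G) := by
  have hf : Fact (Nat.Prime 2) := ⟨Nat.prime_two⟩
  refine le_centralizer_zl hSX hS hSs hD ?_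
  have h1 : IsPGroup 2 (S.subgroupOf X) := hS.comap_of_injective _ X.subtype_injective
  have hn : (D.subgroupOf X).Normal := normal_subgroupOf_of_le_normalizer hD
  have hn2 : ((X ⊓ centralizer (zl S X : Set G)).subgroupOf X).Normal :=
    normal_subgroupOf_of_le_normalizer (le_normalizer_centralizer_zl S X)
  have h2 := Lib.SylowNormalInf.le_sup_inf (h1.toSylow hSs : Sylow 2 X)
    (D.subgroupOf X) ((X ⊓ centralizer (zl S X : Set G)).subgroupOf X) (fun x hx => by
      obtain ⟨k, hk⟩ := h x hx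
      exact ⟨k, (x ^ 2 ^ k).2, hk⟩)
  have h3 := Subgroup.map_mono (f := X.subtype) h2
  rw [subgroupOf_map_subtype, inf_eq_left.mpr hDX, Subgroup.map_sup, subgroupOf_map_subtype] at h3
  refine h3.trans (sup_le_sup (inf_le_left.trans inf_le_right) ?_)
  rintro _ ⟨x, hx, rfl⟩
  exact hx

/-! ### The odd core -/

/-- `O(X)` as a subgroup of `G`. -/
def oc (X : Subgroup G) : Subgroup G := (pPrimeCore 2 ↥X).map X.subtype

theorem oc_def (X : Subgroup G) : oc X = (pPrimeCore 2 ↥X).map X.subtype := rfl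

theorem oc_le (X : Subgroup G) : oc X ≤ X := map_subtype_le _

theorem le_normalizer_oc (X : Subgroup G) : X ≤ normalizer (oc X : Set G) :=
  le_normalizer_map_of_normal (Lib.Cores.pPrimeCore_normal 2)

theorem odd_card_oc [Finite G] (X : Subgroup G) : Odd (Nat.card (oc X)) := by
  rw [oc_def, card_map_of_injective X.subtype_injective]
  exact Nat.coprime_two_right.mp (Lib.Cores.pPrimeCore_coprime 2)

/-- `C_X(O(X)) ≤ O(X)` if `X` is solvable with `O₂(X) = 1`. -/
theorem inf_centralizer_oc_le [Finite G] {X : Subgroup G} (hX : Group.IsSolvable X)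
    (ho : o2 X = ⊥) : X ⊓ centralizer (oc X : Set G) ≤ oc X := by
  have hf : Fact (Nat.Prime 2) := ⟨Nat.prime_two⟩
  have h1 : pCore 2 ↥X = ⊥ := by
    rw [o2_def] at ho
    exact (Subgroup.map_eq_bot_iff_of_injective _ X.subtype_injective).mp ho
  have h2 : fittingSubgroup ↥X ≤ pPrimeCore 2 ↥X := by
    rw [Lib.Cores.fittingSubgroup_eq_iSup_pCore]
    refine iSup_le fun p => ?_
    have hp : Fact (p : ℕ).Prime := ⟨p.2⟩
    by_cases hp2 : (p : ℕ) = 2
    · rw [hp2, h1]
      exact bot_le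
    · refine Lib.Cores.le_pPrimeCore (Lib.Cores.pCore_normal _) ?_
      obtain ⟨n, hn⟩ := IsPGroup.iff_card.mp (Lib.Cores.pCore_isPGroup (G := X) (p : ℕ))
      rw [hn]
      exact Nat.Coprime.pow_left n ((Nat.coprime_primes p.2 Nat.prime_two).mpr hp2)
  rintro x ⟨hx, hxc⟩
  have h3 : (⟨x, hx⟩ : X) ∈ centralizer (fittingSubgroup ↥X : Set X) := by
    rw [mem_centralizer_iff]
    intro y hy
    exact Subtype.ext (mem_centralizer_iff.mp hxc _ ⟨y, h2 hy, rfl⟩)
  exact ⟨_, h2 (Cfsg.Agent.S0044.result h3), rfl⟩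

/-- A solvable group with trivial odd core has characteristic 2. -/
theorem char2_of_oc_eq_bot [Finite G] {X : Subgroup G} (hX : Group.IsSolvable X)
    (ho : oc X = ⊥) : X ⊓ centralizer (o2 X : Set G) ≤ o2 X := by
  have hf : Fact (Nat.Prime 2) := ⟨Nat.prime_two⟩
  have h1 : pPrimeCore 2 ↥X = ⊥ := by
    rw [oc_def] at ho
    exact (Subgroup.map_eq_bot_iff_of_injective _ X.subtype_injective).mp ho
  exact (char2_iff X).mp (Lib.HallHigman.centralizer_pCore_le_of_solvable 2 h1)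

/-! ### Maximal 2-local subgroups -/

/-- Every 2-local subgroup lies in a maximal one. -/
theorem exists_maximal [Finite G] {N : Subgroup G} (hN : IsTwoLocal N) :
    ∃ M : Subgroup G, IsMaximalTwoLocal M ∧ N ≤ M := by
  let s : Set (Subgroup G) := {M | IsTwoLocal M ∧ N ≤ M}
  obtain ⟨M, hM⟩ := (Set.toFinite s).exists_maximal ⟨N, hN, le_rfl⟩
  refine ⟨M, ⟨hM.prop.1, fun K hK hMK => ?_⟩, hM.prop.2⟩
  exact le_antisymm (hM.le_of_ge ⟨hK, hM.prop.2.trans hMK⟩ hMK) hMK

theorem isTwoLocal_normalizer {U : Subgroup G} (hU : IsPGroup 2 U) (hU1 : U ≠ ⊥) :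
    IsTwoLocal (normalizer (U : Set G)) := ⟨U, hU, hU1, rfl⟩

/-- A maximal 2-local subgroup `M` is `N_G(O₂(M))`. -/
theorem IsMaximalTwoLocal.eq_normalizer [Finite G] {M : Subgroup G} (hM : IsMaximalTwoLocal M) :
    o2 M ≠ ⊥ ∧ normalizer (o2 M : Set G) = M := by
  obtain ⟨⟨U, hU, hU1, rfl⟩, hmax⟩ := hM
  have h1 : U ≤ o2 (normalizer (U : Set G)) := le_o2 le_normalizer hU le_rfl
  have h2 : o2 (normalizer (U : Set G)) ≠ ⊥ := fun h => hU1 (le_bot_iff.mp (h ▸ h1))
  exact ⟨h2, hmax _ (isTwoLocal_normalizer (o2_isPGroup _) h2) (le_normalizer_o2 _)⟩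

/-- `O₂(N) ≠ 1` for a 2-local subgroup `N`. -/
theorem IsTwoLocal.o2_ne_bot {N : Subgroup G} (hN : IsTwoLocal N) : o2 N ≠ ⊥ := by
  obtain ⟨U, hU, hU1, rfl⟩ := hN
  have h1 : U ≤ o2 (normalizer (U : Set G)) := le_o2 le_normalizer hU le_rfl
  exact fun h => hU1 (le_bot_iff.mp (h ▸ h1))

/-- (v) If the maximal 2-local subgroup `M` contains `N_G(S)` and all minimal parabolics over the
Sylow 2-subgroup `S` (with nontrivial `O₂`) then it contains all 2-local subgroups over `S`. -/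
theorem le_of_forall_minPar [Finite G] (S : Sylow 2 G) {M : Subgroup G}
    (hN : normalizer ((S : Subgroup G) : Set G) ≤ M)
    (hP : ∀ P : Subgroup G, IsMinPar (S : Subgroup G) P → o2 P ≠ ⊥ → P ≤ M) {N : Subgroup G}
    (hN1 : o2 N ≠ ⊥) (hSN : (S : Subgroup G) ≤ N) : N ≤ M := by
  refine le_of_forall hSN (inf_le_right.trans hN) fun P hPm hPN => hP P hPm fun h => hN1 ?_
  have h1 : o2 N ≤ o2 P := o2_normal_le_o2 ((o2_le_of_sylow S.isPGroup'
    (not_dvd_relIndex S hSN)).trans hPm.le) hPN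
  rw [h] at h1
  exact le_bot_iff.mp h1

/-- There is a maximal 2-local subgroup containing `N_G(S)`. -/
theorem exists_maximal_normalizer [Finite G] (S : Sylow 2 G) (hS : (S : Subgroup G) ≠ ⊥) :
    ∃ M : Subgroup G, IsMaximalTwoLocal M ∧ normalizer ((S : Subgroup G) : Set G) ≤ M :=
  exists_maximal (isTwoLocal_normalizer S.isPGroup' hS)

/-- (v) Dichotomy: either one maximal 2-local subgroup contains all 2-local subgroups over `S`, or
every maximal 2-local subgroup over `N_G(S)` (they exist: `exists_maximal_normalizer`) misses a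
minimal parabolic over `S`. -/
theorem dichotomy [Finite G] (S : Sylow 2 G) :
    (∃ M : Subgroup G, IsMaximalTwoLocal M ∧ (S : Subgroup G) ≤ M ∧
      ∀ N : Subgroup G, IsTwoLocal N → (S : Subgroup G) ≤ N → N ≤ M) ∨
    ∀ M : Subgroup G, IsMaximalTwoLocal M → normalizer ((S : Subgroup G) : Set G) ≤ M →
      ∃ P : Subgroup G, IsMinPar (S : Subgroup G) P ∧ o2 P ≠ ⊥ ∧ ¬ P ≤ M := by
  by_cases h : ∀ M : Subgroup G, IsMaximalTwoLocal M →
      normalizer ((S : Subgroup G) : Set G) ≤ M →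
      ∃ P : Subgroup G, IsMinPar (S : Subgroup G) P ∧ o2 P ≠ ⊥ ∧ ¬ P ≤ M
  · exact Or.inr h
  left
  push Not at h
  obtain ⟨M, hM, hMS, hP⟩ := h
  exact ⟨M, hM, le_normalizer.trans hMS, fun N hN hSN =>
    le_of_forall_minPar S hMS hP (IsTwoLocal.o2_ne_bot hN) hSN⟩

/-! ### Odd cores of overgroups of `S` in a group of characteristic 2 type -/

section OddCore

variable [Finite G]

omit [Finite G] in
theorem isPGroup_zpowers {z : G} (hz : z ^ 2 = 1) : IsPGroup 2 (zpowers z) := by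
  rintro ⟨x, hx⟩
  refine ⟨1, ?_⟩
  obtain ⟨k, rfl⟩ := mem_zpowers_iff.mp hx
  apply Subtype.ext
  change (z ^ k) ^ (2 ^ 1) = 1
  rw [pow_one, ← zpow_natCast, ← zpow_mul, mul_comm, zpow_mul, zpow_natCast, hz, one_zpow]

omit [Finite G] in
theorem normalizer_zpowers_eq {z : G} (hz : z ^ 2 = 1) :
    normalizer ((zpowers z : Subgroup G) : Set G) = centralizer ({z} : Set G) := by
  apply le_antisymm
  · intro g hg
    rw [mem_centralizer_singleton_iff]
    by_cases h1 : z = 1
    · rw [h1]; simp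
    have h2 := (mem_normalizer_iff.mp hg z).mp (mem_zpowers z)
    have h3 : g * z * g⁻¹ = 1 ∨ g * z * g⁻¹ = z := by
      obtain ⟨k, hk⟩ := mem_zpowers_iff.mp h2
      rcases Int.even_or_odd k with ⟨m, hm⟩ | ⟨m, hm⟩
      · left
        rw [← hk, hm, ← two_mul, zpow_mul]
        have : z ^ (2 : ℤ) = 1 := by exact_mod_cast hz
        rw [this, one_zpow]
      · right
        rw [← hk, hm, zpow_add, zpow_mul, zpow_one]
        have : z ^ (2 : ℤ) = 1 := by exact_mod_cast hz
        rw [this, one_zpow, one_mul]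
    rcases h3 with h3 | h3
    · exfalso
      apply h1
      have : z = g⁻¹ * (g * z * g⁻¹) * g := by group
      rw [this, h3]; group
    · calc g * z = (g * z * g⁻¹) * g := by group
        _ = z * g := by rw [h3]
  · have h1 := centralizer_le_normalizer ((zpowers z : Subgroup G) : Set G)
    refine le_trans ?_ h1
    intro g hg
    rw [mem_centralizer_singleton_iff] at hg
    rw [mem_centralizer_iff]
    rintro _ ⟨k, rfl⟩
    have : Commute g z := hg
    exact (this.zpow_right k).symm.eq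

omit [Finite G] in
/-- The centralizer of an involution has characteristic 2. -/
theorem char2_centralizer (hG : IsCharacteristicTwoType G) {z : G} (hz : z ^ 2 = 1) (hz1 : z ≠ 1) :
    centralizer ({z} : Set G) ⊓ centralizer (o2 (centralizer ({z} : Set G)) : Set G) ≤
      o2 (centralizer ({z} : Set G)) := by
  have h1 := char2_normalizer hG (isPGroup_zpowers hz)
    (fun h => hz1 (zpowers_eq_bot.mp h))
  rwa [normalizer_zpowers_eq hz] at h1

/-- A subgroup `Y` of odd order of `H = C_G(z)` normalized by a subgroup `R₀` of `R = O₂(H)` of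
index at most 2 is trivial. -/
theorem eq_bot_of_normalized (hG : IsCharacteristicTwoType G) {z : G} (hz : z ^ 2 = 1)
    (hz1 : z ≠ 1) {Y R₀ : Subgroup G} (hY : Y ≤ centralizer ({z} : Set G))
    (hodd : Odd (Nat.card Y)) (hR : R₀ ≤ o2 (centralizer ({z} : Set G)))
    (hi : R₀.relIndex (o2 (centralizer ({z} : Set G))) ≤ 2)
    (hn : R₀ ≤ normalizer (Y : Set G)) : Y = ⊥ := by
  have hf : Fact (Nat.Prime 2) := ⟨Nat.prime_two⟩
  set H := centralizer ({z} : Set G) with hH
  set R := o2 H with hRdef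
  have hRp : IsPGroup 2 R := o2_isPGroup H
  have hdis : Y ⊓ R = ⊥ := by
    obtain ⟨n, hn⟩ := IsPGroup.iff_card.mp hRp
    refine (disjoint_of_coprime_natCard ?_).eq_bot
    rw [hn]
    exact Nat.Coprime.pow_right n (Nat.coprime_two_right.mpr hodd)
  have hYR : Y ≤ normalizer (R : Set G) := hY.trans (le_normalizer_o2 H)
  -- `[Y, R₀] = 1`
  have hcom : ∀ y ∈ Y, ∀ r ∈ R₀, y * r = r * y := by
    intro y hy r hr
    have h1 : y * r * y⁻¹ * r⁻¹ ∈ Y ⊓ R := by
      refine ⟨?_, ?_⟩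
      · have h2 := (mem_normalizer_iff.mp (hn hr) y⁻¹).mp (inv_mem hy)
        have e : y * r * y⁻¹ * r⁻¹ = y * (r * y⁻¹ * r⁻¹) := by group
        rw [e]
        exact Y.mul_mem hy h2
      · have h2 := (mem_normalizer_iff.mp (hYR hy) r).mp (hR hr)
        exact R.mul_mem h2 (R.inv_mem (hR hr))
    rw [hdis, mem_bot] at h1
    calc y * r = (y * r * y⁻¹ * r⁻¹) * r * y := by group
      _ = r * y := by rw [h1, one_mul]
  -- `R₀` is normal in `R`
  have hnorm : (R₀.subgroupOf R).Normal := by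
    have h0 : R₀.relIndex R ≠ 0 := by
      rw [relIndex]
      exact FiniteIndex.index_ne_zero
    rcases Nat.lt_or_ge (R₀.relIndex R) 2 with h1 | h1
    · have h2 : R₀.relIndex R = 1 := by omega
      have h3 : R₀.subgroupOf R = ⊤ := index_eq_one.mp h2
      rw [h3]
      infer_instance
    · exact normal_of_index_eq_two (le_antisymm hi h1)
  have hidx : ∀ r ∈ R, ∀ s ∈ R, r ∉ R₀ → s ∉ R₀ → r⁻¹ * s ∈ R₀ := by
    intro r hr s hs hr0 hs0
    have h0 : R₀.relIndex R ≠ 0 := by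
      rw [relIndex]
      exact FiniteIndex.index_ne_zero
    have h2 : (R₀.subgroupOf R).index = 2 := by
      have h3 : R₀.relIndex R ≠ 1 := by
        intro h4
        have h5 : R₀.subgroupOf R = ⊤ := index_eq_one.mp h4
        exact hr0 (mem_subgroupOf.mp (h5 ▸ mem_top (⟨r, hr⟩ : R)))
      have h4 : R₀.relIndex R = 2 := by omega
      exact h4
    have h3 := (mul_mem_iff_of_index_two h2 (a := (⟨r, hr⟩ : R)⁻¹) (b := ⟨s, hs⟩)).mpr ?_
    · exact h3
    · rw [inv_mem_iff]
      exact ⟨fun h => absurd (mem_subgroupOf.mp h) hr0, fun h => absurd (mem_subgroupOf.mp h) hs0⟩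
  -- `[Y, R] = 1`
  have hcomR : ∀ y ∈ Y, ∀ r ∈ R, y * r = r * y := by
    intro y hy r hr
    by_cases hr0 : r ∈ R₀
    · exact hcom y hy r hr0
    have h1 : y * r * y⁻¹ ∈ R := (mem_normalizer_iff.mp (hYR hy) r).mp hr
    have h2 : y * r * y⁻¹ ∉ R₀ := by
      intro h
      apply hr0
      have h3 := hcom y hy _ h
      have h4 : r = y * r * y⁻¹ := by
        calc r = y⁻¹ * ((y * r * y⁻¹) * y) := by group
          _ = y⁻¹ * (y * (y * r * y⁻¹)) := by rw [h3]
          _ = y * r * y⁻¹ := by group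
      rw [h4]
      exact h
    have h3 : r⁻¹ * (y * r * y⁻¹) ∈ R₀ := hidx r hr _ h1 hr0 h2
    set c := r⁻¹ * (y * r * y⁻¹) with hc
    have hyc : Commute y c := hcom y hy c h3
    have h4 : ∀ n : ℕ, y ^ n * r * (y ^ n)⁻¹ = r * c ^ n := by
      intro n
      induction n with
      | zero => simp
      | succ n ih =>
        have e1 : y * r * y⁻¹ = r * c := by rw [hc]; group
        calc y ^ (n + 1) * r * (y ^ (n + 1))⁻¹ = y * (y ^ n * r * (y ^ n)⁻¹) * y⁻¹ := by
              rw [pow_succ']; group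
          _ = y * (r * c ^ n) * y⁻¹ := by rw [ih]
          _ = (y * r * y⁻¹) * (y * c ^ n * y⁻¹) := by group
          _ = (r * c) * c ^ n := by
              rw [e1, (hyc.pow_right n).eq]
              group
          _ = r * c ^ (n + 1) := by rw [mul_assoc, ← pow_succ']
    have h5 := h4 (Nat.card Y)
    have h6 : y ^ Nat.card Y = 1 := by
      have := congrArg Subtype.val (pow_card_eq_one' (x := (⟨y, hy⟩ : Y)))
      exact this
    rw [h6, one_mul, inv_one, mul_one] at h5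
    have h7 : c ^ Nat.card Y = 1 := by
      have : r * 1 = r * c ^ Nat.card Y := by rw [mul_one]; exact h5
      exact (mul_left_cancel this).symm
    have h8 : c = 1 := by
      obtain ⟨n, hn⟩ := hRp ⟨c, hR h3⟩
      have h9 : c ^ 2 ^ n = 1 := congrArg Subtype.val hn
      have h10 : orderOf c ∣ 1 := by
        have ha := orderOf_dvd_of_pow_eq_one h7
        have hb := orderOf_dvd_of_pow_eq_one h9
        have hc2 : (Nat.card Y).Coprime (2 ^ n) :=
          Nat.Coprime.pow_right n (Nat.coprime_two_right.mpr hodd)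
        rw [← hc2]
        exact Nat.dvd_gcd ha hb
      exact orderOf_eq_one_iff.mp (Nat.dvd_one.mp h10)
    have h9 : y * r * y⁻¹ = r * c := by rw [hc]; group
    rw [h8, mul_one] at h9
    exact mul_inv_eq_iff_eq_mul.mp h9
  have hle : Y ≤ R := fun y hy => char2_centralizer hG hz hz1
    ⟨hY hy, mem_centralizer_iff.mpr fun r hr => (hcomR y hy r hr).symm⟩
  rw [← hdis, inf_eq_left.mpr hle]

omit [Finite G] in
theorem zc_ne_bot {S : Subgroup G} [Finite S] (hS : IsPGroup 2 S) (h : S ≠ ⊥) : zc S ≠ ⊥ := by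
  have hf : Fact (Nat.Prime 2) := ⟨Nat.prime_two⟩
  have hnt : Nontrivial S := (nontrivial_iff_ne_bot S).mpr h
  have h1 : Nontrivial (center S) := hS.center_nontrivial
  have h2 : 2 ∣ Nat.card (center S) := by
    obtain ⟨n, hn⟩ := IsPGroup.iff_card.mp (hS.to_subgroup (center S))
    rw [hn]
    refine dvd_pow_self 2 fun h0 => ?_
    rw [h0, pow_zero] at hn
    exact (Finite.one_lt_card (α := center S)).ne' hn
  obtain ⟨c, hc⟩ := exists_prime_orderOf_dvd_card' 2 h2
  have h3 : ((c : S) : G) ∈ zc S := by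
    refine mem_zc.mpr ⟨(c : S).2, fun b hb => ?_, ?_⟩
    · have := mem_center_iff.mp c.2 ⟨b, hb⟩
      exact congrArg Subtype.val this
    · have h4 : c ^ 2 = 1 := hc ▸ pow_orderOf_eq_one c
      exact congrArg Subtype.val (congrArg Subtype.val h4)
  intro h0
  rw [h0, mem_bot] at h3
  have h4 : c = 1 := Subtype.ext (Subtype.ext h3)
  rw [h4, orderOf_one] at hc
  exact absurd hc (by norm_num)

/-- `C_K(z) = 1` for `K ≤ X` normal of odd order, `X ≥ S`, `z` an involution in the centre of `S`. -/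
theorem inf_centralizer_eq_bot (hG : IsCharacteristicTwoType G) (S : Sylow 2 G) {X K : Subgroup G}
    (hSX : (S : Subgroup G) ≤ X) (hK : X ≤ normalizer (K : Set G)) (hodd : Odd (Nat.card K))
    {z : G} (hz : z ∈ zc (S : Subgroup G)) (hz1 : z ≠ 1) :
    K ⊓ centralizer ({z} : Set G) = ⊥ := by
  have hf : Fact (Nat.Prime 2) := ⟨Nat.prime_two⟩
  obtain ⟨hzS, hzc, hz2⟩ := mem_zc.mp hz
  have hSz : (S : Subgroup G) ≤ centralizer ({z} : Set G) := fun g hg =>
    mem_centralizer_singleton_iff.mpr (hzc g hg)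
  have hR : o2 (centralizer ({z} : Set G)) ≤ (S : Subgroup G) :=
    o2_le_of_sylow S.isPGroup' (not_dvd_relIndex S hSz)
  refine eq_bot_of_normalized hG hz2 hz1 inf_le_right
    (Odd.of_dvd_nat hodd (card_dvd_of_le inf_le_left)) le_rfl (by rw [relIndex_self]; norm_num) ?_
  intro r hr
  refine mem_normalizer_of_map_le ?_
  rintro _ ⟨k, ⟨hk1, hk2⟩, rfl⟩
  refine ⟨(mem_normalizer_iff.mp (hK (hSX (hR hr))) k).mp hk1, ?_⟩
  exact (centralizer ({z} : Set G)).mul_mem ((centralizer ({z} : Set G)).mul_mem (o2_le _ hr) hk2)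
    ((centralizer ({z} : Set G)).inv_mem (o2_le _ hr))

/-- `z` inverts `K`. -/
theorem conj_eq_inv_of_inf_eq_bot {K : Subgroup G} {z : G} (hz2 : z ^ 2 = 1)
    (hzK : z ∈ normalizer (K : Set G)) (h : K ⊓ centralizer ({z} : Set G) = ⊥) :
    ∀ k ∈ K, z * k * z⁻¹ = k⁻¹ := by
  refine TwoFusion.ElemCent.inverts_of_fixedPointFree K (by rw [← pow_two]; exact hz2)
    (fun x hx => (mem_normalizer_iff.mp hzK x).mp hx) fun x hx hxz => ?_
  have h1 : x ∈ K ⊓ centralizer ({z} : Set G) :=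
    ⟨hx, mem_centralizer_singleton_iff.mpr hxz.symm⟩
  rwa [h, mem_bot] at h1

/-- (T0) A solvable group `X ≥ S` generated by subgroups `P ≥ S` with `O₂(P) ≠ 1` has
`O₂(X) ≠ 1`. -/
theorem o2_ne_bot_of_generated (hG : IsCharacteristicTwoType G) (S : Sylow 2 G) {X : Subgroup G}
    (hX : Group.IsSolvable X) (hSX : (S : Subgroup G) ≤ X) (Ps : Set (Subgroup G))
    (hP : ∀ P ∈ Ps, (S : Subgroup G) ≤ P ∧ P ≤ X ∧ o2 P ≠ ⊥) (hgen : X ≤ sSup Ps) :
    o2 X ≠ ⊥ := by
  have hf : Fact (Nat.Prime 2) := ⟨Nat.prime_two⟩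
  have hS1 : (S : Subgroup G) ≠ ⊥ := by
    intro h
    have h1 : ¬ 2 ∣ (S : Subgroup G).index := S.not_dvd_index
    rw [h, index_bot] at h1
    exact h1 hG.1.two_dvd
  intro ho
  obtain ⟨⟨z, hz⟩, hz0⟩ := ne_bot_iff_exists_ne_one.mp (zc_ne_bot S.isPGroup' hS1)
  have hz1 : z ≠ 1 := fun h => hz0 (Subtype.ext h)
  obtain ⟨hzS, hzc, hz2⟩ := mem_zc.mp hz
  have hinv := conj_eq_inv_of_inf_eq_bot hz2 (le_normalizer_oc X (hSX hzS))
    (inf_centralizer_eq_bot hG S hSX (le_normalizer_oc X) (odd_card_oc X) hz hz1)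
  -- `[z, g] ∈ C_X(K)`
  have hcomm : ∀ g ∈ X, z * g * z⁻¹ * g⁻¹ ∈ oc X := by
    intro g hg
    have hgK := le_normalizer_oc X hg
    refine inf_centralizer_oc_le hX ho ⟨?_, ?_⟩
    · exact X.mul_mem (X.mul_mem (X.mul_mem (hSX hzS) hg) (X.inv_mem (hSX hzS))) (X.inv_mem hg)
    · refine mem_centralizer_iff.mpr ?_
      intro k hk
      have h1 : g⁻¹ * k * g ∈ oc X := by
        have := (mem_normalizer_iff.mp (inv_mem hgK) k).mp hk
        rwa [inv_inv] at this
      have hzi : z⁻¹ = z := inv_eq_of_mul_eq_one_right (by rw [← pow_two]; exact hz2)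
      have h2 := hinv _ h1
      have h3 : g * z⁻¹ * g⁻¹ * k * (g * z⁻¹ * g⁻¹)⁻¹ = k⁻¹ := by
        rw [hzi]
        calc g * z * g⁻¹ * k * (g * z * g⁻¹)⁻¹ = g * (z * (g⁻¹ * k * g) * z⁻¹) * g⁻¹ := by group
          _ = g * (g⁻¹ * k * g)⁻¹ * g⁻¹ := by rw [h2]
          _ = k⁻¹ := by group
      have h4 : z * k⁻¹ * z⁻¹ = k := by
        have := hinv k⁻¹ (inv_mem hk)
        rwa [inv_inv] at this
      have h5 : (z * g * z⁻¹ * g⁻¹) * k * (z * g * z⁻¹ * g⁻¹)⁻¹ = k := by
        calc (z * g * z⁻¹ * g⁻¹) * k * (z * g * z⁻¹ * g⁻¹)⁻¹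
            = z * (g * z⁻¹ * g⁻¹ * k * (g * z⁻¹ * g⁻¹)⁻¹) * z⁻¹ := by group
          _ = k := by rw [h3, h4]
      calc k * (z * g * z⁻¹ * g⁻¹)
          = ((z * g * z⁻¹ * g⁻¹) * k * (z * g * z⁻¹ * g⁻¹)⁻¹) * (z * g * z⁻¹ * g⁻¹) := by rw [h5]
        _ = (z * g * z⁻¹ * g⁻¹) * k := by group
  -- so `z` centralizes every `P ∈ Ps`
  have hXz : X ≤ centralizer ({z} : Set G) := by
    refine hgen.trans (sSup_le fun P hPm => ?_)
    obtain ⟨hSP, hPX, hPo⟩ := hP P hPm
    have hPc := char2_of_o2_ne_bot hG S hSP hPo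
    have h1 : P ⊓ oc X = ⊥ := by
      refine eq_bot_of_odd hPc inf_le_left ?_
        (Odd.of_dvd_nat (odd_card_oc X) (card_dvd_of_le inf_le_right))
      intro g hg
      refine mem_normalizer_of_map_le ?_
      rintro _ ⟨k, ⟨hk1, hk2⟩, rfl⟩
      exact ⟨P.mul_mem (P.mul_mem hg hk1) (P.inv_mem hg),
        (mem_normalizer_iff.mp (le_normalizer_oc X (hPX hg)) k).mp hk2⟩
    intro g hg
    have h2 : z * g * z⁻¹ * g⁻¹ ∈ P ⊓ oc X :=
      ⟨P.mul_mem (P.mul_mem (P.mul_mem (hSP hzS) hg) (P.inv_mem (hSP hzS))) (P.inv_mem hg),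
        hcomm g (hPX hg)⟩
    rw [h1, mem_bot] at h2
    rw [mem_centralizer_singleton_iff]
    calc g * z = (z * g * z⁻¹ * g⁻¹)⁻¹ * (z * g) := by group
      _ = z * g := by rw [h2, inv_one, one_mul]
  have h1 : zpowers z ≤ o2 X := by
    refine le_o2 ((zpowers_le).mpr (hSX hzS)) (isPGroup_zpowers hz2) ?_
    rw [normalizer_zpowers_eq hz2]
    exact hXz
  rw [ho, le_bot_iff, zpowers_eq_bot] at h1
  exact hz1 h1

/-- (T0) for two subgroups. -/
theorem o2_sup_ne_bot (hG : IsCharacteristicTwoType G) (S : Sylow 2 G) {P Q : Subgroup G}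
    (hX : Group.IsSolvable (P ⊔ Q : Subgroup G)) (hSP : (S : Subgroup G) ≤ P)
    (hSQ : (S : Subgroup G) ≤ Q) (hP : o2 P ≠ ⊥) (hQ : o2 Q ≠ ⊥) : o2 (P ⊔ Q) ≠ ⊥ := by
  refine o2_ne_bot_of_generated hG S hX (hSP.trans le_sup_left) {P, Q} ?_ ?_
  · rintro R (rfl | rfl)
    · exact ⟨hSP, le_sup_left, hP⟩
    · exact ⟨hSQ, le_sup_right, hQ⟩
  · rw [sSup_pair]

/-- `C_K(e) = 1` for an involution `e` of `S` with `|S : C_S(e)| ≤ 2`. -/
theorem inf_centralizer_eq_bot' (hG : IsCharacteristicTwoType G) (S : Sylow 2 G) {X K : Subgroup G}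
    (hSX : (S : Subgroup G) ≤ X) (hK : X ≤ normalizer (K : Set G)) (hodd : Odd (Nat.card K))
    {e : G} (he2 : e ^ 2 = 1) (he1 : e ≠ 1)
    (hi : (centralizer ({e} : Set G)).relIndex (S : Subgroup G) ≤ 2) :
    K ⊓ centralizer ({e} : Set G) = ⊥ := by
  have hf : Fact (Nat.Prime 2) := ⟨Nat.prime_two⟩
  set H := centralizer ({e} : Set G) with hH
  -- a Sylow 2-subgroup of `H` over `C_S(e)`
  have h1 : IsPGroup 2 (((S : Subgroup G) ⊓ H).subgroupOf H) :=
    (S.isPGroup'.to_le inf_le_left).comap_of_injective _ H.subtype_injective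
  obtain ⟨Q, hQ⟩ := h1.exists_le_sylow
  set T := (Q : Subgroup H).map H.subtype with hT
  have hTp : IsPGroup 2 T := Q.isPGroup'.map _
  have hST : (S : Subgroup G) ⊓ H ≤ T := by
    have := Subgroup.map_mono (f := H.subtype) hQ
    rwa [subgroupOf_map_subtype, inf_assoc, inf_idem] at this
  have hTH : T ≤ H := map_subtype_le _
  have hTs : ¬ 2 ∣ T.relIndex H := by
    have h2 : T.subgroupOf H = (Q : Subgroup H) := by
      rw [hT, subgroupOf, comap_map_eq_self_of_injective H.subtype_injective]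
    rw [relIndex, h2]
    exact Q.not_dvd_index
  have hRT : o2 H ≤ T := o2_le_of_sylow hTp hTs
  -- `|T : C_S(e)| ≤ 2`
  have hcard : Nat.card T ≤ Nat.card (S : Subgroup G) := by
    obtain ⟨S', hS'⟩ := hTp.exists_le_sylow
    have h3 : Nat.card (S' : Subgroup G) = Nat.card (S : Subgroup G) := by
      have ha := S'.card_eq_multiplicity
      have hb := S.card_eq_multiplicity
      exact ha.trans hb.symm
    rw [← h3]
    exact Nat.card_le_card_of_injective _ (inclusion_injective hS')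
  have h2 : Nat.card ((S : Subgroup G) ⊓ H : Subgroup G) * H.relIndex (S : Subgroup G) =
      Nat.card (S : Subgroup G) := by
    rw [← inf_relIndex_left, ← relIndex_bot_left, ← relIndex_bot_left (S : Subgroup G)]
    exact relIndex_mul_relIndex _ _ _ bot_le inf_le_left
  have h3 : Nat.card ((S : Subgroup G) ⊓ H : Subgroup G) * ((S : Subgroup G) ⊓ H).relIndex T =
      Nat.card T := by
    rw [← relIndex_bot_left, ← relIndex_bot_left T]
    exact relIndex_mul_relIndex _ _ _ bot_le hST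
  have h4 : ((S : Subgroup G) ⊓ H).relIndex T ≤ 2 := by
    have hpos : 0 < Nat.card ((S : Subgroup G) ⊓ H : Subgroup G) := Nat.card_pos
    refine Nat.le_of_mul_le_mul_left ?_ hpos
    rw [h3]
    refine hcard.trans ?_
    rw [← h2]
    exact Nat.mul_le_mul_left _ hi
  have h5 : ((S : Subgroup G) ⊓ H).relIndex (o2 H) ≤ 2 := by
    refine (relIndex_le_of_le_right hRT ?_).trans h4
    rw [relIndex]
    exact FiniteIndex.index_ne_zero
  refine eq_bot_of_normalized hG he2 he1 (R₀ := (S : Subgroup G) ⊓ H ⊓ o2 H) inf_le_right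
    (Odd.of_dvd_nat hodd (card_dvd_of_le inf_le_left)) inf_le_right ?_ ?_
  · rw [inf_relIndex_right]
    exact h5
  · rintro r ⟨⟨hrS, hrH⟩, -⟩
    refine mem_normalizer_of_map_le ?_
    rintro _ ⟨k, ⟨hk1, hk2⟩, rfl⟩
    exact ⟨(mem_normalizer_iff.mp (hK (hSX hrS)) k).mp hk1,
      H.mul_mem (H.mul_mem hrH hk2) (H.inv_mem hrH)⟩

/-- (F1) If `S` has a normal four-group then every solvable overgroup of `S` has
characteristic 2. -/
theorem char2_of_fourGroup (hG : IsCharacteristicTwoType G) (S : Sylow 2 G) {W : Subgroup G}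
    (hWS : W ≤ (S : Subgroup G)) (hWn : (S : Subgroup G) ≤ normalizer (W : Set G))
    (hWc : Nat.card W = 4) (hW2 : ∀ x ∈ W, x ^ 2 = 1) {L : Subgroup G}
    (hL : Group.IsSolvable L) (hSL : (S : Subgroup G) ≤ L) :
    L ⊓ centralizer (o2 L : Set G) ≤ o2 L := by
  have hf : Fact (Nat.Prime 2) := ⟨Nat.prime_two⟩
  apply char2_of_oc_eq_bot hL
  set K := oc L with hKdef
  have hKn : L ≤ normalizer (K : Set G) := le_normalizer_oc L
  have hKo : Odd (Nat.card K) := odd_card_oc L
  -- `z ∈ W ∩ Z(S)`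
  obtain ⟨z, hzW, hz, hz1⟩ : ∃ z, z ∈ W ∧ z ∈ zc (S : Subgroup G) ∧ z ≠ 1 := by
    have h1 : (W.subgroupOf (S : Subgroup G)).Normal := normal_subgroupOf_of_le_normalizer hWn
    have h2 : Group.IsNilpotent (S : Subgroup G) := S.isPGroup'.isNilpotent
    have h3 : W.subgroupOf (S : Subgroup G) ≠ ⊥ := by
      intro h
      have h4 : W = ⊥ := by
        have := congrArg (Subgroup.map (S : Subgroup G).subtype) h
        rwa [subgroupOf_map_subtype, inf_eq_left.mpr hWS, Subgroup.map_bot] at this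
      rw [h4, card_bot] at hWc
      exact absurd hWc (by norm_num)
    have h5 := Cfsg.Agent.Lib.NormalAbelian.normal_inf_center_ne_bot _ h3
    obtain ⟨⟨z, hz⟩, hz0⟩ := ne_bot_iff_exists_ne_one.mp h5
    refine ⟨z, hz.1, mem_zc.mpr ⟨z.2, fun b hb => ?_, hW2 _ hz.1⟩, fun h =>
      hz0 (Subtype.ext (Subtype.ext h))⟩
    exact congrArg Subtype.val (mem_center_iff.mp hz.2 ⟨b, hb⟩)
  obtain ⟨hzS, hzc, hz2⟩ := mem_zc.mp hz
  -- the elements of `W`
  obtain ⟨e, heW, he1, hez⟩ : ∃ e, e ∈ W ∧ e ≠ 1 ∧ e ≠ z := by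
    by_contra hcon
    push Not at hcon
    have h1 : (W : Set G) ⊆ {1, z} := by
      intro x hx
      by_cases hx1 : x = 1
      · exact Or.inl hx1
      · exact Or.inr (hcon x hx hx1)
    have h2 := Set.ncard_le_ncard h1
    rw [Set.ncard_pair hz1.symm] at h2
    have h3 : (W : Set G).ncard = 4 := hWc
    omega
  have hall : ∀ x ∈ W, x = 1 ∨ x = z ∨ x = e ∨ x = e * z := by
    have hsub : ({1, z, e, e * z} : Set G) ⊆ (W : Set G) := by
      rintro x (rfl | rfl | rfl | rfl)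
      · exact one_mem W
      · exact hzW
      · exact heW
      · exact W.mul_mem heW hzW
    have hez1 : e * z ≠ 1 := by
      intro h
      apply hez
      have : z⁻¹ = z := inv_eq_of_mul_eq_one_right (by rw [← pow_two]; exact hz2)
      rw [← this]
      exact eq_inv_of_mul_eq_one_left h
    have hcard : ({1, z, e, e * z} : Set G).ncard = 4 := by
      rw [Set.ncard_insert_of_notMem, Set.ncard_insert_of_notMem, Set.ncard_pair]
      · intro h
        exact hz1 (mul_eq_left.mp h.symm)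
      · rintro (h | h)
        · exact hez h.symm
        · exact he1 (mul_eq_right.mp h.symm)
      · rintro (h | h | h)
        · exact hz1 h.symm
        · exact he1 h.symm
        · exact hez1 h.symm
    have h3 : (W : Set G).ncard = 4 := hWc
    have h4 := Set.eq_of_subset_of_ncard_le hsub (by rw [h3, hcard])
    intro x hx
    have h5 : x ∈ ({1, z, e, e * z} : Set G) := by rw [h4]; exact hx
    exact h5
  have hezc : e * z = z * e := hzc e (hWS heW)
  -- index at most 2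
  have key : ∀ f ∈ W, f ≠ 1 → f ≠ z →
      (centralizer ({f} : Set G)).relIndex (S : Subgroup G) ≤ 2 := by
    intro f hfW hf1 hfz
    have hconj : ∀ s ∈ (S : Subgroup G), s * f * s⁻¹ = f ∨ s * f * s⁻¹ = f * z := by
      intro s hs
      have h1 : s * f * s⁻¹ ∈ W := (mem_normalizer_iff.mp (hWn hs) f).mp hfW
      have h2 : s * f * s⁻¹ ≠ 1 := fun h => hf1 (conj_eq_one_iff.mp h)
      have h3 : s * f * s⁻¹ ≠ z := by
        intro h
        apply hfz
        have : s * f * s⁻¹ = s * z * s⁻¹ := by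
          rw [h, hzc s hs, mul_assoc, mul_inv_cancel, mul_one]
        exact conj_injective (x := s) this
      have hzz : z * z = 1 := by rw [← pow_two]; exact hz2
      rcases hall f hfW with h | h | h | h
      · exact absurd h hf1
      · exact absurd h hfz
      · rcases hall _ h1 with h4 | h4 | h4 | h4
        · exact absurd h4 h2
        · exact absurd h4 h3
        · left; rw [h4, h]
        · right; rw [h4, h]
      · rcases hall _ h1 with h4 | h4 | h4 | h4
        · exact absurd h4 h2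
        · exact absurd h4 h3
        · right; rw [h4, h, mul_assoc, hzz, mul_one]
        · left; rw [h4, h]
    rw [relIndex]
    by_cases hne : ∃ a ∈ (S : Subgroup G), a * f * a⁻¹ ≠ f
    · obtain ⟨a, haS, ha⟩ := hne
      refine le_of_eq (index_eq_two_iff.mpr ⟨⟨a, haS⟩, fun b => ?_⟩)
      have hb := hconj b b.2
      have haz : a * f * a⁻¹ = f * z := (hconj a haS).resolve_left ha
      have hmem : ∀ c : (S : Subgroup G), c ∈ (centralizer ({f} : Set G)).subgroupOf S ↔
          (c : G) * f * (c : G)⁻¹ = f := by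
        intro c
        rw [mem_subgroupOf, mem_centralizer_singleton_iff, mul_inv_eq_iff_eq_mul]
      rw [hmem, hmem]
      have hba : ((b * ⟨a, haS⟩ : (S : Subgroup G)) : G) * f *
          ((b * ⟨a, haS⟩ : (S : Subgroup G)) : G)⁻¹ = ((b : G) * f * (b : G)⁻¹) * z := by
        rw [coe_mul]
        calc (b : G) * a * f * ((b : G) * a)⁻¹ = b * (a * f * a⁻¹) * (b : G)⁻¹ := by group
          _ = b * (f * z) * (b : G)⁻¹ := by rw [haz]
          _ = b * f * (b : G)⁻¹ * (b * z * (b : G)⁻¹) := by group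
          _ = b * f * (b : G)⁻¹ * z := by
              rw [hzc b b.2, mul_assoc z, mul_inv_cancel, mul_one]
      rw [hba]
      have hzz : z * z = 1 := by rw [← pow_two]; exact hz2
      rcases hb with hb | hb
      · right
        refine ⟨hb, fun h => ?_⟩
        rw [hb] at h
        exact hz1 (mul_eq_left.mp h)
      · left
        refine ⟨?_, fun h => ?_⟩
        · rw [hb, mul_assoc, hzz, mul_one]
        · rw [hb] at h
          exact hz1 (mul_eq_left.mp h)
    · push Not at hne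
      have h1 : (centralizer ({f} : Set G)).subgroupOf (S : Subgroup G) = ⊤ := by
        rw [eq_top_iff]
        intro a _
        rw [mem_subgroupOf, mem_centralizer_singleton_iff, ← mul_inv_eq_iff_eq_mul]
        exact hne a a.2
      rw [h1, index_top]
      norm_num
  have hez2 : (e * z) ^ 2 = 1 := hW2 _ (W.mul_mem heW hzW)
  have he2 : e ^ 2 = 1 := hW2 _ heW
  have hez1 : e * z ≠ 1 := by
    intro h
    apply hez
    have : z⁻¹ = z := inv_eq_of_mul_eq_one_right (by rw [← pow_two]; exact hz2)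
    rw [← this]
    exact eq_inv_of_mul_eq_one_left h
  have hz' := conj_eq_inv_of_inf_eq_bot hz2 (hKn (hSL hzS))
    (inf_centralizer_eq_bot hG S hSL hKn hKo hz hz1)
  have he' := conj_eq_inv_of_inf_eq_bot he2 (hKn (hSL (hWS heW)))
    (inf_centralizer_eq_bot' hG S hSL hKn hKo he2 he1 (key e heW he1 hez))
  have hc := inf_centralizer_eq_bot' hG S hSL hKn hKo hez2 hez1
    (key (e * z) (W.mul_mem heW hzW) hez1 fun h => he1 (mul_eq_right.mp h))
  rw [eq_bot_iff, ← hc]
  refine le_inf le_rfl fun k hk => ?_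
  rw [mem_centralizer_singleton_iff]
  have h1 := hz' k hk
  have h2 : e * k⁻¹ * e⁻¹ = k := by
    have := he' k⁻¹ (inv_mem hk)
    rwa [inv_inv] at this
  have h3 : (e * z) * k * (e * z)⁻¹ = k := by
    calc (e * z) * k * (e * z)⁻¹ = e * (z * k * z⁻¹) * e⁻¹ := by group
      _ = k := by rw [h1, h2]
  exact (mul_inv_eq_iff_eq_mul.mp h3).symm

end OddCore

end Cfsg.Agent.MinSimple.Basic
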