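import Mathlib.Algebra.Module.Basic
import Mathlib.Algebra.Group.Subgroup.Basic
import Mathlib.Algebra.BigOperators.Group.Finset.Basic
import Mathlib.Algebra.GroupWithZero.Action.Defs
import Mathlib.Algebra.BigOperators.GroupWithZero.Action
import Mathlib.Algebra.BigOperators.Intervals
import Mathlib.Data.Nat.Prime.Basic
import Mathlib.Tactic.Group
import Mathlib.Tactic.Abel

/-!
# Case `b = 2`, module part

`M = V₁/⟨z⟩` is an additive group of exponent two, `H = λ^⊥` a subgroup of index two, `l ∈ D ≤ H`, `A` a group of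
commuting involutions acting on `M` with the commutator conditions `Data`.  `B` is a hyperplane of `A`
centralizing `y` (of odd prime order `r`) and the elements of `A ∖ B` invert `y`.
Result (`Inv.*`): if `B ≠ 1`, then `r = 3`, `l + y l + y² l = 0`, `(b + 1) m ∈ I = {0, l, y l, l + y l}` for all `b ∈ B`,
`|B| ≤ 2`; and with a second such configuration `C_{[M, y]}(b) = I`.
-/

set_option autoImplicit false

namespace Cfsg.Agent.MinSimple.BTwoMod

variable {M : Type*} [AddCommGroup M] {Γ : Type*} [Group Γ] [DistribMulAction Γ M]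

/-- The commutator conditions for the action of `A` on `M`. -/
structure Data (A : Subgroup Γ) (H D : AddSubgroup M) (l : M) : Prop where
  two : ∀ m : M, m + m = 0
  l_ne : l ≠ 0
  l_mem : l ∈ D
  D_le : D ≤ H
  H_two : ∀ x x' : M, x ∉ H → x' ∉ H → x + x' ∈ H
  H_ne : ∃ x, x ∉ H
  inv : ∀ w ∈ A, w * w = 1
  comm : ∀ w ∈ A, ∀ w' ∈ A, w * w' = w' * w
  l_fix : ∀ w ∈ A, w • l = l
  ha : ∀ x, x ∉ H → ∀ w ∈ A, w ≠ 1 → w • x + x ∉ D
  hb1 : ∀ x : M, ∀ w ∈ A, w • x + x ∈ H
  hb2 : ∀ x ∈ H, ∀ w ∈ A, w • x + x ∈ D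
  hb3 : ∀ d ∈ D, ∀ w ∈ A, w • d + d = 0 ∨ w • d + d = l
  hd : ∀ d ∈ D, (∀ w ∈ A, w • d = d) → d = 0 ∨ d = l

/-- The operator `1 + y + ⋯ + y^(r-1)`. -/
def E (y : Γ) (r : ℕ) (m : M) : M := ∑ i ∈ Finset.range r, y ^ i • m

/-- The hyperplane `B` of `A` and the element `y` of odd prime order centralized by `B` and inverted by `A ∖ B`. -/
structure Inv (A B : Subgroup Γ) (H D : AddSubgroup M) (l : M) (y : Γ) (r : ℕ) : Prop where
  B_le : B ≤ A
  B_two : ∀ w ∈ A, w ∉ B → ∀ w' ∈ A, w' ∉ B → w * w' ∈ B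
  B_ne : ∃ a ∈ A, a ∉ B
  prime : r.Prime
  odd : r ≠ 2
  y_pow : ∀ m : M, y ^ r • m = m
  y_ne : ∃ m : M, y • m ≠ m
  y_comm : ∀ b ∈ B, ∀ m : M, b • y • m = y • b • m
  y_inv : ∀ w ∈ A, w ∉ B → ∀ m : M, y • w • y • m = w • m
  f0 : E y r l = 0 → ∀ m : M, y • m = m → m ∈ H
  f1 : y • l = l → ∀ m : M, E y r m = 0 → m ∈ H
  k : ¬ ∀ i : ℕ, y ^ i • l ∈ D

section Basic

variable {y : Γ} {r : ℕ}

theorem E_add (m n : M) : E y r (m + n) = E y r m + E y r n := by
  simp only [E, smul_add, Finset.sum_add_distrib]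

theorem E_zero : E y r (0 : M) = 0 := by simp [E]

theorem smul_E (h : ∀ m : M, y ^ r • m = m) (m : M) : y • E y r m = E y r m := by
  have h1 : y • E y r m = ∑ i ∈ Finset.range r, y ^ (i + 1) • m := by
    rw [E, Finset.smul_sum]
    exact Finset.sum_congr rfl fun i _ => by rw [pow_succ', mul_smul]
  have h2 : ∑ i ∈ Finset.range (r + 1), y ^ i • m = (∑ i ∈ Finset.range r, y ^ (i + 1) • m) + y ^ 0 • m :=
    Finset.sum_range_succ' _ _
  rw [Finset.sum_range_succ, h, pow_zero, one_smul] at h2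
  rw [h1]
  exact (add_right_cancel h2).symm

theorem E_smul (h : ∀ m : M, y ^ r • m = m) (m : M) : E y r (y • m) = E y r m := by
  rw [← smul_E h m, E, E, Finset.smul_sum]
  exact Finset.sum_congr rfl fun i _ => by rw [← mul_smul, ← mul_smul, ← pow_succ, ← pow_succ']

theorem E_comm {w : Γ} (hw : ∀ m : M, w • y • m = y • w • m) (m : M) : E y r (w • m) = w • E y r m := by
  rw [E, E, Finset.smul_sum]
  have key : ∀ i : ℕ, y ^ i • w • m = w • y ^ i • m := by
    intro i
    induction i with
    | zero => simp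
    | succ i ih => rw [pow_succ', mul_smul, mul_smul, ih, hw]
  exact Finset.sum_congr rfl fun i _ => key i

theorem pow_inv_comm {w : Γ} (hw : ∀ m : M, y • w • y • m = w • m) (i : ℕ) (m : M) :
    y ^ i • w • y ^ i • m = w • m := by
  induction i generalizing m with
  | zero => simp
  | succ i ih =>
    have h1 : y ^ (i + 1) • w • y ^ (i + 1) • m = y ^ i • (y • w • y • (y ^ i • m)) := by
      rw [pow_succ, mul_smul, ← pow_succ, pow_succ' y i, mul_smul]
    rw [h1, hw, ih]

theorem E_inv (h : ∀ m : M, y ^ r • m = m) {w : Γ} (hw : ∀ m : M, y • w • y • m = w • m) (m : M) :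
    E y r (w • m) = w • E y r m := by
  have h1 : w • E y r m = ∑ i ∈ Finset.range r, w • y ^ i • m := by rw [E, Finset.smul_sum]
  have key : ∀ i ≤ r, w • y ^ i • m = y ^ (r - i) • w • m := by
    intro i hi
    have h2 := pow_inv_comm hw i m
    have h3 : y ^ (r - i) • (y ^ i • (w • y ^ i • m)) = y ^ (r - i) • w • m := by rw [h2]
    rw [← mul_smul (y ^ (r - i)), ← pow_add, Nat.sub_add_cancel hi, h] at h3
    exact h3
  rw [h1, E]
  have h4 : ∑ i ∈ Finset.range r, w • y ^ i • m = ∑ i ∈ Finset.range r, y ^ (r - i) • w • m :=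
    Finset.sum_congr rfl fun i hi => key i (Finset.mem_range.1 hi).le
  rw [h4]
  have h5 : ∑ i ∈ Finset.range (r + 1), y ^ (r - i) • w • m = ∑ i ∈ Finset.range (r + 1), y ^ i • w • m := by
    have := Finset.sum_range_reflect (fun i => y ^ i • w • m) (r + 1)
    rw [← this]
    refine Finset.sum_congr rfl fun i _ => ?_
    rw [show r + 1 - 1 - i = r - i by omega]
  rw [Finset.sum_range_succ, Finset.sum_range_succ, Nat.sub_self, pow_zero, h, one_smul] at h5
  exact (add_right_cancel h5).symm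

theorem pow_fix {m : M} (h : y • m = m) (i : ℕ) : y ^ i • m = m := by
  induction i with
  | zero => simp
  | succ i ih => rw [pow_succ', mul_smul, ih, h]

theorem fix_of_sq (hr : r % 2 = 1) (h : ∀ m : M, y ^ r • m = m) {m : M} (h2 : y • y • m = m) : y • m = m := by
  have h3 : ∀ i : ℕ, y ^ (2 * i) • m = m := by
    intro i
    induction i with
    | zero => simp
    | succ i ih => rw [show 2 * (i + 1) = 2 * i + 2 by ring, pow_add, mul_smul, pow_two, mul_smul, h2, ih]
  have h4 := h m
  rw [show r = 2 * (r / 2) + 1 by omega, pow_succ', mul_smul, h3] at h4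
  exact h4

theorem E_fix (two : ∀ m : M, m + m = 0) (hr : r % 2 = 1) {m : M} (h : y • m = m) : E y r m = m := by
  have h1 : E y r m = r • m := by
    rw [E, Finset.sum_congr rfl fun i _ => pow_fix h i, Finset.sum_const, Finset.card_range]
  rw [h1, show r = 2 * (r / 2) + 1 by omega, add_smul, one_smul, mul_comm, mul_smul, two_smul, two,
    smul_zero, zero_add]

end Basic

namespace Data

variable {A : Subgroup Γ} {H D : AddSubgroup M} {l : M} (h : Data A H D l)
include h

theorem add_left (x y : M) : x + (x + y) = y := by rw [← add_assoc, h.two, zero_add]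

theorem add_right (x y : M) : x + y + y = x := by rw [add_assoc, h.two, add_zero]

theorem eq_of_add {x y : M} (hxy : x + y = 0) : x = y := by
  have := h.add_right x y
  rw [hxy, zero_add] at this
  exact this.symm

theorem smul_mem_H {w : Γ} (hw : w ∈ A) {x : M} (hx : x ∈ H) : w • x ∈ H := by
  have := H.add_mem (h.hb1 x w hw) hx
  rwa [h.add_right] at this

theorem smul_mem_D {w : Γ} (hw : w ∈ A) {x : M} (hx : x ∈ D) : w • x ∈ D := by
  have := D.add_mem (h.hb2 x (h.D_le hx) w hw) hx
  rwa [h.add_right] at this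

/-- `x ∈ M`, `w ∈ A`: `(w + 1) x` is fixed by `w` -/
theorem smul_add_self {w : Γ} (hw : w ∈ A) (x : M) : w • (w • x + x) = w • x + x := by
  rw [smul_add, ← mul_smul, h.inv w hw, one_smul, add_comm]

theorem smul_comm' {w w' : Γ} (hw : w ∈ A) (hw' : w' ∈ A) (x : M) : w • w' • x = w' • w • x := by
  rw [← mul_smul, ← mul_smul, h.comm w hw w' hw']

theorem l_mem_H : l ∈ H := h.D_le h.l_mem

end Data

namespace Inv

variable {A B : Subgroup Γ} {H D : AddSubgroup M} {l : M} {y : Γ} {r : ℕ}
variable (h : Data A H D l) (hy : Inv A B H D l y r)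
include h hy

omit h in
theorem r_odd : r % 2 = 1 := by
  rcases hy.prime.eq_two_or_odd with h | h
  · exact absurd h hy.odd
  · exact h

omit h in
/-- `E` commutes with `A` -/
theorem E_smulA {w : Γ} (hw : w ∈ A) (m : M) : E y r (w • m) = w • E y r m := by
  by_cases hB : w ∈ B
  · exact E_comm (hy.y_comm w hB) m
  · exact E_inv hy.y_pow (hy.y_inv w hw hB) m

theorem E_E (m : M) : E y r (E y r m) = E y r m :=
  E_fix h.two hy.r_odd (smul_E hy.y_pow m)

theorem E_add_self (m : M) : E y r (m + E y r m) = 0 := by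
  rw [E_add, hy.E_E h, h.two]

theorem eq_zero_of_fix {n : M} (hn : E y r n = 0) (hn' : y • n = n) : n = 0 := by
  rw [← E_fix h.two hy.r_odd hn', hn]

omit h in
theorem fix_of_E {m : M} (hm : E y r m = m) : y • m = m := by
  rw [← hm]; exact smul_E hy.y_pow m

omit h in
/-- if `w ∈ A ∖ B` fixes `n` and `y n` then `y n = n` -/
theorem fix_of_two {w : Γ} (hw : w ∈ A) (hwB : w ∉ B) {n : M} (h1 : w • n = n) (h2 : w • y • n = y • n) :
    y • n = n := by
  apply fix_of_sq hy.r_odd hy.y_pow
  have := hy.y_inv w hw hwB n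
  rw [h2, h1] at this
  exact this

/-- if `w ∈ A ∖ B` fixes all `y^i n`, `n ∈ M₁`, then `n = 0` -/
theorem eq_zero_of_two {w : Γ} (hw : w ∈ A) (hwB : w ∉ B) {n : M} (hn : E y r n = 0) (h1 : w • n = n)
    (h2 : w • y • n = y • n) : n = 0 :=
  hy.eq_zero_of_fix h hn (hy.fix_of_two hw hwB h1 h2)

/-- (1) `l ∉ M₀` -/
theorem l_not_fix : y • l ≠ l := by
  intro hl
  obtain ⟨a, ha, haB⟩ := hy.B_ne
  have h1 : ∀ n : M, E y r n = 0 → a • n = n := by
    intro n hn
    have hd : a • n + n ∈ D := h.hb2 n (hy.f1 hl n hn) a ha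
    have hE : E y r (a • n + n) = 0 := by rw [E_add, hy.E_smulA ha, hn, smul_zero, zero_add]
    have hfix : ∀ w ∈ A, w • (a • n + n) = a • n + n := by
      intro w hw
      rcases h.hb3 _ hd w hw with h2 | h2
      · exact h.eq_of_add h2
      · exfalso
        have h3 : E y r (w • (a • n + n) + (a • n + n)) = 0 := by
          rw [E_add, hy.E_smulA hw, hE, smul_zero, zero_add]
        rw [h2] at h3
        exact h.l_ne (hy.eq_zero_of_fix h h3 hl)
    rcases h.hd _ hd hfix with h2 | h2
    · exact h.eq_of_add h2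
    · exfalso
      rw [h2] at hE
      exact h.l_ne (hy.eq_zero_of_fix h hE hl)
  obtain ⟨m, hm⟩ := hy.y_ne
  apply hm
  have h2 : E y r (y • m + m) = 0 := by rw [E_add, E_smul hy.y_pow, h.two]
  have h3 : E y r (y • (y • m + m)) = 0 := by rw [E_smul hy.y_pow, h2]
  have := hy.eq_zero_of_two h ha haB h2 (h1 _ h2) (h1 _ h3)
  exact h.eq_of_add this

/-- (2) if `B ≠ 1` then `l ∈ M₁` -/
theorem E_l {b : Γ} (hb : b ∈ B) (hb1 : b ≠ 1) : E y r l = 0 := by
  by_contra hl
  obtain ⟨a, ha, haB⟩ := hy.B_ne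
  -- `D ∩ M₁ = 0`
  have h0 : ∀ d ∈ D, E y r d = 0 → d = 0 := by
    intro d hd hE
    have hfix : ∀ w ∈ A, w • d = d := by
      intro w hw
      rcases h.hb3 _ hd w hw with h2 | h2
      · exact h.eq_of_add h2
      · exfalso
        apply hl
        rw [← h2, E_add, hy.E_smulA hw, hE, smul_zero, zero_add]
    rcases h.hd _ hd hfix with h2 | h2
    · exact h2
    · exact absurd (h2 ▸ hE) hl
  -- `A` centralizes `H ∩ M₁`
  have h1 : ∀ n ∈ H, E y r n = 0 → ∀ w ∈ A, w • n = n := by
    intro n hn hE w hw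
    apply h.eq_of_add
    apply h0 _ (h.hb2 n hn w hw)
    rw [E_add, hy.E_smulA hw, hE, smul_zero, zero_add]
  have hbA := hy.B_le hb
  -- all elements of `M₁` are in `H`
  have h2 : ∀ n, E y r n = 0 → n ∈ H := by
    intro n hE
    by_contra hn
    have h3 : ∀ i : ℕ, y ^ i • n ∉ H := by
      intro i hi
      have hE' : E y r (y ^ i • n) = 0 := by
        clear hi
        induction i with
        | zero => simpa using hE
        | succ i ih => rw [pow_succ', mul_smul, E_smul hy.y_pow, ih]
      have h4 := h1 _ hi hE' b hbA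
      have h5 : ∀ j : ℕ, b • y ^ j • n = y ^ j • b • n := by
        intro j
        induction j with
        | zero => simp
        | succ j ih => rw [pow_succ', mul_smul, hy.y_comm b hb, ih, mul_smul]
      rw [h5] at h4
      have h6 : b • n = n := (smul_left_cancel_iff (y ^ i)).1 h4
      have h7 := h.ha n hn b hbA hb1
      rw [h6, h.two] at h7
      exact h7 D.zero_mem
    have h4 : y • n + n ∈ H := h.H_two _ _ (by simpa using h3 1) hn
    have h5 : y • (y • n + n) ∈ H := by
      rw [smul_add]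
      refine h.H_two _ _ ?_ (by simpa using h3 1)
      have := h3 2
      rwa [pow_two, mul_smul] at this
    have hE1 : E y r (y • n + n) = 0 := by rw [E_add, E_smul hy.y_pow, h.two]
    have hE2 : E y r (y • (y • n + n)) = 0 := by rw [E_smul hy.y_pow, hE1]
    have h6 := hy.eq_zero_of_two h ha haB hE1 (h1 _ h4 hE1 a ha) (h1 _ h5 hE2 a ha)
    have h7 := hy.eq_zero_of_fix h hE (h.eq_of_add h6)
    exact hn (h7 ▸ H.zero_mem)
  obtain ⟨m, hm⟩ := hy.y_ne
  apply hm
  have hE1 : E y r (y • m + m) = 0 := by rw [E_add, E_smul hy.y_pow, h.two]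
  have hE2 : E y r (y • (y • m + m)) = 0 := by rw [E_smul hy.y_pow, hE1]
  exact h.eq_of_add (hy.eq_zero_of_two h ha haB hE1 (h1 _ (h2 _ hE1) hE1 a ha) (h1 _ (h2 _ hE2) hE2 a ha))

/-- (3) if `B ≠ 1` then `A` centralizes `M₀` -/
theorem fix_of_fix {b : Γ} (hb : b ∈ B) (hb1 : b ≠ 1) {m : M} (hm : y • m = m) {w : Γ} (hw : w ∈ A) :
    w • m = m := by
  have hEl := hy.E_l h hb hb1
  have h0 : ∀ d ∈ D, y • d = d → d = 0 := by
    intro d hd hyd
    have hE := E_fix h.two hy.r_odd hyd
    have hfix : ∀ w ∈ A, w • d = d := by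
      intro w hw
      rcases h.hb3 _ hd w hw with h2 | h2
      · exact h.eq_of_add h2
      · exfalso
        have h3 : E y r (w • d + d) = w • d + d := by rw [E_add, hy.E_smulA hw, hE]
        rw [h2, hEl] at h3
        exact h.l_ne h3.symm
    rcases h.hd _ hd hfix with h2 | h2
    · exact h2
    · exfalso
      rw [h2, hEl] at hE
      exact h.l_ne hE.symm
  apply h.eq_of_add
  apply h0 _ (h.hb2 m (hy.f0 hEl m hm) w hw)
  have hE := E_fix h.two hy.r_odd hm
  have h3 : E y r (w • m + m) = w • m + m := by rw [E_add, hy.E_smulA hw, hE]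
  exact hy.fix_of_E h3

omit hy in
/-- an element of `A`, not `1`, moves every `x ∉ H` -/
theorem mem_H_of_fix {w : Γ} (hw : w ∈ A) (hw1 : w ≠ 1) {x : M} (hx : w • x = x) : x ∈ H := by
  by_contra hn
  have h7 := h.ha x hn w hw hw1
  rw [hx, h.two] at h7
  exact h7 D.zero_mem

omit h in
theorem smul_pow_B {b : Γ} (hb : b ∈ B) (i : ℕ) (m : M) : b • y ^ i • m = y ^ i • b • m := by
  induction i with
  | zero => simp
  | succ j ih => rw [pow_succ', mul_smul, hy.y_comm b hb, ih, mul_smul]

/-- (4) the elements of `A ∖ B` move `y l` to `y l + l` -/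
theorem smul_yl {b : Γ} (hb : b ∈ B) (hb1 : b ≠ 1) {a : Γ} (ha : a ∈ A) (haB : a ∉ B) :
    a • y • l = y • l + l := by
  have hbl : ∀ b' ∈ B, b' • y • l = y • l := fun b' hb' => by
    rw [hy.y_comm b' hb', h.l_fix b' (hy.B_le hb')]
  have hH : y • l ∈ H := mem_H_of_fix h (hy.B_le hb) hb1 (hbl b hb)
  have hd := h.hb2 _ hH a ha
  have hB : ∀ b' ∈ B, b' • (a • y • l + y • l) = a • y • l + y • l := by
    intro b' hb'
    rw [smul_add, h.smul_comm' (hy.B_le hb') ha, hbl b' hb']
  have hfix : ∀ w ∈ A, w • (a • y • l + y • l) = a • y • l + y • l := by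
    intro w hw
    by_cases hwB : w ∈ B
    · exact hB w hwB
    · -- `w = b' a`
      have h1 : w * a ∈ B := hy.B_two w hw hwB a ha haB
      have h2 : w = (w * a) * a := by rw [mul_assoc, h.inv a ha, mul_one]
      rw [h2, mul_smul, h.smul_add_self ha, hB _ h1]
  rcases h.hd _ hd hfix with h2 | h2
  · exfalso
    have h3 : a • y • l = y • l := h.eq_of_add h2
    exact hy.l_not_fix h (hy.fix_of_two ha haB (h.l_fix a ha) h3)
  · have h3 := h.add_right (a • y • l) (y • l)
    rw [h2] at h3
    rw [← h3, add_comm]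

/-- (4) `l + y l + y² l = 0` -/
theorem yyl {b : Γ} (hb : b ∈ B) (hb1 : b ≠ 1) : y • y • l = y • l + l := by
  obtain ⟨a, ha, haB⟩ := hy.B_ne
  have h1 := hy.y_inv a ha haB l
  rw [hy.smul_yl h hb hb1 ha haB, h.l_fix a ha, smul_add] at h1
  -- y y l + y l = l
  calc y • y • l = y • y • l + y • l + y • l := (h.add_right _ _).symm
    _ = y • l + l := by rw [h1, add_comm]

theorem yyyl {b : Γ} (hb : b ∈ B) (hb1 : b ≠ 1) : y • y • y • l = l := by
  rw [hy.yyl h hb hb1, smul_add, hy.yyl h hb hb1, add_comm (y • l) l, h.add_right]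

/-- (4) `r = 3` -/
theorem r_eq {b : Γ} (hb : b ∈ B) (hb1 : b ≠ 1) : r = 3 := by
  by_contra h3
  have hc : Nat.Coprime 3 r := (Nat.coprime_primes Nat.prime_three hy.prime).2 (Ne.symm h3)
  have hl3 : y ^ 3 • l = l := by
    rw [pow_succ, pow_two, mul_smul, mul_smul, hy.yyyl h hb hb1]
  have h1 : ∀ k : ℕ, y ^ (3 * k) • l = l := by
    intro k
    induction k with
    | zero => simp
    | succ k ih => rw [show 3 * (k + 1) = 3 * k + 3 by ring, pow_add, mul_smul, hl3, ih]
  have h2 : ∀ k : ℕ, y ^ (r * k) • l = l := by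
    intro k
    induction k with
    | zero => simp
    | succ k ih => rw [show r * (k + 1) = r * k + r by ring, pow_add, mul_smul, hy.y_pow, ih]
  -- `3 u = r v + 1`
  obtain ⟨u, hu⟩ : ∃ u v : ℕ, 3 * u = r * v + 1 := by
    have hr : r % 3 = 1 ∨ r % 3 = 2 := by
      have : ¬ 3 ∣ r := fun hd => by
        have := (Nat.Coprime.eq_one_of_dvd hc hd)
        omega
      omega
    rcases hr with hr | hr
    · exact ⟨(r * 2 + 1) / 3, 2, by omega⟩
    · exact ⟨(r + 1) / 3, 1, by omega⟩
  obtain ⟨v, hv⟩ := hu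
  have h4 := h1 u
  rw [hv, pow_add, mul_smul, pow_one] at h4
  have h5 : y ^ (r * v) • y • l = y ^ (r * v) • l := by rw [h4, h2]
  exact hy.l_not_fix h ((smul_left_cancel_iff _).1 h5)

/-- on `M₁`: `n + y n + y² n = 0` -/
theorem yyn {b : Γ} (hb : b ∈ B) (hb1 : b ≠ 1) {n : M} (hn : E y r n = 0) : y • y • n = y • n + n := by
  have h3 := hy.r_eq h hb hb1
  subst h3
  simp only [E, Finset.sum_range_succ, Finset.sum_range_zero, pow_zero, one_smul, zero_add, pow_one, pow_two,
    mul_smul] at hn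
  have := h.eq_of_add hn
  rw [← this, add_comm]

/-- if `y l ∈ D` then all `y^i l ∈ D` -/
theorem yl_not_mem {b : Γ} (hb : b ∈ B) (hb1 : b ≠ 1) : y • l ∉ D := by
  intro hD
  apply hy.k
  have hD2 : y • y • l ∈ D := by rw [hy.yyl h hb hb1]; exact D.add_mem hD h.l_mem
  have key : ∀ i : ℕ, y ^ i • l ∈ D ∧ y ^ i • y • l ∈ D ∧ y ^ i • y • y • l ∈ D := by
    intro i
    induction i with
    | zero => simpa using ⟨h.l_mem, hD, hD2⟩
    | succ i ih =>
      obtain ⟨h1, h2, h3⟩ := ih
      refine ⟨?_, ?_, ?_⟩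
      · rw [pow_succ, mul_smul]; exact h2
      · rw [pow_succ, mul_smul]; exact h3
      · rw [pow_succ, mul_smul, hy.yyyl h hb hb1]; exact h1
  exact fun i => (key i).1

/-- (5) `B` is quadratic -/
theorem quad {b b' : Γ} (hb : b ∈ B) (hb1 : b ≠ 1) (hb' : b' ∈ B) (x : M) : b • (b' • x + x) = b' • x + x := by
  have hbA := hy.B_le hb
  have hbA' := hy.B_le hb'
  -- `κ x = (b + 1)(b' + 1) x`
  have hmem : ∀ x : M, b • (b' • x + x) + (b' • x + x) ∈ D := fun x => h.hb2 _ (h.hb1 x b' hbA') b hbA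
  have hyk : ∀ x : M, b • (b' • (y • x) + y • x) + (b' • (y • x) + y • x) =
      y • (b • (b' • x + x) + (b' • x + x)) := by
    intro x
    simp only [smul_add]
    rw [hy.y_comm b' hb', hy.y_comm b hb, hy.y_comm b hb]
  have hne : ∀ x : M, b • (b' • x + x) + (b' • x + x) ≠ l := by
    intro x hx
    have h1 := hmem (y • x)
    rw [hyk, hx] at h1
    exact hy.yl_not_mem h hb hb1 h1
  have hwk : ∀ w ∈ A, ∀ x : M, b • (b' • (w • x) + w • x) + (b' • (w • x) + w • x) =
      w • (b • (b' • x + x) + (b' • x + x)) := by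
    intro w hw x
    simp only [smul_add]
    rw [h.smul_comm' hbA' hw, h.smul_comm' hbA hw, h.smul_comm' hbA hw]
  have hadd : ∀ x x' : M, b • (b' • (x + x') + (x + x')) + (b' • (x + x') + (x + x')) =
      (b • (b' • x + x) + (b' • x + x)) + (b • (b' • x' + x') + (b' • x' + x')) := by
    intro x x'
    simp only [smul_add]
    abel
  have hfix : ∀ w ∈ A, w • (b • (b' • x + x) + (b' • x + x)) = b • (b' • x + x) + (b' • x + x) := by
    intro w hw
    rcases h.hb3 _ (hmem x) w hw with h2 | h2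
    · exact h.eq_of_add h2
    · exfalso
      rw [← hwk w hw, ← hadd] at h2
      exact hne _ h2
  rcases h.hd _ (hmem x) hfix with h2 | h2
  · exact h.eq_of_add h2
  · exact absurd h2 (hne x)

/-- elements of `M` fixed by some `a ∈ A ∖ B` are mapped to `{0, l}` by `b + 1` -/
theorem comm_of_fix {b : Γ} (hb : b ∈ B) {a : Γ} (ha : a ∈ A) (haB : a ∉ B) {t : M}
    (ht : a • t = t) : b • t + t = 0 ∨ b • t + t = l := by
  have ha1 : a ≠ 1 := by rintro rfl; exact haB B.one_mem
  have hbA := hy.B_le hb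
  have hH : t ∈ H := mem_H_of_fix h ha ha1 ht
  refine h.hd _ (h.hb2 t hH b hbA) ?_
  have hB : ∀ b' ∈ B, b' • (b • t + t) = b • t + t := by
    intro b' hb'
    by_cases h1 : b' = 1
    · rw [h1, one_smul]
    · exact hy.quad h hb' h1 hb t
  have haf : a • (b • t + t) = b • t + t := by
    rw [smul_add, h.smul_comm' ha hbA, ht]
  intro w hw
  by_cases hwB : w ∈ B
  · exact hB w hwB
  · have h1 : w * a ∈ B := hy.B_two w hw hwB a ha haB
    have h2 : w = (w * a) * a := by rw [mul_assoc, h.inv a ha, mul_one]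
    rw [h2, mul_smul, haf, hB _ h1]

/-- (6) `(b + 1) m ∈ I` -/
theorem comm_mem {b : Γ} (hb : b ∈ B) (hb1 : b ≠ 1) (m : M) :
    b • m + m = 0 ∨ b • m + m = l ∨ b • m + m = y • l ∨ b • m + m = y • l + l := by
  obtain ⟨a, ha, haB⟩ := hy.B_ne
  -- reduce to `M₁`
  have hred : b • m + m = b • (m + E y r m) + (m + E y r m) := by
    have h1 : b • E y r m = E y r m :=
      hy.fix_of_fix h hb hb1 (smul_E hy.y_pow m) (hy.B_le hb)
    rw [smul_add, h1]
    have : b • m + E y r m + (m + E y r m) = b • m + m + (E y r m + E y r m) := by abel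
    rw [this, h.two, add_zero]
  rw [hred]
  set n := m + E y r m with hn
  have hE : E y r n = 0 := hy.E_add_self h m
  -- `n = t + y t'`
  set t' := a • n + n with ht'
  set t := n + y • t' with ht
  have hEt' : E y r t' = 0 := by rw [ht', E_add, hy.E_smulA ha, hE, smul_zero, zero_add]
  have hat' : a • t' = t' := h.smul_add_self ha n
  have hay : a • y • t' = y • t' + t' := by
    have h1 := hy.y_inv a ha haB t'
    rw [hat'] at h1
    -- y • a • y • t' = t', so a • y • t' = y⁻¹ t' = y y t'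
    have h2 : y • y • y • t' = t' := by
      rw [hy.yyn h hb hb1 hEt', smul_add, hy.yyn h hb hb1 hEt', add_comm (y • t') t', h.add_right]
    have h3 : y • a • y • t' = y • y • y • t' := by rw [h1, h2]
    rw [(smul_left_cancel_iff y).1 h3, hy.yyn h hb hb1 hEt']
  have hat : a • t = t := by
    have han : a • n = n + t' := by rw [ht', add_comm (a • n), h.add_left]
    rw [ht, smul_add, hay, han]
    have : n + t' + (y • t' + t') = n + y • t' + (t' + t') := by abel
    rw [this, h.two, add_zero]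
  have hn' : n = t + y • t' := by rw [ht, h.add_right]
  have h1 := hy.comm_of_fix h hb ha haB hat
  have h2 := hy.comm_of_fix h hb ha haB hat'
  have h3 : b • n + n = (b • t + t) + y • (b • t' + t') := by
    rw [hn', smul_add b t, smul_add y (b • t') t', hy.y_comm b hb]
    abel
  rw [h3]
  rcases h1 with h1 | h1 <;> rcases h2 with h2 | h2 <;> rw [h1, h2]
  · left; simp
  · right; right; left; simp
  · right; left; simp
  · right; right; right; rw [add_comm]

/-- (7) `|B| ≤ 2` -/
theorem eq_of_ne_one {b b' : Γ} (hb : b ∈ B) (hb1 : b ≠ 1) (hb' : b' ∈ B) (hb1' : b' ≠ 1) : b = b' := by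
  obtain ⟨x, hx⟩ := h.H_ne
  have key : ∀ b ∈ B, b ≠ 1 → b • x + x = y • l ∨ b • x + x = y • l + l := by
    intro b hb hb1
    have h1 := h.ha x hx b (hy.B_le hb) hb1
    rcases hy.comm_mem h hb hb1 x with h2 | h2 | h2 | h2
    · rw [h2] at h1; exact absurd D.zero_mem h1
    · rw [h2] at h1; exact absurd h.l_mem h1
    · exact Or.inl h2
    · exact Or.inr h2
  have hsum : (b • x + x) + (b' • x + x) = 0 ∨ (b • x + x) + (b' • x + x) = l := by
    have e : ∀ u v : M, u + (u + v) = v := h.add_left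
    rcases key b hb hb1 with h1 | h1 <;> rcases key b' hb' hb1' with h2 | h2 <;> rw [h1, h2]
    · left; exact h.two _
    · right; exact e _ _
    · right; rw [add_comm (y • l) l, h.add_right]
    · left; exact h.two _
  have hq := hy.quad h hb hb1 hb' x
  have hbb : (b * b') • x + x = (b • x + x) + (b' • x + x) := by
    rw [smul_add] at hq
    -- b b' x + b x = b' x + x
    have h1 : b • b' • x = (b' • x + x) + b • x := by rw [← hq, h.add_right]
    rw [mul_smul, h1]
    abel
  by_contra hne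
  have hbb1 : b * b' ≠ 1 := by
    intro h1
    apply hne
    have h2 := h.inv b' (hy.B_le hb')
    have : b * b' = b' * b' := by rw [h1, h2]
    exact mul_right_cancel this
  have h1 := h.ha x hx (b * b') (A.mul_mem (hy.B_le hb) (hy.B_le hb')) hbb1
  rw [hbb] at h1
  rcases hsum with h2 | h2 <;> rw [h2] at h1
  · exact h1 D.zero_mem
  · exact h1 h.l_mem

/-- (8) with a second hyperplane `B'` (with `y'`) one gets `C_{M₁}(b) = I` -/
theorem mem_of_fix {B' : Subgroup Γ} {y' : Γ} {r' : ℕ} (hy' : Inv A B' H D l y' r') {a b : Γ} (hb : b ∈ B)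
    (hb1 : b ≠ 1) (hbB' : b ∉ B') (ha : a ∈ B') (haB : a ∉ B) {n : M} (hE : E y r n = 0) (hbn : b • n = n) :
    n = 0 ∨ n = l ∨ n = y • l ∨ n = y • l + l := by
  have ha1 : a ≠ 1 := by rintro rfl; exact haB B.one_mem
  have haA := hy'.B_le ha
  have hbA := hy.B_le hb
  -- for `n` fixed by `b`: `(a + 1) n ∈ {0, l}`
  have key : ∀ n : M, b • n = n → a • n + n = 0 ∨ a • n + n = l := by
    intro n hbn
    have h1 : b • (a • n + n) = a • n + n := by rw [smul_add, h.smul_comm' hbA haA, hbn]
    have h2 := hy'.smul_yl h ha ha1 hbA hbB'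
    rcases hy'.comm_mem h ha ha1 n with h3 | h3 | h3 | h3
    · exact Or.inl h3
    · exact Or.inr h3
    · exfalso
      rw [h3, h2] at h1
      have : l = 0 := by
        have := congrArg (fun u => y' • l + u) h1
        simp only [h.two, h.add_left] at this
        exact this
      exact h.l_ne this
    · exfalso
      rw [h3, smul_add, h2, h.l_fix b hbA, h.add_right] at h1
      have : (0 : M) = l := by
        have := congrArg (fun u => y' • l + u) h1
        simp only [h.two, h.add_left] at this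
        exact this
      exact h.l_ne this.symm
  -- fixed by `a` too: in `{0, l}`
  have key2 : ∀ n : M, E y r n = 0 → b • n = n → a • n = n → n = 0 ∨ n = l := by
    intro n hE hbn han
    have h1 : b • y • n = y • n := by rw [hy.y_comm b hb, hbn]
    have h2 := key _ h1
    have h3 : y • y • y • n = n := by
      rw [hy.yyn h hb hb1 hE, smul_add, hy.yyn h hb hb1 hE, add_comm (y • n) n, h.add_right]
    have h4 := hy.y_inv a haA haB n
    rw [han] at h4
    have h5 : y • a • y • n = y • y • y • n := by rw [h4, h3]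
    rw [(smul_left_cancel_iff y).1 h5, hy.yyn h hb hb1 hE, add_comm (y • n) n, h.add_right] at h2
    exact h2
  rcases key n hbn with h1 | h1
  · rcases key2 n hE hbn (h.eq_of_add h1) with h2 | h2
    · exact Or.inl h2
    · exact Or.inr (Or.inl h2)
  · -- replace `n` by `n + y l`
    have h2 := hy.smul_yl h hb hb1 haA haB
    have hE' : E y r (n + y • l) = 0 := by
      rw [E_add, E_smul hy.y_pow, hE, hy.E_l h hb hb1, zero_add]
    have hb' : b • (n + y • l) = n + y • l := by
      rw [smul_add, hbn, hy.y_comm b hb, h.l_fix b hbA]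
    have ha' : a • (n + y • l) = n + y • l := by
      have h3 : a • n = n + l := by rw [← h1, add_comm (a • n), h.add_left]
      rw [smul_add, h2, h3]
      have : n + l + (y • l + l) = n + y • l + (l + l) := by abel
      rw [this, h.two, add_zero]
    rcases key2 _ hE' hb' ha' with h3 | h3
    · right; right; left
      exact h.eq_of_add h3
    · right; right; right
      rw [← h.add_right n (y • l), h3, add_comm]

end Inv

end Cfsg.Agent.MinSimple.BTwoMod
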