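import Mathlib
import Cfsg.Agent.S0044
import Cfsg.Agent.Lib.Cores

/-!
# (E1) with `|V| = 4`, `b` odd, `k = 1`, rank 2: the module part

`H` is a finite solvable group acting faithfully on the finite additive group `M` of exponent two, `O₂(H) = 1`,
`E ⊆ M` is an orbit generating `M`, and `a : M → H` an `H`-equivariant assignment of involutions with
`|[M, a e]| = 4` and `[M, a e] ∩ E = {e}`. If no `x ∈ O₃(H)` of order 3 inverted by `a e` has `|[M, x]| = 4`, then
`O_p(H) = 1` for all primes `p ≠ 5` (`RT.pCore_eq_bot`).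
-/

set_option autoImplicit false
set_option linter.unusedSectionVars false
set_option linter.style.haveILetI false

namespace Cfsg.Agent.MinSimple.OddRTMod

open Subgroup Cfsg

/-! ### fixed points and commutators -/

section basic

variable {H : Type*} (M : Type*) [Group H] [AddCommGroup M] [DistribMulAction H M]

/-- `m ↦ x m + m` -/
def opr (x : H) : M →+ M := DistribSMul.toAddMonoidHom M x + AddMonoidHom.id M

/-- fixed points -/
def fx (x : H) : AddSubgroup M where
  carrier := {m | x • m = m}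
  add_mem' := by
    intro a b ha hb
    rw [Set.mem_ofPred_eq] at *
    rw [smul_add, ha, hb]
  zero_mem' := smul_zero x
  neg_mem' := by
    intro a ha
    rw [Set.mem_ofPred_eq] at *
    rw [smul_neg, ha]

/-- `[M, x]` -/
def cm (x : H) : AddSubgroup M := (opr M x).range

variable {M}

theorem opr_apply (x : H) (m : M) : opr M x m = x • m + m := rfl

theorem mem_fx {x : H} {m : M} : m ∈ fx M x ↔ x • m = m := Iff.rfl

theorem mem_cm {x : H} {m : M} : m ∈ cm M x ↔ ∃ n : M, x • n + n = m := Iff.rfl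

theorem mem_cm_self (x : H) (m : M) : x • m + m ∈ cm M x := ⟨m, rfl⟩

theorem smul_mem_cm {g x : H} {m : M} (h : m ∈ cm M x) : g • m ∈ cm M (g * x * g⁻¹) := by
  obtain ⟨n, rfl⟩ := h
  refine ⟨g • n, ?_⟩
  rw [opr_apply, opr_apply, smul_add, ← mul_smul, inv_mul_cancel_right, mul_smul]

theorem smul_mem_cm_of_comm {g x : H} (hg : g * x = x * g) {m : M} (h : m ∈ cm M x) :
    g • m ∈ cm M x := by
  have := smul_mem_cm (g := g) h
  rwa [hg, mul_inv_cancel_right] at this

theorem cm_inv (x : H) : cm M x⁻¹ = cm M x := by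
  have key : ∀ x : H, cm M x⁻¹ ≤ cm M x := by
    rintro x _ ⟨n, rfl⟩
    refine ⟨x⁻¹ • n, ?_⟩
    rw [opr_apply, opr_apply, smul_inv_smul, add_comm]
  refine le_antisymm (key x) ?_
  have := key x⁻¹
  rwa [inv_inv] at this

theorem smul_mem_cm_of_inv {g x : H} (hg : g * x * g⁻¹ = x⁻¹) {m : M} (h : m ∈ cm M x) :
    g • m ∈ cm M x := by
  have := smul_mem_cm (g := g) h
  rwa [hg, cm_inv] at this

theorem smul_self_mem_cm {x : H} {m : M} (h : m ∈ cm M x) : x • m ∈ cm M x :=
  smul_mem_cm_of_comm rfl h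

theorem smul_mem_fx_of_comm {g x : H} (hg : g * x = x * g) {m : M} (h : m ∈ fx M x) :
    g • m ∈ fx M x := by
  rw [mem_fx] at *
  rw [← mul_smul, ← hg, mul_smul, h]

theorem smul_mem_fx_of_inv {g x : H} (hg : g * x * g⁻¹ = x⁻¹) {m : M} (h : m ∈ fx M x) :
    g • m ∈ fx M x := by
  rw [mem_fx] at *
  have h1 : x⁻¹ • g • m = g • m := by
    rw [← hg, mul_smul, mul_smul, inv_smul_smul, h]
  have := congrArg (x • ·) h1
  simp only [smul_inv_smul] at this
  exact this.symm

theorem card_cm_mul_card_fx (two : ∀ m : M, m + m = 0) (x : H) :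
    Nat.card (fx M x) * Nat.card (cm M x) = Nat.card M := by
  have h1 : (opr M x).ker = fx M x := by
    ext m
    rw [AddMonoidHom.mem_ker, opr_apply, mem_fx]
    constructor
    · intro h
      have h2 := two m
      exact add_right_cancel (h.trans h2.symm)
    · intro h
      rw [h, two]
  rw [← h1, cm, ← AddSubgroup.index_ker]
  exact AddSubgroup.card_mul_index _

theorem odd_nsmul (two : ∀ m : M, m + m = 0) {n : ℕ} (hn : n % 2 = 1) (m : M) : n • m = m := by
  rw [show n = n / 2 * 2 + 1 by omega, add_smul, one_smul, mul_smul, two_smul, two, smul_zero, zero_add]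

/-- elements of odd order: `[M, x] ∩ C_M(x) = 0` -/
theorem eq_zero_of_mem (two : ∀ m : M, m + m = 0) {x : H} {n : ℕ} (hn : n % 2 = 1) (hx : x ^ n = 1)
    {m : M} (h1 : m ∈ cm M x) (h2 : x • m = m) : m = 0 := by
  obtain ⟨u, hm⟩ := h1
  rw [opr_apply] at hm
  have hxu : x • u = m + u := by rw [← hm, add_assoc, two, add_zero]
  have key : ∀ i : ℕ, x ^ i • u = i • m + u := by
    intro i
    induction i with
    | zero => simp
    | succ i ih =>
      rw [pow_succ', mul_smul, ih, smul_add, smul_comm, h2, hxu, succ_nsmul, add_assoc]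
  have h3 := key n
  rw [hx, one_smul, odd_nsmul two hn] at h3
  have h4 : (0 : M) + u = m + u := by rw [zero_add]; exact h3
  exact (add_right_cancel h4).symm

theorem pow_fix {x : H} {m : M} (h : x • m = m) (i : ℕ) : x ^ i • m = m := by
  induction i with
  | zero => simp
  | succ i ih => rw [pow_succ', mul_smul, ih, h]

/-- `x² m = m` and odd order implies `x m = m` -/
theorem fix_of_sq {x : H} {n : ℕ} (hn : n % 2 = 1) (hx : x ^ n = 1) {m : M} (h : x • x • m = m) :
    x • m = m := by
  have h1 : (x ^ 2) • m = m := by rw [pow_two, mul_smul, h]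
  have h2 := pow_fix h1 ((n + 1) / 2)
  rw [← pow_mul, show 2 * ((n + 1) / 2) = n + 1 by omega, pow_succ, hx, one_mul] at h2
  exact h2

/-- `|[M, x]| ≡ 1` for `x` of odd prime order `p` -/
theorem card_cm_modEq [Finite M] (two : ∀ m : M, m + m = 0) {p : ℕ} (hp : p.Prime) (hp2 : p ≠ 2)
    {x : H} (hx : x ^ p = 1) : Nat.card (cm M x) ≡ 1 [MOD p] := by
  haveI : Fact p.Prime := ⟨hp⟩
  have hP : IsPGroup p (zpowers x) := by
    rintro ⟨y, hy⟩
    obtain ⟨n, rfl⟩ := mem_zpowers_iff.mp hy
    refine ⟨1, ?_⟩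
    ext
    change (x ^ n) ^ p ^ 1 = 1
    rw [pow_one, ← zpow_natCast, ← zpow_mul, mul_comm, zpow_mul, zpow_natCast, hx, one_zpow]
  have h1 := hP.card_modEq_card_fixedPoints M
  have h2 : Nat.card (MulAction.fixedPoints (zpowers x) M) = Nat.card (fx M x) := by
    have : MulAction.fixedPoints (zpowers x) M = (fx M x : Set M) := by
      ext m
      constructor
      · intro h
        exact h ⟨x, mem_zpowers x⟩
      · rintro h ⟨y, hy⟩
        obtain ⟨n, rfl⟩ := mem_zpowers_iff.mp hy
        have h : x ∈ MulAction.stabilizer H m := h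
        have := zpow_mem h n
        exact this
    rw [this]; rfl
  rw [h2, ← card_cm_mul_card_fx two x] at h1
  have hcop : Nat.Coprime p (Nat.card (fx M x)) := by
    rw [Nat.Prime.coprime_iff_not_dvd hp]
    intro hd
    obtain ⟨y, hy⟩ := exists_prime_addOrderOf_dvd_card' p hd
    have h3 : (2 : ℕ) • y = 0 := by
      rw [two_smul]
      exact Subtype.ext (two _)
    have h4 := addOrderOf_dvd_of_nsmul_eq_zero h3
    rw [hy] at h4
    exact hp2 ((Nat.prime_dvd_prime_iff_eq hp Nat.prime_two).mp h4)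
  have h5 : Nat.card (fx M x) * Nat.card (cm M x) ≡ Nat.card (fx M x) * 1 [MOD p] := by
    rw [mul_one]; exact h1
  exact Nat.ModEq.cancel_left_of_coprime hcop h5

theorem four_of_card [Finite M] {A : AddSubgroup M} (two : ∀ m : M, m + m = 0) (hA : Nat.card A = 4) {p q : M}
    (hp : p ∈ A) (hq : q ∈ A) (hp1 : p ≠ 0) (hq1 : q ≠ 0) (hpq : p ≠ q) {v : M} (hv : v ∈ A) :
    v = 0 ∨ v = p ∨ v = q ∨ v = p + q := by
  have hpq1 : p + q ≠ 0 := fun e => hpq (by
    have := two q
    exact add_right_cancel (e.trans this.symm))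
  have hpqp : p + q ≠ p := fun e => hq1 (by simpa using e)
  have hpqq : p + q ≠ q := fun e => hp1 (by simpa using e)
  have h1 : ({0, p, q, p + q} : Set M) ⊆ (A : Set M) := by
    rintro x (rfl | rfl | rfl | rfl)
    · exact A.zero_mem
    · exact hp
    · exact hq
    · exact A.add_mem hp hq
  have h2 : ({0, p, q, p + q} : Set M).ncard = 4 := by
    rw [Set.ncard_insert_of_notMem, Set.ncard_insert_of_notMem, Set.ncard_pair (Ne.symm hpqq)]
    · rintro (e | e)
      · exact hpq e
      · exact hpqp (Set.mem_singleton_iff.mp e).symm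
    · rintro (e | e | e)
      · exact hp1 e.symm
      · exact hq1 e.symm
      · exact hpq1 (Set.mem_singleton_iff.mp e).symm
  have h3 : (A : Set M).ncard = 4 := by rw [← hA]; rfl
  have h4 := Set.eq_of_subset_of_ncard_le h1 (by rw [h2, h3]) (Set.toFinite _)
  have h5 : v ∈ ({0, p, q, p + q} : Set M) := by rw [h4]; exact hv
  rcases h5 with e | e | e | e
  · exact Or.inl e
  · exact Or.inr (Or.inl e)
  · exact Or.inr (Or.inr (Or.inl e))
  · exact Or.inr (Or.inr (Or.inr e))

theorem exists_third [Finite M] {A : AddSubgroup M} (hA : Nat.card A = 4) (p : M) :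
    ∃ q ∈ A, q ≠ 0 ∧ q ≠ p := by
  by_contra hcon
  push Not at hcon
  have h1 : (A : Set M) ⊆ {0, p} := by
    intro v hv
    by_cases h : v = 0
    · exact Or.inl h
    · exact Or.inr (hcon v hv h)
  have h2 := Set.ncard_le_ncard h1 (Set.toFinite _)
  have h3 : (A : Set M).ncard = 4 := by rw [← hA]; rfl
  have h4 : ({0, p} : Set M).ncard ≤ ({p} : Set M).ncard + 1 := Set.ncard_insert_le _ _
  rw [Set.ncard_singleton] at h4
  omega

/-! ### an involution inverting `x` -/

section inv

variable {a x : H} {n : ℕ}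

theorem inv_smul_eq (ha : a * a = 1) (hax : a * x * a = x⁻¹) (m : M) : a • x • m = x⁻¹ • a • m := by
  rw [← mul_smul, ← mul_smul, ← hax, mul_assoc (a * x), ha, mul_one]

theorem conj_eq_inv (ha : a * a = 1) (hax : a * x * a = x⁻¹) : a * x * a⁻¹ = x⁻¹ := by
  rw [inv_eq_of_mul_eq_one_left ha, hax]

/-- `C_{[M,x]}(a) ∩ x C_{[M,x]}(a) = 0` -/
theorem inf_smul_eq (two : ∀ m : M, m + m = 0) (ha : a * a = 1) (hax : a * x * a = x⁻¹) (hn : n % 2 = 1)
    (hx : x ^ n = 1) {c d : M} (hc : a • c = c) (hcB : c ∈ cm M x) (hd : a • d = d)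
    (h : d = x • c) : c = 0 := by
  have h1 : a • d = x⁻¹ • c := by rw [h, inv_smul_eq ha hax, hc]
  rw [hd, h] at h1
  have h2 : x • x • c = c := by rw [h1, smul_inv_smul]
  exact eq_zero_of_mem two hn hx hcB (fix_of_sq hn hx h2)

theorem card_inv [Finite M] (two : ∀ m : M, m + m = 0) (ha : a * a = 1) (hax : a * x * a = x⁻¹)
    (hn : n % 2 = 1) (hx : x ^ n = 1) :
    Nat.card (cm M x) = Nat.card (fx M a ⊓ cm M x : AddSubgroup M) ^ 2 ∧
      fx M a ⊓ cm M x ≤ cm M a := by
  set B := cm M x with hB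
  set C := fx M a ⊓ B with hC
  let f : B →+ M := (opr M a).comp B.subtype
  have hfB : ∀ b : B, f b ∈ C := by
    intro b
    change a • (b : M) + b ∈ fx M a ⊓ B
    refine ⟨?_, B.add_mem (smul_mem_cm_of_inv (conj_eq_inv ha hax) b.2) b.2⟩
    change a • (a • (b : M) + b) = a • (b : M) + b
    rw [smul_add, ← mul_smul, ha, one_smul, add_comm]
  have hfr : f.range ≤ C := by
    rintro _ ⟨b, rfl⟩
    exact hfB b
  have hker : f.ker = C.addSubgroupOf B := by
    ext b
    rw [AddMonoidHom.mem_ker, AddSubgroup.mem_addSubgroupOf]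
    change a • (b : M) + b = 0 ↔ _
    constructor
    · intro h
      exact ⟨add_right_cancel (h.trans (two _).symm), b.2⟩
    · intro h
      rw [mem_fx.mp h.1, two]
  have hcC : Nat.card (C.addSubgroupOf B) = Nat.card C :=
    Nat.card_congr (AddSubgroup.addSubgroupOfEquivOfLe inf_le_right).toEquiv
  have h1 : Nat.card C * Nat.card f.range = Nat.card B := by
    rw [← hcC, ← hker, ← AddSubgroup.index_ker]
    exact AddSubgroup.card_mul_index _
  have h2 : Nat.card C * Nat.card C ≤ Nat.card B := by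
    rw [← Nat.card_prod]
    refine Nat.card_le_card_of_injective (fun cd : C × C => (⟨cd.1 + x • (cd.2 : M),
      B.add_mem cd.1.2.2 (smul_self_mem_cm cd.2.2.2)⟩ : B)) ?_
    rintro ⟨c, d⟩ ⟨c', d'⟩ h
    have h3 : (c : M) + x • (d : M) = c' + x • (d' : M) := congrArg Subtype.val h
    have h4 : ((c : M) + c') = x • ((d : M) + d') := by
      have e1 := two (c : M)
      have e2 := two (d' : M)
      calc (c : M) + c' = c + c' + x • ((d' : M) + d') := by rw [e2, smul_zero, add_zero]
        _ = c + (c' + x • (d' : M)) + x • (d' : M) := by rw [smul_add]; abel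
        _ = c + (c + x • (d : M)) + x • (d' : M) := by rw [h3]
        _ = (c + c) + x • ((d : M) + d') := by rw [smul_add]; abel
        _ = x • ((d : M) + d') := by rw [e1, zero_add]
    have h5 : (d : M) + d' = 0 := by
      refine inf_smul_eq two ha hax hn hx ?_ ?_ ?_ h4
      · exact (fx M a).add_mem d.2.1 d'.2.1
      · exact B.add_mem d.2.2 d'.2.2
      · exact (fx M a).add_mem c.2.1 c'.2.1
    rw [h5, smul_zero] at h4
    have h6 : (c : M) = c' := add_right_cancel (h4.trans (two _).symm)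
    have h7 : (d : M) = d' := add_right_cancel (h5.trans (two _).symm)
    exact Prod.ext (Subtype.ext h6) (Subtype.ext h7)
  have h3 : Nat.card f.range ≤ Nat.card C :=
    Nat.card_le_card_of_injective (Set.inclusion hfr) (Set.inclusion_injective hfr)
  have h4 : Nat.card C ≤ Nat.card f.range := by
    have hpos : 0 < Nat.card C := Nat.card_pos
    rw [← h1] at h2
    exact Nat.le_of_mul_le_mul_left h2 hpos
  have h5 : f.range = C := AddSubgroup.eq_of_le_of_card_ge hfr h4
  refine ⟨?_, ?_⟩
  · rw [← h1, h5, pow_two]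
  · rw [← h5]
    rintro _ ⟨b, rfl⟩
    exact ⟨b, rfl⟩

/-- structure of `[M, x]` if `|[M, x]| = 16` and `|[M, a]| = 4` -/
theorem cm_le_of_card [Finite M] (two : ∀ m : M, m + m = 0) (ha : a * a = 1) (hax : a * x * a = x⁻¹)
    (hn : n % 2 = 1) (hx : x ^ n = 1) (hA : Nat.card (cm M a) = 4) (hB : Nat.card (cm M x) = 16) :
    cm M a ≤ cm M x ∧ (∀ m ∈ cm M x, a • m = m → m ∈ cm M a) ∧
      ∀ m ∈ cm M x, ∃ c ∈ cm M a, ∃ d ∈ cm M a, m = c + x • d := by
  obtain ⟨h1, h2⟩ := card_inv two ha hax hn hx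
  rw [hB] at h1
  have h3 : Nat.card (fx M a ⊓ cm M x : AddSubgroup M) = 4 := by
    have : Nat.card (fx M a ⊓ cm M x : AddSubgroup M) ^ 2 = 4 ^ 2 := by rw [← h1]; norm_num
    exact (Nat.pow_left_injective (by norm_num : 2 ≠ 0)) this
  have h4 : fx M a ⊓ cm M x = cm M a := AddSubgroup.eq_of_le_of_card_ge h2 (by rw [h3, hA])
  have hle : cm M a ≤ cm M x := by rw [← h4]; exact inf_le_right
  have hfix : ∀ m ∈ cm M a, a • m = m := by
    intro m hm
    rw [← h4] at hm
    exact hm.1
  refine ⟨hle, fun m hm hm2 => by rw [← h4]; exact ⟨hm2, hm⟩, fun m hm => ?_⟩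
  let g : cm M a × cm M a → cm M x := fun cd => ⟨cd.1 + x • (cd.2 : M),
      (cm M x).add_mem (hle cd.1.2) (smul_self_mem_cm (hle cd.2.2))⟩
  have hinj : Function.Injective g := by
    rintro ⟨c, d⟩ ⟨c', d'⟩ h
    have h3 : (c : M) + x • (d : M) = c' + x • (d' : M) := congrArg Subtype.val h
    have h4 : ((c : M) + c') = x • ((d : M) + d') := by
      have e1 := two (c : M)
      have e2 := two (d' : M)
      calc (c : M) + c' = c + c' + x • ((d' : M) + d') := by rw [e2, smul_zero, add_zero]
        _ = c + (c' + x • (d' : M)) + x • (d' : M) := by rw [smul_add]; abel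
        _ = c + (c + x • (d : M)) + x • (d' : M) := by rw [h3]
        _ = (c + c) + x • ((d : M) + d') := by rw [smul_add]; abel
        _ = x • ((d : M) + d') := by rw [e1, zero_add]
    have h5 : (d : M) + d' = 0 := by
      refine inf_smul_eq two ha hax hn hx ?_ ?_ ?_ h4
      · exact hfix _ ((cm M a).add_mem d.2 d'.2)
      · exact hle ((cm M a).add_mem d.2 d'.2)
      · exact hfix _ ((cm M a).add_mem c.2 c'.2)
    rw [h5, smul_zero] at h4
    have h6 : (c : M) = c' := add_right_cancel (h4.trans (two _).symm)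
    have h7 : (d : M) = d' := add_right_cancel (h5.trans (two _).symm)
    exact Prod.ext (Subtype.ext h6) (Subtype.ext h7)
  have hbij : Function.Bijective g := by
    rw [Nat.bijective_iff_injective_and_card]
    refine ⟨hinj, ?_⟩
    rw [Nat.card_prod, hA, hB]
  obtain ⟨⟨c, d⟩, h⟩ := hbij.2 ⟨m, hm⟩
  exact ⟨c, c.2, d, d.2, (congrArg Subtype.val h).symm⟩

theorem cm_eq_bot_of_card {x : H} (faithful : ∀ x : H, (∀ m : M, x • m = m) → x = 1)
    (two : ∀ m : M, m + m = 0) (h : Nat.card (cm M x) = 1) : x = 1 := by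
  refine faithful x fun m => ?_
  have h1 : cm M x = ⊥ := AddSubgroup.eq_bot_of_card_eq _ h
  have h2 : x • m + m ∈ cm M x := mem_cm_self x m
  rw [h1, AddSubgroup.mem_bot] at h2
  exact add_right_cancel (h2.trans (two m).symm)

/-- `|[M, x]| ∈ {4, 16}` for `x ≠ 1` of odd prime order inverted by `a` -/
theorem card_cases [Finite M] (two : ∀ m : M, m + m = 0) (faithful : ∀ x : H, (∀ m : M, x • m = m) → x = 1)
    (ha : a * a = 1) (hax : a * x * a = x⁻¹) (hA : Nat.card (cm M a) = 4) {p : ℕ} (hp : p.Prime)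
    (hp2 : p ≠ 2) (hx : x ^ p = 1) (hx1 : x ≠ 1) :
    (p = 3 ∧ Nat.card (cm M x) = 4) ∨ ((p = 3 ∨ p = 5) ∧ Nat.card (cm M x) = 16) := by
  have hn : p % 2 = 1 := by
    rcases hp.eq_two_or_odd with h | h
    · exact absurd h hp2
    · exact h
  obtain ⟨h1, h2⟩ := card_inv two ha hax hn hx
  have h3 : Nat.card (fx M a ⊓ cm M x : AddSubgroup M) ∣ 4 := by
    rw [← hA]
    exact AddSubgroup.card_dvd_of_le h2
  have h4 := card_cm_modEq two hp hp2 hx
  have h5 : Nat.card (fx M a ⊓ cm M x : AddSubgroup M) ∈ Nat.divisors 4 := by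
    rw [Nat.mem_divisors]; exact ⟨h3, by norm_num⟩
  have h6 : Nat.divisors 4 = {1, 2, 4} := by decide
  rw [h6] at h5
  simp only [Finset.mem_insert, Finset.mem_singleton] at h5
  rcases h5 with h5 | h5 | h5
  · exfalso
    rw [h5, one_pow] at h1
    exact hx1 (cm_eq_bot_of_card faithful two h1)
  · left
    rw [h5] at h1
    rw [h1] at h4
    have h7 : p ∣ 2 ^ 2 - 1 := (Nat.modEq_iff_dvd' (by norm_num)).mp h4.symm
    have h8 : p ∣ 3 := h7
    exact ⟨(Nat.prime_dvd_prime_iff_eq hp Nat.prime_three).mp h8, h1⟩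
  · right
    rw [h5] at h1
    rw [h1] at h4
    have h7 : p ∣ 4 ^ 2 - 1 := (Nat.modEq_iff_dvd' (by norm_num)).mp h4.symm
    have h8 : p ∣ 3 * 5 := h7
    rcases (Nat.Prime.dvd_mul hp).mp h8 with h9 | h9
    · exact ⟨Or.inl ((Nat.prime_dvd_prime_iff_eq hp Nat.prime_three).mp h9), h1⟩
    · exact ⟨Or.inr ((Nat.prime_dvd_prime_iff_eq hp Nat.prime_five).mp h9), h1⟩

end inv

end basic

/-! ### the configuration -/

/-- The configuration: `E` is an `H`-orbit generating `M`, `a e` the involution belonging to `e ∈ E`. -/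
structure Pre {H M : Type*} [Group H] [AddCommGroup M] [DistribMulAction H M] (E : Set M) (a : M → H) : Prop where
  two : ∀ m : M, m + m = 0
  faithful : ∀ x : H, (∀ m : M, x • m = m) → x = 1
  solv : Group.IsSolvable H
  o2 : pCore 2 H = ⊥
  inv : ∀ h : H, ∀ e ∈ E, h • e ∈ E
  trans : ∀ e ∈ E, ∀ f ∈ E, ∃ h : H, f = h • e
  gen : AddSubgroup.closure E = ⊤
  ne : ∃ e, e ∈ E
  ne_zero : ∀ e ∈ E, e ≠ 0
  conj : ∀ h : H, ∀ e ∈ E, a (h • e) = h * a e * h⁻¹
  sq : ∀ e ∈ E, a e * a e = 1
  card : ∀ e ∈ E, Nat.card (cm M (a e)) = 4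
  mem : ∀ e ∈ E, e ∈ cm M (a e)
  only : ∀ e ∈ E, ∀ f ∈ E, f ∈ cm M (a e) → f = e

/-- The configuration without natural elements. -/
structure RT {H M : Type*} [Group H] [AddCommGroup M] [DistribMulAction H M] (E : Set M) (a : M → H) : Prop
    extends Pre E a where
  nat : ∀ e ∈ E, ∀ x ∈ pCore 3 H, x ^ 3 = 1 → a e * x * a e = x⁻¹ → Nat.card (cm M x) ≠ 4

/-- the center of `O_p(H)` as a subgroup of `H` -/
def zp (H : Type*) [Group H] (p : ℕ) : Subgroup H := pCore p H ⊓ centralizer (pCore p H : Set H)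

theorem zp_normal (H : Type*) [Group H] (p : ℕ) : (zp H p).Normal := by
  haveI : (pCore p H).Normal := Lib.Cores.pCore_normal p
  unfold zp
  infer_instance

theorem zp_comm {H : Type*} [Group H] {p : ℕ} {x y : H} (hx : x ∈ zp H p) (hy : y ∈ zp H p) :
    x * y = y * x := ((mem_centralizer_iff.mp hx.2) y hy.1).symm

theorem zp_ne_bot (H : Type*) [Group H] [Finite H] {p : ℕ} (hp : p.Prime) (h : pCore p H ≠ ⊥) :
    zp H p ≠ ⊥ := by
  haveI : Fact p.Prime := ⟨hp⟩
  haveI : Nontrivial (pCore p H) := (Subgroup.nontrivial_iff_ne_bot _).mpr h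
  have h1 := (Lib.Cores.pCore_isPGroup (G := H) p).bot_lt_center
  obtain ⟨x, hx, hx1⟩ := (Subgroup.bot_or_exists_ne_one (center (pCore p H))).resolve_left h1.ne'
  intro hbot
  have h2 : (x : H) ∈ zp H p := by
    refine ⟨x.2, mem_centralizer_iff.mpr fun y hy => ?_⟩
    exact congrArg Subtype.val (mem_center_iff.mp hx ⟨y, hy⟩)
  rw [hbot, mem_bot] at h2
  exact hx1 (Subtype.ext h2)

namespace Pre

variable {H M : Type*} [Group H] [AddCommGroup M] [DistribMulAction H M] {E : Set M} {a : M → H}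

section basic

theorem a_ne (h : Pre E a) {e : M} (he : e ∈ E) : a e ≠ 1 := by
  intro h1
  have h2 := h.card e he
  have h3 : cm M (a e) = ⊥ := by
    rw [h1, eq_bot_iff]
    rintro _ ⟨m, rfl⟩
    rw [opr_apply, one_smul, h.two]
    exact zero_mem _
  rw [h3, AddSubgroup.card_bot] at h2
  norm_num at h2

/-- elements commuting with `a e` fix `e` -/
theorem smul_eq_of_comm (h : Pre E a) {e : M} (he : e ∈ E) {y : H} (hy : y * a e = a e * y) : y • e = e := by
  have h1 : a (y • e) = a e := by rw [h.conj y e he, hy, mul_inv_cancel_right]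
  refine h.only e he _ (h.inv y e he) ?_
  rw [← h1]
  exact h.mem _ (h.inv y e he)

/-- elements of odd order commuting with `a e` centralize `[M, a e]` -/
theorem smul_eq_of_comm' [Finite M] (h : Pre E a) {e : M} (he : e ∈ E) {y : H} (hy : y * a e = a e * y) {n : ℕ}
    (hn : n % 2 = 1) (hyn : y ^ n = 1) {m : M} (hm : m ∈ cm M (a e)) : y • m = m := by
  have h1 := h.smul_eq_of_comm he hy
  by_cases hm0 : m = 0
  · rw [hm0, smul_zero]
  by_cases hme : m = e
  · rw [hme, h1]
  have h2 := four_of_card h.two (h.card e he) (h.mem e he) hm (h.ne_zero e he) hm0 (Ne.symm hme)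
    (smul_mem_cm_of_comm hy hm)
  rcases h2 with h2 | h2 | h2 | h2
  · exact absurd ((smul_eq_zero_iff_eq y).mp h2) hm0
  · exfalso
    apply hme
    rw [← h1] at h2
    exact MulAction.injective y h2
  · exact h2
  · exfalso
    have h3 : y • m + m = e := by rw [h2, add_assoc, h.two, add_zero]
    have h4 := mem_cm_self y m
    rw [h3] at h4
    exact h.ne_zero e he (eq_zero_of_mem h.two hn hyn h4 h1)

/-- `a e` fixes `[M, a e]` -/
theorem a_smul (h : Pre E a) {e : M} (he : e ∈ E) {m : M} (hm : m ∈ cm M (a e)) : a e • m = m := by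
  obtain ⟨n, rfl⟩ := hm
  rw [opr_apply, smul_add, ← mul_smul, h.sq e he, one_smul, add_comm]

/-- there is a central element of `O_p(H)` of order `p` inverted by `a e` -/
theorem exists_z [Finite H] (h : Pre E a) {p : ℕ} (hp : p.Prime) (hne : pCore p H ≠ ⊥) {e : M} (he : e ∈ E) :
    ∃ z ∈ zp H p, z ≠ 1 ∧ z ^ p = 1 ∧ a e * z * a e = z⁻¹ := by
  haveI := zp_normal H p
  have hinva : ∀ f ∈ E, (a f)⁻¹ = a f := fun f hf => inv_eq_of_mul_eq_one_left (h.sq f hf)
  by_cases hcomm : ∀ y ∈ zp H p, y * a e = a e * y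
  · exfalso
    apply zp_ne_bot H hp hne
    rw [eq_bot_iff]
    intro y hy
    rw [mem_bot]
    apply h.faithful
    have h1 : ∀ f ∈ E, y • f = f := by
      intro f hf
      obtain ⟨g, rfl⟩ := h.trans e he f hf
      refine h.smul_eq_of_comm hf ?_
      rw [h.conj g e he]
      have h2 := hcomm (g⁻¹ * y * g) (by
        have := (zp_normal H p).conj_mem y hy g⁻¹
        rwa [inv_inv] at this)
      calc y * (g * a e * g⁻¹) = g * (g⁻¹ * y * g * a e) * g⁻¹ := by group
        _ = g * (a e * (g⁻¹ * y * g)) * g⁻¹ := by rw [h2]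
        _ = g * a e * g⁻¹ * y := by group
    have h3 : fx M y = ⊤ := by
      rw [eq_top_iff, ← h.gen, AddSubgroup.closure_le]
      exact h1
    intro m
    have : m ∈ fx M y := by rw [h3]; trivial
    exact this
  · push Not at hcomm
    obtain ⟨y, hy, hya⟩ := hcomm
    set w := y * (a e * y⁻¹ * (a e)⁻¹) with hw
    have hwz : w ∈ zp H p := mul_mem hy ((zp_normal H p).conj_mem _ (inv_mem hy) _)
    have hw1 : w ≠ 1 := by
      intro e1
      apply hya
      calc y * a e = (y * (a e * y⁻¹ * (a e)⁻¹)) * a e * y := by group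
        _ = a e * y := by rw [← hw, e1, one_mul]
    have hwinv : a e * w * a e = w⁻¹ := by
      have e2 : a e * w * a e = (a e * y * a e) * (y⁻¹ * (a e)⁻¹ * a e) * 1 := by
        have : a e * w * a e = (a e * y * a e) * (y⁻¹ * (a e)⁻¹ * a e) := by rw [hw]; group
        rw [this, mul_one]
      have e3 : w⁻¹ = a e * y * (a e)⁻¹ * y⁻¹ := by rw [hw]; group
      rw [e2, e3, hinva e he, mul_one, mul_assoc y⁻¹, h.sq e he, mul_one]
    have hP := Lib.Cores.pCore_isPGroup (G := H) p
    obtain ⟨k, hk⟩ := hP ⟨w, hwz.1⟩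
    have hk' : w ^ p ^ k = 1 := by simpa using congrArg Subtype.val hk
    classical
    have hex : ∃ k, w ^ p ^ k = 1 := ⟨k, hk'⟩
    have h0 : Nat.find hex ≠ 0 := by
      intro e0
      have := Nat.find_spec hex
      rw [e0, pow_zero, pow_one] at this
      exact hw1 this
    obtain ⟨m, hm⟩ := Nat.exists_eq_succ_of_ne_zero h0
    refine ⟨w ^ p ^ m, pow_mem hwz _, Nat.find_min hex (by omega), ?_, ?_⟩
    · have := Nat.find_spec hex
      rw [hm, pow_succ, pow_mul] at this
      exact this
    · have e4 : a e * w ^ p ^ m * a e = (a e * w * (a e)⁻¹) ^ p ^ m := by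
        rw [conj_pow, hinva e he]
      rw [e4, hinva e he, hwinv, inv_pow]

/-- the center of `O_3(H)` has no fixed vectors if `E ≤ [M, Z(O_3(H))]` -/
theorem eq_zero_of_fixed [Finite H] (h : Pre E a) {m : M} (hm : ∀ q ∈ zp H 3, q • m = m)
    (hE : ∀ e ∈ E, ∃ q ∈ zp H 3, e ∈ cm M q) : m = 0 := by
  classical
  haveI : Fact (Nat.Prime 3) := ⟨Nat.prime_three⟩
  haveI := Fintype.ofFinite (zp H 3)
  let tr : M →+ M := ∑ q : zp H 3, DistribSMul.toAddMonoidHom M (q : H)
  have htr : ∀ m, tr m = ∑ q : zp H 3, (q : H) • m := by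
    intro m
    rw [AddMonoidHom.finsetSum_apply]
    rfl
  have h1 : ∀ q : zp H 3, ∀ n : M, tr ((q : H) • n) = tr n := by
    intro q n
    rw [htr, htr]
    refine Fintype.sum_equiv (Equiv.mulRight q) _ _ (fun q' => ?_)
    change (q' : H) • (q : H) • n = ((q' * q : zp H 3) : H) • n
    rw [← mul_smul]; rfl
  have h2 : tr.ker = ⊤ := by
    rw [eq_top_iff, ← h.gen, AddSubgroup.closure_le]
    intro e he
    obtain ⟨q, hq, n, hn⟩ := hE e he
    change tr e = 0
    rw [← hn, opr_apply, map_add, h1 ⟨q, hq⟩ n, h.two]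
  have h3 : tr m = 0 := by
    have : m ∈ tr.ker := by rw [h2]; trivial
    exact this
  rw [htr, Finset.sum_congr rfl (fun (q : zp H 3) _ => hm (q : H) q.2), Finset.sum_const, Finset.card_univ,
    ← Nat.card_eq_fintype_card] at h3
  have hP : IsPGroup 3 (zp H 3) := (Lib.Cores.pCore_isPGroup (G := H) 3).to_le inf_le_left
  obtain ⟨k, hk⟩ := IsPGroup.iff_card.mp hP
  rw [hk, odd_nsmul h.two (Nat.odd_iff.mp (Odd.pow (by decide)))] at h3
  exact h3

/-- In rank two there are no natural elements, if `e ∈ [M, x]` for each natural `x` inverted by `a e`. -/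
theorem toRT [Finite H] [Finite M] (h : Pre E a)
    (hD : ∀ e ∈ E, ∀ x ∈ pCore 3 H, x ^ 3 = 1 → x ≠ 1 → a e * x * a e = x⁻¹ → Nat.card (cm M x) = 4 →
      e ∈ cm M x) : RT E a := by
  refine ⟨h, fun e he x hx hx3 hxi hx4 => ?_⟩
  have hsq := h.sq e he
  have hx1 : x ≠ 1 := by
    rintro rfl
    have h3 : cm M (1 : H) = ⊥ := by
      rw [eq_bot_iff]
      rintro _ ⟨m, rfl⟩
      rw [opr_apply, one_smul, h.two]
      exact zero_mem _
    rw [h3, AddSubgroup.card_bot] at hx4
    norm_num at hx4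
  have hne : pCore 3 H ≠ ⊥ := by
    intro hbot
    rw [hbot, mem_bot] at hx
    exact hx1 hx
  obtain ⟨z, hz, hz1, hz3, hzi⟩ := h.exists_z Nat.prime_three hne he
  have hex := hD e he x hx hx3 hx1 hxi hx4
  have he0 := h.ne_zero e he
  have hae := h.mem e he
  have hinv3 : ∀ y : H, y ^ 3 = 1 → y⁻¹ = y * y := fun y hy =>
    inv_eq_of_mul_eq_one_left (by rw [← pow_three']; exact hy)
  have hact3 : ∀ y : H, y ^ 3 = 1 → ∀ m : M, y • y • y • m = m := fun y hy m => by
    rw [← mul_smul, ← mul_smul, ← pow_three', hy, one_smul]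
  have hzx : z * x = x * z := ((mem_centralizer_iff.mp hz.2) x hx).symm
  -- elements of order dividing 3 inverted by `a e` fixing `e`
  have huniq : ∀ y : H, y ^ 3 = 1 → a e * y * a e = y⁻¹ → y • e = e → y = 1 := by
    intro y hy3 hyi hye
    have h1 : a e = y * a e * y⁻¹ := by
      have := h.conj y e he
      rwa [hye] at this
    have h2 : a e * y = y * a e := by
      calc a e * y = y * a e * y⁻¹ * y := by rw [← h1]
        _ = y * a e := by group
    have h3 : y = y⁻¹ := by
      rw [← hyi, h2, mul_assoc, hsq, mul_one]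
    have h4 : y * y = 1 := by
      calc y * y = y * y⁻¹ := by rw [← h3]
        _ = 1 := mul_inv_cancel y
    rw [pow_three', h4, one_mul] at hy3
    exact hy3
  have hmulinv : ∀ y w : H, y * w = w * y → a e * y * a e = y⁻¹ → a e * w * a e = w⁻¹ →
      a e * (y * w) * a e = (y * w)⁻¹ := by
    intro y w hyw hy hw
    calc a e * (y * w) * a e = a e * y * (a e * a e) * w * a e := by rw [hsq]; group
      _ = (a e * y * a e) * (a e * w * a e) := by group
      _ = (y * w)⁻¹ := by rw [hy, hw, ← mul_inv_rev, hyw]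
  -- `|[M, z]| = 4`
  have hz4 : Nat.card (cm M z) = 4 := by
    rcases card_cases h.two h.faithful hsq hzi (h.card e he) Nat.prime_three (by norm_num) hz3 hz1 with
      ⟨_, h1⟩ | ⟨_, h1⟩
    · exact h1
    · exfalso
      have hez := (cm_le_of_card h.two hsq hzi (by norm_num : 3 % 2 = 1) hz3 (h.card e he) h1).1 hae
      have hxe0 : x • e ≠ 0 := fun h2 => he0 ((smul_eq_zero_iff_eq x).mp h2)
      have hxee : e ≠ x • e := fun h2 => he0 (eq_zero_of_mem h.two (by norm_num : 3 % 2 = 1) hx3 hex h2.symm)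
      have hze : z • e ∈ cm M x := smul_mem_cm_of_comm hzx hex
      rcases four_of_card h.two hx4 hex (smul_self_mem_cm hex) he0 hxe0 hxee hze with h2 | h2 | h2 | h2
      · exact he0 ((smul_eq_zero_iff_eq z).mp h2)
      · exact he0 (eq_zero_of_mem h.two (by norm_num : 3 % 2 = 1) hz3 hez h2)
      · have hXZ : x⁻¹ * z = z * x⁻¹ := ((show Commute z x from hzx).inv_right.eq).symm
        have hxi' : a e * x⁻¹ * a e = x⁻¹⁻¹ := by
          calc a e * x⁻¹ * a e = (a e * x * a e)⁻¹ := by
                rw [mul_inv_rev, mul_inv_rev, inv_eq_of_mul_eq_one_left hsq, mul_assoc]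
            _ = x⁻¹⁻¹ := by rw [hxi]
        have h3 : x⁻¹ * z = 1 := by
          refine huniq _ ?_ (hmulinv _ _ hXZ hxi' hzi) ?_
          · rw [(show Commute x⁻¹ z from hXZ).mul_pow, inv_pow, hx3, hz3, inv_one, one_mul]
          · rw [mul_smul, h2, inv_smul_smul]
        have h4 : x = z := inv_mul_eq_one.mp h3
        rw [h4, h1] at hx4
        norm_num at hx4
      · have h3 : x * z = 1 := by
          refine huniq _ ?_ (hmulinv _ _ hzx.symm hxi hzi) ?_
          · rw [(show Commute x z from hzx.symm).mul_pow, hx3, hz3, one_mul]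
          · rw [mul_smul, h2]
            have h4 : e + x • e = x • x • e := by
              obtain ⟨u, hu⟩ := hex
              rw [opr_apply] at hu
              have e1 : x • e = x • x • u + x • u := by rw [← hu, smul_add]
              have e2 : x • x • e = u + x • x • u := by rw [e1, smul_add, hact3 x hx3]
              rw [e2, e1, ← hu]
              calc x • u + u + (x • x • u + x • u) = u + x • x • u + (x • u + x • u) := by abel
                _ = u + x • x • u := by rw [h.two, add_zero]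
            rw [h4, hact3 x hx3]
        have h4 : x = z⁻¹ := eq_inv_of_mul_eq_one_left h3
        rw [h4, cm_inv, h1] at hx4
        norm_num at hx4
  have hez := hD e he z hz.1 hz3 hz1 hzi hz4
  -- a fixed vector in `[M, a e]`
  have haz : ∀ m : M, a e • z • m = z • z • a e • m := by
    intro m
    rw [inv_smul_eq hsq hzi m, hinv3 z hz3, mul_smul]
  have hz3' := hact3 z hz3
  have hze_ne : z • e ≠ e := fun h2 => he0 (eq_zero_of_mem h.two (by norm_num : 3 % 2 = 1) hz3 hez h2)
  have hsum : ∀ m ∈ cm M z, m + z • m + z • z • m = 0 := by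
    rintro _ ⟨u, rfl⟩
    rw [opr_apply]
    simp only [smul_add]
    rw [hz3']
    calc z • u + u + (z • z • u + z • u) + (u + z • z • u)
        = (u + u) + (z • u + z • u) + (z • z • u + z • z • u) := by abel
      _ = 0 := by rw [h.two u, h.two (z • u), h.two (z • z • u)]; simp
  have hm0 : ∃ m0 ∈ cm M (a e), m0 ≠ 0 ∧ z • m0 = m0 := by
    by_contra hcon
    push Not at hcon
    have h1 : ∀ m ∈ cm M (a e), m + z • m + z • z • m = 0 := by
      rintro _ ⟨u, rfl⟩
      by_contra hne0
      refine hcon _ ?_ hne0 ?_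
      · refine ⟨u + z • u + z • z • u, ?_⟩
        simp only [opr_apply, smul_add]
        rw [haz, haz, haz, hz3']
        abel
      · simp only [smul_add]
        rw [hz3']
        abel
    have h2 : cm M (a e) ≤ cm M z := by
      intro m hm
      refine ⟨z • m, ?_⟩
      rw [opr_apply]
      have h4 : m + (z • m + z • z • m) = m + m := by rw [← add_assoc, h1 m hm, h.two]
      rw [add_comm]
      exact add_left_cancel h4
    have h3 : cm M (a e) = cm M z := AddSubgroup.eq_of_le_of_card_ge h2 (by rw [hz4, h.card e he])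
    have h4 : z • e ∈ cm M (a e) := by rw [h3]; exact smul_self_mem_cm hez
    have h5 := h.a_smul he h4
    rw [haz, h.a_smul he hae] at h5
    exact hze_ne (MulAction.injective z h5)
  obtain ⟨m0, hm1, hm2, hm3⟩ := hm0
  have hem0 : e ≠ m0 := fun e1 => hze_ne (by rw [e1]; exact hm3)
  have hfix : ∀ f ∈ zp H 3, f • e = e → f • m0 = m0 := by
    intro f hf hfe
    have h1 : a e = f * a e * f⁻¹ := by
      have := h.conj f e he
      rwa [hfe] at this
    have h2 : f * a e = a e * f := (eq_mul_inv_iff_mul_eq.mp h1).symm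
    have h3 : z • f • m0 = f • m0 := by
      rw [← mul_smul, zp_comm hz hf, mul_smul, hm3]
    rcases four_of_card h.two (h.card e he) hae hm1 he0 hm2 hem0 (smul_mem_cm_of_comm h2 hm1) with
      h4 | h4 | h4 | h4
    · exact absurd ((smul_eq_zero_iff_eq f).mp h4) hm2
    · exact absurd (by rw [h4] at h3; exact h3) hze_ne
    · exact h4
    · exfalso
      rw [h4, smul_add, hm3] at h3
      exact hze_ne (add_right_cancel h3)
  refine hm2 (h.eq_zero_of_fixed (fun q hq => ?_) fun f hf => ?_)
  · have hqz : q * z = z * q := zp_comm hq hz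
    have hze0 : z • e ≠ 0 := fun h2 => he0 ((smul_eq_zero_iff_eq z).mp h2)
    rcases four_of_card h.two hz4 hez (smul_self_mem_cm hez) he0 hze0 (Ne.symm hze_ne)
      (smul_mem_cm_of_comm hqz hez) with h1 | h1 | h1 | h1
    · exact absurd ((smul_eq_zero_iff_eq q).mp h1) he0
    · exact hfix q hq h1
    · have h2 := hfix (z⁻¹ * q) (mul_mem (inv_mem hz) hq) (by rw [mul_smul, h1, inv_smul_smul])
      rw [mul_smul] at h2
      have h3 := congrArg (z • ·) h2
      simp only [smul_inv_smul] at h3
      rw [h3, hm3]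
    · have h0 := hsum e hez
      have h4 : e + z • e = z • z • e := add_right_cancel (h0.trans (h.two (z • z • e)).symm)
      have h2 := hfix (z * q) (mul_mem hz hq) (by rw [mul_smul, h1, h4, hz3'])
      rw [mul_smul, ← hm3] at h2
      have h3 := MulAction.injective z h2
      rw [hm3] at h3
      exact h3
  · obtain ⟨g, rfl⟩ := h.trans e he f hf
    exact ⟨g * z * g⁻¹, (zp_normal H 3).conj_mem z hz g, smul_mem_cm hez⟩

end basic

end Pre

namespace RT

variable {H M : Type*} [Group H] [AddCommGroup M] [DistribMulAction H M] {E : Set M} {a : M → H}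

/-! ### elements of order 3 -/

/-- `z` is a central element of `O_3(H)` of order 3 inverted by `a e` -/
structure Zt (a : M → H) (e : M) (z : H) : Prop where
  mem : z ∈ zp H 3
  ne : z ≠ 1
  pow : z ^ 3 = 1
  inv : a e * z * a e = z⁻¹

section three

variable {e : M} {z : H}

theorem sum3 (h : RT E a) {x : H} (hx : x ^ 3 = 1) {m : M} (hm : m ∈ cm M x) :
    m + x • m + x • x • m = 0 := by
  obtain ⟨u, rfl⟩ := hm
  rw [opr_apply]
  have h3 : x • x • x • u = u := by
    rw [← mul_smul, ← mul_smul, ← pow_three', hx, one_smul]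
  simp only [smul_add]
  rw [h3]
  have e1 := h.two u
  have e2 := h.two (x • u)
  have e3 := h.two (x • x • u)
  calc x • u + u + (x • x • u + x • u) + (u + x • x • u)
      = (u + u) + (x • u + x • u) + (x • x • u + x • x • u) := by abel
    _ = 0 := by rw [e1, e2, e3]; simp

variable [Finite H] [Finite M]

theorem Zt.card (hz : Zt a e z) (h : RT E a) (he : e ∈ E) : Nat.card (cm M z) = 16 := by
  rcases card_cases h.two h.faithful (h.sq e he) hz.inv (h.card e he) Nat.prime_three (by norm_num) hz.pow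
    hz.ne with ⟨_, h1⟩ | ⟨_, h1⟩
  · exact absurd h1 (h.nat e he z hz.mem.1 hz.pow hz.inv)
  · exact h1

theorem Zt.le (hz : Zt a e z) (h : RT E a) (he : e ∈ E) : cm M (a e) ≤ cm M z :=
  (cm_le_of_card h.two (h.sq e he) hz.inv (by norm_num : 3 % 2 = 1) hz.pow (h.card e he) (hz.card h he)).1

theorem Zt.fix_mem (hz : Zt a e z) (h : RT E a) (he : e ∈ E) {m : M} (hm : m ∈ cm M z) (ham : a e • m = m) :
    m ∈ cm M (a e) :=
  (cm_le_of_card h.two (h.sq e he) hz.inv (by norm_num : 3 % 2 = 1) hz.pow (h.card e he) (hz.card h he)).2.1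
    m hm ham

theorem Zt.exists_eq (hz : Zt a e z) (h : RT E a) (he : e ∈ E) {m : M} (hm : m ∈ cm M z) :
    ∃ c ∈ cm M (a e), ∃ d ∈ cm M (a e), m = c + z • d :=
  (cm_le_of_card h.two (h.sq e he) hz.inv (by norm_num : 3 % 2 = 1) hz.pow (h.card e he) (hz.card h he)).2.2
    m hm

/-- the only central elements of `O_3(H)` of order 3 inverted by `a e` are `z`, `z²` -/
theorem Zt.uniq (hz : Zt a e z) (h : RT E a) (he : e ∈ E) {w : H} (hw : w ∈ zp H 3) (hw3 : w ^ 3 = 1)
    (hwi : a e * w * a e = w⁻¹) : w = 1 ∨ w = z ∨ w = z * z := by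
  by_contra hcon
  push Not at hcon
  obtain ⟨hw1, hwz, hwzz⟩ := hcon
  have hzw : z * w = w * z := zp_comm hz.mem hw
  have hz3 : z * z * z = 1 := by rw [← pow_three']; exact hz.pow
  have hw3' : w * w * w = 1 := by rw [← pow_three']; exact hw3
  have hzz : z⁻¹ = z * z := inv_eq_of_mul_eq_one_left hz3
  have hww : w⁻¹ = w * w := inv_eq_of_mul_eq_one_left hw3'
  have hsq := h.sq e he
  have hmul : ∀ x y : H, x * y = y * x → a e * x * a e = x⁻¹ → a e * y * a e = y⁻¹ →
      a e * (x * y) * a e = (x * y)⁻¹ := by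
    intro x y hxy hx hy
    calc a e * (x * y) * a e = (a e * x * a e) * (a e * y * a e) := by
          calc a e * (x * y) * a e = a e * x * (a e * a e) * y * a e := by rw [hsq]; group
            _ = (a e * x * a e) * (a e * y * a e) := by group
      _ = (x * y)⁻¹ := by rw [hx, hy, ← mul_inv_rev, hxy]
  have hZt : ∀ y ∈ zp H 3, y ≠ 1 → y ^ 3 = 1 → a e * y * a e = y⁻¹ → e + y • e + y • y • e = 0 := by
    intro y hy hy1 hy3 hyi
    have hZ : Zt a e y := ⟨hy, hy1, hy3, hyi⟩
    exact h.sum3 hy3 (hZ.le h he (h.mem e he))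
  have h1 := hZt z hz.mem hz.ne hz.pow hz.inv
  have h2 := hZt w hw hw1 hw3 hwi
  have h3 := hZt (z * w) (mul_mem hz.mem hw) (fun e1 => hwzz (by
    rw [← hzz]; exact (inv_eq_of_mul_eq_one_right e1).symm)) (by
    rw [(show Commute z w from hzw).mul_pow, hz.pow, hw3, one_mul]) (hmul z w hzw hz.inv hwi)
  have hzw2 : z * (w * w) = w * w * z := by rw [← mul_assoc, hzw, mul_assoc, hzw, ← mul_assoc]
  have h4 := hZt (z * (w * w)) (mul_mem hz.mem (mul_mem hw hw)) (fun e1 => hwz (by
    rw [← hww] at e1; exact (mul_inv_eq_one.mp e1).symm)) (by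
    rw [(show Commute z (w * w) from hzw2).mul_pow, hz.pow, ← pow_two, ← pow_mul, mul_comm 2 3, pow_mul, hw3,
      one_mul, one_pow]) (hmul z (w * w) hzw2 hz.inv (hmul w w rfl hwi hwi))
  have h5 : z • e + z • w • e + z • w • w • e = 0 := by
    have := congrArg (z • ·) h2
    simpa only [smul_add, smul_zero] using this
  have h6 : z • z • e + z • z • w • e + z • z • w • w • e = 0 := by
    have := congrArg (z • ·) h5
    simpa only [smul_add, smul_zero] using this
  have e1 : (z * w) • (z * w) • e = z • z • w • w • e := by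
    simp only [← mul_smul]
    congr 1
    calc z * w * (z * w) = z * (w * z) * w := by group
      _ = z * (z * (w * w)) := by rw [← hzw]; group
  have e2 : (z * (w * w)) • (z * (w * w)) • e = z • z • w • e := by
    simp only [← mul_smul]
    congr 1
    calc z * (w * w) * (z * (w * w)) = z * (w * w * z) * (w * w) := by group
      _ = z * (z * w) * (w * w * w) := by rw [← hzw2]; group
      _ = z * (z * w) := by rw [hw3', mul_one]
  rw [e1, mul_smul] at h3
  rw [e2, mul_smul, mul_smul] at h4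
  have hS := h.two (e + z • e + z • w • e + z • w • w • e + z • z • e + z • z • w • e + z • z • w • w • e)
  apply h.ne_zero e he
  have key : e = (e + z • e + z • z • e) + (e + z • w • e + z • z • w • w • e) +
      (e + z • w • w • e + z • z • w • e) + (z • e + z • w • e + z • w • w • e) +
      (z • z • e + z • z • w • e + z • z • w • w • e) -
      ((e + z • e + z • w • e + z • w • w • e + z • z • e + z • z • w • e + z • z • w • w • e) +
      (e + z • e + z • w • e + z • w • w • e + z • z • e + z • z • w • e + z • z • w • w • e)) := by abel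
  rw [h1, h3, h4, h5, h6, hS] at key
  simpa using key

theorem Zt.z3 (hz : Zt a e z) (m : M) : z • z • z • m = m := by
  rw [← mul_smul, ← mul_smul, ← pow_three', hz.pow, one_smul]

/-- elements of `Z(O_3(H))` of order 3 act as powers of `z` on `[M, z]` -/
theorem Zt.act_cases (hz : Zt a e z) (h : RT E a) (he : e ∈ E) {x : H} (hx : x ∈ zp H 3) (hx3 : x ^ 3 = 1) :
    (∀ b ∈ cm M z, x • b = b) ∨ (∀ b ∈ cm M z, x • b = z • b) ∨ (∀ b ∈ cm M z, x • b = z • z • b) := by
  haveI := zp_normal H 3
  have hsq := h.sq e he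
  have hinva : (a e)⁻¹ = a e := inv_eq_of_mul_eq_one_left hsq
  obtain ⟨y, hy⟩ : ∃ y, y = a e * x * a e := ⟨_, rfl⟩
  have hyz : y ∈ zp H 3 := by
    have := (zp_normal H 3).conj_mem x hx (a e)
    rw [hinva, ← hy] at this
    exact this
  have hya : a e * y * a e = x := by
    rw [hy]
    calc a e * (a e * x * a e) * a e = (a e * a e) * x * (a e * a e) := by group
      _ = x := by rw [hsq, one_mul, mul_one]
  have hy3 : y ^ 3 = 1 := by
    have : y = a e * x * (a e)⁻¹ := by rw [hinva, hy]
    rw [this, conj_pow, hx3, mul_one, mul_inv_cancel]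
  have hxy : x * y = y * x := zp_comm hx hyz
  have hXY : Commute x y := hxy
  have hw : x * y⁻¹ ∈ zp H 3 := mul_mem hx (inv_mem hyz)
  have hw3 : (x * y⁻¹) ^ 3 = 1 := by rw [hXY.inv_right.mul_pow, hx3, inv_pow, hy3, one_mul, inv_one]
  have hdist : ∀ u v : H, a e * (u * v) * a e = (a e * u * a e) * (a e * v * a e) := by
    intro u v
    calc a e * (u * v) * a e = a e * u * (a e * a e) * v * a e := by rw [hsq]; group
      _ = (a e * u * a e) * (a e * v * a e) := by group
  have hinv' : ∀ u : H, a e * u⁻¹ * a e = (a e * u * a e)⁻¹ := by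
    intro u
    rw [mul_inv_rev, mul_inv_rev, hinva, mul_assoc]
  have hwi : a e * (x * y⁻¹) * a e = (x * y⁻¹)⁻¹ := by
    rw [hdist, hinv', hya, ← hy, mul_inv_rev, inv_inv]
  have hc3 : (x * y) ^ 3 = 1 := by rw [hXY.mul_pow, hx3, hy3, one_mul]
  have hca : x * y * a e = a e * (x * y) := by
    have h1 : a e * (x * y) * a e = x * y := by rw [hdist, hya, ← hy, hxy]
    calc x * y * a e = a e * (x * y) * a e * a e := by rw [h1]
      _ = a e * (x * y) := by rw [mul_assoc, hsq, mul_one]
  have hcz : x * y * z = z * (x * y) := zp_comm (mul_mem hx hyz) hz.mem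
  have hcB : ∀ b ∈ cm M z, (x * y) • b = b := by
    intro b hb
    obtain ⟨c, hc, d, hd, rfl⟩ := hz.exists_eq h he hb
    rw [smul_add, h.smul_eq_of_comm' he hca (by norm_num : 3 % 2 = 1) hc3 hc, ← mul_smul, hcz, mul_smul,
      h.smul_eq_of_comm' he hca (by norm_num : 3 % 2 = 1) hc3 hd]
  have hwB : ∀ b ∈ cm M z, (x * y⁻¹) • b ∈ cm M z := fun b hb =>
    smul_mem_cm_of_comm (zp_comm hw hz.mem) hb
  have hx4 : x = (x * y) * (x * y) * (x * y⁻¹) * (x * y⁻¹) := by
    have e1 : (x * y) * (x * y) * (x * y⁻¹) * (x * y⁻¹) = x * y * (x * y) * (y⁻¹ * x * (y⁻¹ * x)) := by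
      rw [← hXY.inv_right.eq]; group
    have e2 : x * y * (x * y) * (y⁻¹ * x * (y⁻¹ * x)) = x * (y * x) * x * y⁻¹ * x := by group
    rw [e1, e2, ← hxy]
    have e3 : x * (x * y) * x * y⁻¹ * x = x * x * (y * x) * y⁻¹ * x := by group
    rw [e3, ← hxy]
    have e4 : x * x * (x * y) * y⁻¹ * x = (x * x * x) * x := by group
    rw [e4, ← pow_three', hx3, one_mul]
  have hact : ∀ b ∈ cm M z, x • b = (x * y⁻¹) • (x * y⁻¹) • b := by
    intro b hb
    have h1 : x • b = (x * y) • (x * y) • (x * y⁻¹) • (x * y⁻¹) • b := by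
      simp only [← mul_smul]
      congr 1
      refine hx4.trans ?_
      group
    rw [h1, hcB _ (hwB _ (hwB _ hb)), hcB _ (hwB _ (hwB _ hb))]
  rcases hz.uniq h he hw hw3 hwi with h1 | h1 | h1
  · left
    intro b hb
    rw [hact b hb, h1, one_smul, one_smul]
  · right; right
    intro b hb
    rw [hact b hb, h1]
  · right; left
    intro b hb
    rw [hact b hb, h1, mul_smul, mul_smul, hz.z3]

/-- the projection onto `[M, z]` -/
theorem Zt.proj_mem (_ : Zt a e z) (_ : RT E a) (m : M) : z • m + z • z • m ∈ cm M z := by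
  have := smul_mem_cm_of_comm (g := z) rfl (mem_cm_self z m)
  rw [smul_add, add_comm] at this
  exact this

theorem Zt.proj_fix (hz : Zt a e z) (_ : RT E a) (m : M) : m + z • m + z • z • m ∈ fx M z := by
  rw [mem_fx]
  simp only [smul_add]
  rw [hz.z3]
  abel

theorem Zt.proj_of_mem (hz : Zt a e z) (h : RT E a) {m : M} (hm : m ∈ cm M z) : z • m + z • z • m = m := by
  have h1 := h.sum3 hz.pow hm
  have h2 := h.two m
  calc z • m + z • z • m = (m + z • m + z • z • m) + (m + m) - m := by
        rw [show (m + z • m + z • z • m) + (m + m) - m = m + m + z • m + z • z • m by abel, h2, zero_add]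
    _ = m := by rw [h1, h2, add_zero, zero_sub]; exact (neg_eq_of_add_eq_zero_left h2)

theorem Zt.proj_of_fix (_ : Zt a e z) (h : RT E a) {m : M} (hm : z • m = m) : z • m + z • z • m = 0 := by
  rw [hm, hm, h.two]

theorem Zt.zero_of_mem (hz : Zt a e z) (h : RT E a) {m : M} (hm : m ∈ cm M z) (hm2 : z • m = m) : m = 0 :=
  eq_zero_of_mem h.two (by norm_num : 3 % 2 = 1) hz.pow hm hm2

theorem Zt.cm_cases' (hz : Zt a e z) (h : RT E a) (he : e ∈ E) {f : M} (hf : f ∈ E) {x : H} (hx : Zt a f x) :
    cm M x = cm M z ∨ cm M z ≤ fx M x := by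
  have key : cm M z ≤ cm M x → cm M x = cm M z := fun hle =>
    (AddSubgroup.eq_of_le_of_card_ge hle (by rw [hz.card h he, hx.card h hf])).symm
  rcases hz.act_cases h he hx.mem hx.pow with h1 | h1 | h1
  · right
    exact h1
  · left
    refine key fun b hb => ⟨z • b, ?_⟩
    rw [opr_apply, h1 _ (smul_self_mem_cm hb)]
    have h2 := h.sum3 hz.pow hb
    have h3 := hz.proj_of_mem h hb
    rw [add_comm, h3]
  · left
    refine key fun b hb => ⟨z • z • b, ?_⟩
    rw [opr_apply, h1 _ (smul_self_mem_cm (smul_self_mem_cm hb)), hz.z3, hz.proj_of_mem h hb]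

theorem Zt.cm_cases (hz : Zt a e z) (h : RT E a) (he : e ∈ E) {f : M} (hf : f ∈ E) {x : H} (hx : Zt a f x) :
    cm M x = cm M z ∨ (cm M z ≤ fx M x ∧ cm M x ≤ fx M z) := by
  rcases hz.cm_cases' h he hf hx with h1 | h1
  · exact Or.inl h1
  · rcases hx.cm_cases' h hf he hz with h2 | h2
    · exact Or.inl h2.symm
    · exact Or.inr ⟨h1, h2⟩

theorem Zt.mem_self (hz : Zt a e z) (h : RT E a) (he : e ∈ E) : e ∈ cm M z := hz.le h he (h.mem e he)

/-- `f ∈ E ∩ [M, z]` has the same space -/
theorem Zt.cm_eq_of_mem (hz : Zt a e z) (h : RT E a) (he : e ∈ E) {f : M} (hf : f ∈ E) {x : H} (hx : Zt a f x)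
    (hfz : f ∈ cm M z) : cm M x = cm M z := by
  rcases hz.cm_cases h he hf hx with h1 | ⟨_, h1⟩
  · exact h1
  · exact absurd (hz.zero_of_mem h hfz (h1 (hx.mem_self h hf))) (h.ne_zero f hf)

theorem Zt.a_z (hz : Zt a e z) (h : RT E a) (he : e ∈ E) (m : M) : a e • z • m = z • z • a e • m := by
  have h1 := inv_smul_eq (h.sq e he) hz.inv m
  have hzz : z⁻¹ = z * z := inv_eq_of_mul_eq_one_left (by rw [← pow_three']; exact hz.pow)
  rw [h1, hzz, mul_smul]

/-- `A ∩ z A = 0` -/
theorem Zt.inf_eq (hz : Zt a e z) (h : RT E a) (he : e ∈ E) {c d : M} (hc : c ∈ cm M (a e))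
    (hd : d ∈ cm M (a e)) (hcd : d = z • c) : c = 0 :=
  inf_smul_eq h.two (h.sq e he) hz.inv (by norm_num : 3 % 2 = 1) hz.pow (h.a_smul he hc) (hz.le h he hc)
    (h.a_smul he hd) hcd

/-- there is an element of `E ∩ [M, z]` different from `e`, `z e`, `z² e` -/
theorem Zt.exists_other (hz : Zt a e z) (h : RT E a) (he : e ∈ E) (hne : pCore 3 H ≠ ⊥) :
    ∃ f ∈ E, f ∈ cm M z ∧ f ≠ e ∧ f ≠ z • e ∧ f ≠ z • z • e := by
  by_contra hcon
  push Not at hcon
  obtain ⟨r, hr, hr0, hre⟩ := exists_third (h.card e he) e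
  have hrz := hz.le h he hr
  have hez := hz.mem_self h he
  have heq := hz.proj_of_mem h hez
  -- the four-group `{0, e, z e, z² e}`
  let S : AddSubgroup M :=
    { carrier := {m | m = 0 ∨ m = e ∨ m = z • e ∨ m = z • z • e}
      zero_mem' := Or.inl rfl
      add_mem' := by
        have e0 := h.two e
        have e1 := h.two (z • e)
        have e2 := h.two (z • z • e)
        have s := h.sum3 hz.pow hez
        have a1 : e + z • e = z • z • e := by
          calc e + z • e = (e + z • e + z • z • e) + z • z • e - (z • z • e + z • z • e) + z • z • e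
              - z • z • e := by abel
            _ = z • z • e := by rw [s, e2]; abel
        have a2 : z • e + z • z • e = e := heq
        have a3 : e + z • z • e = z • e := by
          calc e + z • z • e = (e + z • e + z • z • e) + z • e - (z • e + z • e) := by abel
            _ = z • e := by rw [s, e1]; abel
        have b1 : z • e + e = z • z • e := by rw [add_comm, a1]
        have b2 : z • z • e + z • e = e := by rw [add_comm, a2]
        have b3 : z • z • e + e = z • e := by rw [add_comm, a3]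
        intro x y hx hy
        rcases hx with hx | hx | hx | hx <;> rcases hy with hy | hy | hy | hy <;> rw [hx, hy]
        all_goals simp only [Set.mem_ofPred_eq, zero_add, add_zero, e0, e1, e2, a1, a2, a3, b1, b2, b3]
        all_goals simp
      neg_mem' := by
        intro m hm
        have : -m = m := neg_eq_of_add_eq_zero_left (h.two m)
        rwa [this] }
  have hS : ∀ m : M, z • m + z • z • m ∈ S := by
    let π : M →+ M := (DistribSMul.toAddMonoidHom M z) + (DistribSMul.toAddMonoidHom M (z * z))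
    have hπ : ∀ m, π m = z • m + z • z • m := fun m => by
      change z • m + (z * z) • m = _
      rw [mul_smul]
    have h1 : S.comap π = ⊤ := by
      rw [eq_top_iff, ← h.gen, AddSubgroup.closure_le]
      intro f hf
      change π f ∈ S
      rw [hπ]
      obtain ⟨x, hx1, hx2, hx3, hx4⟩ := h.exists_z Nat.prime_three hne hf
      have hx : Zt a f x := ⟨hx1, hx2, hx3, hx4⟩
      rcases hz.cm_cases h he hf hx with h2 | ⟨_, h2⟩
      · have hfz : f ∈ cm M z := by rw [← h2]; exact hx.mem_self h hf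
        rw [hz.proj_of_mem h hfz]
        by_cases f1 : f = e
        · exact Or.inr (Or.inl f1)
        by_cases f2 : f = z • e
        · exact Or.inr (Or.inr (Or.inl f2))
        exact Or.inr (Or.inr (Or.inr (hcon f hf hfz f1 f2)))
      · rw [hz.proj_of_fix h (h2 (hx.mem_self h hf))]
        exact S.zero_mem
    intro m
    rw [← hπ]
    have : m ∈ S.comap π := by rw [h1]; trivial
    exact this
  have h2 := hS r
  rw [hz.proj_of_mem h hrz] at h2
  have hae := h.mem e he
  rcases h2 with h2 | h2 | h2 | h2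
  · exact hr0 h2
  · exact hre h2
  · exact h.ne_zero e he (hz.inf_eq h he hae hr h2)
  · -- `z r = z³ e = e`
    have h3 : e = z • r := by rw [h2, hz.z3]
    exact hr0 (hz.inf_eq h he hr hae h3)

/-- `m` lies on the `⟨z⟩`-orbit of `v` -/
def Ln (z : H) (v m : M) : Prop := m = v ∨ m = z • v ∨ m = z • z • v

theorem Ln.symm {z : H} (hz : ∀ m : M, z • z • z • m = m) {v m : M} (h : Ln z v m) : Ln z m v := by
  rcases h with rfl | rfl | rfl
  · exact Or.inl rfl
  · exact Or.inr (Or.inr (hz _).symm)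
  · exact Or.inr (Or.inl (hz _).symm)

theorem Ln.trans {z : H} (hz : ∀ m : M, z • z • z • m = m) {u v m : M} (h : Ln z u v) (h' : Ln z v m) :
    Ln z u m := by
  rcases h with rfl | rfl | rfl <;> rcases h' with rfl | rfl | rfl
  · exact Or.inl rfl
  · exact Or.inr (Or.inl rfl)
  · exact Or.inr (Or.inr rfl)
  · exact Or.inr (Or.inl rfl)
  · exact Or.inr (Or.inr rfl)
  · exact Or.inl (hz _)
  · exact Or.inr (Or.inr rfl)
  · exact Or.inl (hz _)
  · exact Or.inr (Or.inl (hz _))

theorem Ln.smul {z g : H} (hg : g * z = z * g) {v m : M} (h : Ln z v m) : Ln z (g • v) (g • m) := by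
  rcases h with rfl | rfl | rfl
  · exact Or.inl rfl
  · refine Or.inr (Or.inl ?_)
    rw [← mul_smul, hg, mul_smul]
  · refine Or.inr (Or.inr ?_)
    rw [← mul_smul g, hg, mul_smul, ← mul_smul g, hg, mul_smul]

/-- the sixteen elements of `[M, z]` -/
theorem Zt.cases16 (hz : Zt a e z) (h : RT E a) (he : e ∈ E) {r : M} (hr : r ∈ cm M (a e)) (hr0 : r ≠ 0)
    (hre : r ≠ e) {m : M} (hm : m ∈ cm M z) :
    m = 0 ∨ Ln z e m ∨ Ln z r m ∨ Ln z (e + r) m ∨ Ln z (e + z • r) m ∨ Ln z (e + z • z • r) m := by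
  obtain ⟨c, hc, d, hd, rfl⟩ := hz.exists_eq h he hm
  have hae := h.mem e he
  have hc' := four_of_card h.two (h.card e he) hae hr (h.ne_zero e he) hr0 (Ne.symm hre) hc
  have hd' := four_of_card h.two (h.card e he) hae hr (h.ne_zero e he) hr0 (Ne.symm hre) hd
  have e0 := h.two e
  have e1 := h.two (z • e)
  have r0 := h.two r
  have r1 := h.two (z • r)
  have se := h.sum3 hz.pow (hz.le h he hae)
  have sr := h.sum3 hz.pow (hz.le h he hr)
  have ae : e + z • e = z • z • e := by
    calc e + z • e = (e + z • e + z • z • e) + (z • z • e + z • z • e) - (z • z • e + z • z • e)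
          - z • z • e := by abel
      _ = z • z • e := by rw [se, h.two, zero_add, sub_zero, zero_sub]; exact neg_eq_of_add_eq_zero_left (h.two _)
  have ar : r + z • r = z • z • r := by
    calc r + z • r = (r + z • r + z • z • r) + (z • z • r + z • z • r) - (z • z • r + z • z • r)
          - z • z • r := by abel
      _ = z • z • r := by rw [sr, h.two, zero_add, sub_zero, zero_sub]; exact neg_eq_of_add_eq_zero_left (h.two _)
  rcases hc' with hc' | hc' | hc' | hc' <;> rcases hd' with hd' | hd' | hd' | hd' <;> rw [hc', hd']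
  · left; simp
  · right; left; right; left; simp
  · right; right; left; right; left; simp
  · right; right; right; left; right; left; simp
  · right; left; left; simp
  · right; left; right; right; exact ae
  · right; right; right; right; left; left; rfl
  · -- `e + z (e + r) = z² (e + z² r)`
    right; right; right; right; right; right; right
    rw [smul_add, smul_add, smul_add, hz.z3, ← add_assoc, ae]
  · right; right; left; left; simp
  · -- `r + z e = z (e + z² r)`
    right; right; right; right; right; right; left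
    rw [smul_add, hz.z3, add_comm]
  · right; right; left; right; right; exact ar
  · -- `r + z (e + r) = z (e + z r)`
    right; right; right; right; left; right; left
    rw [smul_add, smul_add, ← ar]; abel
  · right; right; right; left; left; simp
  · -- `e + r + z e = z² (e + z r)`
    right; right; right; right; left; right; right
    rw [smul_add, smul_add, hz.z3, ← ae]; abel
  · -- `e + r + z r = e + z² r`
    right; right; right; right; right; left
    rw [← ar]; abel
  · right; right; right; left; right; right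
    rw [smul_add, smul_add, ← ae, ← ar]; abel

theorem Zt.Ln_mem (h : RT E a) {v m : M} (hv : v ∈ E) (hm : Ln z v m) : m ∈ E := by
  rcases hm with rfl | rfl | rfl
  · exact hv
  · exact h.inv z v hv
  · exact h.inv z _ (h.inv z v hv)

/-- `[M, z]` contains `e + z r`, `e + z² r ∈ E` for `r ∈ [M, a e]`, `r ≠ 0, e` -/
theorem Zt.er_mem (hz : Zt a e z) (h : RT E a) (he : e ∈ E) (hne : pCore 3 H ≠ ⊥) {r : M}
    (hr : r ∈ cm M (a e)) (hr0 : r ≠ 0) (hre : r ≠ e) : e + z • r ∈ E ∧ e + z • z • r ∈ E := by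
  obtain ⟨f, hf, hfz, f1, f2, f3⟩ := hz.exists_other h he hne
  have hz3 := hz.z3 (M := M)
  have hae := h.mem e he
  have har : a e • r = r := h.a_smul he hr
  have haee : a e • e = e := h.a_smul he hae
  have a1 : a e • (e + z • r) = e + z • z • r := by rw [smul_add, haee, hz.a_z h he, har]
  have a2 : a e • (e + z • z • r) = e + z • r := by
    rw [smul_add, haee, hz.a_z h he, hz.a_z h he, har, hz3]
  have hrE : r ∉ E := fun hrE => hre (h.only e he r hrE hr)
  have herE : e + r ∉ E := fun hE => hr0 (by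
    have := h.only e he _ hE ((cm M (a e)).add_mem hae hr)
    simpa using this)
  rcases hz.cases16 h he hr hr0 hre hfz with h1 | h1 | h1 | h1 | h1 | h1
  · exact absurd h1 (h.ne_zero f hf)
  · exfalso
    rcases h1 with h1 | h1 | h1
    · exact f1 h1
    · exact f2 h1
    · exact f3 h1
  · exact absurd (Zt.Ln_mem h hf (h1.symm hz3)) hrE
  · exact absurd (Zt.Ln_mem h hf (h1.symm hz3)) herE
  · have h2 : e + z • r ∈ E := Zt.Ln_mem h hf (h1.symm hz3)
    refine ⟨h2, ?_⟩
    rw [← a1]
    exact h.inv _ _ h2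
  · have h2 : e + z • z • r ∈ E := Zt.Ln_mem h hf (h1.symm hz3)
    refine ⟨?_, h2⟩
    rw [← a2]
    exact h.inv _ _ h2

/-- the vectors of `[M, z]` outside `E` -/
theorem Zt.not_mem (hz : Zt a e z) (h : RT E a) (he : e ∈ E) (hne : pCore 3 H ≠ ⊥) {r : M}
    (hr : r ∈ cm M (a e)) (hr0 : r ≠ 0) (hre : r ≠ e) {m : M} (hm : m ∈ cm M z) (hm0 : m ≠ 0)
    (hmE : m ∉ E) : Ln z r m ∨ Ln z (e + r) m := by
  obtain ⟨e1, e2⟩ := hz.er_mem h he hne hr hr0 hre
  rcases hz.cases16 h he hr hr0 hre hm with h1 | h1 | h1 | h1 | h1 | h1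
  · exact absurd h1 hm0
  · exact absurd (Zt.Ln_mem h he h1) hmE
  · exact Or.inl h1
  · exact Or.inr h1
  · exact absurd (Zt.Ln_mem h e1 h1) hmE
  · exact absurd (Zt.Ln_mem h e2 h1) hmE

/-- `r` and `e + r` lie on different lines -/
theorem Zt.not_Ln (hz : Zt a e z) (h : RT E a) (he : e ∈ E) {r : M}
    (hr : r ∈ cm M (a e)) (hr0 : r ≠ 0) (hre : r ≠ e) : ¬ Ln z r (e + r) := by
  have hae := h.mem e he
  have her := (cm M (a e)).add_mem hae hr
  rintro (h1 | h1 | h1)
  · exact h.ne_zero e he (by simpa using h1)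
  · exact hr0 (hz.inf_eq h he hr her h1)
  · have h2 : r = z • (e + r) := by rw [h1, hz.z3]
    have h3 := hz.inf_eq h he her hr h2
    exact hre (add_left_cancel (h3.trans (h.two e).symm))

/-- an element `g` commuting with `z`, of odd order, with `g E = E`: it fixes the two lines -/
theorem Zt.lines_fix (hz : Zt a e z) (h : RT E a) (he : e ∈ E) (hne : pCore 3 H ≠ ⊥) {r : M}
    (hr : r ∈ cm M (a e)) (hr0 : r ≠ 0) (hre : r ≠ e) {g : H} (hg : g * z = z * g) {n : ℕ}
    (hn : n % 2 = 1) (hgn : g ^ n = 1) : Ln z r (g • r) ∧ Ln z (e + r) (g • (e + r)) := by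
  have hz3 := hz.z3 (M := M)
  have hae := h.mem e he
  have her := (cm M (a e)).add_mem hae hr
  have hrE : r ∉ E := fun hrE => hre (h.only e he r hrE hr)
  have herE : e + r ∉ E := fun hE => hr0 (by
    have := h.only e he _ hE her
    simpa using this)
  have her0 : e + r ≠ 0 := fun h3 => hre (add_left_cancel (h3.trans (h.two e).symm))
  have hgE : ∀ m : M, m ∉ E → g • m ∉ E := fun m hm hgm => hm (by
    have := h.inv g⁻¹ _ hgm
    rwa [inv_smul_smul] at this)
  have hg0 : ∀ m : M, m ≠ 0 → g • m ≠ 0 := fun m hm hgm => hm ((smul_eq_zero_iff_eq g).mp hgm)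
  have hgi : g⁻¹ * z = z * g⁻¹ := (show Commute g z from hg).inv_left
  have hnL := hz.not_Ln h he hr hr0 hre
  have c1 := hz.not_mem h he hne hr hr0 hre (smul_mem_cm_of_comm hg (hz.le h he hr)) (hg0 r hr0) (hgE r hrE)
  have c2 := hz.not_mem h he hne hr hr0 hre (smul_mem_cm_of_comm hg (hz.le h he her)) (hg0 _ her0) (hgE _ herE)
  have hback : ¬ Ln z (g • r) (g • (e + r)) := by
    intro h1
    have h2 := Ln.smul hgi h1
    rw [inv_smul_smul, inv_smul_smul] at h2
    exact hnL h2
  rcases c1 with c1 | c1 <;> rcases c2 with c2 | c2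
  · exact absurd ((c1.symm hz3).trans hz3 c2) hback
  · exact ⟨c1, c2⟩
  · exfalso
    have key : ∀ i : ℕ, Ln z (e + r) (g ^ (2 * i + 1) • r) := by
      intro i
      induction i with
      | zero => simpa using c1
      | succ i ih =>
        have h1 := c2.trans hz3 (Ln.smul hg ih)
        have h2 := c1.trans hz3 (Ln.smul hg h1)
        have e1 : g ^ (2 * (i + 1) + 1) • r = g • g • g ^ (2 * i + 1) • r := by
          simp only [← mul_smul]
          congr 1
          rw [show 2 * (i + 1) + 1 = (2 * i + 1) + 1 + 1 by ring, pow_succ', pow_succ']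
        rw [e1]
        exact h2
    have h1 := key (n / 2)
    rw [show 2 * (n / 2) + 1 = n by omega, hgn, one_smul] at h1
    exact hnL (h1.symm hz3)
  · exact absurd ((c1.symm hz3).trans hz3 c2) hback

/-- The case `O_3(H) ≠ 1`, `C_H(O_3(H)) ≤ O_3(H)` is impossible. -/
theorem false_of_three (h : RT E a) (hne : pCore 3 H ≠ ⊥)
    (hF : centralizer (pCore 3 H : Set H) ≤ pCore 3 H) : False := by
  obtain ⟨e, he⟩ := h.ne
  obtain ⟨z, hz1, hz2, hz3, hz4⟩ := h.exists_z Nat.prime_three hne he
  have hz : Zt a e z := ⟨hz1, hz2, hz3, hz4⟩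
  obtain ⟨r, hr, hr0, hre⟩ := exists_third (h.card e he) e
  have z3 := hz.z3 (M := M)
  have hae := h.mem e he
  have her := (cm M (a e)).add_mem hae hr
  have hrz := hz.le h he hr
  have hez := hz.le h he hae
  have herz := hz.le h he her
  obtain ⟨hP, hQ⟩ := hz.er_mem h he hne hr hr0 hre
  have sr := h.sum3 hz.pow hrz
  have se := h.sum3 hz.pow hez
  have hrE : r ∉ E := fun hrE => hre (h.only e he r hrE hr)
  -- the element `f = e + z r`
  obtain ⟨f, hf⟩ : ∃ f, f = e + z • r := ⟨_, rfl⟩
  rw [← hf] at hP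
  have hfz : f ∈ cm M z := by rw [hf]; exact (cm M z).add_mem hez (smul_self_mem_cm hrz)
  obtain ⟨x, hx1, hx2, hx3, hx4⟩ := h.exists_z Nat.prime_three hne hP
  have hx : Zt a f x := ⟨hx1, hx2, hx3, hx4⟩
  have hxz : cm M x = cm M z := hz.cm_eq_of_mem h he hP hx hfz
  have hxc : x * z = z * x := zp_comm hx.mem hz.mem
  -- `a f` on `[M, z]` and on `C_M(z)`
  have haf : ∀ m ∈ cm M z, a f • m ∈ cm M z := by
    intro m hm
    rw [← hxz] at hm ⊢
    exact smul_mem_cm_of_inv (conj_eq_inv (h.sq f hP) hx.inv) hm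
  have hfix : ∀ m ∈ fx M z, x • m = m := by
    intro m hm
    have h1 : x • m + m ∈ cm M z := by rw [← hxz]; exact mem_cm_self x m
    have h2 : z • (x • m + m) = x • m + m := by
      rw [smul_add, ← mul_smul, ← hxc, mul_smul, mem_fx.mp hm]
    exact add_right_cancel ((hz.zero_of_mem h h1 h2).trans (h.two m).symm)
  have haf2 : ∀ m ∈ fx M z, a f • m = m := by
    intro m hm
    have h1 : a f • m + m ∈ cm M x := hx.le h hP (mem_cm_self _ m)
    have h2 : x • a f • m = a f • m :=
      smul_mem_fx_of_inv (conj_eq_inv (h.sq f hP) hx.inv) (show m ∈ fx M x from hfix m hm)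
    have h3 : x • (a f • m + m) = a f • m + m := by rw [smul_add, h2, hfix m hm]
    exact add_right_cancel ((hx.zero_of_mem h h1 h3).trans (h.two m).symm)
  have hae2 : ∀ m ∈ fx M z, a e • m = m := by
    intro m hm
    have h1 : a e • m + m ∈ cm M z := hz.le h he (mem_cm_self _ m)
    have h2 : z • a e • m = a e • m :=
      smul_mem_fx_of_inv (conj_eq_inv (h.sq e he) hz.inv) hm
    have h3 : z • (a e • m + m) = a e • m + m := by rw [smul_add, h2, mem_fx.mp hm]
    exact add_right_cancel ((hz.zero_of_mem h h1 h3).trans (h.two m).symm)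
  -- `a f` inverts `z` on `[M, z]`
  have hafz : ∀ m ∈ cm M z, a f • z • m = z • z • a f • m := by
    have hxa := hx.a_z h hP
    intro m hm
    rcases hz.act_cases h he hx.mem hx.pow with h1 | h1 | h1
    · exfalso
      have h2 : f ∈ cm M x := by rw [hxz]; exact hfz
      exact h.ne_zero f hP (hx.zero_of_mem h h2 (h1 f hfz))
    · rw [← h1 m hm, hxa, h1 _ (haf m hm), h1 _ (smul_self_mem_cm (haf m hm))]
    · have h4 : z • m = x • x • m := by
        rw [h1 m hm, h1 _ (smul_self_mem_cm (smul_self_mem_cm hm)), z3]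
      rw [h4, hxa, hxa, hx.z3, h1 _ (haf m hm)]
  -- the commutator space of `a f`
  have hfE : ∀ s ∈ cm M (a f), s ≠ 0 → s ≠ f → s ∉ E := fun s hs _ hsf hsE => hsf (h.only f hP s hsE hs)
  have key : z • z • r ∈ cm M (a f) ∧ e + r ∈ cm M (a f) := by
    obtain ⟨s, hs, hs0, hsf⟩ := exists_third (h.card f hP) f
    have hff := h.mem f hP
    have hsz : s ∈ cm M z := by rw [← hxz]; exact hx.le h hP hs
    have hsfz : s + f ∈ cm M z := (cm M z).add_mem hsz hfz
    have hsf' : s + f ∈ cm M (a f) := (cm M (a f)).add_mem hs hff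
    have hsE := hfE s hs hs0 hsf
    have hsfE : s + f ∉ E := hfE (s + f) hsf' (fun e1 => hsf (add_right_cancel (e1.trans (h.two f).symm)))
      (fun e1 => hs0 (by simpa using e1))
    have hrr : z • z • r = r + z • r := by
      have e1 : (r + z • r) + z • z • r = 0 := sr
      exact (add_left_cancel (e1.trans (h.two (r + z • r)).symm))
    have hee : z • z • e = e + z • e := by
      have e1 : (e + z • e) + z • z • e = 0 := se
      exact (add_left_cancel (e1.trans (h.two (e + z • e)).symm))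
    have t1 : z • z • r + f = e + r := by
      rw [hf, hrr]
      calc r + z • r + (e + z • r) = e + r + (z • r + z • r) := by abel
        _ = e + r := by rw [h.two, add_zero]
    have t2 : (e + r) + f = z • z • r := by
      rw [hf, hrr]
      calc e + r + (e + z • r) = (e + e) + (r + z • r) := by abel
        _ = r + z • r := by rw [h.two, zero_add]
    have t3 : r + f = e + z • z • r := by rw [hf, hrr]; abel
    have t4 : z • r + f = e := by
      rw [hf]
      calc z • r + (e + z • r) = e + (z • r + z • r) := by abel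
        _ = e := by rw [h.two, add_zero]
    have t5 : z • (e + r) + f = z • z • e := by
      rw [hf, hee, smul_add]
      calc z • e + z • r + (e + z • r) = e + z • e + (z • r + z • r) := by abel
        _ = e + z • e := by rw [h.two, add_zero]
    have t6 : z • z • (e + r) + f = z • (e + z • z • r) := by
      rw [hf, smul_add, smul_add, smul_add, z3, hee, hrr]
      calc e + z • e + (r + z • r) + (e + z • r) = z • e + r + (e + e) + (z • r + z • r) := by abel
        _ = z • e + r := by rw [h.two, h.two, add_zero, add_zero]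
    rcases hz.not_mem h he hne hr hr0 hre hsz hs0 hsE with (h1 | h1 | h1) | (h1 | h1 | h1)
    · exact absurd (by rw [h1, t3]; exact hQ) hsfE
    · exact absurd (by rw [h1, t4]; exact he) hsfE
    · rw [h1] at hs hsf'
      rw [t1] at hsf'
      exact ⟨hs, hsf'⟩
    · rw [h1] at hs hsf'
      rw [t2] at hsf'
      exact ⟨hsf', hs⟩
    · exact absurd (by rw [h1, t5]; exact h.inv _ _ (h.inv _ _ he)) hsfE
    · exact absurd (by rw [h1, t6]; exact h.inv _ _ hQ) hsfE
  have haee : ∀ m ∈ cm M z, a e • m ∈ cm M z := fun m hm =>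
    smul_mem_cm_of_inv (conj_eq_inv (h.sq e he) hz.inv) hm
  -- the element `b = a f * a e`
  obtain ⟨b, hb⟩ : ∃ b, b = a f * a e := ⟨_, rfl⟩
  have hbr : b • r = z • r := by
    rw [hb, mul_smul, h.a_smul he hr]
    have h1 := h.a_smul hP key.1
    rw [hafz _ (smul_self_mem_cm hrz), hafz _ hrz, z3] at h1
    exact MulAction.injective z h1
  have hber : b • (e + r) = e + r := by
    rw [hb, mul_smul, h.a_smul he her, h.a_smul hP key.2]
  have hbz : ∀ m ∈ cm M z, b • z • m = z • b • m := by
    intro m hm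
    rw [hb, mul_smul, mul_smul, hz.a_z h he, hafz _ (smul_self_mem_cm (haee m hm)), hafz _ (haee m hm), z3]
  have hbfx : ∀ m ∈ fx M z, b • m = m := by
    intro m hm
    rw [hb, mul_smul, hae2 m hm, haf2 m hm]
  have hbcm : ∀ m ∈ cm M z, b • m ∈ cm M z := by
    intro m hm
    rw [hb, mul_smul]
    exact haf _ (haee _ hm)
  have hdec : ∀ F : AddSubgroup M, (∀ m ∈ fx M z, m ∈ F) → r ∈ F → e + r ∈ F →
      (∀ m ∈ cm M z, m ∈ F → z • m ∈ F) → ∀ m : M, m ∈ F := by
    intro F hF1 hF2 hF3 hF4 m
    have heF : e ∈ F := by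
      have := F.sub_mem hF3 hF2
      rwa [add_sub_cancel_right] at this
    have hAF : ∀ c ∈ cm M (a e), c ∈ F := by
      intro c hc
      rcases four_of_card h.two (h.card e he) hae hr (h.ne_zero e he) hr0 (Ne.symm hre) hc with h1 | h1 | h1 | h1
      · rw [h1]; exact F.zero_mem
      · rw [h1]; exact heF
      · rw [h1]; exact hF2
      · rw [h1]; exact hF3
    obtain ⟨c, hc, d, hd, hcd⟩ := hz.exists_eq h he (hz.proj_mem h m)
    have e1 : m = (z • m + z • z • m) + (m + z • m + z • z • m) := by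
      calc m = m + ((z • m + z • z • m) + (z • m + z • z • m)) := by rw [h.two, add_zero]
        _ = _ := by abel
    rw [e1, hcd]
    exact F.add_mem (F.add_mem (hAF c hc) (hF4 d (hz.le h he hd) (hAF d hd))) (hF1 _ (hz.proj_fix h m))
  have hb3 : b ^ 3 = 1 := by
    apply h.faithful
    have hact : ∀ m : M, b ^ 3 • m = b • b • b • m := by
      intro m
      rw [pow_three, mul_smul, mul_smul]
    let F : AddSubgroup M := fx M (b ^ 3)
    refine hdec F ?_ ?_ ?_ ?_
    · intro m hm
      change b ^ 3 • m = m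
      rw [hact, hbfx m hm, hbfx m hm, hbfx m hm]
    · change b ^ 3 • r = r
      rw [hact, hbr, hbz r hrz, hbr, hbz _ (smul_self_mem_cm hrz), hbz _ hrz, hbr, z3]
    · change b ^ 3 • (e + r) = e + r
      rw [hact, hber, hber, hber]
    · intro m hm hmF
      change b ^ 3 • m = m at hmF
      change b ^ 3 • z • m = z • m
      rw [hact] at hmF ⊢
      rw [hbz m hm, hbz _ (hbcm m hm), hbz _ (hbcm _ (hbcm m hm)), hmF]
  have hbC : b ∈ centralizer (pCore 3 H : Set H) := by
    rw [mem_centralizer_iff]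
    intro g hg
    have hgz : g * z = z * g := (mem_centralizer_iff.mp hz1.2) g hg
    obtain ⟨k, hk⟩ := Lib.Cores.pCore_isPGroup (G := H) 3 ⟨g, hg⟩
    have hk' : g ^ 3 ^ k = 1 := by simpa using congrArg Subtype.val hk
    have hodd : 3 ^ k % 2 = 1 := Nat.odd_iff.mp (Odd.pow (by decide))
    obtain ⟨l1, l2⟩ := hz.lines_fix h he hne hr hr0 hre hgz hodd hk'
    have hgzm : ∀ m : M, g • z • m = z • g • m := by
      intro m
      rw [← mul_smul, hgz, mul_smul]
    have hcomm : ∀ m : M, b • g • m = g • b • m := by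
      let F : AddSubgroup M :=
        { carrier := {m | b • g • m = g • b • m}
          add_mem' := by
            intro u v hu hv
            rw [Set.mem_ofPred_eq] at *
            simp only [smul_add]
            rw [hu, hv]
          zero_mem' := by simp
          neg_mem' := by
            intro u hu
            rw [Set.mem_ofPred_eq] at *
            simp only [smul_neg]
            rw [hu] }
      refine hdec F ?_ ?_ ?_ ?_
      · intro m hm
        change b • g • m = g • b • m
        rw [hbfx m hm, hbfx _ (smul_mem_fx_of_comm hgz hm)]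
      · change b • g • r = g • b • r
        rw [hbr, hgzm]
        rcases l1 with l1 | l1 | l1 <;> rw [l1]
        · exact hbr
        · rw [hbz _ hrz, hbr]
        · rw [hbz _ (smul_self_mem_cm hrz), hbz _ hrz, hbr]
      · change b • g • (e + r) = g • b • (e + r)
        rw [hber]
        rcases l2 with l2 | l2 | l2 <;> rw [l2]
        · exact hber
        · rw [hbz _ herz, hber]
        · rw [hbz _ (smul_self_mem_cm herz), hbz _ herz, hber]
      · intro m hm hmF
        change b • g • m = g • b • m at hmF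
        change b • g • z • m = g • b • z • m
        rw [hgzm, hbz _ (smul_mem_cm_of_comm hgz hm), hmF, hbz _ hm, hgzm]
    have h1 : (b * g)⁻¹ * (g * b) = 1 := by
      apply h.faithful
      intro m
      rw [mul_smul, mul_smul, ← hcomm, ← mul_smul b, inv_smul_smul]
    exact (inv_mul_eq_one.mp h1).symm
  have hbP := hF hbC
  have hbi : a e * b * a e = b⁻¹ := by
    rw [hb, mul_inv_rev, inv_eq_of_mul_eq_one_left (h.sq e he), inv_eq_of_mul_eq_one_left (h.sq f hP),
      mul_assoc, mul_assoc, h.sq e he, mul_one]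
  have hb1 : b ≠ 1 := by
    intro e1
    rw [e1, one_smul] at hbr
    exact hr0 (hz.zero_of_mem h hrz hbr.symm)
  rcases card_cases h.two h.faithful (h.sq e he) hbi (h.card e he) Nat.prime_three (by norm_num) hb3 hb1 with
    ⟨_, h1⟩ | ⟨_, h1⟩
  · exact h.nat e he b hbP hb3 hbi h1
  · have h2 := (cm_le_of_card h.two (h.sq e he) hbi (by norm_num : 3 % 2 = 1) hb3 (h.card e he) h1).1 her
    have h3 := eq_zero_of_mem h.two (by norm_num : 3 % 2 = 1) hb3 h2 hber
    exact hre (add_left_cancel (h3.trans (h.two e).symm))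

end three

/-! ### elements of order 5 -/

section five

variable [Finite H] [Finite M] {e : M} {z : H}

theorem card_five (h : RT E a) (he : e ∈ E) (hz1 : z ≠ 1) (hz5 : z ^ 5 = 1) (hzi : a e * z * a e = z⁻¹) :
    Nat.card (cm M z) = 16 := by
  rcases card_cases h.two h.faithful (h.sq e he) hzi (h.card e he) Nat.prime_five (by norm_num) hz5 hz1 with
    ⟨h1, _⟩ | ⟨_, h1⟩
  · norm_num at h1
  · exact h1

/-- `z` of order 5 inverted by `a e`: a nonzero vector of `[M, z]` is a translate of a vector of `[M, a e]` -/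
theorem exists_five (h : RT E a) (he : e ∈ E) (hz1 : z ≠ 1) (hz5 : z ^ 5 = 1) (hzi : a e * z * a e = z⁻¹)
    {m : M} (hm : m ∈ cm M z) (hm0 : m ≠ 0) :
    ∃ i : ℕ, i < 5 ∧ ∃ c ∈ cm M (a e), c ≠ 0 ∧ m = z ^ i • c := by
  classical
  have hB := h.card_five he hz1 hz5 hzi
  have hle := (cm_le_of_card h.two (h.sq e he) hzi (by norm_num : 5 % 2 = 1) hz5 (h.card e he) hB).1
  -- powers of `z` have no fixed points on `[M, z]`
  have hfpf : ∀ k : ℤ, ¬ (5 : ℤ) ∣ k → ∀ c ∈ cm M z, z ^ k • c = c → c = 0 := by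
    intro k hk c hc hkc
    have hcop : IsCoprime k 5 := by
      rw [Int.isCoprime_iff_gcd_eq_one, Int.gcd_comm]
      exact (Nat.Prime.coprime_iff_not_dvd Nat.prime_five).mpr fun hd => hk (Int.natCast_dvd.mpr hd)
    obtain ⟨u, v, huv⟩ := hcop
    have h1 : z = (z ^ k) ^ u * (z ^ (5 : ℤ)) ^ v := by
      rw [← zpow_mul, ← zpow_mul, ← zpow_add, mul_comm k u, mul_comm 5 v, huv, zpow_one]
    have h2 : z ^ k ∈ MulAction.stabilizer H c := hkc
    have h3 : z ∈ MulAction.stabilizer H c := by
      rw [h1]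
      refine mul_mem (zpow_mem h2 u) (zpow_mem ?_ v)
      have : z ^ (5 : ℤ) = 1 := by exact_mod_cast hz5
      rw [this]
      exact one_mem _
    exact eq_zero_of_mem h.two (by norm_num : 5 % 2 = 1) hz5 hc h3
  have hzpow : ∀ (i : ℕ) (c : M), c ∈ cm M z → z ^ i • c ∈ cm M z := by
    intro i c hc
    exact smul_mem_cm_of_comm (Commute.pow_self z i) hc
  let S := {c : cm M (a e) // c ≠ 0}
  let T := {b : cm M z // b ≠ 0}
  let g : Fin 5 × S → T := fun ic => ⟨⟨z ^ (ic.1 : ℕ) • (ic.2.1 : M), hzpow _ _ (hle ic.2.1.2)⟩, fun h0 => by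
    have h1 : z ^ (ic.1 : ℕ) • (ic.2.1 : M) = 0 := congrArg Subtype.val h0
    exact ic.2.2 (Subtype.ext ((smul_eq_zero_iff_eq _).mp h1))⟩
  have haz : ∀ (i : ℕ) (c : M), a e • c = c → a e • z ^ i • c = (z ^ i)⁻¹ • c := by
    intro i c hc
    have h1 : a e * z ^ i * a e = (z ^ i)⁻¹ := by
      have h2 : (a e)⁻¹ = a e := inv_eq_of_mul_eq_one_left (h.sq e he)
      have h3 : a e * z ^ i * a e = (a e * z * (a e)⁻¹) ^ i := by rw [conj_pow, h2]
      rw [h3, h2, hzi, inv_pow]
    rw [inv_smul_eq (h.sq e he) h1, hc]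
  have hinj : Function.Injective g := by
    rintro ⟨i, c, hc⟩ ⟨j, d, hd⟩ hg
    have h1 : z ^ (i : ℕ) • (c : M) = z ^ (j : ℕ) • (d : M) :=
      congrArg (fun t : T => ((t : cm M z) : M)) hg
    have h2 : a e • z ^ (i : ℕ) • (c : M) = a e • z ^ (j : ℕ) • (d : M) := by rw [h1]
    rw [haz _ _ (h.a_smul he c.2), haz _ _ (h.a_smul he d.2)] at h2
    have k1 : (d : M) = z ^ ((i : ℤ) - j) • (c : M) := by
      rw [zpow_sub, zpow_natCast, zpow_natCast, ← (Commute.pow_pow_self z i j).symm.inv_left.eq, mul_smul, h1,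
        inv_smul_smul]
    have k2 : (d : M) = z ^ (-((i : ℤ) - j)) • (c : M) := by
      rw [neg_sub, zpow_sub, zpow_natCast, zpow_natCast, mul_smul, h2, smul_inv_smul]
    have k3 : z ^ (2 * ((i : ℤ) - j)) • (c : M) = c := by
      rw [two_mul, zpow_add, mul_smul, ← k1, k2, zpow_neg, smul_inv_smul]
    have hij : (5 : ℤ) ∣ 2 * ((i : ℤ) - j) := by
      by_contra hnd
      exact hc (Subtype.ext (hfpf _ hnd c (hle c.2) k3))
    have hij2 : (i : ℤ) = j := by
      have hi := i.2
      have hj := j.2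
      omega
    have hij3 : i = j := Fin.ext (by exact_mod_cast hij2)
    subst hij3
    rw [sub_self, zpow_zero, one_smul] at k1
    have hcd : c = d := Subtype.ext k1.symm
    subst hcd
    rfl
  have hcS : Nat.card S = 3 := by
    have : Nat.card S + 1 = Nat.card (cm M (a e)) := by
      have := Nat.card_congr (Equiv.optionSubtypeNe (0 : cm M (a e)))
      rw [Finite.card_option] at this
      exact this
    rw [h.card e he] at this
    omega
  have hcT : Nat.card T = 15 := by
    have : Nat.card T + 1 = Nat.card (cm M z) := by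
      have := Nat.card_congr (Equiv.optionSubtypeNe (0 : cm M z))
      rw [Finite.card_option] at this
      exact this
    rw [hB] at this
    omega
  have hbij : Function.Bijective g := by
    rw [Nat.bijective_iff_injective_and_card]
    refine ⟨hinj, ?_⟩
    rw [Nat.card_prod, hcS, hcT, Nat.card_fin]
  obtain ⟨⟨i, c, hc⟩, hg⟩ := hbij.2 ⟨⟨m, hm⟩, fun h0 => hm0 (congrArg Subtype.val h0)⟩
  refine ⟨i, i.2, c, c.2, fun h0 => hc (Subtype.ext h0), ?_⟩
  exact (congrArg (fun t : T => ((t : cm M z) : M)) hg).symm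

/-- `E ∩ [M, z] = {z^i e}` -/
theorem exists_five_of_mem (h : RT E a) (he : e ∈ E) (hz1 : z ≠ 1) (hz5 : z ^ 5 = 1)
    (hzi : a e * z * a e = z⁻¹) {f : M} (hf : f ∈ E) (hfz : f ∈ cm M z) : ∃ i : ℕ, i < 5 ∧ f = z ^ i • e := by
  obtain ⟨i, hi, c, hc, _, hfc⟩ := h.exists_five he hz1 hz5 hzi hfz (h.ne_zero f hf)
  refine ⟨i, hi, ?_⟩
  have h1 : c ∈ E := by
    have := h.inv (z ^ i)⁻¹ f hf
    rwa [hfc, inv_smul_smul] at this
  rw [hfc, h.only e he c h1 hc]

theorem core_comm {p q : ℕ} (hp : p.Prime) (hq : q.Prime) (hpq : p ≠ q) {x y : H} (hx : x ∈ pCore p H)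
    (hy : y ∈ pCore q H) : x * y = y * x := by
  haveI := Fact.mk hp
  haveI := Fact.mk hq
  haveI := Lib.Cores.pCore_normal (G := H) p
  haveI := Lib.Cores.pCore_normal (G := H) q
  exact Subgroup.commute_of_normal_of_disjoint _ _ inferInstance inferInstance
    (IsPGroup.disjoint_of_ne p q hpq _ _ (Lib.Cores.pCore_isPGroup p) (Lib.Cores.pCore_isPGroup q)) x y hx hy

/-- `O_3(H)` and `O_5(H)` are not both nontrivial -/
theorem not_both (h : RT E a) (h3 : pCore 3 H ≠ ⊥) (h5 : pCore 5 H ≠ ⊥) : False := by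
  obtain ⟨e, he⟩ := h.ne
  obtain ⟨z, hz1, hz2, hz3, hz4⟩ := h.exists_z Nat.prime_three h3 he
  obtain ⟨y, hy1, hy2, hy3, hy4⟩ := h.exists_z Nat.prime_five h5 he
  have hz : Zt a e z := ⟨hz1, hz2, hz3, hz4⟩
  have hB := h.card_five he hy2 hy3 hy4
  have hle := (cm_le_of_card h.two (h.sq e he) hy4 (by norm_num : 5 % 2 = 1) hy3 (h.card e he) hB).1
  have hzy : z * y = y * z := core_comm Nat.prime_three Nat.prime_five (by norm_num) hz1.1 hy1.1
  have hae := h.mem e he
  have h1 : z • e ∈ cm M y := smul_mem_cm_of_comm hzy (hle hae)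
  obtain ⟨i, hi, h2⟩ := h.exists_five_of_mem he hy2 hy3 hy4 (h.inv z e he) h1
  have hzyi : ∀ m : M, z • y ^ i • m = y ^ i • z • m := by
    intro m
    rw [← mul_smul, ← mul_smul, ((show Commute z y from hzy).pow_right i).eq]
  have h3' : y ^ i • y ^ i • y ^ i • e = e := by
    have := hz.z3 e
    rw [h2, hzyi, hzyi, h2] at this
    rwa [hzyi, h2] at this
  have h4 : y ^ (3 * i) • e = e := by
    rw [show 3 * i = i + (i + i) by ring, pow_add, pow_add, mul_smul, mul_smul, h3']
  have h5' : z • e = e := by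
    rw [h2]
    have key : ∀ j : ℕ, y ^ (3 * i * j) • e = e := by
      intro j
      rw [pow_mul]
      exact pow_fix h4 j
    have h6 := key 2
    -- `3 * i * 2 = i + 5 * i`
    rw [show 3 * i * 2 = i + 5 * i by ring, pow_add, pow_mul, hy3, one_pow, mul_one] at h6
    exact h6
  exact h.ne_zero e he (hz.zero_of_mem h (hz.mem_self h he) h5')

theorem eq_three_or_five (h : RT E a) {p : ℕ} (hp : p.Prime) (hne : pCore p H ≠ ⊥) : p = 3 ∨ p = 5 := by
  obtain ⟨e, he⟩ := h.ne
  obtain ⟨z, hz1, hz2, hz3, hz4⟩ := h.exists_z hp hne he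
  have hp2 : p ≠ 2 := by
    rintro rfl
    exact hne h.o2
  rcases card_cases h.two h.faithful (h.sq e he) hz4 (h.card e he) hp hp2 hz3 hz2 with ⟨h1, _⟩ | ⟨h1, _⟩
  · exact Or.inl h1
  · exact h1

theorem pCore_three (h : RT E a) : pCore 3 H = ⊥ := by
  by_contra hne
  haveI := h.solv
  refine h.false_of_three hne ?_
  have h1 : fittingSubgroup H = pCore 3 H := by
    rw [Lib.Cores.fittingSubgroup_eq_iSup_pCore]
    refine le_antisymm (iSup_le fun p => ?_) (le_iSup (fun p : Nat.Primes => pCore (p : ℕ) H) ⟨3, Nat.prime_three⟩)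
    by_cases hp : pCore (p : ℕ) H = ⊥
    · rw [hp]; exact bot_le
    · rcases h.eq_three_or_five p.2 hp with h2 | h2
      · rw [h2]
      · rw [h2] at hp
        exact (h.not_both hne hp).elim
  rw [← h1]
  exact Cfsg.Agent.S0044.result

/-- Main result: `O_p(H) = 1` for `p ≠ 5` -/
theorem pCore_eq_bot (h : RT E a) {p : ℕ} (hp : p.Prime) (hp5 : p ≠ 5) : pCore p H = ⊥ := by
  by_contra hne
  rcases h.eq_three_or_five hp hne with h1 | h1
  · rw [h1] at hne
    exact hne h.pCore_three
  · exact hp5 h1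

theorem fitting_eq (h : RT E a) : fittingSubgroup H = pCore 5 H := by
  rw [Lib.Cores.fittingSubgroup_eq_iSup_pCore]
  refine le_antisymm (iSup_le fun p => ?_) (le_iSup (fun p : Nat.Primes => pCore (p : ℕ) H) ⟨5, Nat.prime_five⟩)
  by_cases hp : (p : ℕ) = 5
  · rw [hp]
  · rw [h.pCore_eq_bot p.2 hp]; exact bot_le

theorem centralizer_le (h : RT E a) : centralizer (pCore 5 H : Set H) ≤ pCore 5 H := by
  haveI := h.solv
  rw [← h.fitting_eq]
  exact Cfsg.Agent.S0044.result

/-- each `a e` inverts a central element of order 5 of `O_5(H)` -/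
theorem exists_z5 (h : RT E a) (he : e ∈ E) : ∃ z ∈ zp H 5, z ≠ 1 ∧ z ^ 5 = 1 ∧ a e * z * a e = z⁻¹ := by
  refine h.exists_z Nat.prime_five (fun hbot => ?_) he
  have h1 := h.centralizer_le
  rw [hbot] at h1
  have h2 : a e ∈ centralizer ((⊥ : Subgroup H) : Set H) := by
    rw [mem_centralizer_iff]
    intro g hg
    rw [SetLike.mem_coe, mem_bot] at hg
    rw [hg, one_mul, mul_one]
  exact h.a_ne he ((mem_bot).mp (h1 h2))

end five

end RT

end Cfsg.Agent.MinSimple.OddRTMod
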