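import Mathlib
import Cfsg.Agent.MinSimple.OddRTMod
import Cfsg.Agent.MinSimple.OddOne

/-!
# (E1)(b), `n = 1`, `k = 1`, rank two

`One T V z`, `R : Rep V x M X` the module `M = ws V x / ⟨x⟩` of `X = C(x) / kq V x`. `EE` is the set of line vectors,
`aa` the involution belonging to a line vector. If no `aa e` is a transvection, then `Pre (EE V x R) (aa R)`
(`pre`); if moreover `e ∈ [M, g]` for all `g` of order 3 inverted by `aa e` with `|[M, g]| = 4`, then
`RT (EE V x R) (aa R)` (`rt`), and `O_p(X) = 1` for all primes `p ≠ 5` (`pCore_eq_bot`).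
-/

set_option autoImplicit false
set_option linter.unusedSectionVars false
set_option linter.style.haveILetI false

namespace Cfsg.Agent.MinSimple.OddRankTwo

open Subgroup Cfsg Cfsg.Agent.ZN Cfsg.Agent.MinSimple.Geo Cfsg.Agent.MinSimple.BTwoA
  Cfsg.Agent.MinSimple.OddLine Cfsg.Agent.MinSimple.OddBase Cfsg.Agent.MinSimple.SecRep
  Cfsg.Agent.MinSimple.OddRep Cfsg.Agent.MinSimple.OddOne Cfsg.Agent.MinSimple.OddRTMod

universe u

variable {G : Type u} [Group G]

section defs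

variable {V : Subgroup G} {x : G} {M X : Type u} [AddCommGroup M] [Group X] [DistribMulAction X M]

/-- the line vectors -/
def EE (R : Rep V x M X) : Set M := {m | ∃ y, Col V x y ∧ R.pi y = m}

open Classical in
/-- the involution belonging to a line vector -/
noncomputable def aa (R : Rep V x M X) (m : M) : X :=
  if h : ∃ b, ∃ y, Col V x y ∧ R.pi y = m ∧ b ∈ ws V y ∧ b ∉ kq V x then R.rho h.choose else 1

theorem card_four_of {A : AddSubgroup M} [Finite M] (two : ∀ m : M, m + m = 0) {p q : M}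
    (hA : ∀ m ∈ A, m = 0 ∨ m = p ∨ m = q ∨ m = q + p)
    (hp : p ∈ A) (hq : q ∈ A) (hp1 : p ≠ 0) (hq1 : q ≠ 0) (hpq : q ≠ p) : Nat.card A = 4 := by
  have hpq1 : q + p ≠ 0 := fun e => hpq (by
    have := two p
    exact add_right_cancel (e.trans this.symm))
  have hpqp : q + p ≠ p := fun e => hq1 (by simpa using e)
  have hpqq : q + p ≠ q := fun e => hp1 (by simpa using e)
  have h1 : (A : Set M) = {0, p, q, q + p} := by
    apply Set.Subset.antisymm
    · intro m hm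
      rcases hA m hm with e | e | e | e
      · exact Or.inl e
      · exact Or.inr (Or.inl e)
      · exact Or.inr (Or.inr (Or.inl e))
      · exact Or.inr (Or.inr (Or.inr e))
    · rintro m (rfl | rfl | rfl | rfl)
      · exact A.zero_mem
      · exact hp
      · exact hq
      · exact A.add_mem hq hp
  have h2 : ({0, p, q, q + p} : Set M).ncard = 4 := by
    rw [Set.ncard_insert_of_notMem, Set.ncard_insert_of_notMem, Set.ncard_pair (Ne.symm hpqq)]
    · rintro (e | e)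
      · exact hpq e.symm
      · exact hpqp (Set.mem_singleton_iff.mp e).symm
    · rintro (e | e | e)
      · exact hp1 e.symm
      · exact hq1 e.symm
      · exact hpq1 (Set.mem_singleton_iff.mp e).symm
  rw [← h2, ← h1]; rfl

end defs

variable [Finite G] {T V : Subgroup G} {z x : G} {M X : Type u} [AddCommGroup M] [Group X] [DistribMulAction X M]

theorem aa_eq (h : One T V z) (R : Rep V x M X) {y : G} (hc : Col V x y) {b : G} (hb : b ∈ ws V y)
    (hn : b ∉ kq V x) : aa R (R.pi y) = R.rho b := by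
  have hex : ∃ b, ∃ y', Col V x y' ∧ R.pi y' = R.pi y ∧ b ∈ ws V y' ∧ b ∉ kq V x := ⟨b, y, hc, rfl, hb, hn⟩
  rw [aa, dif_pos hex]
  obtain ⟨y', hc', hpi, hb', hn'⟩ := hex.choose_spec
  exact h.rho_eq_of_pi_eq R hc' hc hpi hb' hb hn' hn

theorem col_conj {c y : G} (hcc : c ∈ centralizer ({x} : Set G)) (hc : Col V x y) : Col V x (c * y * c⁻¹) := by
  have hcx : c * x * c⁻¹ = x := by
    rw [mem_centralizer_singleton_iff.mp hcc]; group
  have hcol := hc.conj c
  rwa [hcx] at hcol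

/-- the action on line vectors -/
theorem exists_smul (R : Rep V x M X) {y : G} (hc : Col V x y) (g : X) :
    ∃ y', Col V x y' ∧ g • R.pi y = R.pi y' := by
  obtain ⟨c, hcc, rfl⟩ := R.rho_surj g
  exact ⟨c * y * c⁻¹, col_conj hcc hc, R.smul_pi c hcc y hc.mem_ws⟩

/-- (4'): a line vector in `[M, a]` is the line vector of `a` -/
theorem only (h : One T V z) (R : Rep V x M X) {y y' b : G} (hc : Col V x y) (hc' : Col V x y')
    (hb : b ∈ ws V y) (hf : R.pi y' ∈ cm M (R.rho b)) : R.pi y' = R.pi y := by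
  have hx := hc.pt_left h.toGeo
  obtain ⟨m, hm⟩ := hf
  obtain ⟨w, hw, rfl⟩ := R.pi_surj m
  rw [opr_apply, h.smul_add R hc hb hw] at hm
  have hcm := OddOne.comm_mem h.toOdd hc hw hb
  have hy'I : y' ∈ ws V x ⊓ ws V y := by
    rcases (OddRep.Rep.pi_eq_pi h.toOdd hx R hc'.mem_ws hcm.1).mp hm.symm with e | e
    · rw [e]; exact hcm
    · rw [e]
      exact mul_mem (⟨self_mem_ws h.toGeo hx, hc.symm.mem_ws⟩ : x ∈ ws V x ⊓ ws V y) hcm
  obtain ⟨g, _, hyg, ho⟩ := exists_odd_col h.toOdd hc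
  obtain ⟨g', _, hyg', ho'⟩ := exists_odd_col h.toOdd hc'
  have hxg := ho.z_mem
  have hx1 := ho.z_ne
  have hdd := ho.inf_eq_dd hxg hx1 hyg hc.2.1 hc.2.2.1
  rw [ws_cj, ws_cj] at hdd
  have hxI : x ∈ ws V x ⊓ ws V y := ⟨self_mem_ws h.toGeo hx, hc.symm.mem_ws⟩
  have hle : cj g' V ≤ dd (cj g V) := by
    intro v hv
    rw [← hdd]
    rcases ho'.toGeo.four ho'.z_mem hyg' hx1 hc'.2.1 hc'.2.2.1 hv with e | e | e | e
    · rw [e]; exact one_mem _
    · rw [e]; exact hxI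
    · rw [e]; exact hy'I
    · rw [e]; exact mul_mem hxI hy'I
  have hL : cj g' V ∈ lines (cj g V) x := by
    rw [lines_cj]
    exact ⟨⟨g', rfl⟩, ho'.z_mem⟩
  have heq := ho.eq_of_mem_lines hL hle
  rw [heq] at hyg'
  rcases ho.toGeo.four hxg hyg hx1 hc.2.1 hc.2.2.1 hyg' with e | e | e | e
  · exact absurd e hc'.2.1
  · exact absurd e.symm hc'.2.2.1
  · rw [e]
  · rw [e, OddRep.Rep.pi_self_mul h.toOdd hx R hc.mem_ws]

/-- The configuration of OddRTMod -/
theorem pre (h : One T V z) (hx : Pt z x) (R : Rep V x M X)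
    (htv : ∀ y b, Col V x y → b ∈ ws V y → b ∉ kq V x →
      ¬ ∃ n : M, ∀ m : M, R.rho b • m = m ∨ R.rho b • m = m + n) : Pre (EE R) (aa R) := by
  haveI : Finite M := Sec.finite_left R
  haveI : Finite X := Sec.finite_right R
  have two := OddRep.Rep.two h.toOdd hx R
  obtain ⟨y0, hy0⟩ := OddSmall.exists_col h.toOdd hx
  -- the shape of `[M, a]`
  have hshape : ∀ y, Col V x y → ∃ b ∈ ws V y, b ∉ kq V x ∧ aa R (R.pi y) = R.rho b ∧ ∃ m₀ : M, m₀ ≠ 0 ∧
      m₀ ≠ R.pi y ∧ m₀ ∈ cm M (R.rho b) ∧ R.pi y ∈ cm M (R.rho b) ∧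
      ∀ m ∈ cm M (R.rho b), m = 0 ∨ m = R.pi y ∨ m = m₀ ∨ m = m₀ + R.pi y := by
    intro y hc
    obtain ⟨b, hb, hn⟩ := h.exists_not_mem hc
    refine ⟨b, hb, hn, aa_eq h R hc hb hn, ?_⟩
    rcases h.cases R hc hb with h1 | ⟨m0, h1, h2, h3, h4, h5⟩
    · exact absurd h1 (htv y b hc hb hn)
    · refine ⟨m0, h1, h2, h5, h4, ?_⟩
      rintro _ ⟨m, rfl⟩
      exact h3 m
  refine
    { two := two
      faithful := R.faithful
      solv := OddRep.Rep.isSolvable h.toOdd hx R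
      o2 := OddRep.Rep.o2_eq_bot h.toOdd hx R (Lib.Cores.pCore_normal 2) (Lib.Cores.pCore_isPGroup 2)
      inv := ?_
      trans := ?_
      gen := ?_
      ne := ⟨R.pi y0, y0, hy0, rfl⟩
      ne_zero := ?_
      conj := ?_
      sq := ?_
      card := ?_
      mem := ?_
      only := ?_ }
  · rintro g _ ⟨y, hy, rfl⟩
    obtain ⟨y', hy', e⟩ := exists_smul R hy g
    exact ⟨y', hy', e.symm⟩
  · rintro _ ⟨y, hy, rfl⟩ _ ⟨y', hy', rfl⟩
    obtain ⟨g, hg⟩ := OddRep.Rep.exists_smul_line h.toOdd hx R hy hy'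
    exact ⟨g, hg.symm⟩
  · refine OddRep.Rep.eq_top_of_line h.toOdd hx R hy0 _ fun g => ?_
    obtain ⟨y', hy', e⟩ := exists_smul R hy0 g
    exact AddSubgroup.subset_closure ⟨y', hy', e.symm⟩
  · rintro _ ⟨y, hy, rfl⟩
    exact OddRep.Rep.pi_line_ne_zero h.toOdd hx R hy
  · rintro g _ ⟨y, hy, rfl⟩
    obtain ⟨y', hy', e⟩ := exists_smul R hy g
    obtain ⟨b, hb, hn, hab, -⟩ := hshape y hy
    obtain ⟨b', hb', hn', hab', -⟩ := hshape y' hy'
    rw [e, hab', hab]
    exact (h.rho_conj_eq R hy hy' e hb hb' hn hn').symm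
  · rintro _ ⟨y, hy, rfl⟩
    obtain ⟨b, hb, hn, hab, -⟩ := hshape y hy
    rw [hab]
    exact h.rho_sq R hy hb
  · rintro _ ⟨y, hy, rfl⟩
    obtain ⟨b, hb, hn, hab, m0, h1, h2, h3, h4, h5⟩ := hshape y hy
    rw [hab]
    exact card_four_of two h5 h4 h3 (OddRep.Rep.pi_line_ne_zero h.toOdd hx R hy) h1 h2
  · rintro _ ⟨y, hy, rfl⟩
    obtain ⟨b, hb, hn, hab, m0, h1, h2, h3, h4, h5⟩ := hshape y hy
    rw [hab]
    exact h4
  · rintro _ ⟨y, hy, rfl⟩ _ ⟨y', hy', rfl⟩ hf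
    obtain ⟨b, hb, hn, hab, -⟩ := hshape y hy
    rw [hab] at hf
    exact only h R hy hy' hb hf

/-- The configuration of OddRTMod without natural elements -/
theorem rt (h : One T V z) (hx : Pt z x) (R : Rep V x M X)
    (htv : ∀ y b, Col V x y → b ∈ ws V y → b ∉ kq V x →
      ¬ ∃ n : M, ∀ m : M, R.rho b • m = m ∨ R.rho b • m = m + n)
    (hD : ∀ y b g, Col V x y → b ∈ ws V y → b ∉ kq V x → g ∈ pCore 3 X → g ^ 3 = 1 → g ≠ 1 →
      R.rho b * g * R.rho b = g⁻¹ → Nat.card (cm M g) = 4 → R.pi y ∈ cm M g) : RT (EE R) (aa R) := by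
  haveI : Finite M := Sec.finite_left R
  haveI : Finite X := Sec.finite_right R
  refine (pre h hx R htv).toRT ?_
  rintro _ ⟨y, hy, rfl⟩ g hg hg3 hg1 hgi hg4
  obtain ⟨b, hb, hn⟩ := h.exists_not_mem hy
  rw [aa_eq h R hy hb hn] at hgi
  exact hD y b g hy hb hn hg hg3 hg1 hgi hg4

/-- **Main result**: in rank two `O_p(X) = 1` for all primes `p ≠ 5`. -/
theorem pCore_eq_bot (h : One T V z) (hx : Pt z x) (R : Rep V x M X)
    (htv : ∀ y b, Col V x y → b ∈ ws V y → b ∉ kq V x →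
      ¬ ∃ n : M, ∀ m : M, R.rho b • m = m ∨ R.rho b • m = m + n)
    (hD : ∀ y b g, Col V x y → b ∈ ws V y → b ∉ kq V x → g ∈ pCore 3 X → g ^ 3 = 1 → g ≠ 1 →
      R.rho b * g * R.rho b = g⁻¹ → Nat.card (cm M g) = 4 → R.pi y ∈ cm M g) {p : ℕ} (hp : p.Prime)
    (hp5 : p ≠ 5) : pCore p X = ⊥ := by
  haveI : Finite M := Sec.finite_left R
  haveI : Finite X := Sec.finite_right R
  exact (rt h hx R htv hD).pCore_eq_bot hp hp5

end Cfsg.Agent.MinSimple.OddRankTwo
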