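import Cfsg.Agent.MinSimple.OddNatEnd
import Cfsg.Agent.Classification.TitsFin.TriIn

/-!
# (E1)(b), `n = 1`, `k = 1`: the final configuration

`finHyp_of_one`: `One T V z` in a simple group gives `FinHyp z q`.
-/

set_option autoImplicit false

namespace Cfsg.Agent.MinSimple.OddOneEnd

open Subgroup Cfsg Cfsg.Agent.MinSimple.Geo
open Cfsg.Agent.MinSimple.OddOne (One)
open Cfsg.Agent.Classification.TitsFin (FinHyp)

universe u

variable {G : Type u} [Group G] [Finite G] {T V : Subgroup G} {z : G}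

/-- (T) for `n = 1`, `k = 1`. -/
theorem finHyp_of_one (hG : IsSimpleGroup G) (hi : ∀ N : Subgroup G, N.index ≠ 2) (h : One T V z) :
    ∃ q, FinHyp z q := by
  obtain ⟨M, X, _, _, _, ⟨R⟩⟩ := OddRep.exists_rep h.toOdd (OddBase.Pt.refl z)
  exact Classification.TitsFin.TriIn.finHyp h R
    (fun _ _ hc hb hn hR => OddNatEnd.false_of_tv hG h R hc hb hn hR) hi

/-- `n = 1`, `k = 1` does not occur in a minimal simple group. -/
theorem false_of_one (hm : IsMinimalSimple G) (h : One T V z) : False := by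
  obtain ⟨M, X, _, _, _, ⟨R⟩⟩ := OddRep.exists_rep h.toOdd (OddBase.Pt.refl z)
  exact Classification.TitsFin.TriIn.false_of_noTv h R
    (fun _ _ hc hb hn hR => OddNatEnd.false_of_tv hm.1 h R hc hb hn hR) hm

end Cfsg.Agent.MinSimple.OddOneEnd
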