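import Mathlib
import Cfsg.Agent.MinSimple.OddBase

/-!
# (E1)(b): collinear points and critical pairs

For collinear points `x`, `y` (line `{1, x, y, x * y}`):
* `inf_eq_mul`, `inf_eq_mul'`: `ws V x ⊓ ws V y = ws V x ⊓ ws V (x * y) = ws V y ⊓ ws V (x * y)`;
* `no_second`: there is no second line through `x` in `ws V x ⊓ ws V y`;
* `exists_swap`: `x` and `y` are interchanged by an element centralising a given
  `t ∈ ws V x ⊓ ws V y`, `t` not on the line;
* `Crit.not_mem_head` (= (Y)): if `(x, y)` is critical, `y ∈ ws V x` and `p` is the neighbour of `x`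
  on a path, then `y ∉ ws V p`.
-/

set_option autoImplicit false
set_option linter.unusedSectionVars false

namespace Cfsg.Agent.MinSimple.OddY

open Subgroup Cfsg Cfsg.Agent.ZN Cfsg.Agent.MinSimple.Geo Cfsg.Agent.MinSimple.BTwoA
  Cfsg.Agent.MinSimple.OddLine Cfsg.Agent.MinSimple.OddBase

universe u

variable {G : Type u} [Group G] [Finite G] {T V : Subgroup G} {z x y : G} {n : ℕ}

/-- the flag of a collinear pair -/
theorem exists_flag (h : Odd T V z) (hc : Col V x y) : ∃ g : G, x ∈ cj g V ∧ y ∈ cj g V ∧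
    x * y ∈ cj g V ∧ x * y ≠ 1 ∧ x * y ≠ x ∧ x * y ≠ y ∧ Odd (cj g T) (cj g V) x ∧
    ∀ t ∈ cj g V, t = 1 ∨ t = x ∨ t = y ∨ t = x * y := by
  obtain ⟨g, -, hy, h1⟩ := exists_odd_col h hc
  refine ⟨g, h1.z_mem, hy, mul_mem h1.z_mem hy, fun e => hc.2.2.1 ?_, fun e => hc.2.1 ?_,
    fun e => hc.1 ?_, h1, fun t ht => ?_⟩
  · have := mul_eq_one_iff_eq_inv.mp e
    rwa [h1.inv_eq hy] at this
  · exact mul_eq_left.mp e
  · exact mul_eq_right.mp e
  · exact h1.toGeo.four h1.z_mem hy hc.1 hc.2.1 hc.2.2.1 ht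

/-- `ws V x ⊓ ws V y = ws V x ⊓ ws V (x * y)` -/
theorem inf_eq_mul (h : Odd T V z) (hc : Col V x y) : ws V x ⊓ ws V y = ws V x ⊓ ws V (x * y) := by
  obtain ⟨g, hx, hy, hxy, h1, h2, h3, h', -⟩ := exists_flag h hc
  have e1 := h'.inf_eq_dd hx hc.1 hy hc.2.1 hc.2.2.1
  have e2 := h'.inf_eq_dd hx hc.1 hxy h1 h2.symm
  simp only [ws_cj] at e1 e2
  rw [e1, e2]

theorem inf_eq_mul' (h : Odd T V z) (hc : Col V x y) : ws V x ⊓ ws V y = ws V y ⊓ ws V (x * y) := by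
  obtain ⟨g, hx, hy, hxy, h1, h2, h3, h', -⟩ := exists_flag h hc
  have e1 := h'.inf_eq_dd hx hc.1 hy hc.2.1 hc.2.2.1
  have e2 := h'.inf_eq_dd hy hc.2.1 hxy h1 h3.symm
  simp only [ws_cj] at e1 e2
  rw [e1, e2]

theorem mem_ws_mul (h : Odd T V z) (hc : Col V x y) {t : G} (hx : t ∈ ws V x) (hy : t ∈ ws V y) :
    t ∈ ws V (x * y) :=
  ((inf_eq_mul h hc).le ⟨hx, hy⟩).2

/-- an element of `ws V x ⊓ ws V y` outside the line: `x`, `y` are interchanged in its centraliser -/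
theorem exists_swap (h : Odd T V z) (hc : Col V x y) {t : G} (htx : t ∈ ws V x) (hty : t ∈ ws V y)
    (ht1 : t ≠ 1) (ht2 : t ≠ x) (ht3 : t ≠ y) (ht4 : t ≠ x * y) :
    ∃ g ∈ kq V (x * y), g * t = t * g ∧ g * x * g⁻¹ = y ∧ g * y * g⁻¹ = x := by
  obtain ⟨g, hx, hy, hxy, h1, h2, h3, h', h4⟩ := exists_flag h hc
  have ht : t ∈ dd (cj g V) := by
    have := h'.inf_eq_dd hx hc.1 hy hc.2.1 hc.2.2.1
    simp only [ws_cj] at this
    rw [← this]; exact ⟨htx, hty⟩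
  have htV : t ∉ cj g V := fun e => by
    rcases h4 t e with e | e | e | e
    · exact ht1 e
    · exact ht2 e
    · exact ht3 e
    · exact ht4 e
  obtain ⟨k, hk, hkt, hk2⟩ := h'.exists_swap_comm ht htV hxy h1
  rw [OddBase.kq_cj_left] at hk
  have hxx : x * x = 1 := h'.toGeo.zz
  have hyy : y * y = 1 := h'.toGeo.sq y hy
  have hcm : x * y = y * x := hc.mul_comm h
  refine ⟨k, hk, hkt, ?_, ?_⟩
  · rw [hk2 x hx hc.1 h2.symm, hcm, mul_assoc, hxx, mul_one]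
  · rw [hk2 y hy hc.2.1 h3.symm, mul_assoc, hyy, mul_one]

/-- there is no second line through `x` in `ws V x ⊓ ws V y` -/
theorem no_second (h : Odd T V z) (hc : Col V x y) {w : G} (hw : Col V x w) (hwy : w ∈ ws V y) :
    w = y ∨ w = x * y := by
  obtain ⟨g, hx, hy, hxy, h1, h2, h3, h', h4⟩ := exists_flag h hc
  obtain ⟨-, hw1, hwx, L, hL, hwL⟩ := hw
  have hL' : L ∈ lines (cj g V) x := by rw [lines_cj]; exact hL
  have hww : w ∈ ws V x := le_ws hL hwL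
  have hwd : w ∈ dd (cj g V) := by
    have := h'.inf_eq_dd hx hc.1 hy hc.2.1 hc.2.2.1
    simp only [ws_cj] at this
    rw [← this]; exact ⟨hww, hwy⟩
  obtain ⟨T', hL2⟩ := h'.line' hL'
  have hxd : x ∈ dd (cj g V) := h'.V_le_dd hx
  have hLd : L ≤ dd (cj g V) := by
    intro t ht
    rcases hL2.toGeo.four hL2.z_mem hwL hc.1 hw1 hwx ht with rfl | rfl | rfl | rfl
    · exact one_mem _
    · exact hxd
    · exact hwd
    · exact mul_mem hxd hwd
  have e := h'.eq_of_mem_lines' hx hc.1 hL' hLd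
  rcases h4 w (e ▸ hwL) with e | e | e | e
  · exact absurd e hw1
  · exact absurd e.symm hwx
  · exact Or.inl e
  · exact Or.inr e

/-- (Y) -/
theorem not_mem_head (h : OddN T V z n) (hn : 2 ≤ n) (hc : Crit V z n x y) {p : G}
    (hxp : Col V x p) (hpy : Walk V (n - 1) p y) (hy : y ∈ ws V x) : y ∉ ws V p := by
  intro hyp
  have hnw : ¬ Walk V 1 x y := hc.not_walk h (by omega)
  have hy1 : y ≠ 1 := (Walk.pt h.toGeo hc.1 hc.2.1).ne_one h.toGeo
  have hyx : y ≠ x := fun e => hnw (by rw [e]; exact Walk.refl V 1 x)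
  have hcol := OddY.inf_eq_mul h.toOdd hxp
  obtain ⟨g0, hx0, hp0, hxp0, h1, h2, h3, h', h4⟩ := exists_flag h.toOdd hxp
  have hyL : y ∉ cj g0 V := fun e => hnw (walk_one.mpr (Or.inr ⟨hxp.1, hy1, hyx.symm, cj g0 V,
    ⟨⟨g0, rfl⟩, hx0⟩, e⟩))
  obtain ⟨g, -, hg1, hg2, -⟩ := exists_swap h.toOdd hxp hy hyp hy1 hyx
    (fun e => hyL (e ▸ hp0)) (fun e => hyL (e ▸ hxp0))
  obtain ⟨-, -, a, ha, b, hb, hab⟩ := hc
  have e1 : g * a * g⁻¹ ∈ ws V p := by
    rw [← hg2, ← cj_ws]; exact conj_mem_cj ha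
  have e2 : g * b * g⁻¹ ∈ ws V y := by
    have : g * y * g⁻¹ = y := by rw [hg1]; group
    rw [← this, ← cj_ws]; exact conj_mem_cj hb
  have e3 := h.lt p y (n - 1) (by omega) (hxp.pt h.toGeo) hpy _ e1 _ e2
  apply hab
  calc a * b = g⁻¹ * (g * a * g⁻¹ * (g * b * g⁻¹)) * g := by group
    _ = g⁻¹ * (g * b * g⁻¹ * (g * a * g⁻¹)) * g := by rw [e3]
    _ = b * a := by group

/-- the intersection is centralised by the far end -/
theorem inf_le_centralizer (h : OddN T V z n) {p : G} (hxp : Col V x p)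
    (hpy : Walk V (n - 1) p y) : ws V x ⊓ ws V p ≤ centralizer (ws V y : Set G) := by
  have h1 := comm_of_walk h (hxp.pt h.toGeo) (Nat.sub_lt h.pos Nat.one_pos) hpy
  rw [Subgroup.le_centralizer_iff]
  exact h1.trans (centralizer_le inf_le_right)

end Cfsg.Agent.MinSimple.OddY
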