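import Mathlib
import Cfsg.Agent.MinSimple.OddThreeM
import Cfsg.Agent.MinSimple.OddY
import Cfsg.Agent.MinSimple.OddKHalf
import Cfsg.Agent.MinSimple.OddSmall

/-!
# (E1)(b), `n ≥ 3`: everything is Case 1

`exists_case_one`: for `n ≥ 3`, if the centralisers of the points are maximal 2-locals, there is a critical pair `(x, y)` with
`x ∉ ws V y` and `y ∉ ws V x`.
-/

set_option autoImplicit false
set_option linter.unusedSectionVars false

namespace Cfsg.Agent.MinSimple.OddOneZero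

open Subgroup Cfsg Cfsg.Agent.ZN Cfsg.Agent.MinSimple.Geo Cfsg.Agent.MinSimple.BTwoA
  Cfsg.Agent.MinSimple.OddLine Cfsg.Agent.MinSimple.OddBase Cfsg.Agent.MinSimple.SecRep
  Cfsg.Agent.MinSimple.OddRep Cfsg.Agent.MinSimple.OddThreeMod Cfsg.Agent.MinSimple.OddThreeM
open Cfsg.Agent.ZN.Block (conj_mem_of_normalizer conj_mem_of_normalizer' le_normalizer_of_forall
  mem_normalizer_of)

universe u

variable {G : Type u} [Group G] [Finite G] {T V : Subgroup G} {z : G} {n : ℕ}

/-- `A` acts on `ws V q`, `w ∈ A` acts with `[ws V q, w] ≤ ⟨p⟩`, `p ∈ A`: some `b ∈ ws V q` moved by `w` satisfies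
`[A, b] ≤ ⟨p, q⟩`. -/
theorem exists_b (h : Odd T V z) {q : G} (hq : Pt z q) {A : Subgroup G}
    (hA : A ≤ centralizer ({q} : Set G)) (hsq : ∀ a ∈ A, a * a = 1) {w p : G} (hw : w ∈ A) (hp : p ∈ A)
    (hpq : p ∈ ws V q) (hwK : w ∉ kq V q)
    (hwp : ∀ b ∈ ws V q, w * b * w⁻¹ * b⁻¹ = 1 ∨ w * b * w⁻¹ * b⁻¹ = p) :
    ∃ b ∈ ws V q, b * w ≠ w * b ∧ ∀ u ∈ A, u * b * u⁻¹ * b⁻¹ = 1 ∨ u * b * u⁻¹ * b⁻¹ = q ∨
      u * b * u⁻¹ * b⁻¹ = p ∨ u * b * u⁻¹ * b⁻¹ = q * p := by
  obtain ⟨M, X, _, _, _, ⟨R⟩⟩ := exists_rep h hq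
  have : Finite M := R.finite_left
  have two := Rep.two h hq R
  obtain ⟨η, hηo, hη1, hinv, hall⟩ := exists_weight_rep h hq R hA hsq hw hwK
  have hwC := hA hw
  -- `π` of a commutator
  have hpi : ∀ c ∈ centralizer ({q} : Set G), ∀ v ∈ ws V q,
      R.pi (c * v * c⁻¹ * v⁻¹) = R.rho c • R.pi v + R.pi v := by
    intro c hc v hv
    rw [R.pi_mul _ (R.conj_mem hc hv) _ (inv_mem hv), R.pi_inv hv, OddRep.Rep.neg_eq h hq R,
      R.smul_pi c hc v hv]
  have hw0 : ∀ m : M, R.rho w • m + m = 0 ∨ R.rho w • m + m = R.pi p := by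
    intro m
    obtain ⟨b, hb, rfl⟩ := R.pi_surj m
    rw [← hpi w hwC b hb]
    rcases hwp b hb with e | e
    · left; rw [e, R.pi_one]
    · right; rw [e]
  have hup : ∀ u ∈ A, R.rho u • R.pi p = R.pi p := by
    intro u hu
    rw [R.smul_pi u (hA hu) p hpq, OddKHalf.comm_of_sq hsq hu hp, mul_inv_cancel_right]
  obtain ⟨m, hm, hwm⟩ : ∃ m ∈ rg M η, R.rho w • m ≠ m := by
    by_contra hcon
    push Not at hcon
    exact hη1 (R.faithful η (fixed_of_inv two hηo hinv hcon))
  obtain ⟨b, hb, rfl⟩ := R.pi_surj m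
  refine ⟨b, hb, fun e => hwm ?_, fun u hu => ?_⟩
  · rw [R.smul_pi w hwC b hb, ← e, mul_inv_cancel_right]
  · have huC := hA hu
    have hd : R.pi b + R.rho u • R.pi b ∈ rg M η := add_mem hm (smul_mem_rg two (hall u hu) hm)
    have hwb : R.rho w • R.pi b = R.pi b + R.pi p := by
      rcases hw0 (R.pi b) with e | e
      · exfalso
        apply hwm
        exact (add_eq_zero_iff_eq_neg.mp e).trans (OddRep.Rep.neg_eq h hq R _)
      · rw [← e, add_comm (R.rho w • R.pi b), ← add_assoc, two, zero_add]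
    have hfix : R.rho w • (R.pi b + R.rho u • R.pi b) = R.pi b + R.rho u • R.pi b := by
      have h4 : R.rho w • R.rho u • R.pi b = R.rho u • R.rho w • R.pi b := by
        rw [← mul_smul, ← mul_smul, ← R.rho_mul u huC w hwC, ← R.rho_mul w hwC u huC,
          OddKHalf.comm_of_sq hsq hu hw]
      rw [smul_add, h4, hwb, smul_add, hup u hu]
      rw [show R.pi b + R.pi p + (R.rho u • R.pi b + R.pi p) =
        R.pi b + R.rho u • R.pi b + (R.pi p + R.pi p) by abel, two, add_zero]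
    obtain ⟨m', -, hm'⟩ := exists_add_smul two hηo hinv hd hfix
    have h5 : R.pi (u * b * u⁻¹ * b⁻¹) = R.rho w • m' + m' := by
      rw [hpi u huC b hb, add_comm, hm', add_comm]
    have hmem : u * b * u⁻¹ * b⁻¹ ∈ ws V q := mul_mem (R.conj_mem huC hb) (inv_mem hb)
    rcases hw0 m' with e | e
    · rw [e, Rep.pi_eq_zero' h hq R hmem] at h5
      rcases h5 with h5 | h5
      · exact Or.inl h5
      · exact Or.inr (Or.inl h5)
    · rw [e, Rep.pi_eq_pi h hq R hmem hpq] at h5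
      rcases h5 with h5 | h5
      · exact Or.inr (Or.inr (Or.inl h5))
      · exact Or.inr (Or.inr (Or.inr h5))

theorem norm_of_map_le {K : Subgroup G} {g : G} (h : cj g K ≤ K) : g ∈ normalizer (K : Set G) :=
  mem_normalizer_iff_cj.mpr
    (eq_of_le_of_card_ge h (card_map_of_injective (MulAut.conj g).injective).ge)

/-- Not both `x ∈ ws V y` and `ws V x ≤ kq V y`, `ws V y ≤ kq V x`. -/
theorem comm_of_mem_kq (h : Odd T V z) {x y a b : G} (hx : Pt z x) (hy : Pt z y) (hxy : x ≠ y)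
    (ha : a ∈ ws V x) (hb : b ∈ ws V y) (hak : a ∈ kq V y) (hbk : b ∈ kq V x) : a * b = b * a := by
  have h1 := hak.2.1 b hb
  have h2 := hbk.2.2 a ha
  have h3 := hbk.2.1 a ha
  rw [mem_zpowers_iff_of_mul_self (OddBase.Pt.sq h.toGeo hy)] at h1
  rw [mem_zpowers_iff_of_mul_self (OddBase.Pt.sq h.toGeo hx)] at h3
  have e1 : b * a * b⁻¹ * a⁻¹ = (a * b * a⁻¹ * b⁻¹)⁻¹ := by group
  have hyi : y⁻¹ = y := inv_eq_of_mul_eq_one_left (OddBase.Pt.sq h.toGeo hy)
  rcases h1 with e | e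
  · calc a * b = (a * b * a⁻¹ * b⁻¹) * (b * a) := by group
      _ = b * a := by rw [e, one_mul]
  · exfalso
    rw [e1, e, hyi] at h3
    rcases h3 with h3 | h3
    · exact OddBase.Pt.ne_one h.toGeo hy h3
    · exact hxy h3.symm

/-- **Everything is Case 1.** -/
theorem exists_case_one (h : OddN T V z n) (hn : 3 ≤ n) (hmax : Max1 z) :
    ∃ x y, Crit V z n x y ∧ x ∉ ws V y ∧ y ∉ ws V x := by
  by_contra hcon
  push Not at hcon
  obtain ⟨p, q, hc, hpq⟩ : ∃ p q, Crit V z n p q ∧ p ∈ ws V q := by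
    obtain ⟨x, y, hx⟩ := h.crit
    have hx : Crit V z n x y := hx
    by_cases hxy : x ∈ ws V y
    · exact ⟨x, y, hx, hxy⟩
    · exact ⟨y, x, hx.symm h.toOdd, hcon x y hx hxy⟩
  have hp : Pt z p := hc.pt
  have hq : Pt z q := hc.pt' h.toGeo
  have hpp := OddBase.Pt.sq h.toGeo hp
  have hp1 := OddBase.Pt.ne_one h.toGeo hp
  have hpq' : p ≠ q := fun e => hc.not_walk h (m := 0) (by omega) e
  have hM := le_kq h hn hmax hc hpq
  -- `w`
  obtain ⟨w, hpw, hwC⟩ := exists_col_notMem h.toOdd hp (K := centralizer (ws V q : Set G)) (by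
    intro hle
    obtain ⟨-, -, a, ha, b, hb, hab⟩ := hc
    exact hab (mem_centralizer_iff.mp (hle ha) b hb).symm)
  have hw : Pt z w := hpw.pt h.toGeo
  have hwp : w ∈ ws V p := hpw.mem_ws
  obtain ⟨a, ha, haw⟩ : ∃ a ∈ ws V q, a * w ≠ w * a := by
    by_contra hcon'
    push Not at hcon'
    exact hwC (mem_centralizer_iff.mpr hcon')
  -- elements of `ws V q` move `w` at most to `p * w`
  have hmove : ∀ b ∈ ws V q, b * w ≠ w * b → b * w * b⁻¹ = p * w := by
    intro b hb hbw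
    rcases (mem_zpowers_iff_of_mul_self hpp).mp ((hM hb).2.1 w hwp) with e | e
    · exfalso; apply hbw
      calc b * w = (b * w * b⁻¹ * w⁻¹) * (w * b) := by group
        _ = w * b := by rw [e, one_mul]
    · calc b * w * b⁻¹ = (b * w * b⁻¹ * w⁻¹) * w := by group
        _ = p * w := by rw [e]
  have hqp : ∀ b ∈ ws V q, b * p * b⁻¹ = p := by
    intro b hb
    rw [mem_centralizer_singleton_iff.mp (hc.ws_le_centralizer h hb)]
    group
  have hwK : w ∉ kq V q := fun hk =>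
    haw (comm_of_mem_kq h.toOdd hp hq hpq' hwp ha hk (hM ha)).symm
  -- the neighbour `r` of `q`
  obtain ⟨r, hqr, hrp⟩ := (hc.symm h.toOdd).head h
  have hr : Pt z r := hqr.pt h.toGeo
  have hrq : r ∈ ws V q := hqr.mem_ws
  have hqr' : q ∈ ws V r := hqr.symm.mem_ws
  have har : a * r * a⁻¹ = r := by
    rw [ws_comm h.toOdd hq ha hrq]; group
  -- `ws V w` and `ws V r` commute
  have hwr : ∀ u ∈ ws V w, ∀ b ∈ ws V r, u * b = b * u := by
    by_contra hcon'
    push Not at hcon'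
    obtain ⟨u, hu, b, hb, hub⟩ := hcon'
    have hn1 : n - 1 + 1 = n := by omega
    have hwalk : Walk V n w r := by
      have h1 := (hrp.trans hpw.walk).symm
      rwa [hn1] at h1
    have hcw : Crit V z n w r := ⟨hw, hwalk, u, hu, b, hb, hub⟩
    by_cases hwr : w ∈ ws V r
    · exact haw (h.lt q r 1 (by omega) hq hqr.walk a ha w hwr)
    · have hrw : r ∈ ws V w := hcon w r hcw hwr
      have h2 : r ∈ ws V (p * w) := by
        rw [← hmove a ha haw, ← cj_ws, ← har]
        exact conj_mem_cj hrw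
      have h3 : r ∈ ws V w ⊓ ws V (p * w) := ⟨hrw, h2⟩
      rw [← OddY.inf_eq_mul' h.toOdd hpw] at h3
      exact OddY.not_mem_head h (by omega) hcw hpw.symm (hrp.symm) hrw h3.1
  -- the group `W`
  have hpwC : Col V w (p * w) := by
    have := OddSmall.col_mul h.toOdd hpw.symm
    rwa [hpw.symm.mul_comm h.toOdd] at this
  set U := tt V 1 w with hU
  have hUsq : ∀ a ∈ U, a * a = 1 := fun a ha => tt_sq h (by omega) hw ha
  set W := ws V p ⊔ (ws V w ⊔ ws V (p * w)) with hW
  have hpW : ws V p ≤ W := le_sup_left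
  have hwW : ws V w ≤ W := le_sup_left.trans le_sup_right
  have hpwW : ws V (p * w) ≤ W := le_sup_right.trans le_sup_right
  have hWU : W ≤ U := sup_le (ws_le_tt hpw.symm.walk)
    (sup_le (ws_le_tt (Walk.refl V 1 w)) (ws_le_tt hpwC.walk))
  have hWr : W ≤ centralizer (ws V r : Set G) := by
    refine sup_le ?_ (sup_le ?_ ?_)
    · exact comm_of_walk h hr (by omega : n - 1 < n) hrp
    · intro u hu
      exact mem_centralizer_iff.mpr fun b hb => (hwr u hu b hb).symm
    · intro u hu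
      refine mem_centralizer_iff.mpr fun b hb => ?_
      rw [← hmove a ha haw, ← cj_ws, mem_cj] at hu
      have hb' : a⁻¹ * b * a ∈ ws V r := by
        have hb2 : b ∈ cj a (ws V r) := by rw [cj_ws, har]; exact hb
        exact mem_cj.mp hb2
      have h1 := hwr _ hu _ hb'
      calc b * u = a * ((a⁻¹ * b * a) * (a⁻¹ * u * a)) * a⁻¹ := by group
        _ = a * ((a⁻¹ * u * a) * (a⁻¹ * b * a)) * a⁻¹ := by rw [h1]
        _ = u * b := by group
  have hWq : W ≤ centralizer ({q} : Set G) := hWr.trans (centralizer_le (by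
    rintro _ rfl; exact hqr'))
  have hpmemW : p ∈ W := hpW (self_mem_ws h.toGeo hp)
  have hwmemW : w ∈ W := hpW hwp
  have hwpow : ∀ b ∈ ws V q, w * b * w⁻¹ * b⁻¹ = 1 ∨ w * b * w⁻¹ * b⁻¹ = p := by
    intro b hb
    by_cases hbw : b * w = w * b
    · left; rw [← hbw]; group
    · right
      have h1 := hmove b hb hbw
      have hwi : w⁻¹ = w := inv_eq_of_mul_eq_one_left (OddBase.Pt.sq h.toGeo hw)
      calc w * b * w⁻¹ * b⁻¹ = w * (b * w⁻¹ * b⁻¹) := by group
        _ = w * (b * w * b⁻¹)⁻¹ := by group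
        _ = p⁻¹ := by rw [h1]; group
        _ = p := inv_eq_of_mul_eq_one_left hpp
  -- `q ∈ W`
  have hqW : q ∈ W := by
    by_contra hqW
    obtain ⟨b, hb, hbw, hball⟩ := exists_b h.toOdd hq hWq (fun a ha => hUsq a (hWU ha)) hwmemW hpmemW
      hpq hwK hwpow
    have hbW : ∀ u ∈ ws V w, b * u * b⁻¹ ∈ W := by
      intro u hu
      have h1 : b * u * b⁻¹ ∈ ws V (b * w * b⁻¹) := by rw [← cj_ws]; exact conj_mem_cj hu
      rw [hmove b hb hbw] at h1
      exact hpwW h1
    have hcw : ∀ u ∈ ws V w, u * b * u⁻¹ * b⁻¹ ∈ ws V w := by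
      intro u hu
      have h1 : u * b * u⁻¹ * b⁻¹ ∈ W := by
        have e : u * b * u⁻¹ * b⁻¹ = u * (b * u⁻¹ * b⁻¹) := by group
        rw [e]; exact mul_mem (hwW hu) (hbW _ (inv_mem hu))
      rcases hball u (hwW hu) with e | e | e | e
      · rw [e]; exact one_mem _
      · exact absurd (e ▸ h1) hqW
      · rw [e]; exact hpw.symm.mem_ws
      · exfalso
        apply hqW
        rw [e] at h1
        have h2 := mul_mem h1 (inv_mem hpmemW)
        rwa [mul_inv_cancel_right] at h2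
    have hbn : b ∈ normalizer ((ws V w : Subgroup G) : Set G) := by
      refine norm_of_map_le ?_
      rintro _ ⟨u, hu, rfl⟩
      change b * u * b⁻¹ ∈ ws V w
      have e : b * u * b⁻¹ = (u * b * u⁻¹ * b⁻¹)⁻¹ * u := by group
      rw [e]; exact mul_mem (inv_mem (hcw u hu)) hu
    have h1 := hmax w hw (ws V w) (ws_isPGroup h.toOdd hw) (fun e => by
      have h2 := self_mem_ws h.toGeo hw
      rw [e, mem_bot] at h2
      exact OddBase.Pt.ne_one h.toGeo hw h2) (Geo.centralizer_le_normalizer_ws V w) hbn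
    exact hbw (mem_centralizer_singleton_iff.mp h1)
  -- the end
  have hpU := hWU hpmemW
  have hqU := hWU hqW
  have hwU := hWU hwmemW
  have hUq : U ≤ centralizer ({q} : Set G) := fun u hu => by
    rw [mem_centralizer_singleton_iff]
    exact tt_comm h (by omega) hw hu hqU
  obtain ⟨b, hb, hbw, hball⟩ := exists_b h.toOdd hq hUq hUsq hwU hpU hpq hwK hwpow
  have hbn : b ∈ normalizer ((U : Subgroup G) : Set G) := by
    refine norm_of_map_le ?_
    rintro _ ⟨u, hu, rfl⟩
    change b * u * b⁻¹ ∈ U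
    have e : b * u * b⁻¹ = (u * b * u⁻¹ * b⁻¹)⁻¹ * u := by group
    rw [e]
    refine mul_mem (inv_mem ?_) hu
    rcases hball u hu with e | e | e | e
    · rw [e]; exact one_mem _
    · rw [e]; exact hqU
    · rw [e]; exact hpU
    · rw [e]; exact mul_mem hqU hpU
  have h1 := hmax w hw U (tt_isPGroup h (by omega) hw) (fun e => by
      rw [e, mem_bot] at hwU
      exact OddBase.Pt.ne_one h.toGeo hw hwU) (centralizer_le_normalizer_tt 1 w) hbn
  exact hbw (mem_centralizer_singleton_iff.mp h1)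

end Cfsg.Agent.MinSimple.OddOneZero
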