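import Mathlib
import Cfsg.Agent.MinSimple.OddTwoWeight
import Cfsg.Agent.MinSimple.Killing

/-!
# Noncommuting points at distance two

`OddN T V z 2`, `r`, `d` a critical pair with middle point `p`: `[ws V r, ws V d] = ⟨p⟩` and the indices of the
centralizers are two.
-/

set_option autoImplicit false
set_option linter.unusedSectionVars false

namespace Cfsg.Agent.MinSimple.OddTwoStar

open Subgroup Cfsg Cfsg.Agent.ZN Cfsg.Agent.MinSimple.Geo Cfsg.Agent.MinSimple.BTwoA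
  Cfsg.Agent.MinSimple.OddLine Cfsg.Agent.MinSimple.OddBase Cfsg.Agent.MinSimple.OddTwoWeight
open Cfsg.Agent.ZN.Block (conj_mem_of_normalizer conj_mem_of_normalizer' le_normalizer_of_forall
  mem_normalizer_of)
open scoped commutatorElement

universe u

variable {G : Type u} [Group G] [Finite G] {T V : Subgroup G} {z : G}

theorem mul_eq_of_sq {a b c : G} (hb : b * b = 1) (h : a * b = c) : a = c * b := by
  rw [← h, mul_assoc, hb, mul_one]

/-! ### the killing lemma -/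

theorem solv_normalizer (h : Geo T V z) : ∀ U : Subgroup G, IsPGroup 2 U → U ≠ ⊥ →
    Group.IsSolvable (normalizer (U : Set G)) := fun U hU hU1 => h.solv _ ⟨U, hU, hU1, rfl⟩

/-- `[W, y] ≤ ⟨t^⟨y, t⟩⟩` -/
theorem uu_le_ncl {W : Subgroup G} {y t : G} (hf : Four W y) (ht : t ∈ W) (hty : y * t ≠ t * y)
    {X : Subgroup G} (hyX : y ∈ X) : uu W y ≤ Killing.ncl X t := by
  have ha := hf.toAct
  have h0 : t * (y * t * y⁻¹) ∈ uu W y := ha.mem_uu.mpr ⟨t, ht, rfl⟩
  have h0n : t * (y * t * y⁻¹) ∈ Killing.ncl X t :=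
    mul_mem (Killing.self_mem_ncl X t) (Killing.conj_mem_ncl hyX)
  have h1 : t * (y * t * y⁻¹) ≠ 1 := by
    intro e
    apply hty
    have h2 := eq_inv_of_mul_eq_one_right e
    rw [ha.inv_eq ht] at h2
    exact conj_eq_iff_comm.mp h2
  intro u hu
  rcases hf.cases _ h0 h1 u hu with e | e | e | e
  · rw [e]; exact one_mem _
  · rw [e]; exact h0n
  · rw [e]; exact Killing.conj_mem_of_mem_ncl hyX h0n
  · rw [e]; exact mul_mem h0n (Killing.conj_mem_of_mem_ncl hyX h0n)

/-- **(N)** for two four-groups with commutator `t` -/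
theorem kill (h : Geo T V z) {W W' : Subgroup G} {y y' t v w q : G} (hf : Four W y)
    (hf' : Four W' y') (ht : t ∈ W) (ht' : t ∈ W') (hty : y * t ≠ t * y) (hty' : y' * t ≠ t * y')
    (hv : v ∈ uu W y) (hw : w ∈ uu W' y') (hvw : w * v * w⁻¹ * v⁻¹ = t) (hqy : y * q = q * y)
    (hqy' : y' * q = q * y') (hqt : t * q = q * t) (hq : q * q = 1) : q = 1 := by
  by_contra hq1
  have ht1 : t ≠ 1 := by
    rintro rfl
    exact hty (by group)
  have hord : orderOf q = 2 := orderOf_eq_prime (by rw [pow_two]; exact hq) hq1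
  have hmem : ∀ s : G, s * q = q * s → t * q = q * t → closure ({s, t} : Set G) ≤
      centralizer ({q} : Set G) := by
    intro s hs ht
    rw [closure_le]
    rintro a (rfl | rfl)
    · exact mem_centralizer_singleton_iff.mpr hs
    · exact mem_centralizer_singleton_iff.mpr ht
  have hyX : y ∈ closure ({y, t} : Set G) := subset_closure (by simp)
  have htX : t ∈ closure ({y, t} : Set G) := subset_closure (by simp)
  have hyY : y' ∈ closure ({y', t} : Set G) := subset_closure (by simp)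
  have htY : t ∈ closure ({y', t} : Set G) := subset_closure (by simp)
  refine Killing.killing_centralizer (solv_normalizer h) htY ht1 (V := uu W' y') (W := uu W y)
    (uu_le_ncl hf' ht' hty' hyY) (uu_le_ncl hf ht hty hyX) ?_ hord (hmem y' hqy' hqt)
    (hmem y hqy hqt)
  rw [← hvw]
  exact commutator_mem_commutator hw hv

/-! ### basic facts on critical pairs -/

section crit

variable {r d : G}

/-- hypotheses on a critical pair -/
structure Pair (T V : Subgroup G) (z r d : G) : Prop where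
  odd : OddLine.Odd T V z
  ptr : Pt z r
  ptd : Pt z d
  cr : ws V d ≤ centralizer ({r} : Set G)
  cd : ws V r ≤ centralizer ({d} : Set G)
  rd : r ∉ ws V d
  dr : d ∉ ws V r

namespace Pair

theorem symm (h : Pair T V z r d) : Pair T V z d r :=
  ⟨h.odd, h.ptd, h.ptr, h.cd, h.cr, h.dr, h.rd⟩

theorem comm_mem (h : Pair T V z r d) {v w : G} (hv : v ∈ ws V r) (hw : w ∈ ws V d) :
    w * v * w⁻¹ * v⁻¹ ∈ ws V r ⊓ ws V d := by
  constructor
  · exact (ws V r).mul_mem (conj_mem (h.cr hw) hv) ((ws V r).inv_mem hv)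
  · have h1 := conj_mem (V := V) (h.cd hv) ((ws V d).inv_mem hw)
    have e : w * v * w⁻¹ * v⁻¹ = w * (v * w⁻¹ * v⁻¹) := by group
    rw [e]; exact (ws V d).mul_mem hw h1

/-- if the commutator is `1` or `r` the elements commute -/
theorem comm_of (h : Pair T V z r d) {v w : G} (hv : v ∈ ws V r) (hw : w ∈ ws V d)
    (h1 : w * v * w⁻¹ = v ∨ w * v * w⁻¹ = v * r) : w * v = v * w := by
  rcases h1 with h1 | h1
  · exact conj_eq_iff_comm.mp h1
  · exfalso
    apply h.rd
    have h2 := (h.comm_mem hv hw).2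
    rw [h1] at h2
    have e : v * r * v⁻¹ = r := by
      rw [OddBase.ws_comm h.odd h.ptr hv (self_mem_ws h.odd.toGeo h.ptr)]; group
    rwa [e] at h2

theorem inf_comm (h : Pair T V z r d) {c w : G} (hc : c ∈ ws V r ⊓ ws V d) (hw : w ∈ ws V d) :
    w * c = c * w := OddBase.ws_comm h.odd h.ptd hw hc.2

theorem inf_comm' (h : Pair T V z r d) {c v : G} (hc : c ∈ ws V r ⊓ ws V d) (hv : v ∈ ws V r) :
    v * c = c * v := OddBase.ws_comm h.odd h.ptr hv hc.1

theorem sqr (h : Pair T V z r d) {v : G} (hv : v ∈ ws V r) : v * v = 1 :=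
  OddBase.ws_sq h.odd h.ptr hv

theorem sqd (h : Pair T V z r d) {v : G} (hv : v ∈ ws V d) : v * v = 1 :=
  OddBase.ws_sq h.odd h.ptd hv

theorem r_comm (h : Pair T V z r d) {w : G} (hw : w ∈ ws V d) : w * r = r * w :=
  mem_centralizer_singleton_iff.mp (h.cr hw)

/-- weights on the side of `r` -/
structure Wt (V : Subgroup G) (r d a0 y : G) : Prop where
  mem : y ∈ centralizer ({r} : Set G)
  odd : _root_.Odd (orderOf y)
  nk : y ∉ kq V r
  inv : a0 * y * a0⁻¹ * y ∈ kq V r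
  all : ∀ a ∈ ws V d, a * y * a⁻¹ * y⁻¹ ∈ kq V r ∨ a * y * a⁻¹ * y ∈ kq V r

theorem exists_wt (h : Pair T V z r d) {a0 v0 : G} (ha0 : a0 ∈ ws V d) (hv0 : v0 ∈ ws V r)
    (hne : a0 * v0 ≠ v0 * a0) : ∃ y, Wt V r d a0 y := by
  have hk : a0 ∉ kq V r := fun hk => hne (h.comm_of hv0 ha0 (kq_cases h.odd h.ptr hk hv0))
  obtain ⟨y, h1, h2, h3, h4, h5⟩ := exists_weight h.odd h.ptr h.cr (fun a ha => by
    rw [h.sqd ha]; exact one_mem _) ha0 hk
  exact ⟨y, h1, h2, h3, h4, h5⟩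

/-- the elements of `ws V d` centralizing `y` modulo `kq V r` centralize `[ws V r, y]` -/
theorem comm_uu (h : Pair T V z r d) {a0 y : G} (ha0 : a0 ∈ ws V d) (hy : Wt V r d a0 y) {a : G}
    (ha : a ∈ ws V d) (hay : a * y * a⁻¹ * y⁻¹ ∈ kq V r) {u : G} (hu : u ∈ uu (ws V r) y) :
    a * u = u * a := by
  have hact := act h.odd h.ptr hy.mem hy.odd
  -- the subgroup `S` of `ws V r` centralized by `H`
  let S : Set G := {s | s ∈ ws V r ∧ ∀ b ∈ ws V d, b * y * b⁻¹ * y⁻¹ ∈ kq V r → b * s = s * b}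
  have hSmul : ∀ s ∈ S, ∀ s' ∈ S, s * s' ∈ S := by
    rintro s ⟨hs, hs2⟩ s' ⟨hs', hs2'⟩
    refine ⟨mul_mem hs hs', fun b hb hby => ?_⟩
    have c1 : Commute b s := hs2 b hb hby
    have c2 : Commute b s' := hs2' b hb hby
    exact (c1.mul_right c2).eq
  have hSr : r ∈ S := ⟨self_mem_ws h.odd.toGeo h.ptr, fun b hb _ => h.r_comm hb⟩
  have hSI : ∀ c ∈ ws V r ⊓ ws V d, c ∈ S := fun c hc => ⟨hc.1, fun b hb _ => h.inf_comm hc hb⟩
  have hSy : ∀ s ∈ S, y * s * y⁻¹ ∈ S := by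
    rintro s ⟨hs, hs2⟩
    refine ⟨hact.conj s hs, fun b hb hby => ?_⟩
    refine h.comm_of (hact.conj s hs) hb ?_
    set k := b * y * b⁻¹ * y⁻¹ with hk
    have e1 : b * (y * s * y⁻¹) * b⁻¹ = k * (y * (b * s * b⁻¹) * y⁻¹) * k⁻¹ := by rw [hk]; group
    have e2 : b * s * b⁻¹ = s := conj_eq_iff_comm.mpr (hs2 b hb hby)
    rw [e1, e2]
    exact kq_cases h.odd h.ptr hby (hact.conj s hs)
  have hSpow : ∀ n : ℕ, ∀ s ∈ S, y ^ n * s * (y ^ n)⁻¹ ∈ S := by
    intro n
    induction n with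
    | zero => intro s hs; simpa using hs
    | succ n ih =>
      intro s hs
      have := hSy _ (ih s hs)
      have e : y ^ (n + 1) * s * (y ^ (n + 1))⁻¹ = y * (y ^ n * s * (y ^ n)⁻¹) * y⁻¹ := by
        rw [pow_succ']; group
      rw [e]; exact this
  have hSinv : ∀ s ∈ S, y⁻¹ * s * y ∈ S := by
    intro s hs
    obtain ⟨n, hn⟩ := Act.exists_inv y
    have := hSpow n s hs
    rwa [← hn, inv_inv] at this
  -- `[v, y²] ∈ S`
  have key : ∀ v ∈ ws V r, v * ((y * y) * v * (y * y)⁻¹) ∈ S := by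
    intro v hv
    have hvv := h.sqr hv
    -- `[v, a0] ∈ S`
    have c1 : ∀ v ∈ ws V r, v * (a0 * v * a0⁻¹) ∈ S := by
      intro v hv
      have h1 := hSI _ (h.comm_mem hv ha0)
      have e : v * (a0 * v * a0⁻¹) = a0 * v * a0⁻¹ * v⁻¹ := by
        rw [OddBase.ws_comm h.odd h.ptr hv (conj_mem (h.cr ha0) hv), OddBase.ws_inv h.odd h.ptr hv]
      rw [e]; exact h1
    -- `k y⁻¹ = a0 y a0⁻¹`
    set k := a0 * y * a0⁻¹ * y with hk
    have hkK : k ∈ kq V r := hy.inv
    -- v ↦ a0 y a0⁻¹ v (..)⁻¹ : = k (y⁻¹ v y) k⁻¹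
    -- [v, a0 y a0⁻¹] with [v, y] : modulo S
    have hw1 := hact.conj v hv
    -- `a0 (y (a0 v a0) y⁻¹) a0 = k (y⁻¹ v y) k⁻¹`
    have ha0i : a0⁻¹ = a0 := inv_eq_self (h.sqd ha0)
    have e1 : a0 * (y * (a0⁻¹ * v * a0) * y⁻¹) * a0⁻¹ = k * (y⁻¹ * v * y) * k⁻¹ := by
      rw [hk]; group
    -- `v1 = a0⁻¹ v a0 = v s1`
    have hv1 := conj_mem (V := V) (h.cr (inv_mem ha0)) hv
    rw [inv_inv] at hv1
    have hs1 : v * (a0⁻¹ * v * a0) ∈ S := by
      have := c1 v hv
      rw [ha0i] at this ⊢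
      exact this
    set s1 := v * (a0⁻¹ * v * a0) with hs1d
    have e2 : a0⁻¹ * v * a0 = v * s1 := by rw [hs1d, ← mul_assoc, hvv, one_mul]
    -- `y v1 y⁻¹ = (y v y⁻¹) (y s1 y⁻¹)`
    have hs2 := hSy s1 hs1
    set s2 := y * s1 * y⁻¹ with hs2d
    set v2 := y * v * y⁻¹ with hv2d
    have hv2 : v2 ∈ ws V r := hact.conj v hv
    have e3 : y * (a0⁻¹ * v * a0) * y⁻¹ = v2 * s2 := by rw [e2, hv2d, hs2d]; group
    have hv3 : v2 * s2 ∈ ws V r := mul_mem hv2 hs2.1
    have hs3 := c1 (v2 * s2) hv3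
    set s3 := v2 * s2 * (a0 * (v2 * s2) * a0⁻¹) with hs3d
    have e4 : a0 * (v2 * s2) * a0⁻¹ = v2 * s2 * s3 := by
      rw [hs3d, ← mul_assoc (v2 * s2) (v2 * s2), h.sqr hv3, one_mul]
    rw [e3, e4] at e1
    -- `k (y⁻¹ v y) k⁻¹ = v2 s2 s3`
    have hv4 := hact.conj' hv
    have h5 : ∃ s ∈ S, y⁻¹ * v * y = v2 * s := by
      rcases kq_cases h.odd h.ptr hkK hv4 with e5 | e5
      · refine ⟨s2 * s3, hSmul _ hs2 _ hs3, ?_⟩
        rw [← e5, ← e1]; group
      · refine ⟨s2 * s3 * r, hSmul _ (hSmul _ hs2 _ hs3) _ hSr, ?_⟩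
        have hrr := h.sqr (self_mem_ws h.odd.toGeo h.ptr)
        calc y⁻¹ * v * y = (y⁻¹ * v * y * r) * r := by rw [mul_assoc _ r r, hrr, mul_one]
          _ = (v2 * s2 * s3) * r := by rw [← e5, ← e1]
          _ = v2 * (s2 * s3 * r) := by group
    obtain ⟨s, hs, e6⟩ := h5
    -- conjugate by `y`
    have hs' := hSy s hs
    have e7 : v = y * v2 * y⁻¹ * (y * s * y⁻¹) := by
      calc v = y * (y⁻¹ * v * y) * y⁻¹ := by group
        _ = y * v2 * y⁻¹ * (y * s * y⁻¹) := by rw [e6]; group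
    have e8 : (y * y) * v * (y * y)⁻¹ = y * v2 * y⁻¹ := by rw [hv2d]; group
    rw [e8]
    have hm : y * v2 * y⁻¹ ∈ ws V r := hact.conj _ hv2
    have e9 : v * (y * v2 * y⁻¹) = y * s * y⁻¹ := by
      have hc := OddBase.ws_comm h.odd h.ptr hm hs'.1
      calc v * (y * v2 * y⁻¹) = y * v2 * y⁻¹ * (y * s * y⁻¹) * (y * v2 * y⁻¹) := by
            nth_rewrite 1 [e7]; rfl
        _ = (y * s * y⁻¹) * (y * v2 * y⁻¹) * (y * v2 * y⁻¹) := by rw [hc]
        _ = y * s * y⁻¹ := by rw [mul_assoc, h.sqr hm, mul_one]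
    rw [e9]; exact hs'
  -- powers
  have key2 : ∀ n : ℕ, ∀ v ∈ ws V r, v * ((y * y) ^ n * v * ((y * y) ^ n)⁻¹) ∈ S := by
    intro n
    induction n with
    | zero =>
      intro v hv
      have : v * ((y * y) ^ 0 * v * ((y * y) ^ 0)⁻¹) = 1 := by
        rw [pow_zero, inv_one, mul_one, one_mul, h.sqr hv]
      rw [this]
      exact ⟨one_mem _, fun b _ _ => by rw [mul_one, one_mul]⟩
    | succ n ih =>
      intro v hv
      have hv' : (y * y) * v * (y * y)⁻¹ ∈ ws V r := by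
        have := hact.conj _ (hact.conj v hv)
        have e : (y * y) * v * (y * y)⁻¹ = y * (y * v * y⁻¹) * y⁻¹ := by group
        rw [e]; exact this
      have h1 := ih _ hv'
      have h2 := key v hv
      have h3 := hSmul _ h2 _ h1
      have hvv := h.sqr hv'
      have e : v * ((y * y) * v * (y * y)⁻¹) * ((y * y) * v * (y * y)⁻¹ *
          ((y * y) ^ n * ((y * y) * v * (y * y)⁻¹) * ((y * y) ^ n)⁻¹)) =
          v * ((y * y) ^ (n + 1) * v * ((y * y) ^ (n + 1))⁻¹) := by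
        generalize hY : y * y = Y at *
        calc v * (Y * v * Y⁻¹) * (Y * v * Y⁻¹ * (Y ^ n * (Y * v * Y⁻¹) * (Y ^ n)⁻¹)) =
            v * ((Y * v * Y⁻¹) * (Y * v * Y⁻¹)) * (Y ^ n * (Y * v * Y⁻¹) * (Y ^ n)⁻¹) := by group
          _ = v * (Y ^ n * (Y * v * Y⁻¹) * (Y ^ n)⁻¹) := by rw [hvv, mul_one]
          _ = v * (Y ^ (n + 1) * v * (Y ^ (n + 1))⁻¹) := by rw [pow_succ]; group
      rwa [e] at h3
  obtain ⟨n, hn⟩ := exists_sq_pow hy.odd
  obtain ⟨v, hv, rfl⟩ := hact.mem_uu.mp hu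
  have h6 := key2 n v hv
  rw [hn] at h6
  exact h6.2 a ha hay

theorem exists_v (h : Pair T V z r d) {a0 y : G} (ha0 : a0 ∈ ws V d) (hy : Wt V r d a0 y) :
    ∃ v ∈ uu (ws V r) y, a0 * v ≠ v * a0 := by
  have hact := act h.odd h.ptr hy.mem hy.odd
  by_contra hcon
  push Not at hcon
  obtain ⟨u, hu, hu1⟩ := exists_uu h.odd h.ptr hy.mem hy.odd hy.nk
  apply hu1
  refine eq_one_of_comm h.odd h.ptr hy.mem hy.odd hy.inv (h.cr ha0) hu (hcon u hu) ?_
  have h1 := hcon _ (hact.uu_conj' hu)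
  calc y * a0 * y⁻¹ * u = y * (a0 * (y⁻¹ * u * y)) * y⁻¹ := by group
    _ = y * ((y⁻¹ * u * y) * a0) * y⁻¹ := by rw [h1]
    _ = u * (y * a0 * y⁻¹) := by group

/-- the product of two elements of `ws V d` inverting `y` centralizes `y` -/
theorem mul_cent (h : Pair T V z r d) {a0 y : G} (hy : Wt V r d a0 y) {w w' : G}
    (hw : w ∈ ws V d) (hwy : w * y * w⁻¹ * y ∈ kq V r) (hwy' : w' * y * w'⁻¹ * y ∈ kq V r) :
    w * w' * y * (w * w')⁻¹ * y⁻¹ ∈ kq V r := by
  set k := w * y * w⁻¹ * y with hk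
  set k' := w' * y * w'⁻¹ * y with hk'
  have e : w * w' * y * (w * w')⁻¹ * y⁻¹ = (w * k' * w⁻¹) * (y * k⁻¹ * y⁻¹) := by
    rw [hk, hk']; group
  rw [e]
  exact mul_mem (conj_mem_of_normalizer (BTwoB.centralizer_le_normalizer_kq V r) (h.cr hw) hwy')
    (conj_mem_of_normalizer (BTwoB.centralizer_le_normalizer_kq V r) hy.mem (inv_mem hwy))

/-- `|ws V d : C(v)| ≤ 2` for `v ∈ [ws V r, y]` -/
theorem index_v (h : Pair T V z r d) {a0 y v : G} (ha0 : a0 ∈ ws V d) (hy : Wt V r d a0 y)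
    (hv : v ∈ uu (ws V r) y) : ∀ w ∈ ws V d, ∀ w' ∈ ws V d, v * w ≠ w * v → v * w' ≠ w' * v →
      v * (w * w') = w * w' * v := by
  intro w hw w' hw' hne hne'
  have hwy : w * y * w⁻¹ * y ∈ kq V r := (hy.all w hw).resolve_left fun hk =>
    hne (h.comm_uu ha0 hy hw hk hv).symm
  have hwy' : w' * y * w'⁻¹ * y ∈ kq V r := (hy.all w' hw').resolve_left fun hk =>
    hne' (h.comm_uu ha0 hy hw' hk hv).symm
  exact (h.comm_uu ha0 hy (mul_mem hw hw') (h.mul_cent hy hw hwy hwy') hv).symm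

/-- the conclusion for one side -/
structure Data (V : Subgroup G) (r d p a0 y v w u0 : G) : Prop where
  v_mem : v ∈ uu (ws V r) y
  w_mem : w ∈ ws V d
  a0v : a0 * v ≠ v * a0
  wv : w * v * w⁻¹ * v⁻¹ = p
  idx : ∀ v1 ∈ ws V r, ∀ v2 ∈ ws V r, w * v1 ≠ v1 * w → w * v2 ≠ v2 * w →
    w * (v1 * v2) = v1 * v2 * w
  inv : w * y * w⁻¹ * y ∈ kq V r
  four : Four (ws V r) y
  memu : u0 ∈ uu (ws V r) y
  neu : u0 ≠ 1
  wu : w * u0 = u0 * w
  uniq : ∀ u ∈ uu (ws V r) y, u ≠ 1 → w * u = u * w → u = u0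
  pc : y * (u0 * p) = u0 * p * y

/-- the component of an element of `ws V r ∩ ws V d` -/
theorem component (h : Pair T V z r d) {y w u0 c : G} (hym : y ∈ centralizer ({r} : Set G))
    (hyo : _root_.Odd (orderOf y)) (hw : w ∈ ws V d) (hinv : w * y * w⁻¹ * y ∈ kq V r)
    (huniq : ∀ u ∈ uu (ws V r) y, u ≠ 1 → w * u = u * w → u = u0) (hc : c ∈ ws V r ⊓ ws V d)
    (hyc : y * c ≠ c * y) : y * (u0 * c) = u0 * c * y := by
  have hact := act h.odd h.ptr hym hyo
  have hwr := h.cr hw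
  obtain ⟨u, hu, e, he, hye, rfl⟩ := hact.exists_decomp hc.1
  have hwc := h.inf_comm hc hw
  have huW := hact.uu_le hu
  -- `u ≠ 1`
  have hu1 : u ≠ 1 := by
    rintro rfl
    apply hyc
    rw [one_mul]; exact hye
  -- `w` commutes with `u`
  have hye' := comm_conj h.odd h.ptr hym hyo hwr (Or.inr hinv) he hye
  obtain ⟨u', hu', hcase⟩ := uu_conj_cases h.odd h.ptr hym hyo hwr (Or.inr hinv) hu
  have hyr : y * r = r * y := mem_centralizer_singleton_iff.mp hym
  have hr := self_mem_ws h.odd.toGeo h.ptr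
  have he' := conj_mem (V := V) hwr he
  have hconj : w * u * w⁻¹ * (w * e * w⁻¹) = u * e := by
    calc w * u * w⁻¹ * (w * e * w⁻¹) = w * (u * e) * w⁻¹ := by group
      _ = u * e := conj_eq_iff_comm.mpr hwc
  -- `u' u` commutes with `y`
  have hx : ∃ s : G, s ∈ ws V r ∧ y * s = s * y ∧ (s = 1 ∨ s = r) ∧ w * u * w⁻¹ = u' * s := by
    rcases hcase with e1 | e1
    · exact ⟨1, one_mem _, by simp, Or.inl rfl, by rw [mul_one]; exact e1⟩
    · exact ⟨r, hr, hyr, Or.inr rfl, e1⟩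
  obtain ⟨s, hs, hys, hsc, e1⟩ := hx
  have hu'W := hact.uu_le hu'
  have huu' : u' = u := by
    rw [e1] at hconj
    have e2 : u * u' = e * (w * e * w⁻¹) * s := by
      -- u' s e' = u e
      have c1 := hact.comm hu'W huW
      have h1 : u' * (s * (w * e * w⁻¹)) = u * e := by rw [← mul_assoc]; exact hconj
      have h2 : u * u' * (s * (w * e * w⁻¹)) = e := by
        rw [mul_assoc, h1, ← mul_assoc, h.sqr huW, one_mul]
      have h3 : s * (w * e * w⁻¹) * (s * (w * e * w⁻¹)) = 1 := h.sqr (mul_mem hs he')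
      calc u * u' = u * u' * (s * (w * e * w⁻¹) * (s * (w * e * w⁻¹))) := by rw [h3, mul_one]
        _ = (u * u' * (s * (w * e * w⁻¹))) * (s * (w * e * w⁻¹)) := by group
        _ = e * (s * (w * e * w⁻¹)) := by rw [h2]
        _ = e * (w * e * w⁻¹) * s := by rw [hact.comm hs he', ← mul_assoc]
    have h4 : y * (u * u') = u * u' * y := by
      rw [e2]
      have c1 : Commute y e := hye
      have c2 : Commute y (w * e * w⁻¹) := hye'
      have c3 : Commute y s := hys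
      exact ((c1.mul_right c2).mul_right c3).eq
    have h5 := hact.eq_one (mul_mem hu hu') h4
    have h6 := eq_inv_of_mul_eq_one_right h5
    rw [h6, hact.inv_eq huW]
  rw [huu'] at e1
  have hwu : w * u = u * w := by
    refine h.comm_of huW hw ?_
    rcases hsc with rfl | rfl
    · left; rw [e1, mul_one]
    · right; exact e1
  have h7 := huniq u hu hu1 hwu
  rw [← h7, ← mul_assoc u u e, h.sqr huW, one_mul]
  exact hye

theorem exists_data (h : Pair T V z r d) {p : G} (hp : p ∈ ws V r ⊓ ws V d)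
    (hpy : ∀ a0 y : G, a0 ∈ ws V d → Wt V r d a0 y → y * p ≠ p * y)
    (hpy' : ∀ a0 y : G, a0 ∈ ws V r → Wt V d r a0 y → y * p ≠ p * y) {a0 y : G}
    (ha0 : a0 ∈ ws V d) (hy : Wt V r d a0 y) : ∃ v w u0 : G, Data V r d p a0 y v w u0 := by
  have hact := act h.odd h.ptr hy.mem hy.odd
  obtain ⟨v, hv, ha0v⟩ := h.exists_v ha0 hy
  have hvW := hact.uu_le hv
  -- side of `d`
  obtain ⟨y', hy'⟩ := h.symm.exists_wt hvW ha0 (fun e => ha0v e.symm)
  have hact' := act h.odd h.ptd hy'.mem hy'.odd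
  obtain ⟨w, hw, hvw⟩ := h.symm.exists_v hvW hy'
  have hwW := hact'.uu_le hw
  have hidx := h.symm.index_v hvW hy' hw
  have hidx' := h.index_v ha0 hy hv
  have hwy : w * y * w⁻¹ * y ∈ kq V r := (hy.all w hwW).resolve_left fun hk =>
    hvw (h.comm_uu ha0 hy hwW hk hv).symm
  obtain ⟨hf, u0, hu0, hu01, hwu0, huniq⟩ := OddTwoWeight.four h.odd h.ptr hy.mem hy.odd hy.nk
    (h.cr hwW) hwy hidx
  obtain ⟨hf', u0', hu0', hu01', hwu0', huniq'⟩ := OddTwoWeight.four h.odd h.ptd hy'.mem hy'.odd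
    hy'.nk (h.cd hvW) hy'.inv hidx'
  -- `t`
  set t := w * v * w⁻¹ * v⁻¹ with ht
  have htI := h.comm_mem hvW hwW
  have hty : y * t ≠ t * y := by
    intro hc
    obtain ⟨u', hu', hcase⟩ := uu_conj_cases h.odd h.ptr hy.mem hy.odd (h.cr hwW) (Or.inr hwy) hv
    have hyr : y * r = r * y := mem_centralizer_singleton_iff.mp hy.mem
    have hr := self_mem_ws h.odd.toGeo h.ptr
    have hvi := hact.inv_eq hvW
    have h1 : u' * v = 1 := by
      refine hact.eq_one (mul_mem hu' hv) ?_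
      rcases hcase with e1 | e1
      · have : t = u' * v := by rw [ht, e1, hvi]
        rw [← this]; exact hc
      · have h2 : t = u' * v * r := by
          rw [ht, e1, hvi, mul_assoc, hact.comm hr hvW, ← mul_assoc]
        have h3 : u' * v = t * r := by rw [h2, mul_assoc, h.sqr hr, mul_one]
        rw [h3]
        have c1 : Commute y t := hc
        have c2 : Commute y r := hyr
        exact (c1.mul_right c2).eq
    have h2 : u' = v := by
      rw [eq_inv_of_mul_eq_one_left h1, hvi]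
    apply hvw
    refine (h.comm_of hvW hwW ?_).symm
    rw [← h2]
    rcases hcase with e1 | e1
    · left; rw [← h2] at e1; exact e1
    · right; rw [← h2] at e1; exact e1
  have hty' : y' * t ≠ t * y' := by
    intro hc
    obtain ⟨u', hu', hcase⟩ := uu_conj_cases h.odd h.ptd hy'.mem hy'.odd (h.cd hvW) (Or.inr hy'.inv) hw
    have hyr : y' * d = d * y' := mem_centralizer_singleton_iff.mp hy'.mem
    have hr := self_mem_ws h.odd.toGeo h.ptd
    have hwi := hact'.inv_eq hwW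
    have htt : t = w * (v * w * v⁻¹) := by
      have e : w * (v * w⁻¹ * v⁻¹) = t := by rw [ht]; group
      rw [← e, hwi]
    have h1 : w * u' = 1 := by
      refine hact'.eq_one (mul_mem hw hu') ?_
      rcases hcase with e1 | e1
      · have : t = w * u' := by rw [htt, e1]
        rw [← this]; exact hc
      · have h2 : t = w * u' * d := by rw [htt, e1, ← mul_assoc]
        have h3 : w * u' = t * d := by rw [h2, mul_assoc, h.sqd hr, mul_one]
        rw [h3]
        have c1 : Commute y' t := hc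
        have c2 : Commute y' d := hyr
        exact (c1.mul_right c2).eq
    have h2 : u' = w := by
      rw [eq_inv_of_mul_eq_one_right h1, hwi]
    apply hvw
    refine (h.symm.comm_of hwW hvW ?_)
    rcases hcase with e1 | e1
    · left; rw [h2] at e1; exact e1
    · right; rw [h2] at e1; exact e1
  -- components
  have hpc := h.component hy.mem hy.odd hwW hwy huniq hp (hpy a0 y ha0 hy)
  have htc := h.component hy.mem hy.odd hwW hwy huniq htI hty
  have hpc' := h.symm.component hy'.mem hy'.odd hvW hy'.inv huniq' ⟨hp.2, hp.1⟩ (hpy' v y' hvW hy')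
  have htc' := h.symm.component hy'.mem hy'.odd hvW hy'.inv huniq' ⟨htI.2, htI.1⟩ hty'
  have hpt : ∀ {W : Subgroup G} {s y : G}, Act W y → s ∈ W → p ∈ W → t ∈ W →
      y * (s * p) = s * p * y → y * (s * t) = s * t * y → y * (p * t) = p * t * y := by
    intro W s y ha hs hpW htW h1 h2
    have e : p * t = (s * p) * (s * t) := by
      calc p * t = (s * s) * (p * t) := by rw [ha.sq s hs, one_mul]
        _ = s * (s * p) * t := by group
        _ = s * (p * s) * t := by rw [ha.comm hs hpW]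
        _ = (s * p) * (s * t) := by group
    rw [e]
    have c1 : Commute y (s * p) := h1
    have c2 : Commute y (s * t) := h2
    exact (c1.mul_right c2).eq
  have hp1 := hpt hact (hact.uu_le hu0) hp.1 htI.1 hpc htc
  have hp2 := hpt hact' (hact'.uu_le hu0') hp.2 htI.2 hpc' htc'
  have hptW : p * t ∈ ws V r := mul_mem hp.1 htI.1
  have hq := kill h.odd.toGeo hf hf' htI.1 htI.2 hty hty' hv hw rfl hp1 hp2
    (hact.comm htI.1 hptW) (h.sqr hptW)
  have hpt : p = t := by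
    rw [eq_inv_of_mul_eq_one_left hq, hact.inv_eq htI.1]
  exact ⟨v, w, u0, hv, hwW, ha0v, hpt.symm, hidx, hwy, hf, hu0, hu01, hwu0, huniq, hpc⟩

/-- a point `p` of `ws V r ∩ ws V d` not fixed by weights -/
structure Mid (V : Subgroup G) (r d p : G) : Prop where
  mem : p ∈ ws V r ⊓ ws V d
  n1 : ∀ a0 y : G, a0 ∈ ws V d → Wt V r d a0 y → y * p ≠ p * y
  n2 : ∀ a0 y : G, a0 ∈ ws V r → Wt V d r a0 y → y * p ≠ p * y

theorem Mid.symm {p : G} (hm : Mid V r d p) : Mid V d r p := ⟨⟨hm.mem.2, hm.mem.1⟩, hm.n2, hm.n1⟩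

/-- an element of `ws V d` centralizing a weight centralizes `ws V r` -/
theorem comm_of_cent (h : Pair T V z r d) {p : G} (hm : Mid V r d p) {a0 y : G}
    (ha0 : a0 ∈ ws V d) (hy : Wt V r d a0 y) {a1 : G} (ha1 : a1 ∈ ws V d)
    (hay : a1 * y * a1⁻¹ * y⁻¹ ∈ kq V r) {v0 : G} (hv0 : v0 ∈ ws V r) : a1 * v0 = v0 * a1 := by
  by_contra hne
  obtain ⟨v, w, u0, D⟩ := h.exists_data hm.mem hm.n1 hm.n2 ha0 hy
  obtain ⟨y1, hy1⟩ := h.exists_wt ha1 hv0 hne
  obtain ⟨v1, w1, u1, D1⟩ := h.exists_data hm.mem hm.n1 hm.n2 ha1 hy1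
  have hact := act h.odd h.ptr hy.mem hy.odd
  have hact1 := act h.odd h.ptr hy1.mem hy1.odd
  have hv1 := hact1.uu_le D1.v_mem
  -- `a1 v1 a1⁻¹ = p v1`
  have h1 : (w1 * a1) * v1 = v1 * (w1 * a1) :=
    h.comm_uu ha1 hy1 (mul_mem D1.w_mem ha1) (h.mul_cent hy1 D1.w_mem D1.inv hy1.inv) D1.v_mem
  have hw1w1 := h.sqd D1.w_mem
  have hw1i : w1⁻¹ = w1 := inv_eq_self hw1w1
  have h2 : a1 * v1 * a1⁻¹ = p * v1 := by
    have e1 : w1 * (a1 * v1 * a1⁻¹) * w1⁻¹ = v1 := by
      calc w1 * (a1 * v1 * a1⁻¹) * w1⁻¹ = (w1 * a1) * v1 * (w1 * a1)⁻¹ := by group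
        _ = v1 := by rw [h1]; group
    have e2 : w1 * v1 * w1⁻¹ = p * v1 := mul_inv_eq_iff_eq_mul.mp D1.wv
    have e4 : ∀ X : G, w1 * X * w1⁻¹ = v1 → X = w1 * v1 * w1⁻¹ := by
      intro X hX
      have e5 : X = w1⁻¹ * v1 * w1⁻¹⁻¹ := by rw [← hX]; group
      rw [hw1i] at e5
      exact e5
    rw [e4 _ e1]
    exact e2
  -- conjugate by `y`
  set v2 := y * v1 * y⁻¹ with hv2
  have hv2W := hact.conj v1 hv1
  set k := a1 * y * a1⁻¹ * y⁻¹ with hk
  have e3 : y * (a1 * v1 * a1⁻¹) * y⁻¹ = k⁻¹ * (a1 * v2 * a1⁻¹) * k := by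
    rw [hk, hv2]; group
  have e4 : y * p * y⁻¹ * v2 = k⁻¹ * (a1 * v2 * a1⁻¹) * k := by
    rw [← e3, h2, hv2]; group
  have hXW := conj_mem (V := V) (h.cr ha1) hv2W
  have hr := self_mem_ws h.odd.toGeo h.ptr
  have hc := h.comm_mem hv2W ha1
  set c := a1 * v2 * a1⁻¹ * v2⁻¹ with hcd
  have hwr := h.r_comm D.w_mem
  have hwc := h.inf_comm hc D.w_mem
  have e5 : w * (y * p * y⁻¹) = y * p * y⁻¹ * w := by
    rcases kq_cases' h.odd h.ptr hay hXW with e | e
    · rw [e] at e4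
      have : y * p * y⁻¹ = c := eq_mul_inv_of_mul_eq e4
      rw [this]; exact hwc
    · rw [e] at e4
      have : y * p * y⁻¹ = c * r := by
        have e6 : y * p * y⁻¹ = a1 * v2 * a1⁻¹ * r * v2⁻¹ := eq_mul_inv_of_mul_eq e4
        rw [e6, hcd, mul_assoc _ r, hact.comm hr (inv_mem hv2W), ← mul_assoc]
      rw [this]
      have c1 : Commute w c := hwc
      have c2 : Commute w r := hwr
      exact (c1.mul_right c2).eq
  -- contradiction
  have hu0W := hact.uu_le D.memu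
  apply D.neu
  refine hact.eq_one D.memu ?_
  have hwp : w * p = p * w := h.inf_comm hm.mem D.w_mem
  have hwe : Commute w (u0 * p) := (show Commute w u0 from D.wu).mul_right hwp
  have e7 : y * u0 * y⁻¹ = (y * p * y⁻¹) * (u0 * p)⁻¹ := by
    have e8 : y * (u0 * p) * y⁻¹ = u0 * p := conj_eq_iff_comm.mpr D.pc
    have e9 : y * u0 * y⁻¹ * (y * p * y⁻¹) = u0 * p := by rw [← e8]; group
    have hpW := hact.conj p hm.mem.1
    have e10 : y * u0 * y⁻¹ = u0 * p * (y * p * y⁻¹) := mul_eq_of_sq (h.sqr hpW) e9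
    have hm2 : u0 * p ∈ ws V r := mul_mem hu0W hm.mem.1
    rw [e10, hact.comm hm2 hpW, hact.inv_eq hm2]
  have hwyu : w * (y * u0 * y⁻¹) = y * u0 * y⁻¹ * w := by
    rw [e7]
    have c1 : Commute w (y * p * y⁻¹) := e5
    exact (c1.mul_right hwe.inv_right).eq
  have h3 := D.uniq _ (hact.uu_conj D.memu) (conj_ne_one D.neu) hwyu
  exact conj_eq_iff_comm.mp h3

theorem index_two' (h : Pair T V z r d) {p : G} (hm : Mid V r d p) {a a' : G} (ha : a ∈ ws V d)
    (ha' : a' ∈ ws V d) (hn : a ∉ centralizer (ws V r : Set G))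
    (hn' : a' ∉ centralizer (ws V r : Set G)) {v : G} (hv : v ∈ ws V r) :
    a * a' * v = v * (a * a') := by
  have hex : ∀ a, a ∉ centralizer (ws V r : Set G) → ∃ v ∈ ws V r, a * v ≠ v * a := by
    intro a hn
    rw [mem_centralizer_iff] at hn
    push Not at hn
    obtain ⟨v, hv, hne⟩ := hn
    exact ⟨v, hv, fun e => hne e.symm⟩
  obtain ⟨v0, hv0, hne⟩ := hex a hn
  obtain ⟨v1, hv1, hne1⟩ := hex a' hn'
  obtain ⟨y, hy⟩ := h.exists_wt ha hv0 hne
  have hay' : a' * y * a'⁻¹ * y ∈ kq V r := (hy.all a' ha').resolve_left fun hk =>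
    hne1 (h.comm_of_cent hm ha hy ha' hk hv1)
  exact h.comm_of_cent hm ha hy (mul_mem ha ha') (h.mul_cent hy ha hy.inv hay') hv

theorem comm_cases' (h : Pair T V z r d) {p : G} (hm : Mid V r d p) {a v : G} (ha : a ∈ ws V d)
    (hv : v ∈ ws V r) : a * v = v * a ∨ a * v * a⁻¹ * v⁻¹ = p := by
  by_cases hne : a * v = v * a
  · exact Or.inl hne
  right
  obtain ⟨y, hy⟩ := h.exists_wt ha hv hne
  obtain ⟨v1, w, u0, D⟩ := h.exists_data hm.mem hm.n1 hm.n2 ha hy
  have hact := act h.odd h.ptr hy.mem hy.odd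
  have hv1 := hact.uu_le D.v_mem
  have hnc : a ∉ centralizer (ws V r : Set G) := fun hc =>
    hne (mem_centralizer_iff.mp hc v hv).symm
  have hp1 : p ≠ 1 := by
    rintro rfl
    exact hm.n1 a y ha hy (by rw [mul_one, one_mul])
  have hwv1 : w * v1 ≠ v1 * w := by
    intro e
    apply hp1
    rw [← D.wv, e]; group
  have hncw : w ∉ centralizer (ws V r : Set G) := fun hc =>
    hwv1 (mem_centralizer_iff.mp hc v1 hv1).symm
  have hww := h.sqd D.w_mem
  have haa := h.sqd ha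
  -- `a v a⁻¹ = w v w⁻¹`
  have h1 : ∀ v ∈ ws V r, a * v * a⁻¹ = w * v * w⁻¹ := by
    intro v hv
    have h2 := h.index_two' hm D.w_mem ha hncw hnc hv
    have hai : a⁻¹ = a := inv_eq_self haa
    have hwi : w⁻¹ = w := inv_eq_self hww
    have h3 : w * (a * v * a⁻¹) * w⁻¹ = v := by
      calc w * (a * v * a⁻¹) * w⁻¹ = (w * a * v) * (w * a)⁻¹ := by group
        _ = v * (w * a) * (w * a)⁻¹ := by rw [h2]
        _ = v := by group
    calc a * v * a⁻¹ = w⁻¹ * (w * (a * v * a⁻¹) * w⁻¹) * w := by group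
      _ = w⁻¹ * v * w := by rw [h3]
      _ = w * v * w⁻¹ := by rw [hwi]
  have hwv : w * v ≠ v * w := by
    intro e
    apply hne
    have := h1 v hv
    rw [conj_eq_iff_comm.mpr e] at this
    exact conj_eq_iff_comm.mp this
  have h4 := D.idx v hv v1 hv1 hwv hwv1
  -- `[w, v] = [w, v1]`
  have hc1 := h.comm_mem hv D.w_mem
  have hc2 := h.comm_mem hv1 D.w_mem
  rw [h1 v hv]
  have e1 : w * (v * v1) * w⁻¹ = v * v1 := conj_eq_iff_comm.mpr h4
  have e2 : w * v * w⁻¹ * (w * v1 * w⁻¹) = v * v1 := by rw [← e1]; group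
  have e3 : w * v1 * w⁻¹ = p * v1 := mul_inv_eq_iff_eq_mul.mp D.wv
  rw [e3] at e2
  have hwvW : w * v * w⁻¹ ∈ ws V r := conj_mem (h.cr D.w_mem) hv
  have hpW := hm.mem.1
  have e4 : w * v * w⁻¹ * p = v := by
    calc w * v * w⁻¹ * p = (w * v * w⁻¹ * (p * v1)) * v1⁻¹ := by group
      _ = v := by rw [e2]; group
  have e5 : w * v * w⁻¹ = v * p := mul_eq_of_sq (h.sqr hpW) e4
  rw [e5, hact.comm hv hpW]; group

end Pair

end crit

/-! ### critical pairs at distance two -/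

section final

variable {x y p m : G}

theorem exists_middle (h : OddN T V z 2) (hc : Crit V z 2 x y) : ∃ p, Col V x p ∧ Col V p y := by
  obtain ⟨w, h1, h2⟩ := hc.head h
  refine ⟨w, h1, ?_⟩
  have h3 : Walk V 1 w y := h2
  rcases walk_one.mp h3 with rfl | h4
  · exact absurd h1.walk (hc.not_walk h (by norm_num))
  · exact h4

theorem not_mem (h : OddN T V z 2) (hc : Crit V z 2 x y) : x ∉ ws V y := by
  intro hxy
  obtain ⟨p, h1, h2⟩ := exists_middle h hc
  obtain ⟨g, hg, hy, h'⟩ := exists_odd_col h.toOdd h2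
  have hp1 : p ≠ 1 := h2.1
  have hy1 : y ≠ 1 := h2.2.1
  have hpy : p ≠ y := h2.2.2.1
  have hx1 : x ≠ 1 := h1.1
  have hxp : x ≠ p := h1.2.2.1
  have hdd : x ∈ dd (cj g V) := by
    rw [← h'.inf_eq_dd h'.z_mem hp1 hy hy1 hpy]
    refine ⟨?_, ?_⟩
    · rw [OddLine.ws_cj]; exact h1.symm.mem_ws
    · rw [OddLine.ws_cj]; exact hxy
  obtain ⟨k, hk, hx, h''⟩ := exists_odd_col h.toOdd h1.symm
  have hle : cj k V ≤ dd (cj g V) := by
    intro v hv
    rcases h''.four h''.z_mem hx hp1 hx1 (Ne.symm hxp) hv with e | e | e | e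
    · rw [e]; exact one_mem _
    · rw [e]; exact h'.V_le_dd h'.z_mem
    · rw [e]; exact hdd
    · rw [e]; exact mul_mem (h'.V_le_dd h'.z_mem) hdd
  have hlines : cj k V ∈ lines (cj g V) p := by
    rw [OddLine.lines_cj]
    exact ⟨⟨k, rfl⟩, h''.z_mem⟩
  have heq := h'.eq_of_mem_lines hlines hle
  rw [heq] at hx
  by_cases hxy' : x = y
  · exact hc.not_walk h (m := 0) (by norm_num) hxy'
  · have : Col V x y := ⟨hx1, hy1, hxy', cj g V, ⟨⟨g, rfl⟩, hx⟩, hy⟩
    exact hc.not_walk h (by norm_num) this.walk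

theorem pair_of_crit (h : OddN T V z 2) (hc : Crit V z 2 x y) : Pair T V z x y where
  odd := h.toOdd
  ptr := hc.pt
  ptd := hc.pt' h.toGeo
  cr := hc.ws_le_centralizer h
  cd := (hc.symm h.toOdd).ws_le_centralizer h
  rd := not_mem h hc
  dr := not_mem h (hc.symm h.toOdd)

theorem wt_ne (h : OddN T V z 2) (hc : Crit V z 2 x y) (h1 : Col V x p) (h2 : Col V p y)
    {a0 s : G} (ha0 : a0 ∈ ws V y) (hs : Pair.Wt V x y a0 s) : s * p ≠ p * s := by
  intro hsp
  have hP := pair_of_crit h hc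
  have hpt : Pt z p := h1.pt h.toGeo
  have hY2 := tt_isPGroup h (j := 1) (by norm_num) hpt
  have ha0Y : a0 ∈ tt V 1 p := ws_le_tt h2.walk ha0
  have hsY : s * a0⁻¹ * s⁻¹ ∈ tt V 1 p :=
    conj_mem_of_normalizer (centralizer_le_normalizer_tt 1 p)
      (mem_centralizer_singleton_iff.mpr hsp) (inv_mem ha0Y)
  obtain ⟨n, hn⟩ := hY2 ⟨a0 * (s * a0⁻¹ * s⁻¹), mul_mem ha0Y hsY⟩
  have hn' : (a0 * (s * a0⁻¹ * s⁻¹)) ^ 2 ^ n = 1 := congrArg Subtype.val hn
  -- in `C(x)/kq V x`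
  set C := centralizer ({x} : Set G) with hC
  set K : Subgroup C := (kq V x).subgroupOf C with hK
  haveI hKn : K.Normal := kq_normal V x
  let π : C →* C ⧸ K := QuotientGroup.mk' K
  have hπ : ∀ c : C, π c = 1 ↔ (c : G) ∈ kq V x := by
    intro c
    change (QuotientGroup.mk c : C ⧸ K) = 1 ↔ _
    rw [QuotientGroup.eq_one_iff, hK, mem_subgroupOf]
  let s' : C := ⟨s, hs.mem⟩
  let a' : C := ⟨a0, hP.cr ha0⟩
  have hinv : π a' * π s' * (π a')⁻¹ * π s' = 1 := by
    have : π (a' * s' * a'⁻¹ * s') = 1 := (hπ _).mpr hs.inv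
    simpa using this
  have h3 : π (a' * (s' * a'⁻¹ * s'⁻¹)) = (π s' * π s')⁻¹ := by
    have e : π a' * π s' * (π a')⁻¹ = (π s')⁻¹ := eq_inv_of_mul_eq_one_left hinv
    rw [map_mul, map_mul, map_mul, map_inv, map_inv]
    calc π a' * (π s' * (π a')⁻¹ * (π s')⁻¹) = π a' * π s' * (π a')⁻¹ * (π s')⁻¹ := by group
      _ = (π s' * π s')⁻¹ := by rw [e]; group
  have h4 : (π s') ^ 2 ^ (n + 1) = 1 := by
    have h5 : (a' * (s' * a'⁻¹ * s'⁻¹)) ^ 2 ^ n = 1 := Subtype.ext hn'
    have h6 : ((π s' * π s')⁻¹) ^ 2 ^ n = 1 := by rw [← h3, ← map_pow, h5, map_one]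
    rw [inv_pow, inv_eq_one, ← pow_two, ← pow_mul] at h6
    rw [pow_succ, mul_comm]; exact h6
  have h7 : orderOf (π s') ∣ orderOf s := by
    have := orderOf_map_dvd π s'
    rwa [← Subgroup.orderOf_coe] at this
  have h8 : orderOf (π s') ∣ 2 ^ (n + 1) := orderOf_dvd_of_pow_eq_one h4
  have h9 : Nat.Coprime (orderOf s) (2 ^ (n + 1)) :=
    Nat.Coprime.pow_right _ (Nat.coprime_two_right.mpr hs.odd)
  have h10 := Nat.eq_one_of_dvd_coprimes h9 h7 h8
  exact hs.nk ((hπ s').mp (orderOf_eq_one_iff.mp h10))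

theorem mid_of_crit (h : OddN T V z 2) (hc : Crit V z 2 x y) (h1 : Col V x p) (h2 : Col V p y) :
    Pair.Mid V x y p where
  mem := ⟨h1.mem_ws, h2.symm.mem_ws⟩
  n1 := fun _ _ ha hs => wt_ne h hc h1 h2 ha hs
  n2 := fun _ _ ha hs => wt_ne h (hc.symm h.toOdd) h2.symm h1.symm ha hs

/-- **`[ws V x, ws V y] = ⟨p⟩`** -/
theorem comm_cases (h : OddN T V z 2) (hc : Crit V z 2 x y) (hxp : Col V x p) (hpy : Col V p y)
    {a b : G} (ha : a ∈ ws V x) (hb : b ∈ ws V y) : a * b = b * a ∨ a * b = p * (b * a) := by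
  have hP := pair_of_crit h hc
  have hm := mid_of_crit h hc hxp hpy
  rcases hP.symm.comm_cases' hm.symm ha hb with e | e
  · exact Or.inl e
  · right
    rw [← e]; group

theorem index_two (h : OddN T V z 2) (hc : Crit V z 2 x y) (hxp : Col V x p) (hpy : Col V p y)
    {a a' : G} (ha : a ∈ ws V x) (ha' : a' ∈ ws V x) (hn : a ∉ centralizer (ws V y : Set G))
    (hn' : a' ∉ centralizer (ws V y : Set G)) : a * a' ∈ centralizer (ws V y : Set G) := by
  have hP := pair_of_crit h hc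
  have hm := mid_of_crit h hc hxp hpy
  rw [mem_centralizer_iff]
  intro v hv
  exact (hP.symm.index_two' hm.symm ha ha' hn hn' hv).symm

/-- ordered pairs of collinear points are conjugate -/
theorem exists_conj {x' y' : G} (h : OddLine.Odd T V z) (h1 : Col V x y) (h2 : Col V x' y') :
    ∃ g : G, g * x * g⁻¹ = x' ∧ g * y * g⁻¹ = y' := by
  obtain ⟨g1, hg1, hy1, _⟩ := exists_geo h.toGeo h1
  obtain ⟨g2, hg2, hy2, _⟩ := exists_geo h.toGeo h2
  rw [mem_cj] at hy1 hy2
  set q := g1⁻¹ * y * g1 with hq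
  set q' := g2⁻¹ * y' * g2 with hq'
  have hyq : y = g1 * q * g1⁻¹ := by rw [hq]; group
  have hyq' : y' = g2 * q' * g2⁻¹ := by rw [hq']; group
  have hq1 : q ≠ 1 := fun e => h1.2.1 (by rw [hyq, e]; group)
  have hqz : q ≠ z := fun e => h1.2.2.1 (by rw [hyq, e, hg1])
  have hq'1 : q' ≠ 1 := fun e => h2.2.1 (by rw [hyq', e]; group)
  have hq'z : q' ≠ z := fun e => h2.2.2.1 (by rw [hyq', e, hg2])
  have hex : ∃ s : G, s * z * s⁻¹ = z ∧ s * q * s⁻¹ = q' := by
    rcases h.four h.z_mem hy1 h.z_ne hq1 (Ne.symm hqz) hy2 with e | e | e | e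
    · exact absurd e hq'1
    · exact absurd e hq'z
    · exact ⟨1, by group, by rw [e]; group⟩
    · obtain ⟨s, hs, hs2⟩ := h.exists_swap
      refine ⟨s, ?_, ?_⟩
      · rw [mem_centralizer_singleton_iff.mp (h.T_le hs.1)]; group
      · rw [hs2 q hy1 hq1 hqz, e]
  obtain ⟨s, hs1, hs2⟩ := hex
  refine ⟨g2 * s * g1⁻¹, ?_, ?_⟩
  · rw [hg1, hg2]
    calc g2 * s * g1⁻¹ * (g1 * z * g1⁻¹) * (g2 * s * g1⁻¹)⁻¹ = g2 * (s * z * s⁻¹) * g2⁻¹ := by group
      _ = g2 * z * g2⁻¹ := by rw [hs1]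
  · rw [hyq, hyq']
    calc g2 * s * g1⁻¹ * (g1 * q * g1⁻¹) * (g2 * s * g1⁻¹)⁻¹ = g2 * (s * q * s⁻¹) * g2⁻¹ := by group
      _ = g2 * q' * g2⁻¹ := by rw [hs2]

theorem exists_crit (h : OddN T V z 2) (hxm : Col V x m) : ∃ y, Col V m y ∧ Crit V z 2 x y := by
  obtain ⟨x0, y0, hx0, hw0, hne0⟩ := h.crit
  have hc0 : Crit V z 2 x0 y0 := ⟨hx0, hw0, hne0⟩
  obtain ⟨p0, h1, h2⟩ := exists_middle h hc0
  obtain ⟨g, hg1, hg2⟩ := exists_conj h.toOdd h1 hxm
  refine ⟨g * y0 * g⁻¹, ?_, ?_⟩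
  · rw [← hg2]; exact h2.conj g
  · rw [← hg1]; exact hc0.conj g

/-- `tt V 1 m` acts on `ws V x` with commutator in `⟨m⟩` -/
theorem tt_comm (h : OddN T V z 2) (hxm : Col V x m) {v g : G} (hv : v ∈ ws V x)
    (hg : g ∈ tt V 1 m) : g * v * g⁻¹ = v ∨ g * v * g⁻¹ = v * m := by
  have hptx : Pt z x := hxm.pt_left h.toGeo
  have hptm : Pt z m := hxm.pt h.toGeo
  have hmm := OddBase.Pt.sq h.toGeo hptm
  have hmx : m ∈ ws V x := hxm.mem_ws
  let A : Subgroup G :=
    { carrier := {g | g * m = m * g ∧ ∀ v ∈ ws V x, g * v * g⁻¹ = v ∨ g * v * g⁻¹ = v * m}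
      mul_mem' := by
        rintro a b ⟨ha, ha1⟩ ⟨hb, hb1⟩
        have hc1 : Commute a m := ha
        have hc2 : Commute b m := hb
        have ham : a * m * a⁻¹ = m := conj_eq_iff_comm.mpr ha
        refine ⟨(hc1.mul_left hc2).eq, fun v hv => ?_⟩
        have e : a * b * v * (a * b)⁻¹ = a * (b * v * b⁻¹) * a⁻¹ := by group
        rw [e]
        rcases hb1 v hv with e1 | e1 <;> rw [e1]
        · exact ha1 v hv
        · have e2 : a * (v * m) * a⁻¹ = a * v * a⁻¹ * (a * m * a⁻¹) := by group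
          rw [e2, ham]
          rcases ha1 v hv with e3 | e3 <;> rw [e3]
          · exact Or.inr rfl
          · left; rw [mul_assoc, hmm, mul_one]
      one_mem' := ⟨by group, fun v _ => Or.inl (by group)⟩
      inv_mem' := by
        rintro a ⟨ha, ha1⟩
        have hc1 : Commute a m := ha
        refine ⟨hc1.inv_left.eq, fun v hv => ?_⟩
        rw [inv_inv]
        rcases ha1 v hv with e | e
        · left
          calc a⁻¹ * v * a = a⁻¹ * (a * v * a⁻¹) * a := by rw [e]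
            _ = v := by group
        · right
          have e2 : v * m = a * v * a⁻¹ := e.symm
          calc a⁻¹ * v * a = a⁻¹ * (v * m * m) * a := by rw [mul_assoc v, hmm, mul_one]
            _ = a⁻¹ * (a * v * a⁻¹) * (m * a) := by rw [e2]; group
            _ = v * a⁻¹ * (a * m) := by rw [← hc1.eq]; group
            _ = v * m := by group }
  have hle : tt V 1 m ≤ A := by
    refine tt_le fun w hw => ?_
    intro a ha
    have hptw : Pt z w := Walk.pt h.toGeo hptm hw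
    have ham : a * m = m * a := by
      refine OddBase.ws_comm h.toOdd hptw ha ?_
      rcases walk_one.mp hw with rfl | e
      · exact self_mem_ws h.toGeo hptm
      · exact e.symm.mem_ws
    refine ⟨ham, fun v hv => ?_⟩
    by_cases hc : Crit V z 2 x w
    · rcases walk_one.mp hw with rfl | hmw
      · exact absurd hxm.walk (hc.not_walk h (by norm_num))
      · rcases comm_cases h hc hxm hmw hv ha with e | e
        · left; rw [← e]; group
        · right
          have e1 : m * (v * a) = a * v := by rw [e, ← mul_assoc, hmm, one_mul]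
          rw [← e1, OddBase.ws_comm h.toOdd hptx hv hmx]; group
    · left
      have hw2 : Walk V 2 x w := by
        have := hxm.walk.trans hw
        exact this
      have : a * v = v * a := by
        by_contra hne
        exact hc ⟨hptx, hw2, v, hv, a, ha, fun e => hne e.symm⟩
      rw [this]; group
  exact (hle hg).2 v hv

theorem tt_index_two (h : OddN T V z 2) (hxm : Col V x m) {g g' : G} (hg : g ∈ tt V 1 m)
    (hg' : g' ∈ tt V 1 m) (hn : g ∉ centralizer (ws V x : Set G))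
    (hn' : g' ∉ centralizer (ws V x : Set G)) : g * g' ∈ centralizer (ws V x : Set G) := by
  have hptx : Pt z x := hxm.pt_left h.toGeo
  have hptm : Pt z m := hxm.pt h.toGeo
  have hmx : m ∈ ws V x := hxm.mem_ws
  have hxmem : x ∈ ws V x := self_mem_ws h.toGeo hptx
  have hxne : x ≠ m := hxm.2.2.1
  have hm1 : m ≠ 1 := hxm.2.1
  have hA : tt V 1 m ≤ centralizer ({x} : Set G) := by
    refine (tt_le_centralizer_ws h (by norm_num) hptm).trans (centralizer_le ?_)
    rintro _ rfl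
    exact hxm.symm.mem_ws
  have hmc : ∀ g ∈ tt V 1 m, g * m = m * g := fun g hg =>
    (mem_centralizer_iff.mp (tt_le_centralizer_ws h (by norm_num) hptm hg) m
      (self_mem_ws h.toGeo hptm)).symm
  have hmm := OddBase.Pt.sq h.toGeo hptm
  have hsq : ∀ a ∈ tt V 1 m, a * a ∈ kq V x := by
    intro a ha
    refine mem_kq_of_comm (mul_mem (hA ha) (hA ha)) fun v hv => ?_
    have e0 : a * a * v * (a * a)⁻¹ = a * (a * v * a⁻¹) * a⁻¹ := by group
    refine conj_eq_iff_comm.mp ?_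
    rw [e0]
    rcases tt_comm h hxm hv ha with e | e
    · rw [e, e]
    · have e2 : a * (v * m) * a⁻¹ = a * v * a⁻¹ * (a * m * a⁻¹) := by group
      rw [e, e2, e, conj_eq_iff_comm.mpr (hmc a ha), mul_assoc, hmm, mul_one]
  have hex : ∀ g, g ∉ centralizer (ws V x : Set G) → ∃ v ∈ ws V x, g * v ≠ v * g := by
    intro g hn
    rw [mem_centralizer_iff] at hn
    push Not at hn
    obtain ⟨v, hv, hne⟩ := hn
    exact ⟨v, hv, fun e => hne e.symm⟩
  obtain ⟨v0, hv0, hne0⟩ := hex g hn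
  have hgk : g ∉ kq V x := by
    intro hk
    rcases kq_cases h.toOdd hptx hk hv0 with e | e
    · exact hne0 (conj_eq_iff_comm.mp e)
    · rcases tt_comm h hxm hv0 hg with e2 | e2
      · exact hne0 (conj_eq_iff_comm.mp e2)
      · rw [e] at e2
        exact hxne (mul_left_cancel e2)
  obtain ⟨s, hs, hso, hsk, hinv, hall⟩ := exists_weight h.toOdd hptx hA hsq hg hgk
  have hact := act h.toOdd hptx hs hso
  have hsx : s * x = x * s := mem_centralizer_singleton_iff.mp hs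
  have hxx := OddBase.Pt.sq h.toGeo hptx
  -- `s` does not fix `m`
  have hsm : s * m ≠ m * s := by
    intro hsm
    have hex2 : ∃ u ∈ uu (ws V x) s, g * u ≠ u * g := by
      by_contra hcon
      push Not at hcon
      obtain ⟨u, hu, hu1⟩ := exists_uu h.toOdd hptx hs hso hsk
      apply hu1
      refine eq_one_of_comm h.toOdd hptx hs hso hinv (hA hg) hu (hcon u hu) ?_
      have h1 := hcon _ (hact.uu_conj' hu)
      calc s * g * s⁻¹ * u = s * (g * (s⁻¹ * u * s)) * s⁻¹ := by group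
        _ = s * ((s⁻¹ * u * s) * g) * s⁻¹ := by rw [h1]
        _ = u * (s * g * s⁻¹) := by group
    obtain ⟨u, hu, hgu⟩ := hex2
    have huW := hact.uu_le hu
    rcases tt_comm h hxm huW hg with e | e
    · exact hgu (conj_eq_iff_comm.mp e)
    obtain ⟨u', hu', hcase⟩ := uu_conj_cases h.toOdd hptx hs hso (hA hg) (Or.inr hinv) hu
    have hcs : ∃ c : G, (c = 1 ∨ c = x) ∧ u * m = u' * c := by
      rcases hcase with e1 | e1
      · exact ⟨1, Or.inl rfl, by rw [mul_one, ← e1, e]⟩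
      · exact ⟨x, Or.inr rfl, by rw [← e1, e]⟩
    obtain ⟨c, hc, hum⟩ := hcs
    have hsc : Commute s c := by
      rcases hc with rfl | rfl
      · exact Commute.one_right s
      · exact hsx
    have hcc : c * c = 1 := by
      rcases hc with rfl | rfl
      · exact one_mul 1
      · exact hxx
    have h1 : u * u' = m * c := by
      have hcW : c ∈ ws V x := by
        rcases hc with rfl | rfl
        · exact one_mem _
        · exact hxmem
      have h2 : m = u * (u' * c) := by rw [← hum, ← mul_assoc, hact.sq u huW, one_mul]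
      rw [h2, ← mul_assoc, mul_assoc _ c c, hcc, mul_one]
    have h2 : u * u' = 1 := hact.eq_one (mul_mem hu hu') (by
      rw [h1]
      exact ((show Commute s m from hsm).mul_right hsc).eq)
    rw [h2] at h1
    have h3 : m = c := by
      have := eq_inv_of_mul_eq_one_left h1.symm
      rw [this]; exact inv_eq_self hcc
    rcases hc with rfl | rfl
    · exact hm1 h3
    · exact hxne h3.symm
  -- elements centralizing `s` modulo `kq V x`
  have hcent : ∀ a ∈ tt V 1 m, a * s * a⁻¹ * s⁻¹ ∈ kq V x → a ∈ centralizer (ws V x : Set G) := by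
    intro a ha has
    by_contra hna
    obtain ⟨v, hv, hne⟩ := hex a hna
    have e0 : a * v * a⁻¹ = v * m := (tt_comm h hxm hv ha).resolve_left fun e =>
      hne (conj_eq_iff_comm.mp e)
    set k := a * s * a⁻¹ * s⁻¹ with hk
    set v2 := s * v * s⁻¹ with hv2
    have hv2W := hact.conj v hv
    have e1 : s * (a * v * a⁻¹) * s⁻¹ = k⁻¹ * (a * v2 * a⁻¹) * k := by rw [hk, hv2]; group
    have e2 : s * (v * m) * s⁻¹ = v2 * (s * m * s⁻¹) := by rw [hv2]; group
    rw [e0, e2] at e1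
    have hXW : a * v2 * a⁻¹ ∈ ws V x := conj_mem (hA ha) hv2W
    -- `s m s⁻¹ ∈ {1, m, x, m x}`
    have h3 : ∃ c : G, (c = 1 ∨ c = x) ∧ (s * m * s⁻¹ = c ∨ s * m * s⁻¹ = m * c) := by
      have h4 : ∃ c : G, (c = 1 ∨ c = x) ∧ v2 * (s * m * s⁻¹) = a * v2 * a⁻¹ * c := by
        rcases kq_cases' h.toOdd hptx has hXW with e | e
        · exact ⟨1, Or.inl rfl, by rw [mul_one, e1, e]⟩
        · exact ⟨x, Or.inr rfl, by rw [e1, e]⟩
      obtain ⟨c, hc, h5⟩ := h4
      refine ⟨c, hc, ?_⟩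
      rcases tt_comm h hxm hv2W ha with e | e
      · left
        rw [e] at h5
        exact mul_left_cancel h5
      · right
        rw [e] at h5
        exact mul_left_cancel (h5.trans (mul_assoc v2 m c))
    obtain ⟨c, hc, h5⟩ := h3
    have hsc : s * c * s⁻¹ = c := by
      rcases hc with rfl | rfl
      · group
      · exact conj_eq_iff_comm.mpr hsx
    rcases h5 with h5 | h5
    · have h6 : m = c := OddBase.conj_inj (h5.trans hsc.symm)
      rcases hc with rfl | rfl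
      · exact hm1 h6
      · exact hxne h6.symm
    · apply hsm
      refine comm_of_odd hso hsx ?_ hxx
      rcases hc with rfl | rfl
      · left; rw [h5, mul_one]
      · right; exact h5
  -- conclusion
  have hgk' : g' * s * g'⁻¹ * s ∈ kq V x := (hall g' hg').resolve_left fun hk =>
    hn' (hcent g' hg' hk)
  refine hcent _ (mul_mem hg hg') ?_
  set k := g * s * g⁻¹ * s with hk
  set k' := g' * s * g'⁻¹ * s with hk'
  have e : g * g' * s * (g * g')⁻¹ * s⁻¹ = (g * k' * g⁻¹) * (s * k⁻¹ * s⁻¹) := by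
    rw [hk, hk']; group
  rw [e]
  exact mul_mem (conj_mem_of_normalizer (BTwoB.centralizer_le_normalizer_kq V x) (hA hg) hgk')
    (conj_mem_of_normalizer (BTwoB.centralizer_le_normalizer_kq V x) hs (inv_mem hinv))

end final

end Cfsg.Agent.MinSimple.OddTwoStar
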