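import Mathlib
import Cfsg.Agent.MinSimple.OddLine

/-!
# (E1)(b): two blocks of order 4 and `|dd V| = 8` are impossible (the derived length argument)

Step (6) of helper424's row 4406.

* `exists_dual`: a group of transvections with centre `z` and trivial annihilator induces the full dual;
* `Beta T V z P Q`: `ws V z / ⟨z⟩ = P / ⟨z⟩ × Q / ⟨z⟩`, both factors of order 4, permuted by `C_G(z)`, each of them
  moved by an element of `C_G(z)` centralizing the other one, and `dd V ⊆ V ∪ P ∪ Q`;
* `exists_core`: for `u ∈ dd V \ V` a normal subgroup `D` of `C_G(u)` which induces a 3-cycle but no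
  transposition on `V` (a term of the derived series);
* `Beta.false`: there is no `Beta` with `dd V ≠ V`.
-/

set_option autoImplicit false
set_option linter.unusedSectionVars false

namespace Cfsg.Agent.MinSimple.ThompsonLineC

open Subgroup Cfsg Cfsg.Agent.ZN Cfsg.Agent.MinSimple.Geo Cfsg.Agent.MinSimple.BTwoA
  Cfsg.Agent.MinSimple.BTwoB Cfsg.Agent.MinSimple.OddLine
open Cfsg.Agent.ZN.Block (conj_mem_of_normalizer conj_mem_of_normalizer' le_normalizer_of_forall
  mem_normalizer_of)
open scoped commutatorElement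

universe u

variable {G : Type u} [Group G]

/-! ### the full dual -/

theorem comm_iff_conj {a b : G} : a * b * a⁻¹ = b ↔ a * b = b * a := by
  rw [mul_inv_eq_iff_eq_mul]

/-- If `K` acts on the elementary abelian group `W` by `w ↦ w` or `z * w` and only `1`, `z` are centralized by
`K`, then `K` induces all functionals. -/
theorem mem_of_forall_comm {W K : Subgroup G} {z : G} (hab : ∀ a ∈ W, ∀ b ∈ W, a * b = b * a)
    (hsq : ∀ a ∈ W, a * a = 1) (hz : z ∈ W)
    (hK : ∀ k ∈ K, ∀ w ∈ W, k * w * k⁻¹ = w ∨ k * w * k⁻¹ = z * w) (hKz : ∀ k ∈ K, k * z = z * k)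
    (hann : ∀ w ∈ W, (∀ k ∈ K, k * w = w * k) → w = 1 ∨ w = z) (s : Set G) (hfin : s.Finite)
    (hs : s ⊆ W) : ∀ w ∈ W, (∀ k ∈ K, (∀ a ∈ s, k * a = a * k) → k * w = w * k) →
      w ∈ closure (insert z s) := by
  induction s, hfin using Set.Finite.induction_on with
  | empty =>
    intro w hw h
    rcases hann w hw (fun k hk => h k hk (fun a ha => ha.elim)) with rfl | rfl
    · exact one_mem _
    · exact subset_closure (Set.mem_insert _ _)
  | @insert a s has hfin ih =>
    intro w hw h
    have hsW : s ⊆ W := fun x hx => hs (Set.mem_insert_of_mem _ hx)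
    have haW : a ∈ W := hs (Set.mem_insert _ _)
    have hmono : closure (insert z s) ≤ closure (insert z (insert a s)) :=
      closure_mono (Set.insert_subset_insert (Set.subset_insert _ _))
    by_cases hall : ∀ k ∈ K, (∀ a ∈ s, k * a = a * k) → k * w = w * k
    · exact hmono (ih hsW w hw hall)
    push Not at hall
    obtain ⟨k₀, hk₀, hk₀s, hk₀w⟩ := hall
    -- `k₀` moves `w`, so it moves `a`
    have h0w : k₀ * w * k₀⁻¹ = z * w := by
      rcases hK k₀ hk₀ w hw with e | e
      · exact absurd (comm_iff_conj.mp e) hk₀w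
      · exact e
    have h0a : k₀ * a * k₀⁻¹ = z * a := by
      rcases hK k₀ hk₀ a haW with e | e
      · exfalso
        apply hk₀w
        refine h k₀ hk₀ (fun b hb => ?_)
        rcases hb with rfl | hb
        · exact comm_iff_conj.mp e
        · exact hk₀s b hb
      · exact e
    -- `w * a` is centralized by the stabilizer of `s`
    have hwa : w * a ∈ closure (insert z s) := by
      refine ih hsW (w * a) (W.mul_mem hw haW) (fun k hk hks => ?_)
      have hzz : z * z = 1 := hsq z hz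
      rcases hK k hk a haW with e | e
      · have h1 : k * w = w * k := h k hk (fun b hb => by
          rcases hb with rfl | hb
          · exact comm_iff_conj.mp e
          · exact hks b hb)
        have h2 := comm_iff_conj.mp e
        rw [← mul_assoc, h1, mul_assoc, h2, ← mul_assoc]
      · -- `k₀⁻¹ * k` centralizes `a`
        have h3 : (k₀⁻¹ * k) * w = w * (k₀⁻¹ * k) := by
          refine h _ (K.mul_mem (K.inv_mem hk₀) hk) (fun b hb => ?_)
          rcases hb with rfl | hb
          · rw [← comm_iff_conj]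
            have e1 : k₀⁻¹ * k * b * (k₀⁻¹ * k)⁻¹ = k₀⁻¹ * (k * b * k⁻¹) * k₀ := by group
            rw [e1, e, ← h0a]; group
          · have hk₀b : k₀⁻¹ * b = b * k₀⁻¹ := by
              have := hk₀s b hb
              calc k₀⁻¹ * b = k₀⁻¹ * (b * k₀) * k₀⁻¹ := by group
                _ = k₀⁻¹ * (k₀ * b) * k₀⁻¹ := by rw [this]
                _ = b * k₀⁻¹ := by group
            rw [mul_assoc, hks b hb, ← mul_assoc, hk₀b, mul_assoc]
        have h4 : k * w * k⁻¹ = z * w := by
          have e1 : k * w * k⁻¹ = k₀ * ((k₀⁻¹ * k) * w * (k₀⁻¹ * k)⁻¹) * k₀⁻¹ := by group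
          rw [e1, comm_iff_conj.mpr h3, h0w]
        rw [← comm_iff_conj]
        calc k * (w * a) * k⁻¹ = (k * w * k⁻¹) * (k * a * k⁻¹) := by group
          _ = (z * w) * (z * a) := by rw [h4, e]
          _ = (z * z) * (w * a) := by
            rw [mul_assoc, ← mul_assoc w z a, hab w hw z hz]; group
          _ = w * a := by rw [hzz, one_mul]
    have h5 : w = (w * a) * a := by rw [mul_assoc, hsq a haW, mul_one]
    rw [h5]
    exact mul_mem (hmono hwa) (subset_closure (Set.mem_insert_of_mem _ (Set.mem_insert _ _)))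

/-- **The full dual.** -/
theorem exists_dual [Finite G] {W K : Subgroup G} {z : G} (hab : ∀ a ∈ W, ∀ b ∈ W, a * b = b * a)
    (hsq : ∀ a ∈ W, a * a = 1) (hz : z ∈ W)
    (hK : ∀ k ∈ K, ∀ w ∈ W, k * w * k⁻¹ = w ∨ k * w * k⁻¹ = z * w) (hKz : ∀ k ∈ K, k * z = z * k)
    (hann : ∀ w ∈ W, (∀ k ∈ K, k * w = w * k) → w = 1 ∨ w = z) {A : Subgroup G} (hA : A ≤ W)
    (hzA : z ∈ A) {w : G} (hw : w ∈ W) (hwA : w ∉ A) :
    ∃ k ∈ K, (∀ a ∈ A, k * a = a * k) ∧ k * w * k⁻¹ = z * w := by
  by_contra hcon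
  push Not at hcon
  apply hwA
  have h1 : w ∈ closure (insert z (A : Set G)) := by
    refine mem_of_forall_comm hab hsq hz hK hKz hann (A : Set G) (Set.toFinite _) hA w hw
      (fun k hk hka => ?_)
    rcases hK k hk w hw with e | e
    · exact comm_iff_conj.mp e
    · exact absurd e (hcon k hk hka)
  have h2 : closure (insert z (A : Set G)) ≤ A := by
    rw [closure_le]
    rintro x (rfl | hx)
    · exact hzA
    · exact hx
  exact h2 h1

/-! ### the term of the derived series -/

/-- `C_G(u)` for `u ∈ dd V \ V` has a normal subgroup which induces a 3-cycle but no transposition on `V`. -/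
theorem exists_core [Finite G] {T V : Subgroup G} {z : G} (h : Odd T V z) {t : G} (ht : t ∈ dd V)
    (htV : t ∉ V) : ∃ D : Subgroup G, D ≤ centralizer ({t} : Set G) ∧
      centralizer ({t} : Set G) ≤ normalizer (D : Set G) ∧
      (∀ q ∈ V, q ≠ 1 → ∀ g ∈ D, g ∈ normalizer (V : Set G) → g * q = q * g →
        g ∈ centralizer (V : Set G)) ∧
      ∃ d ∈ D, d ∈ normalizer (V : Set G) ∧ ∀ q ∈ V, q ≠ 1 → d * q * d⁻¹ ≠ q := by
  set J : Subgroup G := centralizer ({t} : Set G) with hJ
  have ht1 : t ≠ 1 := fun e => htV (e ▸ V.one_mem)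
  have hsol : Group.IsSolvable J := h.solv J (isTwoLocal_centralizer (h.dd_sq ht) ht1)
  let S : ℕ → Subgroup G := fun n => (derivedSeries J n).map J.subtype
  have hSJ : ∀ n, S n ≤ J := fun n => map_subtype_le _
  have hSn : ∀ n, J ≤ normalizer (S n : Set G) := by
    intro n
    refine le_normalizer_of_forall fun g hg x hx => ?_
    obtain ⟨y, hy, rfl⟩ := hx
    have := (derivedSeries_normal J n).conj_mem y hy ⟨g, hg⟩
    exact ⟨_, this, rfl⟩
  have hSs : ∀ n, S (n + 1) = ⁅S n, S n⁆ := by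
    intro n
    change (derivedSeries J (n + 1)).map J.subtype = _
    rw [derivedSeries_succ, map_commutator]
  -- transpositions
  let Tr : ℕ → Prop := fun n => ∃ q ∈ V, q ≠ 1 ∧ ∃ g ∈ S n, g ∈ normalizer (V : Set G) ∧ g * q = q * g ∧
    g ∉ centralizer (V : Set G)
  have hT0 : Tr 0 := by
    obtain ⟨k, hk, hkt, hkm⟩ := h.exists_swap_comm ht htV h.z_mem h.z_ne
    obtain ⟨y, hy, hy1, hyz⟩ := h.exists_y
    refine ⟨z, h.z_mem, h.z_ne, k, ?_, kq_le_normalizer h.toGeo hk, ?_, ?_⟩
    · refine ⟨⟨k, mem_centralizer_singleton_iff.mpr hkt⟩, ?_, rfl⟩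
      rw [derivedSeries_zero]; trivial
    · exact mem_centralizer_singleton_iff.mp (kq_le V z hk)
    · intro hc
      have h1 := hkm y hy hy1 hyz
      rw [comm_iff_conj.mpr (mem_centralizer_iff.mp hc y hy).symm] at h1
      exact h.z_ne (by simpa using h1.symm)
  have hTn : ∃ n, ¬ Tr n := by
    obtain ⟨n, hn⟩ := hsol
    refine ⟨n, ?_⟩
    rintro ⟨q, -, -, g, hg, -, -, hgc⟩
    apply hgc
    obtain ⟨x, hx, rfl⟩ := hg
    rw [hn] at hx
    have hx1 : x = 1 := mem_bot.mp hx
    rw [hx1]
    exact one_mem _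
  classical
  obtain ⟨m, hm, hmin⟩ : ∃ m, Tr m ∧ ¬ Tr (m + 1) := by
    by_contra hcon
    push Not at hcon
    obtain ⟨n, hn⟩ := hTn
    exact hn (Nat.rec hT0 (fun k hk => hcon k hk) n)
  refine ⟨S (m + 1), hSJ _, hSn _, ?_, ?_⟩
  · intro q hq hq1 g hg hgn hgq
    by_contra hgc
    exact hmin ⟨q, hq, hq1, g, hg, hgn, hgq, hgc⟩
  · obtain ⟨q, hq, hq1, g, hg, hgn, hgq, hgc⟩ := hm
    -- `g` fixes `q` and swaps `p`, `q * p`
    obtain ⟨T', h'⟩ := h.point hq hq1
    obtain ⟨p, hp, hp1, hpq⟩ := h'.exists_y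
    have hgm : ∀ r ∈ V, r ≠ 1 → r ≠ q → g * r * g⁻¹ = q * r := fun r hr hr1 hrq =>
      move h'.toGeo (mem_centralizer_singleton_iff.mpr hgq) hgn hgc hr hr1 hrq
    -- `k ∈ J` fixes `p` and swaps `q`, `p * q`
    obtain ⟨k, hk, hkt, hkm⟩ := h.exists_swap_comm ht htV hp hp1
    have hkV : k ∈ normalizer (V : Set G) := by
      obtain ⟨T'', h''⟩ := h.point hp hp1
      exact kq_le_normalizer h''.toGeo hk
    have hkJ : k ∈ J := mem_centralizer_singleton_iff.mpr hkt
    set g' := k * g * k⁻¹ with hg'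
    have hg'S : g' ∈ S m := conj_mem_of_normalizer (hSn m) hkJ hg
    have hgg : g' * g * g'⁻¹ * g⁻¹ ∈ S (m + 1) := by
      rw [hSs]
      exact commutator_mem_commutator hg'S hg
    refine ⟨_, hgg, ?_, ?_⟩
    · have h1 : g' ∈ normalizer (V : Set G) := mul_mem (mul_mem hkV hgn) (inv_mem hkV)
      exact mul_mem (mul_mem (mul_mem h1 hgn) (inv_mem h1)) (inv_mem hgn)
    · -- action on `V`
      have hpqV : q * p ∈ V := mul_mem hq hp
      have hpq1 : q * p ≠ 1 := fun e => hpq (by
        rw [mul_eq_one_iff_eq_inv.mp e, h.inv_eq hp])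
      have hcm : q * p = p * q := h.comm hq hp
      have hqq : q * q = 1 := h.sq q hq
      have hpp : p * p = 1 := h.sq p hp
      have g1 : g * q * g⁻¹ = q := comm_iff_conj.mpr hgq
      have g2 : g * p * g⁻¹ = q * p := hgm p hp hp1 hpq
      have g3 : g * (q * p) * g⁻¹ = p := by
        calc g * (q * p) * g⁻¹ = (g * q * g⁻¹) * (g * p * g⁻¹) := by group
          _ = (q * q) * p := by rw [g1, g2]; group
          _ = p := by rw [hqq, one_mul]
      have k1 : k * p * k⁻¹ = p := h.kq_conj hk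
      have k2 : k * q * k⁻¹ = p * q := hkm q hq hq1 (Ne.symm hpq)
      have k3 : k * (q * p) * k⁻¹ = q := by
        calc k * (q * p) * k⁻¹ = (k * q * k⁻¹) * (k * p * k⁻¹) := by group
          _ = p * (q * p) := by rw [k1, k2]; group
          _ = p * (p * q) := by rw [hcm]
          _ = q := by rw [← mul_assoc, hpp, one_mul]
      have inv_of : ∀ {a x y : G}, a * x * a⁻¹ = y → a⁻¹ * y * a = x := by
        intro a x y e
        rw [← e]; group
      have g1' := inv_of g1
      have g2' := inv_of g2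
      have g3' := inv_of g3
      have k1' := inv_of k1
      have k2' := inv_of k2
      have k3' := inv_of k3
      rw [← hcm] at k2 k2'
      -- `g'`: fixes `q * p`, swaps `p`, `q`
      have e1 : g' * p * g'⁻¹ = q := by
        calc g' * p * g'⁻¹ = k * (g * (k⁻¹ * p * k) * g⁻¹) * k⁻¹ := by rw [hg']; group
          _ = q := by rw [k1', g2, k3]
      have e2 : g' * q * g'⁻¹ = p := by
        calc g' * q * g'⁻¹ = k * (g * (k⁻¹ * q * k) * g⁻¹) * k⁻¹ := by rw [hg']; group
          _ = p := by rw [k3', g3, k1]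
      have e3 : g' * (q * p) * g'⁻¹ = q * p := by
        calc g' * (q * p) * g'⁻¹ = k * (g * (k⁻¹ * (q * p) * k) * g⁻¹) * k⁻¹ := by rw [hg']; group
          _ = q * p := by rw [k2', g1, k2]
      have e1' := inv_of e1
      have e2' := inv_of e2
      have e3' := inv_of e3
      -- the commutator
      have c1 : ∀ x, (g' * g * g'⁻¹ * g⁻¹) * x * (g' * g * g'⁻¹ * g⁻¹)⁻¹ =
          g' * (g * (g'⁻¹ * (g⁻¹ * x * g) * g') * g⁻¹) * g'⁻¹ := by
        intro x; group
      have hne1 : q * p ≠ q := fun e => hp1 (by simpa using e)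
      have hne2 : q * p ≠ p := fun e => hq1 (by simpa using e)
      intro r hr hr1
      rcases h.four hq hp hq1 hp1 (Ne.symm hpq) hr with rfl | rfl | rfl | rfl
      · exact absurd rfl hr1
      · rw [c1, g1', e1', g2, e3]; exact hne1
      · rw [c1, g3', e3', g3, e1]; exact Ne.symm hpq
      · rw [c1, g2', e2', g1, e2]; exact Ne.symm hne2

/-! ### two blocks -/

/-- `ws V z / ⟨z⟩ = P / ⟨z⟩ × Q / ⟨z⟩`, both factors of order 4, permuted by `C_G(z)`; each of them is moved by an
element of `C_G(z)` centralizing the other one, and `dd V ⊆ V ∪ P ∪ Q`. -/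
structure Beta (T V : Subgroup G) (z : G) (P Q : Subgroup G) : Prop extends Odd T V z where
  P_le : P ≤ ws V z
  Q_le : Q ≤ ws V z
  z_P : z ∈ P
  z_Q : z ∈ Q
  inf : ∀ x ∈ P, x ∈ Q → x = 1 ∨ x = z
  card_P : Nat.card P = 8
  card_Q : Nat.card Q = 8
  perm : ∀ c ∈ centralizer ({z} : Set G), (cj c P = P ∧ cj c Q = Q) ∨ (cj c P = Q ∧ cj c Q = P)
  dd_cases : ∀ d ∈ dd V, d ∉ V → d ∈ P ∨ d ∈ Q
  V_P : ∀ v ∈ V, v ∈ P → v = 1 ∨ v = z
  V_Q : ∀ v ∈ V, v ∈ Q → v = 1 ∨ v = z
  mov_P : ∃ y ∈ centralizer ({z} : Set G), (∀ a ∈ Q, y * a = a * y) ∧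
    ∀ w ∈ P, w ≠ 1 → w ≠ z → y * w * y⁻¹ ≠ w ∧ y * w * y⁻¹ ≠ z * w
  mov_Q : ∃ y ∈ centralizer ({z} : Set G), (∀ a ∈ P, y * a = a * y) ∧
    ∀ w ∈ Q, w ≠ 1 → w ≠ z → y * w * y⁻¹ ≠ w ∧ y * w * y⁻¹ ≠ z * w
  ann : ∀ w ∈ ws V z, (∀ k ∈ kq V z, k * w = w * k) → w = 1 ∨ w = z

/-- a set generating the block over `u` and the whole of the other block -/
def ee (z : G) (P Q : Subgroup G) (q u : G) : Set G :=
  {x | x = u ∨ ∃ g : G, g * z * g⁻¹ = q ∧ ((u ∉ cj g P ∧ x ∈ cj g P) ∨ (u ∉ cj g Q ∧ x ∈ cj g Q))}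

theorem ee_conj {z : G} {P Q : Subgroup G} {q u x : G} (h : x ∈ ee z P Q q u) (k : G) :
    k * x * k⁻¹ ∈ ee z P Q (k * q * k⁻¹) (k * u * k⁻¹) := by
  have key : ∀ (g : G) (X : Subgroup G) (x : G), k * x * k⁻¹ ∈ cj (k * g) X ↔ x ∈ cj g X := by
    intro g X x
    rw [mem_cj, mem_cj]
    have : (k * g)⁻¹ * (k * x * k⁻¹) * (k * g) = g⁻¹ * x * g := by group
    rw [this]
  rcases h with rfl | ⟨g, rfl, h⟩
  · exact Or.inl rfl
  · refine Or.inr ⟨k * g, by group, ?_⟩
    rw [key, key, key, key]
    exact h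

theorem ee_swap (z : G) (P Q : Subgroup G) (q u : G) : ee z Q P q u = ee z P Q q u := by
  ext x
  unfold ee
  simp only [Set.mem_ofPred_eq]
  refine or_congr_right (exists_congr fun g => and_congr_right fun _ => or_comm)

theorem ee_cj (z : G) (P Q : Subgroup G) (g q u : G) :
    ee (g * z * g⁻¹) (cj g P) (cj g Q) q u = ee z P Q q u := by
  ext x
  unfold ee
  simp only [Set.mem_ofPred_eq, cj_cj]
  refine or_congr_right ⟨?_, ?_⟩
  · rintro ⟨k, hk, h⟩
    exact ⟨k * g, by rw [← hk]; group, h⟩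
  · rintro ⟨k, hk, h⟩
    refine ⟨k * g⁻¹, by rw [← hk]; group, ?_⟩
    rw [inv_mul_cancel_right]
    exact h

namespace Beta

variable {T V : Subgroup G} {z : G} {P Q : Subgroup G}

theorem symm (h : Beta T V z P Q) : Beta T V z Q P where
  toOdd := h.toOdd
  P_le := h.Q_le
  Q_le := h.P_le
  z_P := h.z_Q
  z_Q := h.z_P
  inf := fun x hx hx' => h.inf x hx' hx
  card_P := h.card_Q
  card_Q := h.card_P
  perm := fun c hc => by
    rcases h.perm c hc with ⟨h1, h2⟩ | ⟨h1, h2⟩
    · exact Or.inl ⟨h2, h1⟩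
    · exact Or.inr ⟨h2, h1⟩
  dd_cases := fun d hd hdV => (h.dd_cases d hd hdV).symm
  V_P := h.V_Q
  V_Q := h.V_P
  mov_P := h.mov_Q
  mov_Q := h.mov_P
  ann := h.ann

variable [Finite G]

/-- conjugation by an element of `N_G(V)` -/
theorem move (h : Beta T V z P Q) {g : G} (hg : g ∈ normalizer (V : Set G)) :
    Beta (cj g T) V (g * z * g⁻¹) (cj g P) (cj g Q) := by
  have hconj : ∀ {c : G}, c ∈ centralizer ({g * z * g⁻¹} : Set G) →
      g⁻¹ * c * g ∈ centralizer ({z} : Set G) := by
    intro c hc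
    rw [← cj_centralizer_singleton, mem_cj] at hc
    exact hc
  have hinV : ∀ {v : G}, v ∈ V → g⁻¹ * v * g ∈ V := by
    intro v hv
    have := (mem_normalizer_iff.mp (inv_mem hg) v).mp hv
    rwa [inv_inv] at this
  have hback : ∀ {v x : G}, g⁻¹ * v * g = x → v = g * x * g⁻¹ := by
    intro v x e
    rw [← e]; group
  have mv : ∀ {P Q : Subgroup G}, (∃ y ∈ centralizer ({z} : Set G), (∀ a ∈ Q, y * a = a * y) ∧
      ∀ w ∈ P, w ≠ 1 → w ≠ z → y * w * y⁻¹ ≠ w ∧ y * w * y⁻¹ ≠ z * w) →
      ∃ y ∈ centralizer ({g * z * g⁻¹} : Set G), (∀ a ∈ cj g Q, y * a = a * y) ∧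
      ∀ w ∈ cj g P, w ≠ 1 → w ≠ g * z * g⁻¹ → y * w * y⁻¹ ≠ w ∧ y * w * y⁻¹ ≠ (g * z * g⁻¹) * w := by
    rintro P Q ⟨y, hy, hyQ, hyP⟩
    refine ⟨g * y * g⁻¹, ?_, ?_, ?_⟩
    · rw [← cj_centralizer_singleton]
      exact conj_mem_cj hy
    · rintro _ ⟨a, ha, rfl⟩
      change g * y * g⁻¹ * (g * a * g⁻¹) = g * a * g⁻¹ * (g * y * g⁻¹)
      calc g * y * g⁻¹ * (g * a * g⁻¹) = g * (y * a) * g⁻¹ := by group
        _ = g * (a * y) * g⁻¹ := by rw [hyQ a ha]
        _ = _ := by group
    · rintro _ ⟨w, hw, rfl⟩ hw1 hwz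
      change g * w * g⁻¹ ≠ 1 at hw1
      change g * w * g⁻¹ ≠ g * z * g⁻¹ at hwz
      obtain ⟨h1, h2⟩ := hyP w hw (fun e => hw1 (by rw [e]; group)) (fun e => hwz (by rw [e]))
      constructor
      · intro e
        apply h1
        change g * y * g⁻¹ * (g * w * g⁻¹) * (g * y * g⁻¹)⁻¹ = g * w * g⁻¹ at e
        calc y * w * y⁻¹ = g⁻¹ * (g * y * g⁻¹ * (g * w * g⁻¹) * (g * y * g⁻¹)⁻¹) * g := by group
          _ = w := by rw [e]; group
      · intro e
        apply h2
        change g * y * g⁻¹ * (g * w * g⁻¹) * (g * y * g⁻¹)⁻¹ = g * z * g⁻¹ * (g * w * g⁻¹) at e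
        calc y * w * y⁻¹ = g⁻¹ * (g * y * g⁻¹ * (g * w * g⁻¹) * (g * y * g⁻¹)⁻¹) * g := by group
          _ = z * w := by rw [e]; group
  have hodd : Odd (cj g T) V (g * z * g⁻¹) := by
    have := h.toOdd.conj g
    rwa [cj_eq_of_mem_normalizer hg] at this
  exact
  { toOdd := hodd
    P_le := by rw [← cj_ws]; exact cj_mono h.P_le
    Q_le := by rw [← cj_ws]; exact cj_mono h.Q_le
    z_P := conj_mem_cj h.z_P
    z_Q := conj_mem_cj h.z_Q
    inf := by
      intro x hx hx'
      rw [mem_cj] at hx hx'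
      rcases h.inf _ hx hx' with e | e
      · left; rw [hback e]; group
      · right; exact hback e
    card_P := by rw [card_cj]; exact h.card_P
    card_Q := by rw [card_cj]; exact h.card_Q
    perm := by
      intro c hc
      have e : ∀ X : Subgroup G, cj c (cj g X) = cj g (cj (g⁻¹ * c * g) X) := by
        intro X
        rw [cj_cj, cj_cj]
        congr 1
        group
      rw [e, e]
      rcases h.perm _ (hconj hc) with ⟨h1, h2⟩ | ⟨h1, h2⟩
      · left; rw [h1, h2]; exact ⟨rfl, rfl⟩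
      · right; rw [h1, h2]; exact ⟨rfl, rfl⟩
    dd_cases := by
      intro d hd hdV
      rw [mem_cj, mem_cj]
      have h1 : g⁻¹ * d * g ∈ dd V := by
        have := conj_mem_dd (inv_mem hg) hd
        rwa [inv_inv] at this
      refine h.dd_cases _ h1 (fun hv => hdV ?_)
      have := (mem_normalizer_iff.mp hg _).mp hv
      have e : g * (g⁻¹ * d * g) * g⁻¹ = d := by group
      rwa [e] at this
    V_P := by
      intro v hv hvP
      rw [mem_cj] at hvP
      rcases h.V_P _ (hinV hv) hvP with e | e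
      · left; rw [hback e]; group
      · right; exact hback e
    V_Q := by
      intro v hv hvQ
      rw [mem_cj] at hvQ
      rcases h.V_Q _ (hinV hv) hvQ with e | e
      · left; rw [hback e]; group
      · right; exact hback e
    mov_P := mv h.mov_P
    mov_Q := mv h.mov_Q
    ann := by
      intro w hw hk
      rw [← cj_ws, mem_cj] at hw
      have h9 : ∀ k ∈ kq V z, k * (g⁻¹ * w * g) = g⁻¹ * w * g * k := by
        intro k hkk
        have h1 : g * k * g⁻¹ ∈ kq V (g * z * g⁻¹) := by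
          rw [← cj_kq]; exact conj_mem_cj hkk
        have h2 := hk _ h1
        calc k * (g⁻¹ * w * g) = g⁻¹ * (g * k * g⁻¹ * w) * g := by group
          _ = g⁻¹ * (w * (g * k * g⁻¹)) * g := by rw [h2]
          _ = g⁻¹ * w * g * k := by group
      rcases h.ann _ hw h9 with e | e
      · left; rw [hback e]; group
      · right; exact hback e }

/-- the structure at an arbitrary point of `V` -/
theorem at_point (h : Beta T V z P Q) {q : G} (hq : q ∈ V) (hq1 : q ≠ 1) :
    ∃ (T' P' Q' : Subgroup G), Beta T' V q P' Q' ∧ ∀ r u, ee q P' Q' r u = ee z P Q r u := by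
  obtain ⟨g, hg, rfl⟩ := h.trans q hq hq1
  exact ⟨_, _, _, h.move hg, fun r u => ee_cj z P Q g r u⟩

/-- a subgroup containing `z`, `w` and a third element contains `Q` -/
theorem le_of_mem (h : Beta T V z P Q) {C : Subgroup G} {w w' : G} (hw : w ∈ Q) (hw' : w' ∈ Q)
    (hw1 : w ≠ 1) (hwz : w ≠ z) (h1 : w' ≠ 1) (h2 : w' ≠ z) (h3 : w' ≠ w) (h4 : w' ≠ z * w)
    (hzC : z ∈ C) (hwC : w ∈ C) (hwC' : w' ∈ C) : Q ≤ C := by
  classical
  have hz1 := h.z_ne
  have hzw1 : z * w ≠ 1 := fun e => hwz (by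
    rw [mul_eq_one_iff_eq_inv.mp e, inv_eq_self (h.ws_sq (h.Q_le hw))])
  have hzwz : z * w ≠ z := fun e => hw1 (by simpa using e)
  have hzww : z * w ≠ w := fun e => hz1 (by simpa using e)
  have hsub : ({1, z, w, z * w, w'} : Set G) ⊆ ((Q ⊓ C : Subgroup G) : Set G) := by
    rintro x (rfl | rfl | rfl | rfl | rfl)
    · exact one_mem _
    · exact ⟨h.z_Q, hzC⟩
    · exact ⟨hw, hwC⟩
    · exact ⟨mul_mem h.z_Q hw, mul_mem hzC hwC⟩
    · exact ⟨hw', hwC'⟩
  have hcard : ({1, z, w, z * w, w'} : Set G).ncard = 5 := by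
    rw [Set.ncard_insert_of_notMem, Set.ncard_insert_of_notMem, Set.ncard_insert_of_notMem,
      Set.ncard_pair (Ne.symm h4)]
    · rintro (e | e)
      · exact hzww e.symm
      · exact h3 e.symm
    · rintro (e | e | e)
      · exact hwz e.symm
      · exact hzwz e.symm
      · exact h2 e.symm
    · rintro (e | e | e | e)
      · exact hz1 e.symm
      · exact hw1 e.symm
      · exact hzw1 e.symm
      · exact h1 e.symm
  have h5 : 5 ≤ Nat.card (Q ⊓ C : Subgroup G) := by
    rw [← hcard]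
    exact Set.ncard_le_ncard hsub (Set.toFinite _)
  have h6 : Nat.card (Q ⊓ C : Subgroup G) ∣ 8 := by
    rw [← h.card_Q]
    exact card_dvd_of_le inf_le_left
  have h7 : Nat.card (Q ⊓ C : Subgroup G) = 8 := by
    have : Nat.card (Q ⊓ C : Subgroup G) ≤ 8 := Nat.le_of_dvd (by norm_num) h6
    interval_cases hh : Nat.card (Q ⊓ C : Subgroup G) <;> omega
  have h8 : Q ⊓ C = Q := Subgroup.eq_of_le_of_card_ge inf_le_left (by rw [h7, h.card_Q])
  rw [← h8]
  exact inf_le_right

/-- a normal subgroup `D` of `C_G(u)` inducing no transposition with centre `z` on `V`: the elements of `D`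
fixing `z` centralize the other block -/
theorem comm_Q (h : Beta T V z P Q) {u : G} (hu : u ∈ P) (hud : u ∈ dd V) (huV : u ∉ V)
    {D : Subgroup G} (hDJ : D ≤ centralizer ({u} : Set G))
    (hDn : centralizer ({u} : Set G) ≤ normalizer (D : Set G))
    (hD : ∀ g ∈ D, g ∈ normalizer (V : Set G) → g * z = z * g → g ∈ centralizer (V : Set G)) :
    ∀ g ∈ D, g * z = z * g → ∀ m ∈ Q, g * m = m * g := by
  obtain ⟨y, hy, hyP, hym⟩ := h.mov_Q
  obtain ⟨q, hq, hq1, hqz⟩ := h.exists_y
  have hzz := h.zz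
  have hyz : y * z = z * y := mem_centralizer_singleton_iff.mp hy
  have huu : u * u = 1 := h.dd_sq hud
  have huz : u ≠ z := fun e => huV (e ▸ h.z_mem)
  have hu1 : u ≠ 1 := fun e => huV (e ▸ V.one_mem)
  have huQ : u ∉ Q := fun hQ => (h.inf u hu hQ).elim hu1 huz
  set w := u * q with hw
  have hquw : q = u * w := by rw [hw, ← mul_assoc, huu, one_mul]
  have hwd : w ∈ dd V := mul_mem hud (h.V_le_dd hq)
  have hwV : w ∉ V := fun hwV => huV (by
    have e : u = w * q⁻¹ := by rw [hw]; group
    rw [e]; exact mul_mem hwV (inv_mem hq))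
  have hw1 : w ≠ 1 := fun e => hwV (e ▸ V.one_mem)
  have hwz : w ≠ z := fun e => hwV (e ▸ h.z_mem)
  have hwQ : w ∈ Q := by
    rcases h.dd_cases w hwd hwV with hwP | hwQ
    · exfalso
      have hqP : q ∈ P := by rw [hquw]; exact mul_mem hu hwP
      exact (h.V_P q hq hqP).elim hq1 hqz
    · exact hwQ
  have hyJ : y ∈ centralizer ({u} : Set G) := mem_centralizer_singleton_iff.mpr (hyP u hu)
  have hyQ : cj y Q = Q := by
    rcases h.perm y hy with ⟨-, h2⟩ | ⟨h1, -⟩
    · exact h2
    · exfalso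
      apply huQ
      rw [← h1, mem_cj]
      have : y⁻¹ * u * y = u := by rw [mul_assoc, ← hyP u hu]; group
      rw [this]; exact hu
  set w' := y * w * y⁻¹ with hw'
  have hw'Q : w' ∈ Q := by
    rw [← hyQ]; exact conj_mem_cj hwQ
  have hw'1 : w' ≠ 1 := fun e => hw1 (by
    have : w = y⁻¹ * w' * y := by rw [hw']; group
    rw [this, e]; group)
  have hw'z : w' ≠ z := fun e => hwz (by
    have : w = y⁻¹ * w' * y := by rw [hw']; group
    rw [this, e, mul_assoc, ← hyz]; group)
  obtain ⟨hw'w, hw'zw⟩ := hym w hwQ hw1 hwz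
  -- a subgroup containing `z`, `w`, `w'` contains `Q`
  have gen : ∀ C : Subgroup G, z ∈ C → w ∈ C → w' ∈ C → Q ≤ C := fun C h1 h2 h3 =>
    h.le_of_mem hwQ hw'Q hw1 hwz hw'1 hw'z hw'w hw'zw h1 h2 h3
  -- from commuting with `w` to commuting with `Q`
  have step : ∀ g ∈ D, g * z = z * g → g * w = w * g → (y⁻¹ * g * y) * w = w * (y⁻¹ * g * y) →
      ∀ m ∈ Q, g * m = m * g := by
    intro g _ hgz hgw hgw' m hm
    have hm' := gen (centralizer ({g} : Set G)) (mem_centralizer_singleton_iff.mpr hgz.symm)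
      (mem_centralizer_singleton_iff.mpr hgw.symm) (mem_centralizer_singleton_iff.mpr (by
        calc w' * g = y * (w * (y⁻¹ * g * y)) * y⁻¹ := by rw [hw']; group
          _ = y * ((y⁻¹ * g * y) * w) * y⁻¹ := by rw [hgw']
          _ = g * w' := by rw [hw']; group)) hm
    exact (mem_centralizer_singleton_iff.mp hm').symm
  have hyD : ∀ g ∈ D, y⁻¹ * g * y ∈ D := fun g hg => conj_mem_of_normalizer' hDn hyJ hg
  have hyC : ∀ g, g * z = z * g → (y⁻¹ * g * y) * z = z * (y⁻¹ * g * y) := by
    intro g hg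
    calc (y⁻¹ * g * y) * z = y⁻¹ * g * (y * z) := by group
      _ = y⁻¹ * (g * z) * y := by rw [hyz]; group
      _ = (y⁻¹ * z) * g * y := by rw [hg]; group
      _ = z * (y⁻¹ * g * y) := by
        have : y⁻¹ * z = z * y⁻¹ := by
          calc y⁻¹ * z = y⁻¹ * (z * y) * y⁻¹ := by group
            _ = y⁻¹ * (y * z) * y⁻¹ := by rw [hyz]
            _ = z * y⁻¹ := by group
        rw [this]; group
  -- elements of `D` centralizing `V` centralize `w`
  have comm_w : ∀ g ∈ D, g ∈ centralizer (V : Set G) → g * w = w * g := by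
    intro g hg hgV
    have h1 : g * u = u * g := mem_centralizer_singleton_iff.mp (hDJ hg)
    have h2 : g * q = q * g := (mem_centralizer_iff.mp hgV q hq).symm
    rw [hw, ← mul_assoc, h1, mul_assoc, h2, ← mul_assoc]
  -- `D ∩ K_z` centralizes `Q`
  have key3 : ∀ g ∈ D, g ∈ kq V z → ∀ m ∈ Q, g * m = m * g := by
    have aux : ∀ g ∈ D, g ∈ kq V z → g * w = w * g := fun g hg hk =>
      comm_w g hg (hD g hg (kq_le_normalizer h.toGeo hk) (mem_centralizer_singleton_iff.mp (kq_le V z hk)))
    intro g hg hk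
    exact step g hg (mem_centralizer_singleton_iff.mp (kq_le V z hk)) (aux g hg hk)
      (aux _ (hyD g hg) (conj_mem_of_normalizer' (centralizer_le_normalizer_kq V z) hy hk))
  -- `D ∩ C(z)` moves elements of `Q` at most by `z`
  have key4 : ∀ g ∈ D, g * z = z * g → ∀ m ∈ Q, g * m * g⁻¹ = m ∨ g * m * g⁻¹ = z * m := by
    intro g hg hgz m hm
    have hgu : g * u = u * g := mem_centralizer_singleton_iff.mp (hDJ hg)
    have hgc : g ∈ centralizer ({z} : Set G) := mem_centralizer_singleton_iff.mpr hgz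
    have hgQ : cj g Q = Q := by
      rcases h.perm g hgc with ⟨-, h2⟩ | ⟨h1, -⟩
      · exact h2
      · exfalso
        apply huQ
        rw [← h1, mem_cj]
        have : g⁻¹ * u * g = u := by rw [mul_assoc, ← hgu]; group
        rw [this]; exact hu
    set n := g⁻¹ * m * g with hn
    have hnQ : n ∈ Q := by
      rw [hn, ← mem_cj, hgQ]; exact hm
    have hgn : g * n * g⁻¹ = m := by rw [hn]; group
    have hmm : m * m = 1 := h.ws_sq (h.Q_le hm)
    have hnmQ : n * m ∈ Q := mul_mem hnQ hm
    by_cases hnm1 : n * m = 1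
    · left
      have e : n = m := by rw [mul_eq_one_iff_eq_inv.mp hnm1, inv_eq_self hmm]
      rw [e] at hgn; exact hgn
    by_cases hnmz : n * m = z
    · right
      have e : n = z * m := by rw [← hnmz, mul_assoc, hmm, mul_one]
      rw [e] at hgn
      have e2 : z * (g * m * g⁻¹) = m := by
        calc z * (g * m * g⁻¹) = (z * g) * m * g⁻¹ := by group
          _ = g * (z * m) * g⁻¹ := by rw [← hgz]; group
          _ = m := hgn
      calc g * m * g⁻¹ = (z * z) * (g * m * g⁻¹) := by rw [hzz, one_mul]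
        _ = z * (z * (g * m * g⁻¹)) := by rw [mul_assoc]
        _ = z * m := by rw [e2]
    exfalso
    have hnmP : n * m ∉ P := fun hP => (h.inf _ hP hnmQ).elim hnm1 hnmz
    have hKz : ∀ k ∈ kq V z, k * z = z * k := fun k hk => mem_centralizer_singleton_iff.mp (kq_le V z hk)
    obtain ⟨k, hk, hkP, hknm⟩ := exists_dual (W := ws V z) (K := kq V z) (z := z) h.ab
      (fun a ha => h.ws_sq ha) (h.V_le_ws h.z_mem) (fun k hk w hw => kq_ws h.toGeo hk hw) hKz h.ann
      h.P_le h.z_P (h.Q_le hnmQ) hnmP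
    have hkJ : k ∈ centralizer ({u} : Set G) := mem_centralizer_singleton_iff.mpr (hkP u hu)
    have heD : g * (k * g⁻¹ * k⁻¹) ∈ D := mul_mem hg (conj_mem_of_normalizer hDn hkJ (inv_mem hg))
    have heK : g * k * g⁻¹ * k⁻¹ ∈ kq V z :=
      mul_mem (conj_mem_of_normalizer (centralizer_le_normalizer_kq V z) hgc hk) (inv_mem hk)
    have hassoc : g * (k * g⁻¹ * k⁻¹) = g * k * g⁻¹ * k⁻¹ := by group
    rw [hassoc] at heD
    have hem := key3 _ heD heK m hm
    have hem2 : g * (k * (g⁻¹ * (k⁻¹ * m * k) * g) * k⁻¹) * g⁻¹ = m := by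
      calc g * (k * (g⁻¹ * (k⁻¹ * m * k) * g) * k⁻¹) * g⁻¹ =
          (g * k * g⁻¹ * k⁻¹) * m * (g * k * g⁻¹ * k⁻¹)⁻¹ := by group
        _ = m := by rw [hem]; group
    have hkz := hKz k hk
    have hzinv : z⁻¹ = z := inv_eq_self hzz
    have hgz' : g⁻¹ * z * g = z := by rw [mul_assoc, ← hgz]; group
    have hgz'' : g * z * g⁻¹ = z := by rw [hgz]; group
    have hkz'' : k * z * k⁻¹ = z := by rw [hkz]; group
    have hkz' : k⁻¹ * z * k = z := by rw [mul_assoc, ← hkz]; group
    -- exactly one of `m`, `n` is moved by `k`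
    have hfin : z * m = m := by
      rcases kq_ws h.toGeo hk (h.Q_le hm) with em | em
      · -- `k` fixes `m`, moves `n`
        have en : k * n * k⁻¹ = z * n := by
          calc k * n * k⁻¹ = (k * (n * m) * k⁻¹) * (k * m * k⁻¹)⁻¹ := by group
            _ = z * n := by rw [hknm, em]; group
        have em' : k⁻¹ * m * k = m := by
          rw [mul_assoc, ← comm_iff_conj.mp em]; group
        rw [em', ← hn, en] at hem2
        calc z * m = (g * z * g⁻¹) * (g * n * g⁻¹) := by rw [hgz'', hgn]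
          _ = g * (z * n) * g⁻¹ := by group
          _ = m := hem2
      · -- `k` moves `m`, fixes `n`
        have en : k * n * k⁻¹ = n := by
          calc k * n * k⁻¹ = (k * (n * m) * k⁻¹) * (k * m * k⁻¹)⁻¹ := by group
            _ = z * (n * z⁻¹) := by rw [hknm, em]; group
            _ = n := by
              rw [h.ab n (h.Q_le hnQ) z⁻¹ (inv_mem (h.V_le_ws h.z_mem)), ← mul_assoc, mul_inv_cancel, one_mul]
        have em' : k⁻¹ * m * k = z * m := by
          have e1 : k * (z * m) * k⁻¹ = m := by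
            calc k * (z * m) * k⁻¹ = (k * z * k⁻¹) * (k * m * k⁻¹) := by group
              _ = (z * z) * m := by rw [hkz'', em, mul_assoc]
              _ = m := by rw [hzz, one_mul]
          rw [← e1]
          calc k⁻¹ * (k * (z * m) * k⁻¹) * k = z * m := by group
            _ = z * (k * (z * m) * k⁻¹) := by rw [e1]
        rw [em'] at hem2
        have e2 : g⁻¹ * (z * m) * g = z * n := by
          calc g⁻¹ * (z * m) * g = (g⁻¹ * z * g) * (g⁻¹ * m * g) := by group
            _ = z * n := by rw [hgz', hn]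
        have e3 : k * (z * n) * k⁻¹ = z * n := by
          calc k * (z * n) * k⁻¹ = (k * z * k⁻¹) * (k * n * k⁻¹) := by group
            _ = z * n := by rw [hkz'', en]
        rw [e2, e3] at hem2
        calc z * m = (g * z * g⁻¹) * (g * n * g⁻¹) := by rw [hgz'', hgn]
          _ = g * (z * n) * g⁻¹ := by group
          _ = m := hem2
    exact h.z_ne (by simpa using hfin)
  -- `D ∩ C(z)` centralizes `w`
  have key5 : ∀ g ∈ D, g * z = z * g → g * w = w * g := by
    intro g hg hgz
    have hgu : g * u = u * g := mem_centralizer_singleton_iff.mp (hDJ hg)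
    have hguu : g * u * g⁻¹ = u := comm_iff_conj.mpr hgu
    have hgq : g * q * g⁻¹ = q ∨ g * q * g⁻¹ = z * q := by
      have e : g * q * g⁻¹ = u * (g * w * g⁻¹) := by
        conv_lhs => rw [hquw]
        calc g * (u * w) * g⁻¹ = (g * u * g⁻¹) * (g * w * g⁻¹) := by group
          _ = u * (g * w * g⁻¹) := by rw [hguu]
      rcases key4 g hg hgz w hwQ with e1 | e1
      · left; rw [e, e1, ← hquw]
      · right
        rw [e, e1]
        calc u * (z * w) = (u * z) * w := by group
          _ = (z * u) * w := by rw [h.ab u (h.P_le hu) z (h.V_le_ws h.z_mem)]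
          _ = z * q := by rw [mul_assoc, ← hquw]
    have hgV : g ∈ normalizer (V : Set G) := by
      have hV : ∀ g, g * z = z * g → (g * q * g⁻¹ = q ∨ g * q * g⁻¹ = z * q) → ∀ v ∈ V, g * v * g⁻¹ ∈ V := by
        intro g hgz hgq v hv
        have hgz' : g * z * g⁻¹ = z := comm_iff_conj.mpr hgz
        have hqV : g * q * g⁻¹ ∈ V := by
          rcases hgq with e | e
          · rw [e]; exact hq
          · rw [e]; exact mul_mem h.z_mem hq
        rcases h.four h.z_mem hq h.z_ne hq1 (Ne.symm hqz) hv with rfl | rfl | rfl | rfl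
        · simp
        · rw [hgz']; exact h.z_mem
        · exact hqV
        · have e : g * (z * q) * g⁻¹ = (g * z * g⁻¹) * (g * q * g⁻¹) := by group
          rw [e, hgz']; exact mul_mem h.z_mem hqV
      refine mem_normalizer_of (hV g hgz hgq) ?_
      intro v hv
      have hgz2 : g⁻¹ * z = z * g⁻¹ := by
        calc g⁻¹ * z = g⁻¹ * (z * g) * g⁻¹ := by group
          _ = g⁻¹ * (g * z) * g⁻¹ := by rw [hgz]
          _ = z * g⁻¹ := by group
      have hgq2 : g⁻¹ * q * g⁻¹⁻¹ = q ∨ g⁻¹ * q * g⁻¹⁻¹ = z * q := by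
        rw [inv_inv]
        rcases hgq with e | e
        · left
          calc g⁻¹ * q * g = g⁻¹ * (g * q * g⁻¹) * g := by rw [e]
            _ = q := by group
        · right
          have e1 : g * (z * q) * g⁻¹ = q := by
            calc g * (z * q) * g⁻¹ = (g * z * g⁻¹) * (g * q * g⁻¹) := by group
              _ = (z * z) * q := by rw [comm_iff_conj.mpr hgz, e, mul_assoc]
              _ = q := by rw [hzz, one_mul]
          calc g⁻¹ * q * g = g⁻¹ * (g * (z * q) * g⁻¹) * g := by rw [e1]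
            _ = z * q := by group
      have := hV g⁻¹ hgz2 hgq2 v hv
      rwa [inv_inv] at this
    exact comm_w g hg (hD g hg hgV hgz)
  intro g hg hgz
  exact step g hg hgz (key5 g hg hgz) (key5 _ (hyD g hg) (hyC g hgz))

/-- the centralizer of the block over `u` and of the other block, `u ∈ P` -/
theorem mem_cent (h : Beta T V z P Q) {u : G} (hu : u ∈ P) (hu1 : u ≠ 1) (huz : u ≠ z) {c : G} :
    c ∈ centralizer (ee z P Q z u) ↔ c * u = u * c ∧ ∀ m ∈ Q, c * m = m * c := by
  have huQ : u ∉ Q := fun hQ => (h.inf u hu hQ).elim hu1 huz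
  rw [mem_centralizer_iff]
  constructor
  · intro hc
    refine ⟨(hc u (Or.inl rfl)).symm, fun m hm => (hc m (Or.inr ⟨1, by group, Or.inr ?_⟩)).symm⟩
    rw [cj_one]
    exact ⟨huQ, hm⟩
  · rintro ⟨h1, h2⟩ x (rfl | ⟨g, hg, hx⟩)
    · exact h1.symm
    · have hgz : g * z = z * g := comm_iff_conj.mp hg
      rcases h.perm g (mem_centralizer_singleton_iff.mpr hgz) with ⟨e1, e2⟩ | ⟨e1, e2⟩
      · rw [e1, e2] at hx
        rcases hx with hx | hx
        · exact absurd hu hx.1
        · exact (h2 x hx.2).symm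
      · rw [e1, e2] at hx
        rcases hx with hx | hx
        · exact (h2 x hx.2).symm
        · exact absurd hu hx.1

theorem ne_one (_ : Beta T V z P Q) {u : G} (huV : u ∉ V) : u ≠ 1 := fun e => huV (e ▸ V.one_mem)

theorem ne_z (h : Beta T V z P Q) {u : G} (huV : u ∉ V) : u ≠ z := fun e => huV (e ▸ h.z_mem)

/-- multiplying an element of `dd V \ V` by an element of `V` different from `1`, `z` changes the block -/
theorem mul_mem_Q (h : Beta T V z P Q) {u q : G} (hu : u ∈ P) (hud : u ∈ dd V) (huV : u ∉ V) (hq : q ∈ V)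
    (hq1 : q ≠ 1) (hqz : q ≠ z) : u * q ∈ Q := by
  have huu : u * u = 1 := h.dd_sq hud
  have hwd : u * q ∈ dd V := mul_mem hud (h.V_le_dd hq)
  have hwV : u * q ∉ V := fun hwV => huV (by
    have e : u = u * q * q⁻¹ := by group
    rw [e]; exact mul_mem hwV (inv_mem hq))
  rcases h.dd_cases _ hwd hwV with hwP | hwQ
  · exfalso
    have hqP : q ∈ P := by
      have e : q = u⁻¹ * (u * q) := by group
      rw [e]; exact mul_mem (inv_mem hu) hwP
    exact (h.V_P q hq hqP).elim hq1 hqz
  · exact hwQ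

/-- facts about `ee` at `z`: centralizing `V` and multiplying `u` by `z` -/
theorem cent_z (h : Beta T V z P Q) {u : G} (hud : u ∈ dd V) (huV : u ∉ V) {c : G}
    (hc : c ∈ centralizer (ee z P Q z u)) :
    c ∈ centralizer (V : Set G) ∧ c ∈ centralizer (ee z P Q z (u * z)) := by
  have key : ∀ {P Q : Subgroup G}, Beta T V z P Q → u ∈ P → c ∈ centralizer (ee z P Q z u) →
      c ∈ centralizer (V : Set G) ∧ c ∈ centralizer (ee z P Q z (u * z)) := by
    intro P Q h hu hc
    have hu1 := h.ne_one huV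
    have huz := h.ne_z huV
    obtain ⟨h1, h2⟩ := (h.mem_cent hu hu1 huz).mp hc
    have hcz : c * z = z * c := h2 z h.z_Q
    have huzP : u * z ∈ P := mul_mem hu h.z_P
    have huz1 : u * z ≠ 1 := fun e => huz (by
      rw [mul_eq_one_iff_eq_inv.mp e, h.inv_eq h.z_mem])
    have huzz : u * z ≠ z := fun e => hu1 (by simpa using e)
    refine ⟨?_, ?_⟩
    · rw [mem_centralizer_iff]
      intro v hv
      by_cases hv1 : v = 1
      · rw [hv1]; simp
      by_cases hvz : v = z
      · rw [hvz]; exact hcz.symm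
      have h3 := h2 _ (h.mul_mem_Q hu hud huV hv hv1 hvz)
      have h4 : u * (c * v) = u * (v * c) := by
        calc u * (c * v) = (u * c) * v := by group
          _ = (c * u) * v := by rw [h1]
          _ = c * (u * v) := by group
          _ = (u * v) * c := h3
          _ = u * (v * c) := by group
      exact (mul_left_cancel h4).symm
    · rw [h.mem_cent huzP huz1 huzz]
      refine ⟨?_, h2⟩
      rw [← mul_assoc, h1, mul_assoc, hcz, ← mul_assoc]
  rcases h.dd_cases u hud huV with hu | hu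
  · exact key h hu hc
  · have h3 := key h.symm hu (by rw [ee_swap]; exact hc)
    rw [ee_swap] at h3
    exact h3

/-- the same facts at an arbitrary point of `V` -/
theorem cent_q (h : Beta T V z P Q) {u q : G} (hud : u ∈ dd V) (huV : u ∉ V) (hq : q ∈ V) (hq1 : q ≠ 1)
    {c : G} (hc : c ∈ centralizer (ee z P Q q u)) :
    c ∈ centralizer (V : Set G) ∧ c ∈ centralizer (ee z P Q q (u * q)) := by
  obtain ⟨T', P', Q', h', he⟩ := h.at_point hq hq1
  rw [← he] at hc
  rw [← he]
  exact h'.cent_z hud huV hc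

/-- the elements of `D` fixing `q` are in the centralizer of `ee` -/
theorem comm_ee (h : Beta T V z P Q) {u q : G} (hud : u ∈ dd V) (huV : u ∉ V) (hq : q ∈ V) (hq1 : q ≠ 1)
    {D : Subgroup G} (hDJ : D ≤ centralizer ({u} : Set G))
    (hDn : centralizer ({u} : Set G) ≤ normalizer (D : Set G))
    (hD : ∀ g ∈ D, g ∈ normalizer (V : Set G) → g * q = q * g → g ∈ centralizer (V : Set G)) :
    ∀ g ∈ D, g * q = q * g → g ∈ centralizer (ee z P Q q u) := by
  intro g hg hgq
  obtain ⟨T', P', Q', h', he⟩ := h.at_point hq hq1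
  rw [← he]
  have hgu : g * u = u * g := mem_centralizer_singleton_iff.mp (hDJ hg)
  have hu1 := h'.ne_one huV
  have huq := h'.ne_z huV
  rcases h'.dd_cases u hud huV with hu | hu
  · rw [h'.mem_cent hu hu1 huq]
    exact ⟨hgu, h'.comm_Q hu hud huV hDJ hDn hD g hg hgq⟩
  · rw [← ee_swap, h'.symm.mem_cent hu hu1 huq]
    exact ⟨hgu, h'.symm.comm_Q hu hud huV hDJ hDn hD g hg hgq⟩

/-- **the centralizer of `ee` does not depend on the point of `V`** -/
theorem cent_le (h : Beta T V z P Q) {u : G} (hud : u ∈ dd V) (huV : u ∉ V) {q q' : G} (hq : q ∈ V)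
    (hq1 : q ≠ 1) (hq' : q' ∈ V) (hq'1 : q' ≠ 1) :
    centralizer (ee z P Q q u) ≤ centralizer (ee z P Q q' u) := by
  obtain ⟨D, hDJ, hDn, hD, d, hd, hdn, hdm⟩ := exists_core h.toOdd hud huV
  have hdu : d * u = u * d := mem_centralizer_singleton_iff.mp (hDJ hd)
  have hduu : d * u * d⁻¹ = u := comm_iff_conj.mpr hdu
  have hdV : ∀ {v : G}, v ∈ V → d⁻¹ * v * d ∈ V := by
    intro v hv
    have := (mem_normalizer_iff.mp (inv_mem hdn) v).mp hv
    rwa [inv_inv] at this
  have hdne : ∀ {v : G}, v ≠ 1 → d⁻¹ * v * d ≠ 1 := fun {v} hv e => hv (by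
    have : v = d * (d⁻¹ * v * d) * d⁻¹ := by group
    rw [this, e]; group)
  have step : ∀ q ∈ V, q ≠ 1 → centralizer (ee z P Q q u) ≤ centralizer (ee z P Q (d⁻¹ * q * d) u) := by
    intro q hq hq1 c hc
    have hcV := (h.cent_q hud huV hq hq1 hc).1
    have hcu : c * u = u * c := (mem_centralizer_iff.mp hc u (Or.inl rfl)).symm
    have hcJ : c ∈ centralizer ({u} : Set G) := mem_centralizer_singleton_iff.mpr hcu
    have h1 : d * (c * d⁻¹ * c⁻¹) ∈ D := mul_mem hd (conj_mem_of_normalizer hDn hcJ (inv_mem hd))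
    have h2 : d * (c * d⁻¹ * c⁻¹) ∈ centralizer (V : Set G) := by
      have e : d * (c * d⁻¹ * c⁻¹) = (d * c * d⁻¹) * c⁻¹ := by group
      rw [e]
      refine mul_mem ?_ (inv_mem hcV)
      rw [mem_centralizer_iff] at hcV ⊢
      intro v hv
      have h3 := hcV _ (hdV hv)
      calc v * (d * c * d⁻¹) = d * ((d⁻¹ * v * d) * c) * d⁻¹ := by group
        _ = d * (c * (d⁻¹ * v * d)) * d⁻¹ := by rw [h3]
        _ = d * c * d⁻¹ * v := by group
    have h3 := h.comm_ee hud huV hq hq1 hDJ hDn (fun g hg hgn hgq => hD q hq hq1 g hg hgn hgq) _ h1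
      ((mem_centralizer_iff.mp h2 q hq).symm)
    have h4 : d * c * d⁻¹ ∈ centralizer (ee z P Q q u) := by
      have e : d * c * d⁻¹ = d * (c * d⁻¹ * c⁻¹) * c := by group
      rw [e]; exact mul_mem h3 hc
    rw [mem_centralizer_iff]
    intro x hx
    have h5 := ee_conj hx d
    have e1 : d * (d⁻¹ * q * d) * d⁻¹ = q := by group
    rw [e1, hduu] at h5
    have h6 := mem_centralizer_iff.mp h4 _ h5
    calc x * c = d⁻¹ * ((d * x * d⁻¹) * (d * c * d⁻¹)) * d := by group
      _ = d⁻¹ * ((d * c * d⁻¹) * (d * x * d⁻¹)) * d := by rw [h6]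
      _ = c * x := by group
  obtain ⟨T', h'⟩ := h.toOdd.point hq hq1
  set a := d⁻¹ * q * d with ha
  have haV : a ∈ V := hdV hq
  have ha1 : a ≠ 1 := hdne hq1
  have haq : a ≠ q := fun e => hdm q hq hq1 (by
    have : q = d * (d⁻¹ * q * d) * d⁻¹ := by group
    rw [← ha, e] at this
    exact this.symm)
  set b := d⁻¹ * a * d with hb
  have hbV : b ∈ V := hdV haV
  have hb1 : b ≠ 1 := hdne ha1
  have hba : b ≠ a := fun e => hdm a haV ha1 (by
    have : a = d * (d⁻¹ * a * d) * d⁻¹ := by group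
    rw [← hb, e] at this
    exact this.symm)
  have hqa1 : q * a ≠ 1 := fun e => haq (by
    rw [← mul_right_inj q, e, h.sq q hq])
  have hbqa : b = q * a := by
    rcases h.four hq haV hq1 ha1 (Ne.symm haq) hbV with e | e | e | e
    · exact absurd e hb1
    · exfalso
      apply hdm (q * a) (mul_mem hq haV) hqa1
      have e1 : d⁻¹ * (q * a) * d = q * a := by
        calc d⁻¹ * (q * a) * d = (d⁻¹ * q * d) * (d⁻¹ * a * d) := by group
          _ = a * b := by rw [← ha, ← hb]
          _ = a * q := by rw [e]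
          _ = q * a := h.comm haV hq
      calc d * (q * a) * d⁻¹ = d * (d⁻¹ * (q * a) * d) * d⁻¹ := by rw [e1]
        _ = q * a := by group
    · exact absurd e hba
    · exact e
  have s1 := step q hq hq1
  have s2 := step a haV ha1
  rw [← ha] at s1
  rw [← hb] at s2
  rcases h.four hq haV hq1 ha1 (Ne.symm haq) hq' with rfl | rfl | rfl | rfl
  · exact absurd rfl hq'1
  · exact le_rfl
  · exact s1
  · rw [← hbqa]; exact s1.trans s2

/-- **There is no `Beta` with `dd V ≠ V`.** -/
theorem false (h : Beta T V z P Q) (hne : ∃ u ∈ dd V, u ∉ V) : False := by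
  have key : ∀ {P Q : Subgroup G}, Beta T V z P Q → ∀ u ∈ dd V, u ∉ V → u ∈ P → False := by
    intro P Q h u hud huV hu
    obtain ⟨q, hq, hq1, hqz⟩ := h.exists_y
    have hzV := h.z_mem
    have huz1 := h.ne_one huV
    have huzz := h.ne_z huV
    have huu : u * u = 1 := h.dd_sq hud
    obtain ⟨y, hy, hyQ, hym⟩ := h.mov_P
    have hyz : y * z = z * y := mem_centralizer_singleton_iff.mp hy
    -- a subgroup containing `u` and `Q`
    have hAc : ∀ x ∈ Q, u * x = x * u := fun x hx => h.ab u (h.P_le hu) x (h.Q_le hx)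
    let A : Subgroup G :=
      { carrier := {x | x ∈ Q ∨ u * x ∈ Q}
        mul_mem' := by
          rintro a b (ha | ha) (hb | hb)
          · exact Or.inl (mul_mem ha hb)
          · right
            have e : u * (a * b) = a * (u * b) := by rw [← mul_assoc, hAc a ha, mul_assoc]
            rw [e]; exact mul_mem ha hb
          · right
            rw [← mul_assoc]; exact mul_mem ha hb
          · left
            have e : a * b = (u * a) * (u * b) := by
              rw [mul_assoc, ← mul_assoc a u b]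
              have : a * u = u * a := by
                have h1 := hAc _ ha
                calc a * u = (u * u) * a * u := by rw [huu, one_mul]
                  _ = u * ((u * a) * u) := by group
                  _ = u * (u * (u * a)) := by rw [h1]
                  _ = (u * u) * (u * a) := by group
                  _ = u * a := by rw [huu, one_mul]
              rw [this]
              calc a * b = (u * u) * (a * b) := by rw [huu, one_mul]
                _ = u * (u * a * b) := by group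
            rw [e]; exact mul_mem ha hb
        one_mem' := Or.inl (one_mem _)
        inv_mem' := by
          rintro a (ha | ha)
          · exact Or.inl (inv_mem ha)
          · right
            have h1 : (u * a)⁻¹ ∈ Q := inv_mem ha
            have h2 := hAc _ h1
            have e : u * a⁻¹ = (u * a)⁻¹ := by
              have h3 : u * (u * a)⁻¹ = a⁻¹ * (u⁻¹ * u) := by
                rw [h2]; group
              rw [inv_mul_cancel, mul_one] at h3
              calc u * a⁻¹ = u * (u * (u * a)⁻¹) := by rw [h3]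
                _ = (u * u) * (u * a)⁻¹ := by rw [mul_assoc]
                _ = (u * a)⁻¹ := by rw [huu, one_mul]
            rw [e]; exact h1 }
    have hAW : A ≤ ws V z := by
      rintro x (hx | hx)
      · exact h.Q_le hx
      · have e : x = u * (u * x) := by rw [← mul_assoc, huu, one_mul]
        rw [e]; exact mul_mem (h.P_le hu) (h.Q_le hx)
    set w := y * u * y⁻¹ with hw
    have hwP : w ∈ P := by
      have hyP : cj y P = P := by
        rcases h.perm y hy with ⟨h1, -⟩ | ⟨h1, h2⟩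
        · exact h1
        · exfalso
          -- `cj y Q = Q`
          have h3 : cj y Q ≤ Q := by
            rintro _ ⟨x, hx, rfl⟩
            change y * x * y⁻¹ ∈ Q
            rw [comm_iff_conj.mpr (hyQ x hx)]; exact hx
          rw [h2] at h3
          exact (h.inf u hu (h3 hu)).elim huz1 huzz
      rw [← hyP]; exact conj_mem_cj hu
    obtain ⟨hwu, hwzu⟩ := hym u hu huz1 huzz
    have hw1 : w ≠ 1 := fun e => huz1 (by
      have : u = y⁻¹ * w * y := by rw [hw]; group
      rw [this, e]; group)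
    have hwz : w ≠ z := fun e => huzz (by
      have : u = y⁻¹ * w * y := by rw [hw]; group
      rw [this, e, mul_assoc, ← hyz]; group)
    have hwA : w ∉ A := by
      rintro (hx | hx)
      · exact (h.inf w hwP hx).elim hw1 hwz
      · rcases h.inf _ (mul_mem hu hwP) hx with e | e
        · apply hwu
          calc w = (u * u) * w := by rw [huu, one_mul]
            _ = u * (u * w) := by rw [mul_assoc]
            _ = u := by rw [e, mul_one]
        · apply hwzu
          calc w = (u * u) * w := by rw [huu, one_mul]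
            _ = u * (u * w) := by rw [mul_assoc]
            _ = u * z := by rw [e]
            _ = z * u := h.ab u (h.P_le hu) z (h.V_le_ws h.z_mem)
    have hKz : ∀ k ∈ kq V z, k * z = z * k := fun k hk => mem_centralizer_singleton_iff.mp (kq_le V z hk)
    obtain ⟨k, hk, hkA, hkw⟩ := exists_dual (W := ws V z) (K := kq V z) (z := z) h.ab
      (fun a ha => h.ws_sq ha) (h.V_le_ws h.z_mem) (fun k hk w hw => kq_ws h.toGeo hk hw) hKz h.ann
      hAW (Or.inl h.z_Q) (h.P_le hwP) hwA
    have hk0 : k ∈ centralizer (ee z P Q z u) := by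
      rw [h.mem_cent hu huz1 huzz]
      refine ⟨hkA u (Or.inr ?_), fun m hm => hkA m (Or.inl hm)⟩
      rw [huu]; exact one_mem _
    -- `u z`
    have hmemV : ∀ {a v : G}, a ∉ V → v ∈ V → a * v ∉ V := by
      intro a v ha hv hav
      apply ha
      have e : a = a * v * v⁻¹ := by group
      rw [e]; exact mul_mem hav (inv_mem hv)
    have h1 := (h.cent_z hud huV hk0).2
    have hd1 : u * z ∈ dd V := mul_mem hud (h.V_le_dd hzV)
    have hV1 : u * z ∉ V := hmemV huV hzV
    have h2 := h.cent_le hd1 hV1 hzV h.z_ne hq hq1 h1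
    have h3 := (h.cent_q hd1 hV1 hq hq1 h2).2
    have hd2 : u * z * q ∈ dd V := mul_mem hd1 (h.V_le_dd hq)
    have hV2 : u * z * q ∉ V := hmemV hV1 hq
    have h4 := h.cent_le hd2 hV2 hq hq1 hzV h.z_ne h3
    have hQ2 : u * z * q ∈ Q := h.mul_mem_Q (mul_mem hu h.z_P) hd1 hV1 hq hq1 hqz
    rw [← ee_swap, h.symm.mem_cent hQ2 (h.ne_one hV2) (h.ne_z hV2)] at h4
    have h5 := h4.2 w hwP
    rw [comm_iff_conj.mpr h5] at hkw
    exact h.z_ne (by simpa using hkw.symm)
  obtain ⟨u, hud, huV⟩ := hne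
  rcases h.dd_cases u hud huV with hu | hu
  · exact key h u hud huV hu
  · exact key h.symm u hud huV hu

end Beta

end Cfsg.Agent.MinSimple.ThompsonLineC
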