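import Mathlib
import Cfsg.Agent.MinSimple.ThompsonLineC

/-!
# (E1)(b): the derived length argument, general form

Step (6) of helper424's row 4406 in the form of helper583's row 5033: there is no `Beta T V z`, i.e. it is
impossible that `dd V ≠ V`, `C_{ws V z}(kq V z) = ⟨z⟩` and, for `u ∈ dd V \ V`, the subgroup `ee V z u` generated by
`u` and the conjugates of `V` under `C_G(z) ∩ C_G(u)` is proper in `ws V z`, while `ee V z u` and `ee V z (u * v)`
generate `ws V z` (`v ∈ V \ ⟨z⟩`).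
-/

set_option autoImplicit false
set_option linter.unusedSectionVars false

namespace Cfsg.Agent.MinSimple.OddBeta

open Subgroup Cfsg Cfsg.Agent.ZN Cfsg.Agent.MinSimple.Geo Cfsg.Agent.MinSimple.BTwoA
  Cfsg.Agent.MinSimple.BTwoB Cfsg.Agent.MinSimple.OddLine
open Cfsg.Agent.MinSimple.ThompsonLineC (comm_iff_conj exists_core exists_dual)
open Cfsg.Agent.ZN.Block (conj_mem_of_normalizer conj_mem_of_normalizer' le_normalizer_of_forall
  mem_normalizer_of)

universe u

variable {G : Type u} [Group G]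

/-- the subgroup generated by `u` and the conjugates of `V` under `C_G(q) ∩ C_G(u)` -/
def ee (V : Subgroup G) (q u : G) : Subgroup G :=
  zpowers u ⊔ ⨆ j : ↥(centralizer ({q} : Set G) ⊓ centralizer ({u} : Set G)), cj (j : G) V

theorem mem_ee (V : Subgroup G) (q u : G) : u ∈ ee V q u :=
  (le_sup_left : zpowers u ≤ _) (mem_zpowers u)

theorem cj_le_ee {V : Subgroup G} {q u j : G} (h1 : j * q = q * j) (h2 : j * u = u * j) :
    cj j V ≤ ee V q u :=
  (le_iSup (fun j : ↥(centralizer ({q} : Set G) ⊓ centralizer ({u} : Set G)) => cj (j : G) V)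
    ⟨j, mem_centralizer_singleton_iff.mpr h1, mem_centralizer_singleton_iff.mpr h2⟩).trans le_sup_right

theorem le_ee (V : Subgroup G) (q u : G) : V ≤ ee V q u := by
  have := cj_le_ee (V := V) (q := q) (u := u) (j := 1) (by group) (by group)
  rwa [cj_one] at this

theorem ee_le {V X : Subgroup G} {q u : G} (hu : u ∈ X)
    (hX : ∀ j, j * q = q * j → j * u = u * j → cj j V ≤ X) : ee V q u ≤ X :=
  sup_le ((zpowers_le).mpr hu) (iSup_le fun j => hX j (mem_centralizer_singleton_iff.mp j.2.1)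
    (mem_centralizer_singleton_iff.mp j.2.2))

theorem ee_mul_le {V : Subgroup G} {q u : G} (hq : q ∈ V) : ee V q (u * q) ≤ ee V q u := by
  refine ee_le (mul_mem (mem_ee _ _ _) (le_ee _ _ _ hq)) (fun j h1 h2 => cj_le_ee h1 ?_)
  have h3 : j * u * q = u * j * q := by
    calc j * u * q = j * (u * q) := by rw [mul_assoc]
      _ = u * (q * j) := by rw [h2, mul_assoc]
      _ = u * j * q := by rw [← h1, ← mul_assoc]
  exact mul_right_cancel h3

theorem ee_mul {V : Subgroup G} {q u : G} (hq : q ∈ V) : ee V q (u * q) = ee V q u := by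
  refine le_antisymm (ee_mul_le hq) ?_
  refine ee_le ?_ (fun j h1 h2 => cj_le_ee h1 ?_)
  · have e : u = (u * q) * q⁻¹ := by group
    have h1 := mul_mem (mem_ee V q (u * q)) (inv_mem (le_ee V q (u * q) hq))
    rwa [← e] at h1
  · rw [← mul_assoc, h2, mul_assoc, h1, ← mul_assoc]

theorem cj_ee {V : Subgroup G} {g q u : G} (hg : g ∈ normalizer (V : Set G)) :
    cj g (ee V q u) ≤ ee V (g * q * g⁻¹) (g * u * g⁻¹) := by
  rw [cj_le_iff]
  refine ee_le ?_ (fun j h1 h2 => ?_)
  · rw [mem_cj, inv_inv]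
    exact mem_ee _ _ _
  · rw [← cj_le_iff]
    have e : cj g (cj j V) = cj (g * j * g⁻¹) V := by
      rw [cj_cj]
      conv_rhs => rw [← cj_eq_of_mem_normalizer hg, cj_cj]
      congr 1
      group
    rw [e]
    have key : ∀ x, j * x = x * j → g * j * g⁻¹ * (g * x * g⁻¹) = g * x * g⁻¹ * (g * j * g⁻¹) := by
      intro x hx
      calc g * j * g⁻¹ * (g * x * g⁻¹) = g * (j * x) * g⁻¹ := by group
        _ = g * (x * j) * g⁻¹ := by rw [hx]
        _ = _ := by group
    exact cj_le_ee (key q h1) (key u h2)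

/-- The configuration of the derived length argument. -/
structure Beta (T V : Subgroup G) (z : G) : Prop extends Odd T V z where
  cent : ∀ w ∈ ws V z, (∀ k ∈ kq V z, k * w = w * k) → w ∈ zpowers z
  nt : ∃ u ∈ dd V, u ∉ V
  ne : ∀ u ∈ dd V, u ∉ V → ee V z u ≠ ws V z
  sup : ∀ u ∈ dd V, u ∉ V → ∀ v ∈ V, v ∉ zpowers z → ws V z ≤ ee V z u ⊔ ee V z (u * v)

namespace Beta

variable {T V : Subgroup G} {z : G} [Finite G]

theorem ann (h : Beta T V z) : ∀ w ∈ ws V z, (∀ k ∈ kq V z, k * w = w * k) → w = 1 ∨ w = z :=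
  fun w hw hk => (mem_zpowers_iff_of_mul_self h.zz).mp (h.cent w hw hk)

/-- the annihilator condition at an arbitrary point of `V` -/
theorem ann_move (h : Beta T V z) {g : G} (hg : g ∈ normalizer (V : Set G)) :
    Odd (cj g T) V (g * z * g⁻¹) ∧ ∀ w ∈ ws V (g * z * g⁻¹),
      (∀ k ∈ kq V (g * z * g⁻¹), k * w = w * k) → w = 1 ∨ w = g * z * g⁻¹ := by
  refine ⟨?_, ?_⟩
  · have := h.toOdd.conj g
    rwa [cj_eq_of_mem_normalizer hg] at this
  · intro w hw hk
    rw [← cj_ws, mem_cj] at hw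
    have h9 : ∀ k ∈ kq V z, k * (g⁻¹ * w * g) = g⁻¹ * w * g * k := by
      intro k hkk
      have h1 : g * k * g⁻¹ ∈ kq V (g * z * g⁻¹) := by
        rw [← cj_kq]; exact conj_mem_cj hkk
      have h2 := hk _ h1
      calc k * (g⁻¹ * w * g) = g⁻¹ * (g * k * g⁻¹ * w) * g := by group
        _ = g⁻¹ * (w * (g * k * g⁻¹)) * g := by rw [h2]
        _ = g⁻¹ * w * g * k := by group
    rcases h.ann _ hw h9 with e | e
    · left
      calc w = g * (g⁻¹ * w * g) * g⁻¹ := by group
        _ = 1 := by rw [e]; group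
    · right
      calc w = g * (g⁻¹ * w * g) * g⁻¹ := by group
        _ = g * z * g⁻¹ := by rw [e]

end Beta

section Point

variable {T V : Subgroup G} {z : G} [Finite G]

/-- an element of `ws V z` commuting with `kq V z ∩ C(t)` -/
theorem mem_four (h : Odd T V z)
    (hann : ∀ w ∈ ws V z, (∀ k ∈ kq V z, k * w = w * k) → w = 1 ∨ w = z) {t d : G} (ht : t ∈ ws V z)
    (hd : d ∈ ws V z) (hc : ∀ k ∈ kq V z, k * t = t * k → k * d = d * k) :
    (d = 1 ∨ d = z) ∨ d * t = 1 ∨ d * t = z := by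
  have hzz := h.zz
  by_cases hall : ∀ k ∈ kq V z, k * d = d * k
  · exact Or.inl (hann d hd hall)
  right
  push Not at hall
  obtain ⟨k₀, hk₀, hk₀d⟩ := hall
  have h0d : k₀ * d * k₀⁻¹ = z * d := by
    rcases kq_ws h.toGeo hk₀ hd with e | e
    · exact absurd (comm_iff_conj.mp e) hk₀d
    · exact e
  have h0t : k₀ * t * k₀⁻¹ = z * t := by
    rcases kq_ws h.toGeo hk₀ ht with e | e
    · exact absurd (hc k₀ hk₀ (comm_iff_conj.mp e)) hk₀d
    · exact e
  refine hann _ (mul_mem hd ht) (fun k hk => ?_)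
  rw [← comm_iff_conj]
  rcases kq_ws h.toGeo hk ht with e | e
  · have h1 := hc k hk (comm_iff_conj.mp e)
    calc k * (d * t) * k⁻¹ = (k * d * k⁻¹) * (k * t * k⁻¹) := by group
      _ = d * t := by rw [comm_iff_conj.mpr h1, e]
  · have h3 : (k₀⁻¹ * k) * t = t * (k₀⁻¹ * k) := by
      rw [← comm_iff_conj]
      have e1 : k₀⁻¹ * k * t * (k₀⁻¹ * k)⁻¹ = k₀⁻¹ * (k * t * k⁻¹) * k₀ := by group
      rw [e1, e, ← h0t]; group
    have h4 := hc _ (mul_mem (inv_mem hk₀) hk) h3
    have h5 : k * d * k⁻¹ = z * d := by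
      have e1 : k * d * k⁻¹ = k₀ * ((k₀⁻¹ * k) * d * (k₀⁻¹ * k)⁻¹) * k₀⁻¹ := by group
      rw [e1, comm_iff_conj.mpr h4, h0d]
    calc k * (d * t) * k⁻¹ = (k * d * k⁻¹) * (k * t * k⁻¹) := by group
      _ = (z * d) * (z * t) := by rw [h5, e]
      _ = (z * z) * (d * t) := by
        rw [mul_assoc, ← mul_assoc d z t, h.ab d hd z (h.V_le_ws h.z_mem)]; group
      _ = d * t := by rw [hzz, one_mul]

/-- the elements of `D` fixing `z` centralize `V` -/
theorem comm_V (h : Odd T V z)
    (hann : ∀ w ∈ ws V z, (∀ k ∈ kq V z, k * w = w * k) → w = 1 ∨ w = z) {t : G} (ht : t ∈ dd V)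
    {D : Subgroup G} (_ : D ≤ centralizer ({t} : Set G))
    (hDn : centralizer ({t} : Set G) ≤ normalizer (D : Set G))
    (hD : ∀ g ∈ D, g ∈ normalizer (V : Set G) → g * z = z * g → g ∈ centralizer (V : Set G)) :
    ∀ g ∈ D, g * z = z * g → g ∈ centralizer (V : Set G) := by
  intro g hg hgz
  have hzz := h.zz
  have htw : t ∈ ws V z := h.dd_le_ws h.z_mem h.z_ne ht
  have htt : t * t = 1 := h.dd_sq ht
  have hgc : g ∈ centralizer ({z} : Set G) := mem_centralizer_singleton_iff.mpr hgz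
  have hgws := centralizer_le_normalizer_ws V z hgc
  -- `g v g⁻¹ ∈ {v, z v, t v, z t v}`
  have key : ∀ v ∈ V, g * v * g⁻¹ ∈ V ⊔ zpowers t := by
    intro v hv
    have hvw : v ∈ ws V z := h.V_le_ws hv
    set v' := g * v * g⁻¹ with hv'
    have hv'w : v' ∈ ws V z := (mem_normalizer_iff.mp hgws v).mp hvw
    have hcomm : ∀ k ∈ kq V z, k * t = t * k → k * (v * v') = v * v' * k := by
      intro k hk hkt
      have hkJ : k ∈ centralizer ({t} : Set G) := mem_centralizer_singleton_iff.mpr hkt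
      have heD : g⁻¹ * (k * g * k⁻¹) ∈ D := mul_mem (inv_mem hg) (conj_mem_of_normalizer hDn hkJ hg)
      have heK : (g⁻¹ * k * g) * k⁻¹ ∈ kq V z :=
        mul_mem (conj_mem_of_normalizer' (centralizer_le_normalizer_kq V z) hgc hk) (inv_mem hk)
      have hassoc : g⁻¹ * (k * g * k⁻¹) = (g⁻¹ * k * g) * k⁻¹ := by group
      rw [hassoc] at heD
      set e := (g⁻¹ * k * g) * k⁻¹ with he
      have heV : e ∈ centralizer (V : Set G) :=
        hD e heD (kq_le_normalizer h.toGeo heK) (mem_centralizer_singleton_iff.mp (kq_le V z heK))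
      have hev : e * v * e⁻¹ = v := comm_iff_conj.mpr (mem_centralizer_iff.mp heV v hv).symm
      have hez : e * z * e⁻¹ = z := comm_iff_conj.mpr (mem_centralizer_iff.mp heV z h.z_mem).symm
      have hgzc : g * z * g⁻¹ = z := comm_iff_conj.mpr hgz
      have hkv' : k * v' * k⁻¹ = g * (e * (k * v * k⁻¹) * e⁻¹) * g⁻¹ := by
        rw [hv', he]; group
      rw [← comm_iff_conj]
      rcases kq_ws h.toGeo hk hvw with e1 | e1
      · have e2 : k * v' * k⁻¹ = v' := by rw [hkv', e1, hev]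
        calc k * (v * v') * k⁻¹ = (k * v * k⁻¹) * (k * v' * k⁻¹) := by group
          _ = v * v' := by rw [e1, e2]
      · have e2 : k * v' * k⁻¹ = z * v' := by
          rw [hkv', e1]
          calc g * (e * (z * v) * e⁻¹) * g⁻¹ = g * ((e * z * e⁻¹) * (e * v * e⁻¹)) * g⁻¹ := by group
            _ = g * (z * v) * g⁻¹ := by rw [hez, hev]
            _ = (g * z * g⁻¹) * (g * v * g⁻¹) := by group
            _ = z * v' := by rw [hgzc]
        calc k * (v * v') * k⁻¹ = (k * v * k⁻¹) * (k * v' * k⁻¹) := by group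
          _ = (z * v) * (z * v') := by rw [e1, e2]
          _ = (z * z) * (v * v') := by
            rw [mul_assoc, ← mul_assoc v z v', h.ab v hvw z (h.V_le_ws h.z_mem)]; group
          _ = v * v' := by rw [hzz, one_mul]
    have hvv : v * v = 1 := h.sq v hv
    have hzS : z ∈ V ⊔ zpowers t := (le_sup_left : V ≤ _) h.z_mem
    have hvS : v ∈ V ⊔ zpowers t := (le_sup_left : V ≤ _) hv
    have htS : t ∈ V ⊔ zpowers t := (le_sup_right : zpowers t ≤ _) (mem_zpowers t)
    have e1 : v' = v * (v * v') := by rw [← mul_assoc, hvv, one_mul]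
    rcases mem_four h hann htw (mul_mem hvw hv'w) hcomm with (e | e) | e | e
    · rw [e1, e, mul_one]; exact hvS
    · rw [e1, e]; exact mul_mem hvS hzS
    · have e2 : v * v' = t := by
        rw [mul_eq_one_iff_eq_inv.mp e, inv_eq_self htt]
      rw [e1, e2]; exact mul_mem hvS htS
    · have e2 : v * v' = z * t := by rw [← e, mul_assoc, htt, mul_one]
      rw [e1, e2]; exact mul_mem hvS (mul_mem hzS htS)
  have hcj : cj g V = V := by
    refine h.eq_of_le_sup ht ?_
    rintro _ ⟨v, hv, rfl⟩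
    exact key v hv
  exact hD g hg (mem_normalizer_iff_cj.mpr hcj) hgz

/-- the elements of `D` fixing `z` centralize `ee V z t` -/
theorem comm_ee (h : Odd T V z)
    (hann : ∀ w ∈ ws V z, (∀ k ∈ kq V z, k * w = w * k) → w = 1 ∨ w = z) {t : G} (ht : t ∈ dd V)
    {D : Subgroup G} (hDJ : D ≤ centralizer ({t} : Set G))
    (hDn : centralizer ({t} : Set G) ≤ normalizer (D : Set G))
    (hD : ∀ g ∈ D, g ∈ normalizer (V : Set G) → g * z = z * g → g ∈ centralizer (V : Set G)) :
    ∀ g ∈ D, g * z = z * g → g ∈ centralizer (ee V z t : Set G) := by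
  intro g hg hgz
  have hle : ee V z t ≤ centralizer ({g} : Set G) := by
    refine ee_le ?_ (fun j h1 h2 => ?_)
    · rw [mem_centralizer_singleton_iff]
      exact (mem_centralizer_singleton_iff.mp (hDJ hg)).symm
    · have hjJ : j ∈ centralizer ({t} : Set G) := mem_centralizer_singleton_iff.mpr h2
      have hg' : j⁻¹ * g * j ∈ D := conj_mem_of_normalizer' hDn hjJ hg
      have hgz' : (j⁻¹ * g * j) * z = z * (j⁻¹ * g * j) := by
        rw [← comm_iff_conj]
        have hjz : j * z * j⁻¹ = z := comm_iff_conj.mpr h1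
        have hjz' : j⁻¹ * z * j = z := by
          calc j⁻¹ * z * j = j⁻¹ * (j * z * j⁻¹) * j := by rw [hjz]
            _ = z := by group
        calc j⁻¹ * g * j * z * (j⁻¹ * g * j)⁻¹ = j⁻¹ * (g * (j * z * j⁻¹) * g⁻¹) * j := by group
          _ = z := by rw [hjz, comm_iff_conj.mpr hgz, hjz']
      have hV := comm_V h hann ht hDJ hDn hD _ hg' hgz'
      rintro _ ⟨v, hv, rfl⟩
      rw [mem_centralizer_singleton_iff]
      change j * v * j⁻¹ * g = g * (j * v * j⁻¹)
      have h3 := mem_centralizer_iff.mp hV v hv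
      calc j * v * j⁻¹ * g = j * (v * (j⁻¹ * g * j)) * j⁻¹ := by group
        _ = j * ((j⁻¹ * g * j) * v) * j⁻¹ := by rw [h3]
        _ = g * (j * v * j⁻¹) := by group
  rw [mem_centralizer_iff]
  intro x hx
  exact mem_centralizer_singleton_iff.mp (hle hx)

end Point

namespace Beta

variable {T V : Subgroup G} {z : G} [Finite G]

/-- **the centralizer of `ee V q u` does not depend on the point `q` of `V`** -/
theorem cent_le (h : Beta T V z) {u : G} (hud : u ∈ dd V) (huV : u ∉ V) {q q' : G} (hq : q ∈ V)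
    (hq1 : q ≠ 1) (hq' : q' ∈ V) (hq'1 : q' ≠ 1) :
    centralizer (ee V q u : Set G) ≤ centralizer (ee V q' u : Set G) := by
  obtain ⟨D, hDJ, hDn, hD, d, hd, hdn, hdm⟩ := exists_core h.toOdd hud huV
  have hdu : d * u = u * d := mem_centralizer_singleton_iff.mp (hDJ hd)
  have hduu : d * u * d⁻¹ = u := comm_iff_conj.mpr hdu
  have hdV : ∀ {v : G}, v ∈ V → d⁻¹ * v * d ∈ V := by
    intro v hv
    have := (mem_normalizer_iff.mp (inv_mem hdn) v).mp hv
    rwa [inv_inv] at this
  have hdne : ∀ {v : G}, v ≠ 1 → d⁻¹ * v * d ≠ 1 := fun {v} hv e => hv (by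
    have : v = d * (d⁻¹ * v * d) * d⁻¹ := by group
    rw [this, e]; group)
  have step : ∀ q ∈ V, q ≠ 1 →
      centralizer (ee V q u : Set G) ≤ centralizer (ee V (d⁻¹ * q * d) u : Set G) := by
    intro q hq hq1 c hc
    have hcV : c ∈ centralizer (V : Set G) :=
      mem_centralizer_iff.mpr fun v hv => mem_centralizer_iff.mp hc v (le_ee V q u hv)
    have hcu : c * u = u * c := (mem_centralizer_iff.mp hc u (mem_ee V q u)).symm
    have hcJ : c ∈ centralizer ({u} : Set G) := mem_centralizer_singleton_iff.mpr hcu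
    have h1 : d * (c * d⁻¹ * c⁻¹) ∈ D := mul_mem hd (conj_mem_of_normalizer hDn hcJ (inv_mem hd))
    have h2 : d * (c * d⁻¹ * c⁻¹) ∈ centralizer (V : Set G) := by
      have e : d * (c * d⁻¹ * c⁻¹) = (d * c * d⁻¹) * c⁻¹ := by group
      rw [e]
      refine mul_mem ?_ (inv_mem hcV)
      rw [mem_centralizer_iff] at hcV ⊢
      intro v hv
      have h3 := hcV _ (hdV hv)
      calc v * (d * c * d⁻¹) = d * ((d⁻¹ * v * d) * c) * d⁻¹ := by group
        _ = d * (c * (d⁻¹ * v * d)) * d⁻¹ := by rw [h3]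
        _ = d * c * d⁻¹ * v := by group
    have h3 : d * (c * d⁻¹ * c⁻¹) ∈ centralizer (ee V q u : Set G) := by
      obtain ⟨g, hg, rfl⟩ := h.trans q hq hq1
      obtain ⟨ho, ha⟩ := h.ann_move hg
      exact comm_ee ho ha hud hDJ hDn (fun x hx hxn hxq => hD _ hq hq1 x hx hxn hxq) _ h1
        (mem_centralizer_iff.mp h2 _ hq).symm
    have h4 : d * c * d⁻¹ ∈ centralizer (ee V q u : Set G) := by
      have e : d * c * d⁻¹ = d * (c * d⁻¹ * c⁻¹) * c := by group
      rw [e]; exact mul_mem h3 hc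
    rw [mem_centralizer_iff]
    intro x hx
    have h5 : d * x * d⁻¹ ∈ ee V q u := by
      have := cj_ee hdn (conj_mem_cj (g := d) hx)
      have e1 : d * (d⁻¹ * q * d) * d⁻¹ = q := by group
      rwa [e1, hduu] at this
    have h6 := mem_centralizer_iff.mp h4 _ h5
    calc x * c = d⁻¹ * ((d * x * d⁻¹) * (d * c * d⁻¹)) * d := by group
      _ = d⁻¹ * ((d * c * d⁻¹) * (d * x * d⁻¹)) * d := by rw [h6]
      _ = c * x := by group
  obtain ⟨T', h'⟩ := h.toOdd.point hq hq1
  set a := d⁻¹ * q * d with ha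
  have haV : a ∈ V := hdV hq
  have ha1 : a ≠ 1 := hdne hq1
  have haq : a ≠ q := fun e => hdm q hq hq1 (by
    have : q = d * (d⁻¹ * q * d) * d⁻¹ := by group
    rw [← ha, e] at this
    exact this.symm)
  set b := d⁻¹ * a * d with hb
  have hbV : b ∈ V := hdV haV
  have hb1 : b ≠ 1 := hdne ha1
  have hba : b ≠ a := fun e => hdm a haV ha1 (by
    have : a = d * (d⁻¹ * a * d) * d⁻¹ := by group
    rw [← hb, e] at this
    exact this.symm)
  have hqa1 : q * a ≠ 1 := fun e => haq (by
    rw [← mul_right_inj q, e, h.sq q hq])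
  have hbqa : b = q * a := by
    rcases h.four hq haV hq1 ha1 (Ne.symm haq) hbV with e | e | e | e
    · exact absurd e hb1
    · exfalso
      apply hdm (q * a) (mul_mem hq haV) hqa1
      have e1 : d⁻¹ * (q * a) * d = q * a := by
        calc d⁻¹ * (q * a) * d = (d⁻¹ * q * d) * (d⁻¹ * a * d) := by group
          _ = a * b := by rw [← ha, ← hb]
          _ = a * q := by rw [e]
          _ = q * a := h.comm haV hq
      calc d * (q * a) * d⁻¹ = d * (d⁻¹ * (q * a) * d) * d⁻¹ := by rw [e1]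
        _ = q * a := by group
    · exact absurd e hba
    · exact e
  have s1 := step q hq hq1
  have s2 := step a haV ha1
  rw [← ha] at s1
  rw [← hb] at s2
  rcases h.four hq haV hq1 ha1 (Ne.symm haq) hq' with rfl | rfl | rfl | rfl
  · exact absurd rfl hq'1
  · exact le_rfl
  · exact s1
  · rw [← hbqa]; exact s1.trans s2

/-- **There is no `Beta`.** -/
theorem false (h : Beta T V z) : False := by
  obtain ⟨u, hud, huV⟩ := h.nt
  obtain ⟨q, hq, hq1, hqz⟩ := h.exists_y
  have hzV := h.z_mem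
  have hzz := h.zz
  have hmemV : ∀ {a v : G}, a ∉ V → v ∈ V → a * v ∉ V := by
    intro a v ha hv hav
    apply ha
    have e : a = a * v * v⁻¹ := by group
    rw [e]; exact mul_mem hav (inv_mem hv)
  have hd1 : u * z ∈ dd V := mul_mem hud (h.V_le_dd hzV)
  have hV1 : u * z ∉ V := hmemV huV hzV
  have hd2 : u * z * q ∈ dd V := mul_mem hd1 (h.V_le_dd hq)
  have hV2 : u * z * q ∉ V := hmemV hV1 hq
  have hR : centralizer (ee V z u : Set G) ≤ centralizer (ee V z (u * z * q) : Set G) := by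
    rw [← ee_mul hzV]
    refine (h.cent_le hd1 hV1 hzV h.z_ne hq hq1).trans ?_
    rw [← ee_mul hq]
    exact h.cent_le hd2 hV2 hq hq1 hzV h.z_ne
  have hv : z * q ∉ zpowers z := by
    intro hm
    rcases (mem_zpowers_iff_of_mul_self hzz).mp hm with e | e
    · exact hqz (by rw [mul_eq_one_iff_eq_inv.mp e, h.inv_eq hq])
    · exact hq1 (by simpa using e)
  have hsup := h.sup u hud huV (z * q) (mul_mem hzV hq) hv
  rw [← mul_assoc] at hsup
  have hAW : ee V z u ≤ ws V z := by
    refine ee_le (h.dd_le_ws hzV h.z_ne hud) (fun j h1 _ => ?_)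
    exact le_ws (h.toGeo.cj_mem_lines (mem_centralizer_singleton_iff.mpr h1))
  obtain ⟨w, hw, hwA⟩ : ∃ w ∈ ws V z, w ∉ ee V z u := by
    by_contra hcon
    push Not at hcon
    exact h.ne u hud huV (le_antisymm hAW hcon)
  have hKz : ∀ k ∈ kq V z, k * z = z * k := fun k hk => mem_centralizer_singleton_iff.mp (kq_le V z hk)
  obtain ⟨k, hk, hkA, hkw⟩ := exists_dual (W := ws V z) (K := kq V z) (z := z) h.ab
    (fun a ha => h.ws_sq ha) (h.V_le_ws h.z_mem) (fun k hk w hw => kq_ws h.toGeo hk hw) hKz h.ann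
    hAW (le_ee V z u hzV) hw hwA
  have hk0 : k ∈ centralizer (ee V z u : Set G) :=
    mem_centralizer_iff.mpr fun a ha => (hkA a ha).symm
  have hk1 := hR hk0
  have hle : ws V z ≤ centralizer ({k} : Set G) := by
    refine hsup.trans (sup_le ?_ ?_)
    · intro x hx
      exact mem_centralizer_singleton_iff.mpr (mem_centralizer_iff.mp hk0 x hx)
    · intro x hx
      exact mem_centralizer_singleton_iff.mpr (mem_centralizer_iff.mp hk1 x hx)
  have h5 := mem_centralizer_singleton_iff.mp (hle hw)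
  rw [comm_iff_conj.mpr h5.symm] at hkw
  exact h.z_ne (by simpa using hkw.symm)

end Beta

end Cfsg.Agent.MinSimple.OddBeta
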