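import Mathlib
import Cfsg.Agent.MinSimple.BTwoD
import Cfsg.Agent.MinSimple.ThompsonLineC

/-!
# (E1)(b): the Thompson count

Step (4) of helper424's row 4406: `T` contains an elementary abelian subgroup `A` of maximal order with
`[V, A] ≠ 1`, and `ws V r`, `ws V s` commute for the points `r`, `s` of `V`.  Then for `r ≠ z`
`|ws V r| |A ∩ kq V r| ≤ |C_A(V)| |C_{dd V}(C_A(V))|`.
-/

set_option autoImplicit false
set_option linter.unusedSectionVars false

namespace Cfsg.Agent.MinSimple.ThompsonCount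

open Subgroup Cfsg Cfsg.Agent.ZN Cfsg.Agent.MinSimple.Geo Cfsg.Agent.MinSimple.BTwoA
  Cfsg.Agent.MinSimple.BTwoB Cfsg.Agent.MinSimple.OddLine
open Cfsg.Agent.MinSimple.ThompsonLineC (comm_iff_conj)
open Cfsg.Agent.ZN.Block (conj_mem_of_normalizer conj_mem_of_normalizer' le_normalizer_of_forall
  mem_normalizer_of card_sup_mul_card_inf)

universe u

variable {G : Type u} [Group G]

/-! ### general facts -/

theorem mem_sup_of_comm {X Y : Subgroup G} (hc : ∀ x ∈ X, ∀ y ∈ Y, x * y = y * x) {u : G}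
    (hu : u ∈ X ⊔ Y) : ∃ x ∈ X, ∃ y ∈ Y, u = x * y := by
  let D : Subgroup G := {
    carrier := {p | ∃ a ∈ X, ∃ b ∈ Y, p = a * b}
    one_mem' := ⟨1, one_mem _, 1, one_mem _, (one_mul 1).symm⟩
    mul_mem' := by
      rintro x y ⟨a, ha, b, hb, rfl⟩ ⟨c, hcX, d, hd, rfl⟩
      refine ⟨a * c, X.mul_mem ha hcX, b * d, Y.mul_mem hb hd, ?_⟩
      have e := hc c hcX b hb
      calc a * b * (c * d) = a * (b * c) * d := by group
        _ = a * (c * b) * d := by rw [e]
        _ = a * c * (b * d) := by group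
    inv_mem' := by
      rintro x ⟨a, ha, b, hb, rfl⟩
      refine ⟨a⁻¹, X.inv_mem ha, b⁻¹, Y.inv_mem hb, ?_⟩
      rw [hc a ha b hb, mul_inv_rev] }
  have hD0 : X ≤ D := fun x hx => ⟨x, hx, 1, one_mem _, (mul_one x).symm⟩
  have hD1 : Y ≤ D := fun x hx => ⟨1, one_mem _, x, hx, (one_mul x).symm⟩
  exact (sup_le hD0 hD1) hu

/-- elementary abelian 2-subgroups -/
def El (B : Subgroup G) : Prop := (∀ a ∈ B, ∀ b ∈ B, a * b = b * a) ∧ ∀ a ∈ B, a * a = 1

theorem El.sup {X Y : Subgroup G} (hX : El X) (hY : El Y) (hc : ∀ x ∈ X, ∀ y ∈ Y, x * y = y * x) :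
    El (X ⊔ Y) := by
  have key : ∀ {x y x' y' : G}, x ∈ X → y ∈ Y → x' ∈ X → y' ∈ Y →
      x * y * (x' * y') = x * x' * (y * y') := by
    intro x y x' y' hx hy hx' hy'
    calc x * y * (x' * y') = x * (y * x') * y' := by group
      _ = x * (x' * y) * y' := by rw [hc x' hx' y hy]
      _ = x * x' * (y * y') := by group
  constructor
  · intro a ha b hb
    obtain ⟨x, hx, y, hy, rfl⟩ := mem_sup_of_comm hc ha
    obtain ⟨x', hx', y', hy', rfl⟩ := mem_sup_of_comm hc hb
    rw [key hx hy hx' hy', key hx' hy' hx hy, hX.1 x hx x' hx', hY.1 y hy y' hy']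
  · intro a ha
    obtain ⟨x, hx, y, hy, rfl⟩ := mem_sup_of_comm hc ha
    rw [key hx hy hx hy, hX.2 x hx, hY.2 y hy, one_mul]

theorem le_normalizer_of_comm {X Y : Subgroup G} (hc : ∀ x ∈ X, ∀ y ∈ Y, x * y = y * x) :
    X ≤ normalizer (Y : Set G) := by
  refine le_normalizer_of_forall fun x hx y hy => ?_
  rw [comm_iff_conj.mpr (hc x hx y hy)]
  exact hy

theorem card_comm [Finite G] {X Y : Subgroup G} (hc : ∀ x ∈ X, ∀ y ∈ Y, x * y = y * x) :
    Nat.card ↥(X ⊔ Y) * Nat.card ↥(X ⊓ Y) = Nat.card X * Nat.card Y :=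
  card_sup_mul_card_inf (le_normalizer_of_comm hc)

theorem two_mul_card_le [Finite G] {X Y : Subgroup G} (h : X ≤ Y) {y : G} (hy : y ∈ Y) (hyX : y ∉ X) :
    2 * Nat.card X ≤ Nat.card Y := by
  obtain ⟨k, hk⟩ := card_dvd_of_le h
  have h1 : 0 < Nat.card Y := Nat.card_pos
  have hk0 : k ≠ 0 := by rintro rfl; omega
  have hk1 : k ≠ 1 := by
    rintro rfl
    rw [mul_one] at hk
    have := Subgroup.eq_of_le_of_card_ge h hk.le
    rw [this] at hyX
    exact hyX hy
  rw [hk, mul_comm]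
  exact Nat.mul_le_mul_left _ (by omega)

section Main

variable {T V : Subgroup G} {z : G} [Finite G]

theorem ws_le_T (h : Odd T V z) {r : G} (hr : r ∈ V) (hr1 : r ≠ 1) : ws V r ≤ T := by
  obtain ⟨T', h'⟩ := h.point hr hr1
  have h1 : ws V r ≤ o2 (centralizer (V : Set G)) := by
    refine le_o2 (h.ws_le_centralizer_V hr hr1) (h'.two.to_le h'.ws_le_T) ?_
    refine le_trans ?_ (centralizer_le_normalizer_ws V r)
    intro c hc
    exact mem_centralizer_singleton_iff.mpr (mem_centralizer_iff.mp hc r hr).symm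
  have h2 : o2 (centralizer (V : Set G)) ≤ o2 (normalizer (V : Set G)) := by
    refine le_o2 ((o2_le _).trans (centralizer_le_normalizer _)) (isPGroup_o2 _) ?_
    refine le_trans ?_ (normalizer_le_normalizer_o2 _)
    refine le_normalizer_of_forall fun g hg c hc => ?_
    rw [mem_centralizer_iff] at hc ⊢
    intro v hv
    have hv' : g⁻¹ * v * g ∈ V := by
      have := (mem_normalizer_iff.mp (inv_mem hg) v).mp hv
      rwa [inv_inv] at this
    have h3 := hc _ hv'
    calc v * (g * c * g⁻¹) = g * ((g⁻¹ * v * g) * c) * g⁻¹ := by group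
      _ = g * (c * (g⁻¹ * v * g)) * g⁻¹ := by rw [h3]
      _ = g * c * g⁻¹ * v := by group
  exact (h1.trans h2).trans (o2_le_of_sylow h.T_norm h.two h.T_syl')

/-- an element commuting with `z` and another point of `V` centralizes `V` -/
theorem mem_cent (h : Odd T V z) {x r : G} (hr : r ∈ V) (hr1 : r ≠ 1) (hrz : r ≠ z) (h1 : x * z = z * x)
    (h2 : x * r = r * x) : x ∈ centralizer (V : Set G) := by
  rw [mem_centralizer_iff]
  intro v hv
  rcases h.four h.z_mem hr h.z_ne hr1 (Ne.symm hrz) hv with rfl | rfl | rfl | rfl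
  · simp
  · exact h1.symm
  · exact h2.symm
  · rw [mul_assoc, ← h2, ← mul_assoc, ← h1, mul_assoc]

/-- **The Thompson count.** -/
theorem count (h : Odd T V z) {A : Subgroup G} (hAT : A ≤ T) (hA : El A)
    (hmax : ∀ B ≤ T, El B → Nat.card B ≤ Nat.card A) (hAV : ¬ A ≤ centralizer (V : Set G))
    (hcomm : ∀ r ∈ V, ∀ s ∈ V, r ≠ 1 → s ≠ 1 → ∀ a ∈ ws V r, ∀ b ∈ ws V s, a * b = b * a) {r : G}
    (hr : r ∈ V) (hr1 : r ≠ 1) (hrz : r ≠ z) :
    Nat.card (ws V r) * Nat.card ↥(A ⊓ kq V r) ≤ Nat.card ↥(A ⊓ centralizer (V : Set G)) *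
      Nat.card ↥(dd V ⊓ centralizer ((A ⊓ centralizer (V : Set G) : Subgroup G) : Set G)) := by
  obtain ⟨a, ha, haV⟩ := Set.not_subset.mp hAV
  have hrr : r * r = 1 := h.sq r hr
  set s := z * r with hs
  have hsV : s ∈ V := mul_mem h.z_mem hr
  have hs1 : s ≠ 1 := fun e => hrz (by
    rw [hs, mul_eq_one_iff_eq_inv, h.inv_eq hr] at e; exact e.symm)
  have hrs : r ≠ s := fun e => h.z_ne (by
    rw [hs] at e
    exact (mul_eq_right.mp e.symm))
  have hss : s * s = 1 := h.sq s hsV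
  have har : a * r * a⁻¹ = s := move h.toGeo (h.T_le (hAT ha)) (h.T_norm (hAT ha)) haV hr hr1 hrz
  obtain ⟨T₁, h₁⟩ := h.point hr hr1
  obtain ⟨T₂, h₂⟩ := h.point hsV hs1
  set W := ws V r with hW
  set W' := ws V s with hW'
  set D := dd V with hD
  have hcjW : cj a W = W' := by rw [hW, cj_ws, har]
  have hWW' : W ⊓ W' = D := h.inf_eq_dd hr hr1 hsV hs1 hrs
  have hDW : D ≤ W := hWW' ▸ inf_le_left
  have hDW' : D ≤ W' := hWW' ▸ inf_le_right
  have hWc : ∀ x ∈ W, ∀ y ∈ W', x * y = y * x := hcomm r hr s hsV hr1 hs1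
  have hWel : El W := ⟨h₁.ab, fun x hx => h₁.ws_sq hx⟩
  have hW'el : El W' := ⟨h₂.ab, fun x hx => h₂.ws_sq hx⟩
  set A₀ := A ⊓ centralizer (V : Set G) with hA₀
  set AK := A ⊓ kq V r with hAK
  set Y := W ⊔ W' with hY
  have hYel : El Y := hWel.sup hW'el hWc
  have hYT : Y ≤ T := sup_le (ws_le_T h hr hr1) (ws_le_T h hsV hs1)
  -- (a) `|A| ≤ 2 |A₀|`
  have hcardA : Nat.card A ≤ 2 * Nat.card A₀ := by
    classical
    have hmem : ∀ b ∈ A, b ∉ centralizer (V : Set G) → a⁻¹ * b ∈ A₀ := by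
      intro b hb hbV
      refine mem_inf.mpr ⟨A.mul_mem (A.inv_mem ha) hb, ?_⟩
      have hbr : b * r * b⁻¹ = s := move h.toGeo (h.T_le (hAT hb)) (h.T_norm (hAT hb)) hbV hr hr1 hrz
      have haz : a * z = z * a := mem_centralizer_singleton_iff.mp (h.T_le (hAT ha))
      have hbz : b * z = z * b := mem_centralizer_singleton_iff.mp (h.T_le (hAT hb))
      refine mem_cent h hr hr1 hrz ?_ ?_
      · rw [← comm_iff_conj]
        calc a⁻¹ * b * z * (a⁻¹ * b)⁻¹ = a⁻¹ * (b * z * b⁻¹) * a := by group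
          _ = a⁻¹ * (a * z * a⁻¹) * a := by rw [comm_iff_conj.mpr hbz, comm_iff_conj.mpr haz]
          _ = z := by group
      · rw [← comm_iff_conj]
        calc a⁻¹ * b * r * (a⁻¹ * b)⁻¹ = a⁻¹ * (b * r * b⁻¹) * a := by group
          _ = a⁻¹ * (a * r * a⁻¹) * a := by rw [hbr, har]
          _ = r := by group
    let f : A → A₀ × Bool := fun b =>
      if hb : (b : G) ∈ centralizer (V : Set G) then (⟨b, b.2, hb⟩, true)
      else (⟨a⁻¹ * b, hmem b b.2 hb⟩, false)
    have hf : Function.Injective f := by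
      intro b c hbc
      have h1 := congrArg Prod.snd hbc
      have h2 := congrArg (fun p => ((p.1 : A₀) : G)) hbc
      by_cases hb : (b : G) ∈ centralizer (V : Set G)
      · by_cases hc : (c : G) ∈ centralizer (V : Set G)
        · simp only [f, hb, hc, dite_true] at h2
          exact Subtype.ext h2
        · simp only [f, hb, hc, dite_true, dite_false] at h1
          exact absurd h1 (by decide)
      · by_cases hc : (c : G) ∈ centralizer (V : Set G)
        · simp only [f, hb, hc, dite_true, dite_false] at h1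
          exact absurd h1 (by decide)
        · simp only [f, hb, hc, dite_false] at h2
          exact Subtype.ext (mul_left_cancel h2)
    have := Nat.card_le_card_of_injective f hf
    rw [Nat.card_prod, Nat.card_eq_fintype_card (α := Bool), Fintype.card_bool] at this
    omega
  -- (b) `AK` centralizes `D`
  have hKa : ∀ b ∈ AK, b ∈ kq V s := by
    intro b hb
    have h1 : a * b * a⁻¹ = b := comm_iff_conj.mpr (hA.1 a ha b hb.1)
    have h2 := conj_mem_cj (g := a) hb.2
    rw [cj_kq, har, h1] at h2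
    exact h2
  have hKD : ∀ b ∈ AK, ∀ d ∈ D, b * d = d * b := by
    intro b hb d hd
    rcases h.kq_dd hr hr1 hb.2 hd with e | e
    · exact comm_iff_conj.mp e
    · rcases h.kq_dd hsV hs1 (hKa b hb) hd with e' | e'
      · exact comm_iff_conj.mp e'
      · exfalso
        rw [e] at e'
        exact hrs (mul_right_cancel e')
  -- (c) Thompson
  have hThom : Nat.card Y * Nat.card ↥(A ⊓ centralizer (Y : Set G)) ≤
      Nat.card A * Nat.card ↥(Y ⊓ centralizer (A : Set G)) := by
    have hc : ∀ x ∈ Y, ∀ y ∈ A ⊓ centralizer (Y : Set G), x * y = y * x := fun x hx y hy =>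
      mem_centralizer_iff.mp hy.2 x hx
    have hel : El (A ⊓ centralizer (Y : Set G)) :=
      ⟨fun x hx y hy => hA.1 x hx.1 y hy.1, fun x hx => hA.2 x hx.1⟩
    have h1 := card_comm hc
    have h2 : Nat.card ↥(Y ⊔ (A ⊓ centralizer (Y : Set G))) ≤ Nat.card A :=
      hmax _ (sup_le hYT (inf_le_left.trans hAT)) (hYel.sup hel hc)
    have h3 : Nat.card ↥(Y ⊓ (A ⊓ centralizer (Y : Set G))) ≤ Nat.card ↥(Y ⊓ centralizer (A : Set G)) := by
      refine card_le_of_le (fun x hx => mem_inf.mpr ⟨hx.1, mem_centralizer_iff.mpr fun y hy => ?_⟩)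
      exact hA.1 y hy x hx.2.1
    rw [← h1]
    exact Nat.mul_le_mul h2 h3
  -- (d)
  have hKW : Nat.card ↥(AK ⊓ centralizer (W : Set G)) ≤ Nat.card ↥(A ⊓ centralizer (Y : Set G)) := by
    refine card_le_of_le (fun b hb => mem_inf.mpr ⟨hb.1.1, ?_⟩)
    have hbW := mem_centralizer_iff.mp hb.2
    rw [mem_centralizer_iff]
    have hbW' : ∀ x ∈ W', x * b = b * x := by
      intro x hx
      rw [← hcjW, mem_cj] at hx
      have h3 := hbW _ hx
      have h1 : a * b * a⁻¹ = b := comm_iff_conj.mpr (hA.1 a ha b hb.1.1)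
      calc x * b = x * (a * b * a⁻¹) := by rw [h1]
        _ = a * ((a⁻¹ * x * a) * b) * a⁻¹ := by group
        _ = a * (b * (a⁻¹ * x * a)) * a⁻¹ := by rw [h3]
        _ = (a * b * a⁻¹) * x := by group
        _ = b * x := by rw [h1]
    intro y hy
    obtain ⟨x, hx, x', hx', rfl⟩ := mem_sup_of_comm hWc hy
    rw [mul_assoc, hbW' x' hx', ← mul_assoc, hbW x hx, mul_assoc]
  -- (e) `|C_Y(A)| |D| ≤ |C_W(AK)| |C_D(A)|`
  have hCY : Nat.card ↥(Y ⊓ centralizer (A : Set G)) * Nat.card D ≤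
      Nat.card ↥(W ⊓ centralizer (AK : Set G)) * Nat.card ↥(D ⊓ centralizer (A : Set G)) := by
    set CY := Y ⊓ centralizer (A : Set G) with hCYd
    set CW := W ⊓ centralizer (AK : Set G) with hCWd
    have hYW' : ∀ x ∈ Y, ∀ y ∈ W', x * y = y * x := fun x hx y hy =>
      hYel.1 x hx y ((le_sup_right : W' ≤ Y) hy)
    have h1 := card_comm (X := CY) (Y := W') (fun x hx y hy => hYW' x hx.1 y hy)
    have h2 := card_comm (X := CW) (Y := W') (fun x hx y hy => hWc x hx.1 y hy)
    have h3 : CW ⊓ W' = D := by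
      refine le_antisymm (fun x hx => ?_) (fun x hx => mem_inf.mpr ⟨mem_inf.mpr ⟨hDW hx,
        mem_centralizer_iff.mpr fun b hb => hKD b hb x hx⟩, hDW' hx⟩)
      rw [← hWW']; exact ⟨hx.1.1, hx.2⟩
    have h4 : CY ⊓ W' ≤ D ⊓ centralizer (A : Set G) := by
      intro x hx
      refine mem_inf.mpr ⟨?_, hx.1.2⟩
      rw [← hWW']
      refine mem_inf.mpr ⟨?_, hx.2⟩
      have h5 : a⁻¹ * x * a = x := by
        have := mem_centralizer_iff.mp hx.1.2 a ha
        rw [mul_assoc, ← this]; group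
      have h6 : x ∈ W' := hx.2
      rw [← hcjW, mem_cj, h5] at h6
      exact h6
    have h5 : CY ⊔ W' ≤ CW ⊔ W' := by
      refine sup_le ?_ le_sup_right
      intro y hy
      obtain ⟨w, hw, w', hw', rfl⟩ := mem_sup_of_comm hWc hy.1
      refine mul_mem ((le_sup_left : CW ≤ _) (mem_inf.mpr ⟨hw, mem_centralizer_iff.mpr fun b hb => ?_⟩))
        ((le_sup_right : W' ≤ _) hw')
      have h6 : b * (w * w') * b⁻¹ = w * w' := comm_iff_conj.mpr (mem_centralizer_iff.mp hy.2 b hb.1)
      have h7 : b * (w * w') * b⁻¹ = (b * w * b⁻¹) * (b * w' * b⁻¹) := by group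
      rw [h7] at h6
      rcases kq_ws h₁.toGeo hb.2 hw with e | e
      · exact comm_iff_conj.mp e
      · exfalso
        rw [e] at h6
        rcases kq_ws h₂.toGeo (hKa b hb) hw' with e' | e'
        · rw [e', mul_assoc] at h6
          exact hr1 (mul_eq_right.mp h6)
        · rw [e'] at h6
          have h8 : r * w * (s * w') = (r * s) * (w * w') := by
            calc r * w * (s * w') = r * (w * s) * w' := by group
              _ = r * (s * w) * w' := by rw [hWc w hw s (h₂.V_le_ws hsV)]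
              _ = (r * s) * (w * w') := by group
          rw [h8] at h6
          have h9 : r * s = 1 := mul_eq_right.mp h6
          exact hrs (by rw [mul_eq_one_iff_eq_inv.mp h9, inv_eq_self hss])
    have h6 : Nat.card ↥(CY ⊔ W') ≤ Nat.card ↥(CW ⊔ W') := card_le_of_le h5
    have h7 : Nat.card ↥(CY ⊓ W') ≤ Nat.card ↥(D ⊓ centralizer (A : Set G)) := card_le_of_le h4
    rw [h3] at h2
    have hW'pos : 0 < Nat.card W' := Nat.card_pos
    refine Nat.le_of_mul_le_mul_right ?_ hW'pos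
    calc Nat.card CY * Nat.card D * Nat.card W' = (Nat.card CY * Nat.card W') * Nat.card D := by ring
      _ = (Nat.card ↥(CY ⊔ W') * Nat.card ↥(CY ⊓ W')) * Nat.card D := by rw [h1]
      _ ≤ (Nat.card ↥(CW ⊔ W') * Nat.card ↥(D ⊓ centralizer (A : Set G))) * Nat.card D :=
        Nat.mul_le_mul_right _ (Nat.mul_le_mul h6 h7)
      _ = (Nat.card ↥(CW ⊔ W') * Nat.card D) * Nat.card ↥(D ⊓ centralizer (A : Set G)) := by ring
      _ = (Nat.card CW * Nat.card W') * Nat.card ↥(D ⊓ centralizer (A : Set G)) := by rw [h2]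
      _ = Nat.card CW * Nat.card ↥(D ⊓ centralizer (A : Set G)) * Nat.card W' := by ring
  -- (f) pairing
  have hpair : Nat.card ↥(AK ⊓ centralizer (W : Set G)) * Nat.card W =
      Nat.card AK * Nat.card ↥(W ⊓ centralizer (AK : Set G)) := by
    refine BTwoD.pairing (z := r) hrr hr1 ?_ ?_ ?_
    · intro b hb
      exact (mem_centralizer_singleton_iff.mp (kq_le V r hb.2)).symm
    · intro w hw
      exact h₁.ab r (h₁.V_le_ws hr) w hw
    · intro b hb w hw
      rcases kq_ws h₁.toGeo hb.2 hw with e | e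
      · exact Or.inl (comm_iff_conj.mp e)
      · right
        rw [mul_inv_eq_iff_eq_mul] at e
        rw [e, mul_assoc]
  -- (g)
  have hCD : 2 * Nat.card ↥(D ⊓ centralizer (A : Set G)) ≤
      Nat.card ↥(D ⊓ centralizer (A₀ : Set G)) := by
    refine two_mul_card_le (y := r) ?_ ?_ ?_
    · intro x hx
      exact mem_inf.mpr ⟨hx.1, mem_centralizer_iff.mpr fun b hb => mem_centralizer_iff.mp hx.2 b hb.1⟩
    · exact mem_inf.mpr ⟨h.V_le_dd hr, mem_centralizer_iff.mpr fun b hb =>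
        (mem_centralizer_iff.mp hb.2 r hr).symm⟩
    · intro hx
      have h1 := mem_centralizer_iff.mp hx.2 a ha
      rw [comm_iff_conj.mpr h1] at har
      exact hrs har
  -- the count
  have hcY : Nat.card Y * Nat.card D = Nat.card W * Nat.card W := by
    have h1 := card_comm hWc
    rw [hWW'] at h1
    have h2 : Nat.card W' = Nat.card W := by rw [← hcjW, card_cj]
    rw [hY, h1, h2]
  have hpos : 0 < Nat.card ↥(W ⊓ centralizer (AK : Set G)) := Nat.card_pos
  refine Nat.le_of_mul_le_mul_right ?_ hpos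
  calc Nat.card W * Nat.card AK * Nat.card ↥(W ⊓ centralizer (AK : Set G)) =
      Nat.card W * (Nat.card AK * Nat.card ↥(W ⊓ centralizer (AK : Set G))) := by ring
    _ = Nat.card W * (Nat.card ↥(AK ⊓ centralizer (W : Set G)) * Nat.card W) := by rw [hpair]
    _ = (Nat.card W * Nat.card W) * Nat.card ↥(AK ⊓ centralizer (W : Set G)) := by ring
    _ = (Nat.card Y * Nat.card D) * Nat.card ↥(AK ⊓ centralizer (W : Set G)) := by rw [hcY]
    _ ≤ (Nat.card Y * Nat.card D) * Nat.card ↥(A ⊓ centralizer (Y : Set G)) :=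
      Nat.mul_le_mul_left _ hKW
    _ = (Nat.card Y * Nat.card ↥(A ⊓ centralizer (Y : Set G))) * Nat.card D := by ring
    _ ≤ (Nat.card A * Nat.card ↥(Y ⊓ centralizer (A : Set G))) * Nat.card D :=
      Nat.mul_le_mul_right _ hThom
    _ = Nat.card A * (Nat.card ↥(Y ⊓ centralizer (A : Set G)) * Nat.card D) := by ring
    _ ≤ (2 * Nat.card A₀) * (Nat.card ↥(W ⊓ centralizer (AK : Set G)) *
        Nat.card ↥(D ⊓ centralizer (A : Set G))) := Nat.mul_le_mul hcardA hCY
    _ = Nat.card A₀ * (2 * Nat.card ↥(D ⊓ centralizer (A : Set G))) *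
        Nat.card ↥(W ⊓ centralizer (AK : Set G)) := by ring
    _ ≤ Nat.card A₀ * Nat.card ↥(D ⊓ centralizer (A₀ : Set G)) *
        Nat.card ↥(W ⊓ centralizer (AK : Set G)) :=
      Nat.mul_le_mul_right _ (Nat.mul_le_mul_left _ hCD)

end Main

end Cfsg.Agent.MinSimple.ThompsonCount
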