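import Cfsg.Agent.MinSimple.Dihedral
import Cfsg.Agent.OddOrderLocal.FitAux
import Cfsg.Agent.Lib.GenFitting
import Cfsg.Agent.S0044

/-!
# Dihedral systems in solvable groups with `O₂ = 1`

`exists_dihedral_of_solvable`: `X` a solvable subgroup of the finite group `Γ` such that `X` has no normal 2-subgroup
`≠ 1`, `A ≤ X` an elementary abelian 2-subgroup of order `2 ^ n`.  Then there are `b j ∈ A`, `y j ∈ X` (`j < n`) with
`y j` of odd prime order, `b j` inverting `y j` and centralizing `y i` for `i ≠ j`.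
-/

set_option autoImplicit false

namespace Cfsg.Agent.MinSimple.DihedOf

open Subgroup Cfsg

variable {Γ : Type*} [Group Γ]

theorem exists_dihedral_of_solvable [Finite Γ] {X A : Subgroup Γ} (hX : Group.IsSolvable X)
    (ho : ∀ N : Subgroup Γ, N ≤ X → IsPGroup 2 N → X ≤ normalizer (N : Set Γ) → N = ⊥) (hAX : A ≤ X)
    (hA : ∀ a ∈ A, a * a = 1) :
    ∃ (n : ℕ) (b y : Fin n → Γ), Nat.card A = 2 ^ n ∧ A = closure (Set.range b) ∧ (∀ j, b j ∈ A) ∧
      (∀ j, y j ∈ X) ∧ (∀ j, (orderOf (y j)).Prime) ∧ (∀ j, orderOf (y j) ≠ 2) ∧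
      (∀ j, b j * y j * (b j)⁻¹ = (y j)⁻¹) ∧ (∀ i j, i ≠ j → b i * y j = y j * b i) ∧
      (∀ i j, y i * y j = y j * y i) ∧
      (∀ a ∈ A, ∀ j, a * y j = y j * a ∨ a * y j * a⁻¹ = (y j)⁻¹) := by
  have hFX := OddOrderLocal.FitAux.fittingOf_le X
  have hFn := OddOrderLocal.FitAux.le_normalizer_fittingOf X
  have hnil := OddOrderLocal.FitAux.isNilpotent_fittingOf X
  have hcent : X ⊓ centralizer (fittingOf X : Set Γ) ≤ fittingOf X := by
    rintro x ⟨hxM, hxC⟩
    have := hX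
    have h : (⟨x, hxM⟩ : X) ∈ centralizer (fittingSubgroup X : Set X) := by
      rw [mem_centralizer_iff]
      intro y hy
      exact Subtype.ext (mem_centralizer_iff.mp hxC y ⟨y, hy, rfl⟩)
    exact ⟨⟨x, hxM⟩, S0044.result h, rfl⟩
  have htwo : ∀ x ∈ fittingOf X, x * x = 1 → x = 1 := by
    rintro _ ⟨x, hx, rfl⟩ hxx
    have : Fact (Nat.Prime 2) := ⟨Nat.prime_two⟩
    have h1 : x ∈ pCore 2 X := Lib.GenFitting.mem_pCore_of_mem_nilpotent_normal
      Lib.Cores.fittingSubgroup_normal Lib.Cores.fittingSubgroup_isNilpotent (k := 1) hx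
      (by rw [pow_one, pow_two]; exact Subtype.ext hxx)
    have h2 := ho ((pCore 2 X).map X.subtype) (map_subtype_le _) ((Lib.Cores.pCore_isPGroup 2).map _)
      (OddOrderLocal.FitAux.le_normalizer_map_subtype (Lib.Cores.pCore_normal 2))
    have h3 : (x : Γ) ∈ (pCore 2 X).map X.subtype := ⟨x, h1, rfl⟩
    rw [h2, mem_bot] at h3
    exact h3
  have hodd : Odd (Nat.card (fittingOf X)) := by
    rw [← Nat.not_even_iff_odd]
    intro he
    have : Fact (Nat.Prime 2) := ⟨Nat.prime_two⟩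
    obtain ⟨x, hx⟩ := exists_prime_orderOf_dvd_card' 2 (even_iff_two_dvd.1 he)
    have h1 : (x : Γ) * x = 1 := by
      have := pow_orderOf_eq_one x
      rw [hx, pow_two] at this
      exact congrArg Subtype.val this
    have h2 := htwo x x.2 h1
    rw [Subtype.ext (a1 := x) (a2 := 1) h2, orderOf_one] at hx
    norm_num at hx
  obtain ⟨n, b, y, hcard, hcl, hb, hy, hp, hinv, hcomm, hyy, hall⟩ :=
    Dihedral.exists_dihedral A (fittingOf X) hA hnil hodd (hAX.trans hFn) (by
      intro a ha hc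
      refine htwo a (hcent ⟨hAX ha, ?_⟩) (hA a ha)
      exact mem_centralizer_iff.mpr fun r hr => (hc r hr).symm)
  refine ⟨n, b, y, hcard, hcl, hb, fun j => hFX (hy j), hp, fun j hj => ?_, hinv, hcomm, hyy, hall⟩
  have h1 : y j * y j = 1 := by
    rw [← pow_two, ← hj]; exact pow_orderOf_eq_one _
  have h2 := htwo _ (hy j) h1
  rw [h2, orderOf_one] at hj
  norm_num at hj

end Cfsg.Agent.MinSimple.DihedOf
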