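import Cfsg.Agent.MinSimple.OddTwoMod
import Cfsg.Agent.MinSimple.OddRep

/-!
# (E1)(b), `s = 2`: the transvections at a point

`Star V z` contains the facts on critical pairs which are proved in `OddTwoStar`.  From it we deduce, for a
point `x`, with the module lemmas of `OddTwoMod`:
`sym_pt` (symmetry), `bn_pt` (the element `a`), `card_pt` (two commuting transvections).
-/

set_option autoImplicit false
set_option linter.unusedSectionVars false

namespace Cfsg.Agent.MinSimple.OddTwoRep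

open Subgroup Cfsg Cfsg.Agent.ZN Cfsg.Agent.MinSimple.Geo Cfsg.Agent.MinSimple.BTwoA
  Cfsg.Agent.MinSimple.OddLine Cfsg.Agent.MinSimple.OddBase Cfsg.Agent.MinSimple.SecRep
  Cfsg.Agent.MinSimple.OddRep Cfsg.Agent.MinSimple.OddTwoDefs Cfsg.Agent.MinSimple.OddTwoMod

universe u

variable {G : Type u} [Group G]

/-- the facts on critical pairs -/
structure Star (V : Subgroup G) (z : G) : Prop where
  s1 : ∀ {x y p : G}, Crit V z 2 x y → Col V x p → Col V p y → ∀ a ∈ ws V x, ∀ b ∈ ws V y,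
    a * b = b * a ∨ a * b = p * (b * a)
  s2 : ∀ {x y : G}, Crit V z 2 x y → ∀ a ∈ ws V x, ∀ a' ∈ ws V x, a ∉ centralizer (ws V y : Set G) →
    a' ∉ centralizer (ws V y : Set G) → a * a' ∈ centralizer (ws V y : Set G)
  s3a : ∀ {x m : G}, Col V x m → ∀ u ∈ tt V 1 m, ∀ a ∈ ws V x, u * a * u⁻¹ = a ∨ u * a * u⁻¹ = m * a
  s3b : ∀ {x m : G}, Col V x m → ∀ u ∈ tt V 1 m, ∀ u' ∈ tt V 1 m, u ∉ centralizer (ws V x : Set G) →
    u' ∉ centralizer (ws V x : Set G) → u * u' ∈ centralizer (ws V x : Set G)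
  s3c : ∀ {x m : G}, Col V x m → ∃ u ∈ tt V 1 m, u ∉ centralizer (ws V x : Set G)

section act

variable {M X : Type u} [AddCommGroup M] [Group X] [DistribMulAction X M]

/-- the action of `X` on `Multiplicative M` -/
def act (M X : Type u) [AddCommGroup M] [Group X] [DistribMulAction X M] : X →* MulAut (Multiplicative M) where
  toFun g := AddEquiv.toMultiplicative (DistribMulAction.toAddEquiv M g)
  map_one' := by
    ext m
    change Multiplicative.ofAdd ((1 : X) • m.toAdd) = m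
    rw [one_smul]; rfl
  map_mul' g k := by
    ext m
    change Multiplicative.ofAdd ((g * k) • m.toAdd) = Multiplicative.ofAdd (g • (k • m.toAdd))
    rw [mul_smul]

theorem act_apply (g : X) (m : M) : act M X g (Multiplicative.ofAdd m) = Multiplicative.ofAdd (g • m) := rfl

end act

variable [Finite G] {T V : Subgroup G} {z x : G} {M X : Type u} [AddCommGroup M] [Group X] [DistribMulAction X M]

/-- an element of `W_x` as an element of `Multiplicative M` -/
def ve (R : Rep V x M X) (a : G) : Multiplicative M := Multiplicative.ofAdd (R.pi a)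

theorem act_ve (R : Rep V x M X) {c a : G} (hc : c ∈ centralizer ({x} : Set G)) (ha : a ∈ ws V x) :
    act M X (R.rho c) (ve R a) = ve R (c * a * c⁻¹) := by
  unfold ve
  rw [act_apply, R.smul_pi c hc a ha]

theorem ve_mul (R : Rep V x M X) {a b : G} (ha : a ∈ ws V x) (hb : b ∈ ws V x) :
    ve R (a * b) = ve R a * ve R b := by
  unfold ve
  rw [R.pi_mul a ha b hb]; rfl

theorem ve_surj (R : Rep V x M X) (m : Multiplicative M) : ∃ a ∈ ws V x, ve R a = m := by
  obtain ⟨a, ha, h⟩ := R.pi_surj m.toAdd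
  exact ⟨a, ha, by unfold ve; rw [h]; rfl⟩

theorem ve_eq (h : Odd T V z) (hx : Pt z x) (R : Rep V x M X) {a b : G} (ha : a ∈ ws V x) (hb : b ∈ ws V x) :
    ve R a = ve R b ↔ a = b ∨ a = x * b := by
  rw [← Rep.pi_eq_pi h hx R ha hb]
  exact Iff.rfl

theorem exists_ctl_rep (h : Odd T V z) (hx : Pt z x) (R : Rep V x M X) : ∃ P, Ctl (act M X).range P := by
  have : Finite M := R.finite_left
  have : Finite (Multiplicative M) := this
  refine exists_ctl (fun m => ?_) _ ?_ ?_
  · exact Rep.two h hx R m.toAdd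
  · have := Rep.isSolvable h hx R
    exact Group.isSolvable_of_surjective (act M X).rangeRestrict_surjective
  · intro N hN hNn hN2
    have hinj : Function.Injective (act M X) := by
      rw [injective_iff_map_eq_one]
      intro g hg
      refine R.faithful g fun m => ?_
      have h1 : act M X g (Multiplicative.ofAdd m) = Multiplicative.ofAdd m := by rw [hg]; rfl
      rw [act_apply] at h1
      exact Multiplicative.ofAdd.injective h1
    have h1 : (N.comap (act M X)).Normal := ⟨fun n hn g => by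
      rw [mem_comap, map_mul, map_mul, map_inv]
      exact hNn _ ⟨g, rfl⟩ _ hn⟩
    have h2 : IsPGroup 2 (N.comap (act M X)) := hN2.comap_of_injective (act M X) hinj
    have h3 := Rep.o2_eq_bot h hx R h1 h2
    rw [eq_bot_iff]
    intro n hn
    obtain ⟨g, rfl⟩ := hN hn
    have h4 : g ∈ N.comap (act M X) := hn
    rw [h3, mem_bot] at h4
    rw [h4, map_one]; exact one_mem _

/-- `tt V 1 m` centralizes the neighbours of `m` -/
theorem tt_comm (h : OddN T V z 2) {x m : G} (hc : Col V x m) {u : G} (hu : u ∈ tt V 1 m) :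
    u ∈ centralizer ({x} : Set G) := by
  have h1 := tt_le_centralizer_ws h (j := 1) (by norm_num) (hc.pt h.toGeo) hu
  refine centralizer_le ?_ h1
  rintro _ rfl
  exact hc.symm.mem_ws

theorem ve_ne_one (h : Odd T V z) (R : Rep V x M X) {m : G} (hc : Col V x m) : ve R m ≠ 1 := fun e =>
  Rep.pi_line_ne_zero h (hc.pt_left h.toGeo) R hc (Multiplicative.ofAdd.injective e)

theorem tv_of (hs : Star V z) (h : OddN T V z 2) {m : G} (hc : Col V x m) (R : Rep V x M X) {u : G}
    (hu : u ∈ tt V 1 m) (hun : u ∉ centralizer (ws V x : Set G)) : Tv (act M X (R.rho u)) (ve R m) := by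
  have hux := tt_comm h hc hu
  have hx : Pt z x := hc.pt_left h.toGeo
  have hsq : ∀ m : Multiplicative M, m * m = 1 := fun m => Rep.two h.toOdd hx R m.toAdd
  refine ⟨fun v => ?_, ?_, ?_⟩
  · obtain ⟨a, ha, rfl⟩ := ve_surj R v
    rw [act_ve R hux ha]
    rcases hs.s3a hc u hu a ha with e | e
    · left; rw [e]
    · right; rw [e, ve_mul R hc.mem_ws ha, comm_of_sq hsq]
  · rw [act_ve R hux hc.mem_ws]
    have h1 := tt_le_centralizer_ws h (j := 1) (by norm_num) (hc.pt h.toGeo) hu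
    have h2 := mem_centralizer_iff.mp h1 m (self_mem_ws h.toGeo (hc.pt h.toGeo))
    rw [← h2, mul_inv_cancel_right]
  · by_contra hcon
    push Not at hcon
    apply hun
    refine mem_centralizer_iff.mpr fun a ha => ?_
    rcases hs.s3a hc u hu a ha with e | e
    · calc a * u = (u * a * u⁻¹) * u := by rw [e]
        _ = u * a := by group
    · exfalso
      have h1 := hcon (ve R a)
      rw [act_ve R hux ha, e, ve_mul R hc.mem_ws ha] at h1
      exact ve_ne_one h.toOdd R hc (mul_eq_right.mp h1)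

theorem notMem_of_ne {u a : G} (ha : a ∈ ws V x) (hu : u * a * u⁻¹ ≠ a) : u ∉ centralizer (ws V x : Set G) := by
  intro h1
  apply hu
  rw [← mem_centralizer_iff.mp h1 a ha, mul_inv_cancel_right]

theorem eq_mul_of_ne (hs : Star V z) {m u a : G} (hc : Col V x m) (hu : u ∈ tt V 1 m) (ha : a ∈ ws V x)
    (hne : u * a * u⁻¹ ≠ a) : u * a * u⁻¹ = m * a := (hs.s3a hc u hu a ha).resolve_left hne

/-- all noncentralizing elements of `tt V 1 m` act in the same way on `ws V x` -/
theorem same (hs : Star V z) {m u u' a : G} (hc : Col V x m) (hu : u ∈ tt V 1 m)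
    (hu' : u' ∈ tt V 1 m) (hun' : u' ∉ centralizer (ws V x : Set G)) (ha : a ∈ ws V x)
    (hne : u * a * u⁻¹ = m * a) : u' * a * u'⁻¹ = m * a := by
  have hun : u ∉ centralizer (ws V x : Set G) := notMem_of_ne ha (by
    rw [hne]; intro e; exact hc.2.1 (mul_eq_right.mp e))
  rcases hs.s3a hc u' hu' a ha with e | e
  · exfalso
    have h1 := hs.s3b hc u hu u' hu' hun hun'
    have h2 := mem_centralizer_iff.mp h1 a ha
    have h3 : u * u' * a * (u * u')⁻¹ = a := by rw [← h2]; group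
    have h4 : u * u' * a * (u * u')⁻¹ = u * (u' * a * u'⁻¹) * u⁻¹ := by group
    rw [h4, e, hne] at h3
    exact hc.2.1 (mul_eq_right.mp h3)
  · exact e

/-- **(SYM)** -/
theorem sym_pt (hs : Star V z) (h : OddN T V z 2) {m m' u v : G} (hm : Col V x m) (hm' : Col V x m')
    (hu : u ∈ tt V 1 m) (hum : u * m' * u⁻¹ ≠ m') (hv : v ∈ tt V 1 m') (hvn : v ∉ centralizer (ws V x : Set G)) :
    v * m * v⁻¹ = m' * m := by
  have hx : Pt z x := hm.pt_left h.toGeo
  refine eq_mul_of_ne hs hm' hv hm.mem_ws fun e => ?_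
  obtain ⟨M, X, _, _, _, ⟨R⟩⟩ := exists_rep h.toOdd hx
  obtain ⟨P, hP⟩ := exists_ctl_rep h.toOdd hx R
  have hun : u ∉ centralizer (ws V x : Set G) := notMem_of_ne hm'.mem_ws hum
  have t1 := tv_of hs h hm R hu hun
  have t2 := tv_of hs h hm' R hv hvn
  have h1 := hP.sym ⟨_, rfl⟩ ⟨_, rfl⟩ t1 t2 (by
    rw [act_ve R (tt_comm h hm hu) hm'.mem_ws, eq_mul_of_ne hs hm hu hm'.mem_ws hum,
      ve_mul R hm.mem_ws hm'.mem_ws]
    intro e
    exact ve_ne_one h.toOdd R hm (mul_eq_right.mp e))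
  apply h1
  rw [act_ve R (tt_comm h hm' hv) hm.mem_ws, e]

/-- **(BN)** -/
theorem bn_pt (hs : Star V z) (h : OddN T V z 2) {m : G} (hm : Col V x m) :
    ∃ a ∈ ws V x, (∀ u ∈ tt V 1 m, u ∉ centralizer (ws V x : Set G) → u * a * u⁻¹ = m * a) ∧
      ∀ g ∈ centralizer ({x} : Set G), g * m * g⁻¹ = m →
        g * a * g⁻¹ ∈ [a, m * a, x * a, x * (m * a)] := by
  have hx : Pt z x := hm.pt_left h.toGeo
  obtain ⟨M, X, _, _, _, ⟨R⟩⟩ := exists_rep h.toOdd hx
  obtain ⟨P, hP⟩ := exists_ctl_rep h.toOdd hx R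
  obtain ⟨u0, hu0, hun0⟩ := hs.s3c hm
  have t1 := tv_of hs h hm R hu0 hun0
  obtain ⟨ξ, hξ, hb⟩ := hP.ex _ ⟨_, rfl⟩ _ t1
  obtain ⟨g0, hg0⟩ := hP.le hξ
  obtain ⟨y, hy, rfl⟩ := R.rho_surj g0
  subst hg0
  have haw : y * m * y⁻¹ ∈ ws V x := R.conj_mem hy hm.mem_ws
  have hva : act M X (R.rho y) (ve R m) = ve R (y * m * y⁻¹) := act_ve R hy hm.mem_ws
  refine ⟨y * m * y⁻¹, haw, ?_, ?_⟩
  · have h0 : u0 * (y * m * y⁻¹) * u0⁻¹ = m * (y * m * y⁻¹) := by
      refine eq_mul_of_ne hs hm hu0 haw fun e => ?_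
      have h1 := hb.tau_xr
      rw [hva, act_ve R (tt_comm h hm hu0) haw, e] at h1
      exact ve_ne_one h.toOdd R hm (mul_eq_right.mp h1.symm)
    exact fun u hu hun => same hs hm hu0 hu hun haw h0
  · intro g hg hgm
    have h1 := hP.conj_xr (g := act M X (R.rho g)) hξ hb.toRTwo ⟨_, rfl⟩ (by
      rw [act_ve R hg hm.mem_ws, hgm])
    rw [hva, act_ve R hg haw, ← ve_mul R hm.mem_ws haw] at h1
    have hgw := R.conj_mem hg haw
    rw [ve_eq h.toOdd hx R hgw haw, ve_eq h.toOdd hx R hgw (mul_mem hm.mem_ws haw)] at h1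
    rcases h1 with (e | e) | (e | e) <;> rw [e] <;> simp

theorem two_mul_card_le (h : Odd T V z) (hx : Pt z x) (R : Rep V x M X) :
    2 * Nat.card M ≤ Nat.card (ws V x) := by
  let f : ws V x →* Multiplicative M :=
    { toFun := fun a => ve R a
      map_one' := by
        change Multiplicative.ofAdd (R.pi ((1 : ws V x) : G)) = 1
        rw [OneMemClass.coe_one, R.pi_one]; rfl
      map_mul' := fun a b => ve_mul R a.2 b.2 }
  have hf : Function.Surjective f := fun m => by
    obtain ⟨a, ha, rfl⟩ := ve_surj R m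
    exact ⟨⟨a, ha⟩, rfl⟩
  have hxw := self_mem_ws h.toGeo hx
  have h1 : Nat.card f.ker * Nat.card (Multiplicative M) = Nat.card (ws V x) := by
    rw [← Subgroup.card_mul_index f.ker, Subgroup.index_ker, MonoidHom.range_eq_top.mpr hf]
    congr 1
    exact (Nat.card_congr (Subgroup.topEquiv (G := Multiplicative M)).toEquiv).symm
  rw [← h1]
  have h2 : 2 ≤ Nat.card f.ker := by
    have h3 : (⟨x, hxw⟩ : ws V x) ∈ f.ker := by
      rw [MonoidHom.mem_ker]
      change Multiplicative.ofAdd (R.pi x) = 1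
      rw [Rep.pi_self h hx R]; rfl
    have h4 : Nontrivial f.ker := ⟨⟨1, ⟨_, h3⟩, fun e => by
      have := congrArg (fun t : f.ker => ((t : ws V x) : G)) e
      exact OddBase.Pt.ne_one h.toGeo hx this.symm⟩⟩
    have : Finite f.ker := inferInstance
    exact Finite.one_lt_card
  exact Nat.mul_le_mul_right _ h2

/-- **(DISJ)** -/
theorem card_pt (hs : Star V z) (h : OddN T V z 2) {m m' : G} (hm : Col V x m) (hm' : Col V x m')
    (hne : m' ≠ m) (hne' : m' ≠ x * m) (hf : ∀ u ∈ tt V 1 m', u * m * u⁻¹ = m) : 32 ≤ Nat.card (ws V x) := by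
  have hx : Pt z x := hm.pt_left h.toGeo
  obtain ⟨M, X, _, _, _, ⟨R⟩⟩ := exists_rep h.toOdd hx
  obtain ⟨P, hP⟩ := exists_ctl_rep h.toOdd hx R
  have : Finite M := R.finite_left
  have : Finite (Multiplicative M) := this
  obtain ⟨u, hu, hun⟩ := hs.s3c hm
  obtain ⟨v, hv, hvn⟩ := hs.s3c hm'
  have t1 := tv_of hs h hm R hu hun
  have t2 := tv_of hs h hm' R hv hvn
  have h1 : 16 ≤ Nat.card (Multiplicative M) := hP.card_le ⟨_, rfl⟩ ⟨_, rfl⟩ t1 t2 (fun e => by
    rw [ve_eq h.toOdd hx R hm'.mem_ws hm.mem_ws] at e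
    rcases e with e | e
    · exact hne e
    · exact hne' e) (by
    rw [act_ve R (tt_comm h hm' hv) hm.mem_ws, hf v hv])
  have h2 : 16 ≤ Nat.card M := h1
  have h3 := two_mul_card_le h.toOdd hx R
  omega

end Cfsg.Agent.MinSimple.OddTwoRep
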