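import Mathlib

/-!
# Core theorem T, case (d): Lemma H

`A` is an elementary abelian 2-group acting on the group `F` of odd order and `b ∈ A` acts non-trivially on `F`.
Then there are a hyperplane `A₁` of `A` with `b ∉ A₁` and an element `y` of prime order of `C_F(A₁)` which is
inverted by `b` (`exists_inverted`).

The proof is elementary: square roots are unique in `F`.
-/

set_option autoImplicit false

namespace Cfsg.Agent.MinSimple.LemmaH

open Subgroup

universe u

variable {G : Type u} [Group G]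

/-- Square roots are unique in a group of odd order. -/
theorem eq_of_sq_eq {F : Subgroup G} (hF : Odd (Nat.card F)) {x y : G} (hx : x ∈ F) (hy : y ∈ F)
    (h : x ^ 2 = y ^ 2) : x = y := by
  obtain ⟨k, hk⟩ := hF
  have key : ∀ z ∈ F, (z ^ 2) ^ (k + 1) = z := by
    intro z hz
    have h1 : z ^ Nat.card F = 1 := by
      have := pow_card_eq_one' (x := (⟨z, hz⟩ : F))
      exact congrArg Subtype.val this
    rw [← pow_mul, show 2 * (k + 1) = (2 * k + 1) + 1 by ring, pow_succ, ← hk, h1, one_mul]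
  rw [← key x hx, ← key y hy, h]

theorem exists_sq_eq {F : Subgroup G} (hF : Odd (Nat.card F)) {x : G} (hx : x ∈ F) :
    ∃ y ∈ F, y ^ 2 = x := by
  obtain ⟨k, hk⟩ := hF
  refine ⟨x ^ (k + 1), pow_mem hx _, ?_⟩
  have h1 : x ^ Nat.card F = 1 := by
    have := pow_card_eq_one' (x := (⟨x, hx⟩ : F))
    exact congrArg Subtype.val this
  rw [← pow_mul, show (k + 1) * 2 = (2 * k + 1) + 1 by ring, pow_succ, ← hk, h1, one_mul]

/-- An element of a group of odd order equal to its inverse is trivial. -/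
theorem eq_one_of_eq_inv {F : Subgroup G} (hF : Odd (Nat.card F)) {x : G} (hx : x ∈ F)
    (h : x = x⁻¹) : x = 1 := by
  refine eq_of_sq_eq hF hx (one_mem _) ?_
  rw [one_pow, pow_two]
  nth_rw 2 [h]
  exact mul_inv_cancel x

/-- `X u X = v` has at most one solution. -/
theorem eq_of_mul_mul_eq {F : Subgroup G} (hF : Odd (Nat.card F)) {x y u : G} (hx : x ∈ F)
    (hy : y ∈ F) (hu : u ∈ F) (h : x * u * x = y * u * y) : x = y := by
  have h1 : (x * u) ^ 2 = (y * u) ^ 2 := by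
    rw [pow_two, pow_two, ← mul_assoc, ← mul_assoc, h]
  exact mul_right_cancel (eq_of_sq_eq hF (mul_mem hx hu) (mul_mem hy hu) h1)

/-- Two commuting involutory automorphisms `a`, `b` of a group of odd order, such that `b` centralises the fixed points
of `a` and of `ab`: then `b` acts trivially. -/
theorem commute_of_four {F : Subgroup G} (hF : Odd (Nat.card F)) {a b : G} (hab : a * b = b * a)
    (hb2 : b ^ 2 = 1) (ha2 : a ^ 2 = 1) (haF : ∀ f ∈ F, a * f * a⁻¹ ∈ F)
    (hbF : ∀ f ∈ F, b * f * b⁻¹ ∈ F)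
    (h1 : ∀ f ∈ F, a * f = f * a → b * f = f * b)
    (h2 : ∀ f ∈ F, a * b * f = f * (a * b) → b * f = f * b) : ∀ f ∈ F, b * f = f * b := by
  have hbb : b * b = 1 := by rw [← pow_two, hb2]
  have haa : a * a = 1 := by rw [← pow_two, ha2]
  have hbi : b⁻¹ = b := inv_eq_of_mul_eq_one_left hbb
  have hai : a⁻¹ = a := inv_eq_of_mul_eq_one_left haa
  -- the elements of `F` inverted by `b` are trivial
  have key : ∀ i ∈ F, b * i * b⁻¹ = i⁻¹ → i = 1 := by
    intro i hi hbi'
    -- the midpoint `g` of `i` and `i^a`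
    obtain ⟨s, hs, hs2⟩ := exists_sq_eq hF (mul_mem (haF i hi) (inv_mem hi))
    set g := s * i with hg
    have hgF : g ∈ F := mul_mem hs hi
    have hgeq : g * i⁻¹ * g = a * i * a⁻¹ := by
      calc g * i⁻¹ * g = s ^ 2 * i := by rw [hg, pow_two]; group
        _ = a * i * a⁻¹ := by rw [hs2]; group
    -- `a` fixes `g`
    have hga : a * g * a⁻¹ = g := by
      refine eq_of_mul_mul_eq hF (haF g hgF) hgF (inv_mem (haF i hi)) ?_
      have h3 : g * (a * i * a⁻¹)⁻¹ * g = i := by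
        rw [← hgeq]; group
      have h4 : a * g * a⁻¹ * (a * i * a⁻¹)⁻¹ * (a * g * a⁻¹) = i := by
        calc a * g * a⁻¹ * (a * i * a⁻¹)⁻¹ * (a * g * a⁻¹) = a * (g * i⁻¹ * g) * a⁻¹ := by group
          _ = a * (a * i * a⁻¹) * a⁻¹ := by rw [hgeq]
          _ = (a * a) * i * (a * a)⁻¹ := by group
          _ = i := by rw [haa]; group
      rw [h3, h4]
    -- `b` inverts `g`
    have hgb : (b * g * b⁻¹)⁻¹ = g := by
      refine eq_of_mul_mul_eq hF (inv_mem (hbF g hgF)) hgF (inv_mem hi) ?_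
      rw [hgeq]
      have h3 : b * (a * i * a⁻¹) * b⁻¹ = (a * i * a⁻¹)⁻¹ := by
        calc b * (a * i * a⁻¹) * b⁻¹ = (b * a) * i * (b * a)⁻¹ := by group
          _ = (a * b) * i * (a * b)⁻¹ := by rw [hab]
          _ = a * (b * i * b⁻¹) * a⁻¹ := by group
          _ = (a * i * a⁻¹)⁻¹ := by rw [hbi']; group
      have h4 : b * i⁻¹ * b⁻¹ = i := by
        calc b * i⁻¹ * b⁻¹ = (b * i * b⁻¹)⁻¹ := by group
          _ = i := by rw [hbi', inv_inv]
      calc (b * g * b⁻¹)⁻¹ * i⁻¹ * (b * g * b⁻¹)⁻¹ =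
          ((b * g * b⁻¹) * i * (b * g * b⁻¹))⁻¹ := by group
        _ = ((b * g * b⁻¹) * (b * i⁻¹ * b⁻¹) * (b * g * b⁻¹))⁻¹ := by rw [h4]
        _ = (b * (g * i⁻¹ * g) * b⁻¹)⁻¹ := by group
        _ = a * i * a⁻¹ := by rw [hgeq, h3, inv_inv]
    have hag : a * g = g * a := by
      have := hga
      calc a * g = (a * g * a⁻¹) * a := by group
        _ = g * a := by rw [hga]
    have hbg := h1 g hgF hag
    have hg1 : g = 1 := by
      refine eq_one_of_eq_inv hF hgF ?_
      have h3 : b * g * b⁻¹ = g := by rw [hbg, mul_assoc, mul_inv_cancel, mul_one]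
      rw [h3] at hgb
      exact hgb.symm
    -- `a` inverts `i`
    have hia : a * i * a⁻¹ = i⁻¹ := by
      rw [← hgeq, hg1]; group
    have h5 : a * b * i = i * (a * b) := by
      calc a * b * i = a * (b * i * b⁻¹) * b := by group
        _ = a * i⁻¹ * b := by rw [hbi']
        _ = (a * i * a⁻¹)⁻¹ * a * b := by group
        _ = i * (a * b) := by rw [hia]; group
    have h6 := h2 i hi h5
    refine eq_one_of_eq_inv hF hi ?_
    rw [← hbi', h6, mul_assoc, mul_inv_cancel, mul_one]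
  intro f hf
  have h3 := key (f⁻¹ * (b * f * b⁻¹)) (mul_mem (inv_mem hf) (hbF f hf)) (by
    calc b * (f⁻¹ * (b * f * b⁻¹)) * b⁻¹ = (b * f * b⁻¹)⁻¹ * (b * b) * f * (b * b)⁻¹ := by group
      _ = (f⁻¹ * (b * f * b⁻¹))⁻¹ := by rw [hbb]; group)
  have h4 : b * f * b⁻¹ = f := by
    calc b * f * b⁻¹ = f * (f⁻¹ * (b * f * b⁻¹)) := by group
      _ = f := by rw [h3, mul_one]
  calc b * f = (b * f * b⁻¹) * b := by group
    _ = f * b := by rw [h4]

/-- **Lemma H.** -/
theorem exists_inverted [Finite G] {A F : Subgroup G} (hAF : A ≤ normalizer (F : Set G))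
    (hAc : ∀ a ∈ A, ∀ b ∈ A, a * b = b * a) (hA2 : ∀ a ∈ A, a ^ 2 = 1)
    (hF : Odd (Nat.card F)) {b : G} (hb : b ∈ A) (hbF : b ∉ centralizer (F : Set G)) :
    ∃ A₁ ≤ A, b ∉ A₁ ∧ A₁.relIndex A = 2 ∧ A₁ ⊔ zpowers b = A ∧
      (∀ a ∈ A, a ∈ A₁ ∨ a * b ∈ A₁) ∧
      ∃ y ∈ F, (orderOf y).Prime ∧ (∀ a ∈ A₁, a * y = y * a) ∧ b * y * b⁻¹ = y⁻¹ := by
  -- choose `A₁` maximal such that `b` acts non-trivially on `C_F(A₁)`
  obtain ⟨A₁, ⟨hA₁A, hA₁b⟩, hmax⟩ := (Set.toFinite
    {B : Subgroup G | B ≤ A ∧ ¬ ∀ f ∈ F, (∀ a ∈ B, a * f = f * a) → b * f = f * b}).exists_maximal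
    ⟨⊥, bot_le, fun h => hbF (mem_centralizer_iff.mpr fun f hf => (h f hf (by
      intro a ha
      rw [mem_bot] at ha
      rw [ha, one_mul, mul_one])).symm)⟩
  have hbA₁ : b ∉ A₁ := fun h => hA₁b fun f _ h1 => h1 b h
  have hbb : b * b = 1 := by rw [← pow_two, hA2 b hb]
  have hbi : b⁻¹ = b := inv_eq_of_mul_eq_one_left hbb
  -- `C = C_F(A₁)`
  set C := F ⊓ centralizer (A₁ : Set G) with hC
  have hCodd : Odd (Nat.card C) := by
    have h1 : Nat.card C ∣ Nat.card F := card_dvd_of_le inf_le_left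
    exact hF.of_dvd_nat h1
  have hconj : ∀ a ∈ A, ∀ f ∈ C, a * f * a⁻¹ ∈ C := by
    rintro a ha f ⟨hf1, hf2⟩
    refine ⟨(mem_normalizer_iff.mp (hAF ha) f).mp hf1, mem_centralizer_iff.mpr fun c hc => ?_⟩
    have h1 := mem_centralizer_iff.mp hf2 c hc
    have h2 := hAc a ha c (hA₁A hc)
    calc c * (a * f * a⁻¹) = (c * a) * f * a⁻¹ := by group
      _ = (a * c) * f * a⁻¹ := by rw [h2]
      _ = a * (c * f) * a⁻¹ := by group
      _ = a * (f * c) * a⁻¹ := by rw [h1]
      _ = a * f * (a * c⁻¹)⁻¹ := by group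
      _ = a * f * (c⁻¹ * a)⁻¹ := by
        have h3 : a * c⁻¹ = c⁻¹ * a := hAc a ha _ (inv_mem (hA₁A hc))
        rw [h3]
      _ = a * f * a⁻¹ * c := by group
  -- `A₁` is a hyperplane
  have hcov : ∀ a ∈ A, a ∈ A₁ ∨ a * b ∈ A₁ := by
    intro a ha
    by_contra hcon
    push Not at hcon
    obtain ⟨ha1, hab1⟩ := hcon
    refine hA₁b fun f hf hfc => ?_
    have hfC : f ∈ C := ⟨hf, mem_centralizer_iff.mpr fun c hc => hfc c hc⟩
    have key : ∀ c ∈ A, c ∉ A₁ → ∀ f ∈ C, c * f = f * c → b * f = f * b := by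
      intro c hc hcA₁ f hf hcf
      by_contra hne
      have hlt : A₁ ⊔ zpowers c ≤ A₁ := hmax (⟨sup_le hA₁A (zpowers_le.mpr hc), fun h => hne
        (h f hf.1 (fun a' ha' => by
          have h1 : A₁ ⊔ zpowers c ≤ centralizer ({f} : Set G) := by
            refine sup_le (fun d hd => ?_) (zpowers_le.mpr ?_)
            · rw [mem_centralizer_singleton_iff]
              exact mem_centralizer_iff.mp hf.2 d hd
            · rw [mem_centralizer_singleton_iff]
              exact hcf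
          exact mem_centralizer_singleton_iff.mp (h1 ha')))⟩) le_sup_left
      exact hcA₁ (hlt (mem_sup_right (mem_zpowers c)))
    exact commute_of_four hCodd (hAc a ha b hb) (hA2 b hb) (hA2 a ha) (hconj a ha) (hconj b hb)
      (key a ha ha1) (key (a * b) (mul_mem ha hb) hab1) f hfC
  refine ⟨A₁, hA₁A, hbA₁, ?_, ?_, hcov, ?_⟩
  · change (A₁.subgroupOf A).index = 2
    rw [index_eq_two_iff]
    refine ⟨⟨b, hb⟩, fun a => ?_⟩
    rw [mem_subgroupOf, mem_subgroupOf]
    change Xor ((a : G) * b ∈ A₁) ((a : G) ∈ A₁)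
    rcases hcov a a.2 with h1 | h1
    · exact Or.inr ⟨h1, fun h2 => hbA₁ (by
        have := mul_mem (inv_mem h1) h2
        rwa [inv_mul_cancel_left] at this)⟩
    · exact Or.inl ⟨h1, fun h2 => hbA₁ (by
        have := mul_mem (inv_mem h2) h1
        rwa [inv_mul_cancel_left] at this)⟩
  · refine le_antisymm (sup_le hA₁A (zpowers_le.mpr hb)) fun a ha => ?_
    rcases hcov a ha with h1 | h1
    · exact mem_sup_left h1
    · have h2 : a = (a * b) * b⁻¹ := by group
      rw [h2]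
      exact mul_mem (mem_sup_left h1) (mem_sup_right (inv_mem (mem_zpowers b)))
  · push Not at hA₁b
    obtain ⟨f, hf, hfc, hbf⟩ := hA₁b
    have hfC : f ∈ C := ⟨hf, mem_centralizer_iff.mpr fun c hc => hfc c hc⟩
    set i := f⁻¹ * (b * f * b⁻¹) with hi
    have hiC : i ∈ C := mul_mem (inv_mem hfC) (hconj b hb f hfC)
    have hi1 : i ≠ 1 := by
      intro h
      refine hbf ?_
      have h4 : b * f * b⁻¹ = f := by
        calc b * f * b⁻¹ = f * i := by rw [hi]; group
          _ = f := by rw [h, mul_one]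
      calc b * f = (b * f * b⁻¹) * b := by group
        _ = f * b := by rw [h4]
    have hib : b * i * b⁻¹ = i⁻¹ := by
      calc b * i * b⁻¹ = (b * f * b⁻¹)⁻¹ * (b * b) * f * (b * b)⁻¹ := by rw [hi]; group
        _ = i⁻¹ := by rw [hbb, hi]; group
    -- a power of prime order
    have ho1 : orderOf i ≠ 1 := fun h => hi1 (orderOf_eq_one_iff.mp h)
    set p := (orderOf i).minFac with hp
    have hpp : p.Prime := Nat.minFac_prime ho1
    have hdvd : p ∣ orderOf i := Nat.minFac_dvd _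
    obtain ⟨m, hm⟩ := hdvd
    have hpos : 0 < orderOf i := orderOf_pos i
    have hm0 : m ≠ 0 := by
      rintro rfl
      rw [mul_zero] at hm
      omega
    have hord : orderOf (i ^ m) = p := by
      rw [orderOf_pow' i hm0]
      rw [hm, Nat.gcd_mul_left_left, Nat.mul_div_cancel _ (Nat.pos_of_ne_zero hm0)]
    refine ⟨i ^ m, pow_mem hiC.1 m, hord ▸ hpp, fun a ha => ?_, ?_⟩
    · exact mem_centralizer_iff.mp (pow_mem hiC m : i ^ m ∈ C).2 a ha
    · rw [← conj_pow, hib, inv_pow]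

end Cfsg.Agent.MinSimple.LemmaH
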