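import Mathlib
import Cfsg.Agent.MinSimple.LemmaH

/-!
# Transvections in solvable groups of automorphisms of an elementary abelian 2-group

`M` is an elementary abelian 2-group, `J` a group of automorphisms of `M` with a normal subgroup `F` of odd order
containing its centralizer in `J`. `Tv b r`: `b` is a transvection with centre `r`.

* `Ctx.uc`: a centre has only one transvection in `J`;
* `Ctx.comm_iff`: commuting transvections;
* `Blk`, `Ctx.exists_blk`: each transvection lies in an `S₃`;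
* `Ctx.blk_eq`: blocks with a common point are equal; `Ctx.disj`: disjoint blocks commute.
-/

set_option autoImplicit false

namespace Cfsg.Agent.MinSimple.TvMod

open Subgroup

variable {M : Type*} [CommGroup M]

/-- `b` is a transvection with centre `r` -/
def Tv (b : MulAut M) (r : M) : Prop := r ≠ 1 ∧ b r = r ∧ (∀ m, b m = m ∨ b m = m * r) ∧ ∃ m, b m ≠ m

structure Ctx (J F : Subgroup (MulAut M)) : Prop where
  sq : ∀ m : M, m * m = 1
  F_le : F ≤ J
  norm : ∀ j ∈ J, ∀ f ∈ F, j * f * j⁻¹ ∈ F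
  odd : Odd (Nat.card F)
  cent : ∀ j ∈ J, (∀ f ∈ F, j * f = f * j) → j ∈ F

theorem Tv.ne_one {b : MulAut M} {r : M} (h : Tv b r) : b ≠ 1 := by
  obtain ⟨-, -, -, m, hm⟩ := h
  rintro rfl
  exact hm rfl

theorem Tv.unique {b : MulAut M} {r r' : M} (h : Tv b r) (h' : Tv b r') : r = r' := by
  obtain ⟨-, -, h3, m, hm⟩ := h
  obtain ⟨-, -, h3', -⟩ := h'
  have e1 := (h3 m).resolve_left hm
  have e2 := (h3' m).resolve_left hm
  exact mul_left_cancel (e1.symm.trans e2)

theorem Tv.conj {b : MulAut M} {r : M} (h : Tv b r) (g : MulAut M) : Tv (g * b * g⁻¹) (g r) := by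
  obtain ⟨h1, h2, h3, m, hm⟩ := h
  refine ⟨fun e => h1 (by simpa using e), ?_, fun n => ?_, g m, ?_⟩
  · rw [MulAut.mul_apply, MulAut.mul_apply, MulAut.inv_apply_self, h2]
  · rw [MulAut.mul_apply, MulAut.mul_apply]
    rcases h3 (g⁻¹ n) with e | e
    · left; rw [e, MulAut.apply_inv_self]
    · right; rw [e, map_mul, MulAut.apply_inv_self]
  · rw [MulAut.mul_apply, MulAut.mul_apply, MulAut.inv_apply_self]
    exact fun e => hm (g.injective e)

/-- the elements acting trivially on `M / ⟨r⟩` and on `⟨r⟩` -/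
def Tr (b : MulAut M) (r : M) : Prop := b r = r ∧ ∀ m, b m = m ∨ b m = m * r

theorem Tv.tr {b : MulAut M} {r : M} (h : Tv b r) : Tr b r := ⟨h.2.1, h.2.2.1⟩

theorem Tr.mul {b c : MulAut M} {r : M} (hsq : ∀ m : M, m * m = 1) (hb : Tr b r) (hc : Tr c r) :
    Tr (b * c) r := by
  refine ⟨by rw [MulAut.mul_apply, hc.1, hb.1], fun m => ?_⟩
  rw [MulAut.mul_apply]
  rcases hc.2 m with e | e <;> rcases hb.2 m with e' | e'
  · left; rw [e, e']
  · right; rw [e, e']
  · right; rw [e, map_mul, e', hb.1]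
  · left; rw [e, map_mul, e', hb.1, mul_assoc, hsq, mul_one]

theorem Tr.mul_self {b : MulAut M} {r : M} (hsq : ∀ m : M, m * m = 1) (hb : Tr b r) : b * b = 1 := by
  ext m
  rw [MulAut.mul_apply, MulAut.one_apply]
  rcases hb.2 m with e | e
  · rw [e, e]
  · rw [e, map_mul, hb.1, e, mul_assoc, hsq, mul_one]

theorem Tr.inv {b : MulAut M} {r : M} (hsq : ∀ m : M, m * m = 1) (hb : Tr b r) : Tr b⁻¹ r := by
  rw [inv_eq_of_mul_eq_one_left (hb.mul_self hsq)]; exact hb

theorem Tr.tv {b : MulAut M} {r : M} (hb : Tr b r) (hr : r ≠ 1) (h1 : b ≠ 1) : Tv b r := by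
  refine ⟨hr, hb.1, hb.2, ?_⟩
  by_contra hcon
  push Not at hcon
  exact h1 (MulEquiv.ext hcon)

namespace Ctx

variable {J F : Subgroup (MulAut M)}

theorem eq_one_of_sq (h : Ctx J F) {f : MulAut M} (hf : f ∈ F) (h2 : f * f = 1) : f = 1 := by
  refine LemmaH.eq_one_of_eq_inv h.odd hf ?_
  exact (inv_eq_of_mul_eq_one_left h2).symm

/-- an element of `F` fixing the centre of a transvection commutes with it -/
theorem comm_of_fix (h : Ctx J F) {b f : MulAut M} {r : M} (hbJ : b ∈ J) (hb : Tv b r) (hf : f ∈ F)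
    (hfr : f r = r) : b * f = f * b := by
  have h1 := (hb.conj f).tr
  rw [hfr] at h1
  have h2 : f * b * f⁻¹ * b⁻¹ ∈ F := by
    have h3 := h.norm b hbJ f⁻¹ (inv_mem hf)
    have h4 : f * (b * f⁻¹ * b⁻¹) ∈ F := mul_mem hf h3
    have e : f * (b * f⁻¹ * b⁻¹) = f * b * f⁻¹ * b⁻¹ := by group
    rwa [e] at h4
  have h3 := (h1.mul h.sq (hb.tr.inv h.sq)).mul_self h.sq
  have h4 := h.eq_one_of_sq h2 h3
  calc b * f = (f * b * f⁻¹ * b⁻¹)⁻¹ * (f * b) := by group
    _ = f * b := by rw [h4]; group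

theorem not_mem_F (h : Ctx J F) {b : MulAut M} {r : M} (hb : Tv b r) : b ∉ F :=
  fun hf => hb.ne_one (h.eq_one_of_sq hf (hb.tr.mul_self h.sq))

/-- **a centre has only one transvection** -/
theorem uc (h : Ctx J F) {b b' : MulAut M} {r : M} (hbJ : b ∈ J) (hb'J : b' ∈ J) (hb : Tv b r)
    (hb' : Tv b' r) : b = b' := by
  by_contra hne
  have hb2 := hb.tr.mul_self h.sq
  have hb'2 := hb'.tr.mul_self h.sq
  have h1 := hb'.tr.mul h.sq hb.tr
  have hb'b2 := h1.mul_self h.sq
  have hbi : b⁻¹ = b := inv_eq_of_mul_eq_one_left hb2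
  have hb'i : b'⁻¹ = b' := inv_eq_of_mul_eq_one_left hb'2
  have hcomm : b' * b = b * b' := by
    calc b' * b = (b' * b)⁻¹ := (inv_eq_of_mul_eq_one_left hb'b2).symm
      _ = b * b' := by rw [mul_inv_rev, hbi, hb'i]
  have hfix : ∀ {c f : MulAut M}, Tv c r → f ∈ F → c * f = f * c → b * f = f * b := by
    intro c f hc hf hcf
    have h2 := hc.conj f
    have e : f * c * f⁻¹ = c := by rw [← hcf]; group
    rw [e] at h2
    exact h.comm_of_fix hbJ hb hf (h2.unique hc)
  have h2 : Tv (b' * b) r := h1.tv hb.1 (fun e => hne (by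
    have := inv_eq_of_mul_eq_one_right e
    rw [hb'i] at this; exact this.symm))
  have h3 := LemmaH.commute_of_four h.odd (a := b') (b := b) hcomm (by rw [pow_two, hb2])
    (by rw [pow_two, hb'2]) (h.norm b' hb'J) (h.norm b hbJ) (fun f hf => hfix hb' hf)
    (fun f hf => hfix h2 hf)
  exact h.not_mem_F hb (h.cent b hbJ h3)

/-- two transvections of `J` commute iff one of them fixes the centre of the other -/
theorem comm_iff (h : Ctx J F) {b c : MulAut M} {r s : M} (hbJ : b ∈ J) (hcJ : c ∈ J) (hb : Tv b r)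
    (hc : Tv c s) : b * c = c * b ↔ b s = s := by
  constructor
  · intro e
    have h1 := hc.conj b
    rw [e, mul_inv_cancel_right] at h1
    exact h1.unique hc
  · intro e
    have h1 := hc.conj b
    rw [e] at h1
    have h2 := h.uc (mul_mem (mul_mem hbJ hcJ) (inv_mem hbJ)) hcJ h1 hc
    calc b * c = (b * c * b⁻¹) * b := by group
      _ = c * b := by rw [h2]

theorem symm_fix (h : Ctx J F) {b c : MulAut M} {r s : M} (hbJ : b ∈ J) (hcJ : c ∈ J) (hb : Tv b r)
    (hc : Tv c s) (e : b s = s) : c r = r :=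
  (h.comm_iff hcJ hbJ hc hb).mp ((h.comm_iff hbJ hcJ hb hc).mpr e).symm

theorem symm_move (h : Ctx J F) {b c : MulAut M} {r s : M} (hbJ : b ∈ J) (hcJ : c ∈ J) (hb : Tv b r)
    (hc : Tv c s) (e : b s = s * r) : c r = r * s := by
  refine (hc.2.2.1 r).resolve_left fun e' => ?_
  rw [h.symm_fix hcJ hbJ hc hb e'] at e
  exact hb.1 (by simpa using e.symm)

end Ctx

/-- `b`, `c` generate an `S₃` with product in `F` -/
structure Blk (J F : Subgroup (MulAut M)) (b c : MulAut M) (r s : M) : Prop where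
  bJ : b ∈ J
  cJ : c ∈ J
  tb : Tv b r
  tc : Tv c s
  bs : b s = s * r
  cr : c r = r * s
  mem : b * c ∈ F

namespace Ctx

variable {J F : Subgroup (MulAut M)}

theorem Tv_inv (h : Ctx J F) {b : MulAut M} {r : M} (hb : Tv b r) : b⁻¹ = b :=
  inv_eq_of_mul_eq_one_left (hb.tr.mul_self h.sq)

theorem exists_blk (h : Ctx J F) {b : MulAut M} {r : M} (hbJ : b ∈ J) (hb : Tv b r) :
    ∃ c s, Blk J F b c r s := by
  have h1 : ¬ ∀ f ∈ F, b * f = f * b := fun e => h.not_mem_F hb (h.cent b hbJ e)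
  push Not at h1
  obtain ⟨y, hy, hby⟩ := h1
  have hyJ := h.F_le hy
  have hc := hb.conj y
  have hcJ : y * b * y⁻¹ ∈ J := mul_mem (mul_mem hyJ hbJ) (inv_mem hyJ)
  have hmem : b * (y * b * y⁻¹) ∈ F := by
    have h2 := h.norm b hbJ y hy
    have h3 := mul_mem h2 (inv_mem hy)
    have e : b * y * b⁻¹ * y⁻¹ = b * (y * b * y⁻¹) := by rw [h.Tv_inv hb]; group
    rwa [e] at h3
  have hbs : b (y r) = y r * r := by
    refine (hb.2.2.1 (y r)).resolve_left fun e => hby ?_
    have h2 := (h.comm_iff hbJ hcJ hb hc).mpr e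
    have h3 : b * (y * b * y⁻¹) = 1 := by
      refine h.eq_one_of_sq hmem ?_
      calc b * (y * b * y⁻¹) * (b * (y * b * y⁻¹)) =
          b * ((y * b * y⁻¹) * b) * (y * b * y⁻¹) := by group
        _ = (b * b) * ((y * b * y⁻¹) * (y * b * y⁻¹)) := by rw [← h2]; group
        _ = 1 := by rw [hb.tr.mul_self h.sq, hc.tr.mul_self h.sq, one_mul]
    calc b * y = b * (y * b * y⁻¹) * y * b⁻¹ := by group
      _ = y * b⁻¹ := by rw [h3, one_mul]
      _ = y * b := by rw [h.Tv_inv hb]
  exact ⟨_, _, hbJ, hcJ, hb, hc, hbs, h.symm_move hbJ hcJ hb hc hbs, hmem⟩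

end Ctx

namespace Blk

variable {J F : Subgroup (MulAut M)} {b c : MulAut M} {r s : M}

theorem symm (h : Ctx J F) (k : Blk J F b c r s) : Blk J F c b s r :=
  ⟨k.cJ, k.bJ, k.tc, k.tb, k.cr, k.bs, by
    have := inv_mem k.mem
    rwa [mul_inv_rev, h.Tv_inv k.tb, h.Tv_inv k.tc] at this⟩

theorem ne (k : Blk J F b c r s) : s ≠ r := by
  intro e
  have := k.bs
  rw [e, k.tb.2.1] at this
  exact k.tb.1 (by simpa using this.symm)

/-- the third transvection -/
theorem third (h : Ctx J F) (k : Blk J F b c r s) : Blk J F b (b * c * b⁻¹) r (s * r) := by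
  have h1 := k.tc.conj b
  rw [k.bs] at h1
  have hJ : b * c * b⁻¹ ∈ J := mul_mem (mul_mem k.bJ k.cJ) (inv_mem k.bJ)
  have h2 : b (s * r) = s * r * r := by
    rw [map_mul, k.bs, k.tb.2.1]
  refine ⟨k.bJ, hJ, k.tb, h1, h2, h.symm_move k.bJ hJ k.tb h1 h2, ?_⟩
  have h3 := (k.symm h).mem
  have e : b * (b * c * b⁻¹) = c * b := by
    have hbb := k.tb.tr.mul_self h.sq
    calc b * (b * c * b⁻¹) = (b * b) * c * b⁻¹ := by group
      _ = c * b := by rw [hbb, h.Tv_inv k.tb, one_mul]
  rwa [e]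

theorem conj (h : Ctx J F) (k : Blk J F b c r s) {g : MulAut M} (hg : g ∈ J) :
    Blk J F (g * b * g⁻¹) (g * c * g⁻¹) (g r) (g s) := by
  refine ⟨mul_mem (mul_mem hg k.bJ) (inv_mem hg), mul_mem (mul_mem hg k.cJ) (inv_mem hg), k.tb.conj g,
    k.tc.conj g, ?_, ?_, ?_⟩
  · rw [MulAut.mul_apply, MulAut.mul_apply, MulAut.inv_apply_self, k.bs, map_mul]
  · rw [MulAut.mul_apply, MulAut.mul_apply, MulAut.inv_apply_self, k.cr, map_mul]
  · have := h.norm g hg _ k.mem
    have e : g * (b * c) * g⁻¹ = g * b * g⁻¹ * (g * c * g⁻¹) := by group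
    rwa [e] at this

end Blk

namespace Ctx

variable {J F : Subgroup (MulAut M)} {b c b' c' : MulAut M} {r s r' s' : M}

/-- two blocks with a common centre `r` -/
theorem blk_mem (h : Ctx J F) (k : Blk J F b c r s) (k' : Blk J F b c' r s') : s' = s ∨ s' = s * r := by
  by_contra hcon
  push Not at hcon
  obtain ⟨h1, h2⟩ := hcon
  have hbi := h.Tv_inv k.tb
  have hci := h.Tv_inv k.tc
  have hc'i := h.Tv_inv k'.tc
  have hbb := k.tb.tr.mul_self h.sq
  have hcc := k.tc.tr.mul_self h.sq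
  have hc'c' := k'.tc.tr.mul_self h.sq
  -- a product of two commuting transvections in `F`
  have key : ∀ {x : MulAut M} {t : M}, x ∈ J → Tv x t → x * c' ∈ F → c' t = t → t = s' := by
    intro x t hxJ hx hm hf
    have h3 := (h.comm_iff k'.cJ hxJ k'.tc hx).mpr hf
    have h4 : x * c' = 1 := by
      refine h.eq_one_of_sq hm ?_
      calc x * c' * (x * c') = x * (c' * x) * c' := by group
        _ = (x * x) * (c' * c') := by rw [h3]; group
        _ = 1 := by rw [hx.tr.mul_self h.sq, hc'c', one_mul]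
    have h5 : x = c' := by
      calc x = (x * c') * c'⁻¹ := by group
        _ = c' := by rw [h4, hc'i, one_mul]
    rw [h5] at hx
    exact hx.unique k'.tc
  rcases k'.tc.2.2.1 s with e | e
  · refine h1 (key k.cJ k.tc ?_ e).symm
    have h3 := mul_mem (k.symm h).mem k'.mem
    have e1 : c * b * (b * c') = c * c' := by
      calc c * b * (b * c') = c * (b * b) * c' := by group
        _ = c * c' := by rw [hbb, mul_one]
    rwa [e1] at h3
  · have k3 := k.third h
    refine h2 (key k3.cJ k3.tc ?_ ?_).symm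
    · have h3 := mul_mem k.mem k'.mem
      have e1 : b * c * (b * c') = b * c * b⁻¹ * c' := by rw [hbi]; group
      rwa [e1] at h3
    · rw [map_mul, e, k'.cr]
      calc s * s' * (r * s') = s * r * (s' * s') := by
            rw [mul_mul_mul_comm]
        _ = s * r := by rw [h.sq, mul_one]

end Ctx

end Cfsg.Agent.MinSimple.TvMod
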