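import Mathlib
import Cfsg.Agent.MinSimple.TvMod

/-!
# Disjoint blocks and the inequality `|B| |C_M(B)| ≤ |M|`

Notation of `TvMod`. `B ≤ J` has exponent 2.

* `Ctx.blk_hit`: a transvection moving the centre `r` of a block has its centre in the block;
* `Ctx.card_mul_le`: `|B| |C_M(B)| ≤ |M|`;
* `Ctx.mem_fix_of_tv`: if equality holds then `B` is generated by its transvections.
-/

set_option autoImplicit false

namespace Cfsg.Agent.MinSimple.TvMod

open Subgroup

variable {M : Type*} [CommGroup M]

namespace Ctx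

variable {J F : Subgroup (MulAut M)} {b c b' c' : MulAut M} {r s r' s' : M}

theorem blk_hit_aux (h : Ctx J F) (k : Blk J F b c r s) (hb'J : b' ∈ J) (hb' : Tv b' r')
    (hs : b' s = s) (hr : b' r ≠ r) : r' = s ∨ r' = s * r := by
  have e1 : b' r = r * r' := (hb'.2.2.1 r).resolve_left hr
  have e2 : b r' = r' * r := h.symm_move hb'J k.bJ hb' k.tb e1
  have t'' : Tv (b' * b * b'⁻¹) (r * r') := by
    have := k.tb.conj b'
    rwa [e1] at this
  have hJ'' : b' * b * b'⁻¹ ∈ J := mul_mem (mul_mem hb'J k.bJ) (inv_mem hb'J)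
  have ec : b' * c * b'⁻¹ = c := by
    have h1 := k.tc.conj b'
    rw [hs] at h1
    exact h.uc (mul_mem (mul_mem hb'J k.cJ) (inv_mem hb'J)) k.cJ h1 k.tc
  have hmem : b * (b' * b * b'⁻¹) ∈ F := by
    have h1 := (k.symm h).mem
    have h2 := h.norm b' hb'J _ h1
    have h3 := mul_mem (inv_mem h1) h2
    have e : (c * b)⁻¹ * (b' * (c * b) * b'⁻¹) = b * (b' * b * b'⁻¹) := by
      calc (c * b)⁻¹ * (b' * (c * b) * b'⁻¹) = b⁻¹ * c⁻¹ * (b' * c * b'⁻¹) * (b' * b * b'⁻¹) := by group
        _ = b * (b' * b * b'⁻¹) := by rw [ec, h.Tv_inv k.tb]; group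
    rwa [e] at h3
  have e3 : b (r * r') = r * r' * r := by
    rw [map_mul, k.tb.2.1, e2, mul_assoc]
  have k'' : Blk J F b (b' * b * b'⁻¹) r (r * r') :=
    ⟨k.bJ, hJ'', k.tb, t'', e3, h.symm_move k.bJ hJ'' k.tb t'' e3, hmem⟩
  rcases h.blk_mem k k'' with e | e
  · right
    rw [← e, mul_comm r r', mul_assoc, h.sq, mul_one]
  · left
    rw [mul_comm s r] at e
    exact mul_left_cancel e

/-- a transvection moving the centre `r` of the block `{r, s, s r}` has its centre in the block -/
theorem blk_hit (h : Ctx J F) (k : Blk J F b c r s) (hb'J : b' ∈ J) (hb' : Tv b' r')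
    (hr : b' r ≠ r) : r' = s ∨ r' = s * r := by
  by_cases hs : b' s = s
  · exact h.blk_hit_aux k hb'J hb' hs hr
  · have e1 : b' r = r * r' := (hb'.2.2.1 r).resolve_left hr
    have e2 : b' s = s * r' := (hb'.2.2.1 s).resolve_left hs
    have e3 : b' (s * r) = s * r := by
      rw [map_mul, e1, e2]
      calc s * r' * (r * r') = s * r * (r' * r') := by rw [mul_mul_mul_comm]
        _ = s * r := by rw [h.sq, mul_one]
    rcases h.blk_hit_aux (k.third h) hb'J hb' e3 hr with e | e
    · right; exact e
    · left; rw [e, mul_assoc, h.sq, mul_one]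

end Ctx

/-- fixed points -/
def fix (B : Subgroup (MulAut M)) : Subgroup M where
  carrier := {m | ∀ b ∈ B, b m = m}
  one_mem' := fun b _ => map_one b
  mul_mem' := fun {x y} hx hy b hb => by rw [map_mul, hx b hb, hy b hb]
  inv_mem' := fun {x} hx b hb => by rw [map_inv, hx b hb]

theorem mem_fix {B : Subgroup (MulAut M)} {m : M} : m ∈ fix B ↔ ∀ b ∈ B, b m = m := Iff.rfl

theorem fix_anti {A B : Subgroup (MulAut M)} (h : A ≤ B) : fix B ≤ fix A :=
  fun _ hm a ha => hm a (h ha)

/-- a 2-group acting on a nontrivial invariant subgroup of exponent 2 has a nontrivial fixed point there -/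
theorem exists_fix [Finite M] (hsq : ∀ m : M, m * m = 1) {B : Subgroup (MulAut M)}
    (hB : ∀ b ∈ B, b * b = 1) {N : Subgroup M} (hN : ∀ b ∈ B, ∀ n ∈ N, b n ∈ N) (hN1 : N ≠ ⊥) :
    ∃ n ∈ N, n ≠ 1 ∧ n ∈ fix B := by
  have hp : IsPGroup 2 B := fun x => ⟨1, by
    rw [pow_one, pow_two]; exact Subtype.ext (hB x x.2)⟩
  let _ : MulAction B N :=
    { smul := fun b n => ⟨(b : MulAut M) n, hN b b.2 n n.2⟩
      one_smul := fun n => rfl
      mul_smul := fun a b n => rfl }
  have h2 : 2 ∣ Nat.card N := by
    have hpN : IsPGroup 2 N := fun x => ⟨1, by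
      rw [pow_one, pow_two]; exact Subtype.ext (hsq x)⟩
    obtain ⟨k, hk⟩ := IsPGroup.iff_card.mp hpN
    rw [hk]
    rcases k with _ | k
    · exact absurd ((card_eq_one).mp (by rw [hk, pow_zero])) hN1
    · exact dvd_pow_self 2 (Nat.succ_ne_zero k)
  obtain ⟨n, hn, hn1⟩ := hp.exists_fixed_point_of_prime_dvd_card_of_fixed_point N h2
    (a := (1 : N)) (fun b => Subtype.ext (map_one (b : MulAut M)))
  exact ⟨n, n.2, fun e => hn1 (Subtype.ext e.symm), fun b hb => congrArg Subtype.val (hn ⟨b, hb⟩)⟩

/-- the norm map of `y` -/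
noncomputable def nm (y : MulAut M) : M →* M :=
  ∏ i ∈ Finset.range (orderOf y), ((y ^ i : MulAut M) : M ≃* M).toMonoidHom

theorem nm_apply (y : MulAut M) (m : M) :
    nm y m = ∏ i ∈ Finset.range (orderOf y), (y ^ i : MulAut M) m := by
  unfold nm
  rw [MonoidHom.finsetProd_apply]
  rfl

theorem nm_smul [Finite M] (y : MulAut M) (m : M) : nm y (y m) = nm y m := by
  rw [nm_apply, nm_apply]
  have h1 := Finset.prod_range_succ (fun i => (y ^ i : MulAut M) m) (orderOf y)
  have h2 := Finset.prod_range_succ' (fun i => (y ^ i : MulAut M) m) (orderOf y)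
  rw [h1] at h2
  have e0 : (y ^ (orderOf y) : MulAut M) m = (y ^ 0 : MulAut M) m := by
    rw [pow_orderOf_eq_one, pow_zero]
  rw [e0] at h2
  have h3 := mul_right_cancel h2
  rw [h3]
  refine Finset.prod_congr rfl fun i _ => ?_
  rw [pow_succ, MulAut.mul_apply]

theorem nm_of_fix (hsq : ∀ m : M, m * m = 1) {y : MulAut M} (hy : Odd (orderOf y)) {m : M}
    (hm : y m = m) : nm y m = m := by
  rw [nm_apply]
  have h1 : ∀ i : ℕ, (y ^ i : MulAut M) m = m := by
    intro i
    induction i with
    | zero => rfl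
    | succ i ih => rw [pow_succ, MulAut.mul_apply, hm, ih]
  simp only [h1, Finset.prod_const, Finset.card_range]
  obtain ⟨k, hk⟩ := hy
  rw [hk, pow_succ, pow_mul, pow_two, hsq, one_pow, one_mul]

/-- Thompson's `A × B` lemma: `y` of odd order commutes with `B` of exponent 2 and is trivial on `C_M(B)` -/
theorem eq_one_of_fix [Finite M] (hsq : ∀ m : M, m * m = 1) {B : Subgroup (MulAut M)}
    (hB : ∀ b ∈ B, b * b = 1) {y : MulAut M} (hy : Odd (orderOf y)) (hc : ∀ b ∈ B, b * y = y * b)
    (hf : ∀ m ∈ fix B, y m = m) : y = 1 := by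
  have h1 : (nm y).ker = ⊥ := by
    by_contra hne
    obtain ⟨n, hn, hn1, hnf⟩ := exists_fix hsq hB (N := (nm y).ker) (fun b hb n hn => by
      rw [MonoidHom.mem_ker] at hn ⊢
      have hcomm : ∀ i : ℕ, (y ^ i : MulAut M) (b n) = b ((y ^ i : MulAut M) n) := by
        intro i
        have h2 : Commute b y := hc b hb
        have h3 : b * y ^ i = y ^ i * b := (h2.pow_right i).eq
        calc (y ^ i : MulAut M) (b n) = (y ^ i * b) n := rfl
          _ = (b * y ^ i) n := by rw [h3]
          _ = _ := rfl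
      rw [nm_apply] at hn ⊢
      rw [Finset.prod_congr rfl fun i _ => hcomm i, ← map_prod, hn, map_one]) hne
    have h2 := nm_of_fix hsq hy (hf n hnf)
    rw [MonoidHom.mem_ker.mp hn] at h2
    exact hn1 h2.symm
  ext m
  rw [MulAut.one_apply]
  have h2 : m⁻¹ * y m ∈ (nm y).ker := by
    rw [MonoidHom.mem_ker, map_mul, map_inv, nm_smul, inv_mul_cancel]
  rw [h1, mem_bot] at h2
  exact (inv_mul_eq_one.mp h2).symm

theorem two_mul_card_le [Finite M] {A B : Subgroup M} (h : A < B) : 2 * Nat.card A ≤ Nat.card B := by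
  have h1 : Nat.card A ∣ Nat.card B := card_dvd_of_le h.le
  obtain ⟨k, hk⟩ := h1
  have h2 : k ≠ 0 := by
    rintro rfl
    rw [mul_zero] at hk
    exact Nat.card_pos.ne' hk
  have h3 : k ≠ 1 := by
    rintro rfl
    rw [mul_one] at hk
    exact h.ne (eq_of_le_of_card_ge h.le hk.le)
  rw [hk, mul_comm]
  exact Nat.mul_le_mul_left _ (by omega)

theorem card_mul_relIndex' {G : Type*} [Group G] {H K : Subgroup G} (h : H ≤ K) :
    Nat.card H * H.relIndex K = Nat.card K := by
  have := relIndex_mul_relIndex ⊥ H K bot_le h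
  rwa [relIndex_bot_left, relIndex_bot_left] at this

namespace Ctx

variable {J F : Subgroup (MulAut M)}

theorem comm_of_sq {B : Subgroup (MulAut M)} (hB : ∀ b ∈ B, b * b = 1) :
    ∀ a ∈ B, ∀ b ∈ B, a * b = b * a := by
  intro a ha b hb
  have h1 := hB _ (mul_mem ha hb)
  have ea : a⁻¹ = a := inv_eq_of_mul_eq_one_left (hB a ha)
  have eb : b⁻¹ = b := inv_eq_of_mul_eq_one_left (hB b hb)
  calc a * b = (a * b)⁻¹ := (inv_eq_of_mul_eq_one_left h1).symm
    _ = b * a := by rw [mul_inv_rev, ea, eb]

/-- a hyperplane with more fixed points -/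
theorem exists_step [Finite M] (h : Ctx J F) {B : Subgroup (MulAut M)} (hBJ : B ≤ J)
    (hB : ∀ b ∈ B, b * b = 1) (hB1 : B ≠ ⊥) :
    ∃ B₁ ≤ B, Nat.card B = 2 * Nat.card B₁ ∧ fix B < fix B₁ := by
  obtain ⟨b, hb, hb1⟩ := B.bot_or_exists_ne_one.resolve_left hB1
  have hnorm : B ≤ normalizer (F : Set (MulAut M)) := by
    intro a ha
    rw [mem_normalizer_iff]
    intro f
    constructor
    · exact fun hf => h.norm a (hBJ ha) f hf
    · intro hf
      have h1 := h.norm a⁻¹ (inv_mem (hBJ ha)) _ hf
      have e : a⁻¹ * (a * f * a⁻¹) * a⁻¹⁻¹ = f := by group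
      rwa [e] at h1
  have hbF : b ∉ centralizer (F : Set (MulAut M)) := by
    intro hc
    have h1 := h.cent b (hBJ hb) fun f hf => (mem_centralizer_iff.mp hc f hf).symm
    exact hb1 (h.eq_one_of_sq h1 (hB b hb))
  obtain ⟨B₁, hB₁, hbB₁, hrel, -, -, y, hyF, hyp, hyc, hyi⟩ := LemmaH.exists_inverted hnorm
    (comm_of_sq hB) (fun a ha => by rw [pow_two, hB a ha]) h.odd hb hbF
  have hyodd : Odd (orderOf y) := by
    refine h.odd.of_dvd_nat ?_
    have := orderOf_dvd_natCard (⟨y, hyF⟩ : F)
    rwa [orderOf_mk] at this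
  refine ⟨B₁, hB₁, ?_, lt_of_le_of_ne (fix_anti hB₁) fun e => ?_⟩
  · have := card_mul_relIndex' hB₁
    rw [hrel] at this
    rw [← this, mul_comm]
  · -- `b` is trivial on `C_M(B₁)`
    have h1 : ∀ m ∈ fix B₁, b m = m := fun m hm => by
      rw [← e] at hm
      exact hm b hb
    have hyfix : ∀ m ∈ fix B₁, y m ∈ fix B₁ := by
      intro m hm a ha
      calc a (y m) = (a * y) m := rfl
        _ = (y * a) m := by rw [hyc a ha]
        _ = y (a m) := rfl
        _ = y m := by rw [hm a ha]
    have h2 : ∀ m ∈ fix B₁, y (y m) = m := by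
      intro m hm
      have h3 : (b * y * b⁻¹) m = y m := by
        have hbi : b⁻¹ = b := inv_eq_of_mul_eq_one_left (hB b hb)
        rw [hbi]
        calc (b * y * b) m = b (y (b m)) := rfl
          _ = y m := by rw [h1 m hm, h1 _ (hyfix m hm)]
      rw [hyi] at h3
      rw [← h3]
      exact MulAut.apply_inv_self _ y m
    have h3 : ∀ m ∈ fix B₁, y m = m := by
      intro m hm
      obtain ⟨k, hk⟩ := hyodd
      have h4 : ∀ j : ℕ, (y ^ (2 * j) : MulAut M) m = m := by
        intro j
        induction j with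
        | zero => rfl
        | succ j ih =>
          rw [show 2 * (j + 1) = 2 * j + 2 by ring, pow_add, MulAut.mul_apply, pow_two, MulAut.mul_apply,
            h2 m hm, ih]
      have h5 : (y ^ (2 * k + 1) : MulAut M) m = m := by
        rw [← hk, pow_orderOf_eq_one]; rfl
      rw [pow_succ', MulAut.mul_apply, h4] at h5
      exact h5
    have h4 := eq_one_of_fix h.sq (fun a ha => hB a (hB₁ ha)) hyodd hyc h3
    rw [h4, orderOf_one] at hyp
    exact Nat.not_prime_one hyp

/-- **the inequality** -/
theorem card_mul_le [Finite M] (h : Ctx J F) (n : ℕ) : ∀ B : Subgroup (MulAut M), Nat.card B = n →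
    B ≤ J → (∀ b ∈ B, b * b = 1) → Nat.card B * Nat.card (fix B) ≤ Nat.card M := by
  induction n using Nat.strong_induction_on with
  | _ n ih =>
    intro B hn hBJ hB
    by_cases hB1 : B = ⊥
    · rw [hB1, card_bot, one_mul]
      exact card_le_card_group _
    · obtain ⟨B₁, hB₁, hc, hlt⟩ := h.exists_step hBJ hB hB1
      have hpos : 0 < Nat.card B₁ := Nat.card_pos
      have h1 := ih (Nat.card B₁) (by omega) B₁ rfl (hB₁.trans hBJ) fun b hb => hB b (hB₁ hb)
      have h2 := two_mul_card_le hlt
      calc Nat.card B * Nat.card (fix B) = Nat.card B₁ * (2 * Nat.card (fix B)) := by rw [hc]; ring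
        _ ≤ Nat.card B₁ * Nat.card (fix B₁) := Nat.mul_le_mul_left _ h2
        _ ≤ Nat.card M := h1

/-- equality: there is a transvection -/
theorem exists_tv [Finite M] (h : Ctx J F) (n : ℕ) : ∀ B : Subgroup (MulAut M), Nat.card B = n →
    B ≤ J → (∀ b ∈ B, b * b = 1) → B ≠ ⊥ → Nat.card M ≤ Nat.card B * Nat.card (fix B) →
    ∃ b ∈ B, ∃ r, Tv b r := by
  induction n using Nat.strong_induction_on with
  | _ n ih =>
    intro B hn hBJ hB hB1 hM
    obtain ⟨B₁, hB₁, hc, hlt⟩ := h.exists_step hBJ hB hB1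
    have hpos : 0 < Nat.card B₁ := Nat.card_pos
    have h2 := two_mul_card_le hlt
    by_cases hB₁1 : B₁ = ⊥
    · rw [hB₁1, card_bot, mul_one] at hc
      obtain ⟨b, hb, hb1⟩ := B.bot_or_exists_ne_one.resolve_left hB1
      -- `fix B = C_M(b)`
      have hBb : ∀ a ∈ B, a = 1 ∨ a = b := by
        have h3 : zpowers b = B := by
          refine eq_of_le_of_card_ge (zpowers_le.mpr hb) ?_
          rw [hc, Nat.card_zpowers]
          have h4 : orderOf b = 2 := orderOf_eq_prime (by rw [pow_two, hB b hb]) hb1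
          rw [h4]
        intro a ha
        rw [← h3, mem_zpowers_iff] at ha
        obtain ⟨k, rfl⟩ := ha
        rcases Int.even_or_odd' k with ⟨j, rfl | rfl⟩
        · left
          rw [zpow_mul, zpow_ofNat, pow_two, hB b hb, one_zpow]
        · right
          rw [zpow_add, zpow_mul, zpow_ofNat, pow_two, hB b hb, one_zpow, one_mul, zpow_one]
      let φ : M →* M := MonoidHom.mk' (fun m => b m * m⁻¹) fun x y => by
        rw [map_mul, mul_inv]
        exact mul_mul_mul_comm _ _ _ _
      have hφ : ∀ m, φ m = b m * m⁻¹ := fun m => rfl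
      have hker : φ.ker = fix B := by
        ext m
        rw [MonoidHom.mem_ker, hφ, mul_inv_eq_one, mem_fix]
        constructor
        · intro e a ha
          rcases hBb a ha with rfl | rfl
          · rfl
          · exact e
        · exact fun e => e b hb
      have hcard : Nat.card φ.range * Nat.card (fix B) = Nat.card M := by
        rw [← hker, ← index_ker, mul_comm]
        exact card_mul_index _
      have hr2 : Nat.card φ.range ≤ 2 := by
        rw [hc, ← hcard] at hM
        exact Nat.le_of_mul_le_mul_right hM Nat.card_pos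
      obtain ⟨m₀, hm₀⟩ : ∃ m, b m ≠ m := by
        by_contra hcon
        push Not at hcon
        exact hb1 (MulEquiv.ext hcon)
      have hr1 : φ m₀ ≠ 1 := fun e => hm₀ (by rwa [hφ, mul_inv_eq_one] at e)
      have hrange : ∀ m, φ m = 1 ∨ φ m = φ m₀ := by
        intro m
        by_contra hcon
        push Not at hcon
        classical
        have h5 : (({1, φ m₀, φ m} : Finset M) : Set M) ⊆ (φ.range : Set M) := by
          intro x hx
          simp only [Finset.coe_insert, Finset.coe_singleton, Set.mem_insert_iff, Set.mem_singleton_iff] at hx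
          rcases hx with rfl | rfl | rfl
          · exact one_mem _
          · exact ⟨_, rfl⟩
          · exact ⟨_, rfl⟩
        have h6 : (({1, φ m₀, φ m} : Finset M) : Set M).ncard ≤ (φ.range : Set M).ncard :=
          Set.ncard_le_ncard h5 (Set.toFinite _)
        rw [Set.ncard_coe_finset] at h6
        have h7 : ({1, φ m₀, φ m} : Finset M).card = 3 := by
          rw [Finset.card_eq_three]
          exact ⟨_, _, _, hr1.symm, hcon.1.symm, hcon.2.symm, rfl⟩
        rw [h7] at h6
        have h8 : (φ.range : Set M).ncard = Nat.card φ.range := rfl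
        omega
      refine ⟨b, hb, φ m₀, hr1, ?_, fun m => ?_, m₀, hm₀⟩
      · -- `b r = r`
        have h6 : (φ m₀)⁻¹ = φ m₀ := inv_eq_of_mul_eq_one_left (h.sq _)
        have h7 : b (b m₀) = m₀ := by
          calc b (b m₀) = (b * b) m₀ := rfl
            _ = m₀ := by rw [hB b hb]; rfl
        calc b (φ m₀) = m₀ * (b m₀)⁻¹ := by rw [hφ, map_mul, map_inv, h7]
          _ = (φ m₀)⁻¹ := by rw [hφ, mul_inv_rev, inv_inv]
          _ = φ m₀ := h6
      · rcases hrange m with e | e
        · left
          rwa [hφ, mul_inv_eq_one] at e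
        · right
          rw [← e, hφ, mul_comm, inv_mul_cancel_right]
    · obtain ⟨b, hb, r, hr⟩ := ih (Nat.card B₁) (by omega) B₁ rfl (hB₁.trans hBJ)
        (fun b hb => hB b (hB₁ hb)) hB₁1 (by
          calc Nat.card M ≤ Nat.card B * Nat.card (fix B) := hM
            _ = Nat.card B₁ * (2 * Nat.card (fix B)) := by rw [hc]; ring
            _ ≤ Nat.card B₁ * Nat.card (fix B₁) := Nat.mul_le_mul_left _ h2)
      exact ⟨b, hB₁ hb, r, hr⟩

/-- **equality: `B` is generated by its transvections** (in the form needed) -/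
theorem mem_fix_of_tv [Finite M] (h : Ctx J F) (n : ℕ) : ∀ B : Subgroup (MulAut M), Nat.card B = n →
    B ≤ J → (∀ b ∈ B, b * b = 1) → Nat.card M ≤ Nat.card B * Nat.card (fix B) →
    ∀ m, (∀ b ∈ B, ∀ r, Tv b r → b m = m) → m ∈ fix B := by
  induction n using Nat.strong_induction_on with
  | _ n ih =>
    intro B hn hBJ hB hM m hm
    by_cases hB1 : B = ⊥
    · intro b hb
      rw [hB1, mem_bot] at hb
      rw [hb]; rfl
    obtain ⟨b, hb, r, hr⟩ := h.exists_tv n B hn hBJ hB hB1 hM
    obtain ⟨c, s, k⟩ := h.exists_blk (hBJ hb) hr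
    have hcomm := comm_of_sq hB
    -- the stabiliser of `s` in `B`
    let B' : Subgroup (MulAut M) :=
      { carrier := {a | a ∈ B ∧ a s = s}
        one_mem' := ⟨one_mem _, rfl⟩
        mul_mem' := fun {x y} hx hy => ⟨mul_mem hx.1 hy.1, by rw [MulAut.mul_apply, hy.2, hx.2]⟩
        inv_mem' := fun {x} hx => ⟨inv_mem hx.1, by
          rw [inv_eq_of_mul_eq_one_left (hB x hx.1)]; exact hx.2⟩ }
    have hB'B : B' ≤ B := fun a ha => ha.1
    have hbr : ∀ a ∈ B, a r = r := by
      intro a ha
      have h1 := hr.conj a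
      have e : a * b * a⁻¹ = b := by rw [hcomm a ha b hb, mul_inv_cancel_right]
      rw [e] at h1
      exact h1.unique hr
    have hcases : ∀ a ∈ B, a s = s ∨ a s = s * r := by
      intro a ha
      have h1 := k.conj h (hBJ ha)
      have e : a * b * a⁻¹ = b := by rw [hcomm a ha b hb, mul_inv_cancel_right]
      rw [e, hbr a ha] at h1
      exact h.blk_mem k h1
    have hcov : ∀ a ∈ B, a ∈ B' ∨ b * a ∈ B' := by
      intro a ha
      rcases hcases a ha with e | e
      · exact Or.inl ⟨ha, e⟩
      · refine Or.inr ⟨mul_mem hb ha, ?_⟩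
        rw [MulAut.mul_apply, e, map_mul, k.bs, hr.2.1, mul_assoc, h.sq, mul_one]
    have hbB' : b ∉ B' := fun e => by
      have h1 : b s = s := e.2
      rw [k.bs] at h1
      exact hr.1 (by simpa using h1)
    have hlt : B' < B := lt_of_le_of_ne hB'B fun e => hbB' (e ▸ hb)
    have hcard : Nat.card B ≤ 2 * Nat.card B' := by
      have h1 : B'.relIndex B ≤ 2 := by
        by_contra hcon
        have h2 : (B'.subgroupOf B).index ≤ 2 := by
          by_cases h3 : (B'.subgroupOf B).index = 2
          · exact h3.le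
          · have h4 : (B'.subgroupOf B).index = 2 := by
              rw [index_eq_two_iff]
              refine ⟨⟨b, hb⟩, fun a => ?_⟩
              rw [xor_iff_iff_not]
              constructor
              · intro h5 h6
                have h5' : (a : MulAut M) * b ∈ B' := h5
                have h6' : (a : MulAut M) ∈ B' := h6
                exact hbB' ((mul_mem_cancel_left h6').mp h5')
              · intro h5
                have h5' : (a : MulAut M) ∉ B' := h5
                have h6 := (hcov a a.2).resolve_left h5'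
                change (a : MulAut M) * b ∈ B'
                rw [hcomm a a.2 b hb]
                exact h6
            exact absurd h4 h3
        exact hcon h2
      have h2 := card_mul_relIndex' hB'B
      rw [← h2, mul_comm]
      exact Nat.mul_le_mul_right _ h1
    have hfix : fix B < fix B' := lt_of_le_of_ne (fix_anti hB'B) fun e => by
      have h1 : s ∈ fix B' := fun a ha => ha.2
      rw [← e] at h1
      exact hbB' ⟨hb, h1 b hb⟩
    have h2 := two_mul_card_le hfix
    have hlt' : Nat.card B' < n := by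
      rw [← hn]
      refine lt_of_le_of_ne (card_le_of_le hB'B) fun e => hlt.ne (eq_of_le_of_card_ge hB'B e.ge)
    have h3 := ih (Nat.card B') hlt' B' rfl (hB'B.trans hBJ) (fun a ha => hB a ha.1) (by
      calc Nat.card M ≤ Nat.card B * Nat.card (fix B) := hM
        _ ≤ 2 * Nat.card B' * Nat.card (fix B) := Nat.mul_le_mul_right _ hcard
        _ = Nat.card B' * (2 * Nat.card (fix B)) := by ring
        _ ≤ Nat.card B' * Nat.card (fix B') := Nat.mul_le_mul_left _ h2) m
      (fun a ha r hr => hm a ha.1 r hr)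
    intro a ha
    rcases hcov a ha with h4 | h4
    · exact h3 a h4
    · have h5 := h3 _ h4
      rw [MulAut.mul_apply] at h5
      have h6 := hm b hb r hr
      have h7 : b (a m) = b m := by rw [h5, h6]
      exact b.injective h7

end Ctx

end Cfsg.Agent.MinSimple.TvMod
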