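import Mathlib
import Cfsg.Agent.MinSimple.TvEq

/-!
# The module theorem for the Thompson group at a point

Notation of `TvMod`, `TvEq`. `Md J F B D ε`: `B ≤ J` is an offender (`|M| ≤ |B| |C_M(B)|`) with `C_M(B) ≤ D`,
`ε ∈ C_M(B)`, the orbit of `ε` generates `M` and meets `D` only in `ε`, and each `d ∈ D` different from `1`, `ε`
is conjugate to `d ε`. Then `|M| = 4` or `M` is the product of two blocks (`Md.main`).
-/

set_option autoImplicit false

namespace Cfsg.Agent.MinSimple.TvMod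

open Subgroup

variable {M : Type*} [CommGroup M]

/-- the four group of `r`, `s` -/
def blk (r s : M) : Subgroup M := zpowers r ⊔ zpowers s

theorem mem_zpowers_iff' (hsq : ∀ m : M, m * m = 1) {r x : M} : x ∈ zpowers r ↔ x = 1 ∨ x = r := by
  constructor
  · intro h
    obtain ⟨k, rfl⟩ := mem_zpowers_iff.mp h
    rcases Int.even_or_odd' k with ⟨j, rfl | rfl⟩
    · left
      rw [zpow_mul, zpow_ofNat, pow_two, hsq, one_zpow]
    · right
      rw [zpow_add, zpow_mul, zpow_ofNat, pow_two, hsq, one_zpow, one_mul, zpow_one]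
  · rintro (rfl | rfl)
    · exact one_mem _
    · exact mem_zpowers _

theorem mem_blk (hsq : ∀ m : M, m * m = 1) {r s x : M} :
    x ∈ blk r s ↔ x = 1 ∨ x = r ∨ x = s ∨ x = s * r := by
  rw [blk, mem_sup]
  constructor
  · rintro ⟨a, ha, b, hb, rfl⟩
    rw [mem_zpowers_iff' hsq] at ha hb
    rcases ha with rfl | rfl <;> rcases hb with rfl | rfl
    · left; rw [one_mul]
    · right; right; left; rw [one_mul]
    · right; left; rw [mul_one]
    · right; right; right; rw [mul_comm]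
  · rintro (rfl | rfl | rfl | rfl)
    · exact ⟨1, one_mem _, 1, one_mem _, one_mul 1⟩
    · exact ⟨_, mem_zpowers _, 1, one_mem _, mul_one _⟩
    · exact ⟨1, one_mem _, _, mem_zpowers _, one_mul _⟩
    · exact ⟨_, mem_zpowers _, _, mem_zpowers _, mul_comm _ _⟩

/-- `r`, `s` are distinct points of a block -/
def Bl (J F : Subgroup (MulAut M)) (r s : M) : Prop := ∃ b c, Blk J F b c r s

/-- `U` is a block -/
def IsBlk (J F : Subgroup (MulAut M)) (U : Subgroup M) : Prop := ∃ r s, Bl J F r s ∧ U = blk r s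

theorem Bl.ne {J F : Subgroup (MulAut M)} {r s : M} (k : Bl J F r s) : s ≠ r := by
  obtain ⟨b, c, k⟩ := k
  exact k.ne

theorem Bl.ne_one {J F : Subgroup (MulAut M)} {r s : M} (k : Bl J F r s) : r ≠ 1 := by
  obtain ⟨b, c, k⟩ := k
  exact k.tb.1

theorem Bl.ne_one' {J F : Subgroup (MulAut M)} {r s : M} (k : Bl J F r s) : s ≠ 1 := by
  obtain ⟨b, c, k⟩ := k
  exact k.tc.1

namespace Ctx

variable {J F : Subgroup (MulAut M)} {r s r' s' x y : M} {U U' : Subgroup M} {b : MulAut M}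

theorem bl_symm (h : Ctx J F) (k : Bl J F r s) : Bl J F s r := by
  obtain ⟨b, c, k⟩ := k
  exact ⟨c, b, k.symm h⟩

theorem bl_third (h : Ctx J F) (k : Bl J F r s) : Bl J F r (s * r) := by
  obtain ⟨b, c, k⟩ := k
  exact ⟨_, _, k.third h⟩

theorem bl_unique (h : Ctx J F) (k : Bl J F r s) (k' : Bl J F r s') : s' = s ∨ s' = s * r := by
  obtain ⟨b, c, k⟩ := k
  obtain ⟨b', c', k'⟩ := k'
  have e : b' = b := h.uc k'.bJ k.bJ k'.tb k.tb
  subst e
  exact h.blk_mem k k'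

theorem at_pt (h : Ctx J F) (hU : IsBlk J F U) (hx : x ∈ U) (hx1 : x ≠ 1) :
    ∃ y, Bl J F x y ∧ U = blk x y := by
  obtain ⟨r, s, k, rfl⟩ := hU
  rw [mem_blk h.sq] at hx
  rcases hx with e | rfl | rfl | rfl
  · exact absurd e hx1
  · exact ⟨s, k, rfl⟩
  · refine ⟨r, h.bl_symm k, ?_⟩
    rw [blk, blk, sup_comm]
  · refine ⟨r, h.bl_symm (h.bl_third k), ?_⟩
    ext m
    rw [mem_blk h.sq, mem_blk h.sq]
    have e1 : r * (s * r) = s := by rw [mul_comm s r, ← mul_assoc, h.sq, one_mul]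
    rw [e1]
    tauto

theorem bl_of_mem (h : Ctx J F) (hU : IsBlk J F U) (hx : x ∈ U) (hx1 : x ≠ 1) (hy : y ∈ U)
    (hy1 : y ≠ 1) (hxy : y ≠ x) : Bl J F x y := by
  obtain ⟨y', k, rfl⟩ := h.at_pt hU hx hx1
  rw [mem_blk h.sq] at hy
  rcases hy with e | e | rfl | rfl
  · exact absurd e hy1
  · exact absurd e hxy
  · exact k
  · exact h.bl_third k

/-- blocks with a common point are equal -/
theorem blk_eq (h : Ctx J F) (hU : IsBlk J F U) (hU' : IsBlk J F U') (hx : x ∈ U) (hx' : x ∈ U')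
    (hx1 : x ≠ 1) : U = U' := by
  obtain ⟨y, k, rfl⟩ := h.at_pt hU hx hx1
  obtain ⟨y', k', rfl⟩ := h.at_pt hU' hx' hx1
  rcases h.bl_unique k k' with rfl | rfl
  · rfl
  · ext m
    rw [mem_blk h.sq, mem_blk h.sq, mul_assoc, h.sq, mul_one]
    tauto

/-- a transvection moving a point of a block lies in the block -/
theorem mem_of_move (h : Ctx J F) (hU : IsBlk J F U) (hx : x ∈ U) (hb : b ∈ J) (hbr : Tv b r)
    (hm : b x ≠ x) : r ∈ U := by
  have hx1 : x ≠ 1 := by rintro rfl; exact hm (map_one b)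
  obtain ⟨y, ⟨b', c', k⟩, rfl⟩ := h.at_pt hU hx hx1
  rw [mem_blk h.sq]
  rcases h.blk_hit k hb hbr hm with e | e
  · exact Or.inr (Or.inr (Or.inl e))
  · exact Or.inr (Or.inr (Or.inr e))

theorem blk_smul (h : Ctx J F) (hU : IsBlk J F U) (hx : x ∈ U) (hb : b ∈ J) (hbx : Tv b x)
    (hy : y ∈ U) (hy1 : y ≠ 1) (hyx : y ≠ x) : b y = y * x := by
  obtain ⟨b', c', k⟩ := h.bl_of_mem hU hx hbx.1 hy hy1 hyx
  have e : b = b' := h.uc hb k.bJ hbx k.tb
  rw [e]
  exact k.bs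

theorem exists_of_cen (h : Ctx J F) (hb : b ∈ J) (hbr : Tv b r) : ∃ U, IsBlk J F U ∧ r ∈ U := by
  obtain ⟨c, s, k⟩ := h.exists_blk hb hbr
  exact ⟨blk r s, ⟨r, s, ⟨b, c, k⟩, rfl⟩, (mem_blk h.sq).mpr (Or.inr (Or.inl rfl))⟩

theorem exists_tv_of_mem (h : Ctx J F) (hU : IsBlk J F U) (hx : x ∈ U) (hx1 : x ≠ 1) :
    ∃ c ∈ J, Tv c x := by
  obtain ⟨y, ⟨b', c', k⟩, rfl⟩ := h.at_pt hU hx hx1
  exact ⟨b', k.bJ, k.tb⟩

theorem exists_other (h : Ctx J F) (hU : IsBlk J F U) (hx : x ∈ U) (hx1 : x ≠ 1) :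
    ∃ y ∈ U, y ≠ 1 ∧ y ≠ x := by
  obtain ⟨y, k, rfl⟩ := h.at_pt hU hx hx1
  exact ⟨y, (mem_blk h.sq).mpr (Or.inr (Or.inr (Or.inl rfl))), k.ne_one', k.ne⟩

theorem isBlk_map (h : Ctx J F) (hU : IsBlk J F U) (hb : b ∈ J) :
    IsBlk J F (U.map (b : M ≃* M).toMonoidHom) := by
  obtain ⟨r, s, ⟨b', c', k⟩, rfl⟩ := hU
  refine ⟨b r, b s, ⟨_, _, k.conj h hb⟩, ?_⟩
  rw [blk, blk, Subgroup.map_sup, MonoidHom.map_zpowers, MonoidHom.map_zpowers]
  rfl

theorem card_blk (h : Ctx J F) (hU : IsBlk J F U) : Nat.card U = 4 := by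
  obtain ⟨r, s, k, rfl⟩ := hU
  have h1 : zpowers r ⊓ zpowers s = ⊥ := by
    rw [eq_bot_iff]
    rintro x ⟨hx, hy⟩
    have hx' : x ∈ zpowers r := hx
    have hy' : x ∈ zpowers s := hy
    rw [mem_zpowers_iff' h.sq] at hx' hy'
    rw [mem_bot]
    rcases hx' with e | e
    · exact e
    · rcases hy' with e' | e'
      · exact e'
      · exact absurd (e'.symm.trans e) k.ne
  have hcard : ∀ x : M, x ≠ 1 → Nat.card (zpowers x) = 2 := fun x hx => by
    rw [Nat.card_zpowers]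
    exact orderOf_eq_prime (by rw [pow_two, h.sq]) hx
  have h3 : Nat.card (zpowers r ⊔ zpowers s : Subgroup M) =
      Nat.card (zpowers r) * Nat.card (zpowers s) := by
    rw [← Nat.card_prod]
    refine (Nat.card_congr (Equiv.ofBijective (fun p : zpowers r × zpowers s =>
      (⟨(p.1 : M) * p.2, mul_mem_sup p.1.2 p.2.2⟩ : (zpowers r ⊔ zpowers s : Subgroup M)))
      ⟨?_, ?_⟩)).symm
    · rintro ⟨⟨a, ha⟩, ⟨b, hb⟩⟩ ⟨⟨a', ha'⟩, ⟨b', hb'⟩⟩ e
      have e1 : a * b = a' * b' := congrArg Subtype.val e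
      have e2 : a'⁻¹ * a = b' * b⁻¹ := by
        rw [eq_mul_inv_iff_mul_eq, mul_assoc, e1, inv_mul_cancel_left]
      have e3 : a'⁻¹ * a ∈ zpowers r ⊓ zpowers s := by
        rw [mem_inf]
        constructor
        · exact mul_mem (inv_mem ha') ha
        · rw [e2]; exact mul_mem hb' (inv_mem hb)
      rw [h1, mem_bot] at e3
      have e4 : a' = a := inv_mul_eq_one.mp e3
      subst e4
      have e5 : b = b' := mul_left_cancel e1
      subst e5
      rfl
    · rintro ⟨x, hx⟩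
      obtain ⟨a, ha, b, hb, rfl⟩ := mem_sup.mp hx
      exact ⟨(⟨a, ha⟩, ⟨b, hb⟩), rfl⟩
  rw [blk, h3, hcard r k.ne_one, hcard s k.ne_one']

/-- transitivity of a block on its points by elements centralising the points of the other blocks -/
theorem exists_move (h : Ctx J F) (hU : IsBlk J F U) (hx : x ∈ U) (hx1 : x ≠ 1) (hy : y ∈ U)
    (hy1 : y ≠ 1) : ∃ g ∈ J, g x = y ∧ ∀ U', IsBlk J F U' → U' ≠ U → ∀ m ∈ U', g m = m := by
  by_cases hxy : y = x
  · exact ⟨1, one_mem _, hxy.symm, fun _ _ _ _ _ => rfl⟩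
  · have h1 : x * y ≠ 1 := by
      intro e
      apply hxy
      calc y = (x * x) * y := by rw [h.sq, one_mul]
        _ = x := by rw [mul_assoc, e, mul_one]
    have h2 : x * y ∈ U := mul_mem hx hy
    obtain ⟨c, hc, hct⟩ := h.exists_tv_of_mem hU h2 h1
    refine ⟨c, hc, ?_, fun U' hU' hne m hm => ?_⟩
    · rw [h.blk_smul hU h2 hc hct hx hx1 (fun e => hy1 (by simpa using e.symm)), ← mul_assoc, h.sq,
        one_mul]
    · by_contra hcm
      exact hne (h.blk_eq hU' hU (h.mem_of_move hU' hm hc hct hcm) h2 h1)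

end Ctx

/-- the situation at a point -/
structure Md (J F B : Subgroup (MulAut M)) (D : Subgroup M) (ε : M) : Prop extends Ctx J F where
  BJ : B ≤ J
  B2 : ∀ b ∈ B, b * b = 1
  off : Nat.card M ≤ Nat.card B * Nat.card (fix B)
  B1 : B ≠ ⊥
  fixD : fix B ≤ D
  εB : ε ∈ fix B
  ε1 : ε ≠ 1
  L : ∀ g ∈ J, g ε ∈ D → g ε = ε
  T : ∀ d ∈ D, d ≠ 1 → d ≠ ε → ∃ g ∈ J, g d = d * ε
  gen : ∀ N : Subgroup M, (∀ g ∈ J, g ε ∈ N) → N = ⊤

/-- two blocks with a centre of `B` -/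
structure Two (J F B : Subgroup (MulAut M)) (D : Subgroup M) (ε : M) (v v' : M) (U U' : Subgroup M) :
    Prop extends Md J F B D ε where
  bU : IsBlk J F U
  bU' : IsBlk J F U'
  vU : v ∈ U
  vU' : v' ∈ U'
  bv : ∃ b ∈ B, Tv b v
  bv' : ∃ b ∈ B, Tv b v'
  eps : ε = v * v'
  ne : U ≠ U'
  only : ∀ b ∈ B, ∀ w, Tv b w → w = v ∨ w = v'

namespace Md

variable {J F B : Subgroup (MulAut M)} {D : Subgroup M} {ε : M}

theorem cen_fix (h : Md J F B D ε) {b : MulAut M} {v : M} (hb : b ∈ B) (hv : Tv b v) : v ∈ fix B := by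
  intro a ha
  have h1 := hv.conj a
  have e : a * b * a⁻¹ = b := by rw [Ctx.comm_of_sq h.B2 a ha b hb, mul_inv_cancel_right]
  rw [e] at h1
  exact h1.unique hv

theorem cen_unique (h : Md J F B D ε) {b : MulAut M} {v x : M} {U : Subgroup M} (hU : IsBlk J F U)
    (hb : b ∈ B) (hv : Tv b v) (hvU : v ∈ U) (hx : x ∈ U) (hx1 : x ≠ 1) (hxf : x ∈ fix B) : x = v := by
  by_contra hne
  have h1 := h.blk_smul hU hvU (h.BJ hb) hv hx hx1 hne
  rw [hxf b hb] at h1
  exact hv.1 (by simpa using h1.symm)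

/-- Step 1 -/
theorem no_centre [Finite M] (h : Md J F B D ε) {U : Subgroup M} (hU : IsBlk J F U)
    (hno : ∀ b ∈ B, ∀ v ∈ U, ¬ Tv b v) : U ≤ fix B ∧ ∀ c ∈ J, ∀ u ∈ U, Tv c u → c ε = ε := by
  have h1 : U ≤ fix B := by
    intro u hu
    refine h.mem_fix_of_tv _ B rfl h.BJ h.B2 h.off u fun b hb r hr => ?_
    by_contra hm
    exact hno b hb r (h.mem_of_move hU hu (h.BJ hb) hr hm) hr
  refine ⟨h1, fun c hc u hu hcu => ?_⟩
  rcases hcu.2.2.1 ε with e | e
  · exact e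
  · refine h.L c hc ?_
    rw [e]
    exact h.fixD (mul_mem h.εB (h1 hu))

/-- Step 2 -/
theorem partner [Finite M] (h : Md J F B D ε) {b : MulAut M} {v : M} (hb : b ∈ B) (hv : Tv b v)
    (hne : v ≠ ε) : ∃ b' ∈ B, Tv b' (v * ε) := by
  have hvf := h.cen_fix hb hv
  obtain ⟨g, hg, hgv⟩ := h.T v (h.fixD hvf) hv.1 hne
  have h1 := hv.conj g
  rw [hgv] at h1
  have h1J : g * b * g⁻¹ ∈ J := mul_mem (mul_mem hg (h.BJ hb)) (inv_mem hg)
  obtain ⟨U, hU, hvU⟩ := h.exists_of_cen h1J h1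
  have hvε : v * ε ∈ fix B := mul_mem hvf h.εB
  by_cases hex : ∃ b'' ∈ B, ∃ v'' ∈ U, Tv b'' v''
  · obtain ⟨b'', hb'', v'', hv''U, hv''⟩ := hex
    have e := h.cen_unique hU hb'' hv'' hv''U hvU h1.1 hvε
    rw [e]
    exact ⟨b'', hb'', hv''⟩
  · exfalso
    push Not at hex
    obtain ⟨h2, h3⟩ := h.no_centre hU hex
    obtain ⟨w, hw, hw1, hwv⟩ := h.exists_other hU hvU h1.1
    obtain ⟨c, hc, hct⟩ := h.exists_tv_of_mem hU hw hw1
    have e1 := h3 c hc w hw hct
    have e2 := h.blk_smul hU hw hc hct hvU h1.1 hwv.symm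
    rw [map_mul, e1] at e2
    have e3 : c v = v := h.symm_fix (h.BJ hb) hc hv hct (h2 hw b hb)
    rw [e3] at e2
    exact hw1 (by simpa using e2.symm)

/-- Step 3: all centres of `B` are equal to `ε` -/
theorem card_eq_four [Finite M] (h : Md J F B D ε) (hall : ∀ b ∈ B, ∀ v, Tv b v → v = ε) :
    Nat.card M = 4 := by
  obtain ⟨b, hb, v, hv⟩ := h.exists_tv _ B rfl h.BJ h.B2 h.B1 h.off
  obtain rfl := hall b hb v hv
  obtain ⟨U, hU, hvU⟩ := h.exists_of_cen (h.BJ hb) hv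
  have h1 : U = ⊤ := by
    refine h.gen U fun g hg => ?_
    have hUg := h.isBlk_map hU hg
    have hmem : g v ∈ U.map (g : M ≃* M).toMonoidHom := mem_map_of_mem _ hvU
    by_cases e : U.map (g : M ≃* M).toMonoidHom = U
    · rw [e] at hmem; exact hmem
    · have h2 := (h.no_centre hUg fun a ha w hw haw => by
        have e2 := hall a ha w haw
        rw [e2] at hw
        exact e (h.blk_eq hUg hU hw hvU hv.1)).1
      rw [h.L g hg (h.fixD (h2 hmem))]
      exact hvU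
  have h2 := h.card_blk hU
  rw [h1, card_top] at h2
  exact h2

/-- Step 4 -/
theorem exists_two [Finite M] (h : Md J F B D ε) {b : MulAut M} {v : M} (hb : b ∈ B) (hv : Tv b v)
    (hne : v ≠ ε) : ∃ v' U U', Two J F B D ε v v' U U' := by
  obtain ⟨b', hb', hv'⟩ := h.partner hb hv hne
  obtain ⟨U, hU, hvU⟩ := h.exists_of_cen (h.BJ hb) hv
  obtain ⟨U', hU', hvU'⟩ := h.exists_of_cen (h.BJ hb') hv'
  have hvf := h.cen_fix hb hv
  have hvf' := h.cen_fix hb' hv'
  have hUU' : U ≠ U' := by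
    intro e
    rw [← e] at hvU'
    have e1 := h.cen_unique hU hb hv hvU hvU' hv'.1 hvf'
    exact h.ε1 (by simpa using e1)
  obtain ⟨s, hs, hs1, hsv⟩ := h.exists_other hU hvU hv.1
  obtain ⟨c, hc, hct⟩ := h.exists_tv_of_mem hU hs hs1
  have hcv : c v ≠ v := by
    rw [h.blk_smul hU hs hc hct hvU hv.1 hsv.symm]
    exact fun e => hs1 (by simpa using e)
  -- `c` fixes the other centres of `B`
  have hcw : ∀ a ∈ B, ∀ w, Tv a w → w ≠ v → c w = w := by
    intro a ha w hw hwv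
    obtain ⟨W, hW, hwW⟩ := h.exists_of_cen (h.BJ ha) hw
    by_contra hm
    have h1 := h.mem_of_move hW hwW hc hct hm
    have e := h.blk_eq hU hW hs h1 hs1
    rw [← e] at hwW
    exact hwv (h.cen_unique hU hb hv hvU hwW hw.1 (h.cen_fix ha hw))
  have e1 : v * ε ≠ v := fun e => h.ε1 (by simpa using e)
  have hcε : c ε ≠ ε := by
    intro e
    have h1 := hcw b' hb' _ hv' e1
    rw [map_mul, e] at h1
    exact hcv (mul_right_cancel h1)
  refine ⟨v * ε, U, U', { toMd := h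
                          bU := hU
                          bU' := hU'
                          vU := hvU
                          vU' := hvU'
                          bv := ⟨b, hb, hv⟩
                          bv' := ⟨b', hb', hv'⟩
                          eps := ?_
                          ne := hUU'
                          only := fun a ha w hw => ?_ }⟩
  · rw [← mul_assoc, h.sq, one_mul]
  · by_contra hcon
    push Not at hcon
    obtain ⟨h1, h2⟩ := hcon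
    have h3 := hcw a ha w hw h1
    by_cases hwε : w = ε
    · rw [hwε] at h3
      exact hcε h3
    · obtain ⟨a', ha', hw'⟩ := h.partner ha hw hwε
      have h4 : w * ε ≠ v := by
        intro e
        apply h2
        rw [← e, mul_assoc, h.sq, mul_one]
      have h5 := hcw a' ha' _ hw' h4
      rw [map_mul, h3] at h5
      exact hcε (mul_left_cancel h5)

end Md

namespace Two

variable {J F B : Subgroup (MulAut M)} {D : Subgroup M} {ε v v' : M} {U U' : Subgroup M}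

theorem symm (h : Two J F B D ε v v' U U') : Two J F B D ε v' v U' U :=
  { toMd := h.toMd
    bU := h.bU'
    bU' := h.bU
    vU := h.vU'
    vU' := h.vU
    bv := h.bv'
    bv' := h.bv
    eps := by rw [h.eps, mul_comm]
    ne := h.ne.symm
    only := fun b hb w hw => (h.only b hb w hw).symm }

theorem v1 (h : Two J F B D ε v v' U U') : v ≠ 1 := by
  obtain ⟨b, -, hb⟩ := h.bv
  exact hb.1

theorem v_fix (h : Two J F B D ε v v' U U') : v ∈ fix B := by
  obtain ⟨b, hb, hbv⟩ := h.bv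
  exact h.cen_fix hb hbv

theorem vD (h : Two J F B D ε v v' U U') : v ∈ D := h.fixD h.v_fix

theorem inf (h : Two J F B D ε v v' U U') {x : M} (hx : x ∈ U) (hx' : x ∈ U') : x = 1 := by
  by_contra hx1
  exact h.ne (h.blk_eq h.bU h.bU' hx hx' hx1)

theorem v_ne (h : Two J F B D ε v v' U U') : v ≠ v' := fun e =>
  h.v1 (h.inf h.vU (e ▸ h.vU'))

theorem no_centre' [Finite M] (h : Two J F B D ε v v' U U') {X : Subgroup M} (hX : IsBlk J F X)
    (h1 : X ≠ U) (h2 : X ≠ U') : X ≤ fix B ∧ ∀ c ∈ J, ∀ u ∈ X, Tv c u → c ε = ε := by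
  refine h.no_centre hX fun b hb w hw hbw => ?_
  rcases h.only b hb w hbw with rfl | rfl
  · exact h1 (h.blk_eq hX h.bU hw h.vU h.v1)
  · exact h2 (h.blk_eq hX h.bU' hw h.vU' h.symm.v1)

/-- Step 5 -/
theorem map_eq [Finite M] (h : Two J F B D ε v v' U U') {g : MulAut M} (hg : g ∈ J) :
    U.map (g : M ≃* M).toMonoidHom = U ∨ U.map (g : M ≃* M).toMonoidHom = U' := by
  by_contra hcon
  push Not at hcon
  obtain ⟨h1, h2⟩ := hcon
  have hX := h.isBlk_map h.bU hg
  have hX' := h.isBlk_map h.bU' hg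
  obtain ⟨h3, h4⟩ := h.no_centre' hX h1 h2
  have hgv : g v ∈ U.map (g : M ≃* M).toMonoidHom := mem_map_of_mem _ h.vU
  have hgv' : g v' ∈ U'.map (g : M ≃* M).toMonoidHom := mem_map_of_mem _ h.vU'
  have hgv1 : g v ≠ 1 := fun e => h.v1 (by simpa using e)
  have hgv'1 : g v' ≠ 1 := fun e => h.symm.v1 (by simpa using e)
  have hne : U'.map (g : M ≃* M).toMonoidHom ≠ U.map (g : M ≃* M).toMonoidHom := fun e =>
    h.ne (map_injective (f := (g : M ≃* M).toMonoidHom) g.injective e.symm)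
  have key : ∀ w ∈ fix B, w ∈ U'.map (g : M ≃* M).toMonoidHom → w ≠ 1 → g v * w = ε := by
    intro w hwf hw hw1
    obtain ⟨k, hk, hkw, hkf⟩ := h.exists_move hX' hgv' hgv'1 hw hw1
    have e1 := hkf _ hX hne.symm _ hgv
    have e2 : (k * g) ε = g v * w := by
      rw [h.eps, MulAut.mul_apply, map_mul, map_mul, e1, hkw]
    rw [← e2]
    refine h.L _ (mul_mem hk hg) ?_
    rw [e2]
    exact h.fixD (mul_mem (h3 hgv) hwf)
  by_cases h5 : U'.map (g : M ≃* M).toMonoidHom = U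
  · have e := key v h.v_fix (h5 ▸ h.vU) h.v1
    rw [h.eps, mul_comm v v'] at e
    have e2 := mul_right_cancel e
    rw [e2] at hgv
    exact h2 (h.blk_eq hX h.bU' hgv h.vU' h.symm.v1)
  · by_cases h6 : U'.map (g : M ≃* M).toMonoidHom = U'
    · have e := key v' h.symm.v_fix (h6.symm ▸ h.vU') h.symm.v1
      rw [h.eps] at e
      have e2 := mul_right_cancel e
      rw [e2] at hgv
      exact h1 (h.blk_eq hX h.bU hgv h.vU h.v1)
    · obtain ⟨h7, -⟩ := h.no_centre' hX' h5 h6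
      have e := key (g v') (h7 hgv') hgv' hgv'1
      obtain ⟨x, hx, hx1, hxv⟩ := h.exists_other hX hgv hgv1
      obtain ⟨c, hc, hct⟩ := h.exists_tv_of_mem hX hx hx1
      have e3 := h4 c hc x hx hct
      have e4 := h.blk_smul hX hx hc hct hgv hgv1 hxv.symm
      have e5 : c (g v') = g v' := by
        by_contra hm
        exact hne (h.blk_eq hX' hX (h.mem_of_move hX' hgv' hc hct hm) hx hx1)
      rw [← e, map_mul, e4, e5] at e3
      have e6 := mul_right_cancel e3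
      exact hx1 (by simpa using e6)

theorem map_eq_of_fix [Finite M] (h : Two J F B D ε v v' U U') {g : MulAut M} (hg : g ∈ J)
    (hgv : g v = v) : U'.map (g : M ≃* M).toMonoidHom = U' := by
  refine (h.symm.map_eq hg).resolve_right fun e => h.ne ?_
  have h1 : U.map (g : M ≃* M).toMonoidHom = U := by
    refine h.blk_eq (h.isBlk_map h.bU hg) h.bU (x := v) ?_ h.vU h.v1
    exact ⟨v, h.vU, hgv⟩
  exact map_injective (f := (g : M ≃* M).toMonoidHom) g.injective (h1.trans e.symm)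

theorem sup_eq [Finite M] (h : Two J F B D ε v v' U U') : U ⊔ U' = ⊤ := by
  refine h.gen _ fun g hg => ?_
  rw [h.eps, map_mul]
  refine mul_mem ?_ ?_
  · have h1 : g v ∈ U.map (g : M ≃* M).toMonoidHom := mem_map_of_mem _ h.vU
    rcases h.map_eq hg with e | e
    · rw [e] at h1; exact mem_sup_left h1
    · rw [e] at h1; exact mem_sup_right h1
  · have h1 : g v' ∈ U'.map (g : M ≃* M).toMonoidHom := mem_map_of_mem _ h.vU'
    rcases h.symm.map_eq hg with e | e
    · rw [e] at h1; exact mem_sup_right h1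
    · rw [e] at h1; exact mem_sup_left h1

theorem orbit (h : Two J F B D ε v v' U U') {x x' : M} (hx : x ∈ U) (hx' : x' ∈ U')
    (hx1 : x ≠ 1) (hx'1 : x' ≠ 1) : ∃ g ∈ J, g ε = x * x' := by
  obtain ⟨g, hg, hgv, hgf⟩ := h.exists_move h.bU h.vU h.v1 hx hx1
  obtain ⟨g', hg', hgv', hgf'⟩ := h.exists_move h.bU' h.vU' h.symm.v1 hx' hx'1
  refine ⟨g * g', mul_mem hg hg', ?_⟩
  rw [h.eps, MulAut.mul_apply, map_mul, map_mul, hgf' U h.bU h.ne v h.vU, hgv, hgv',
    hgf U' h.bU' h.ne.symm x' hx']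

theorem left_of_mem (h : Two J F B D ε v v' U U') {x x' : M} (hx : x ∈ U) (hx' : x' ∈ U')
    (hD : x * x' ∈ D) : x = 1 ∨ x = v := by
  by_contra hcon
  push Not at hcon
  obtain ⟨h1, h2⟩ := hcon
  -- a second factor different from `1`
  obtain ⟨y, hy, hy1, hyD⟩ : ∃ y ∈ U', y ≠ 1 ∧ x * y ∈ D := by
    by_cases e : x' = 1
    · refine ⟨v', h.vU', h.symm.v1, ?_⟩
      rw [e, mul_one] at hD
      exact mul_mem hD h.symm.vD
    · exact ⟨x', hx', e, hD⟩
  obtain ⟨g, hg, hgε⟩ := h.orbit hx hy h1 hy1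
  have h3 := h.L g hg (by rw [hgε]; exact hyD)
  rw [hgε, h.eps] at h3
  have h4 : x * v⁻¹ = v' * y⁻¹ := by
    rw [eq_mul_inv_iff_mul_eq, mul_right_comm, h3, mul_comm v v', mul_inv_cancel_right]
  have h5 := h.inf (mul_mem hx (inv_mem h.vU)) (h4 ▸ mul_mem h.vU' (inv_mem hy))
  exact h2 (mul_inv_eq_one.mp h5)

/-- Step 6 -/
theorem mem_D [Finite M] (h : Two J F B D ε v v' U U') {d : M} (hd : d ∈ D) (hd1 : d ≠ 1)
    (hdε : d ≠ ε) : d = v ∨ d = v' := by
  have h1 : d ∈ U ⊔ U' := by rw [h.sup_eq]; exact mem_top d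
  obtain ⟨x, hx, x', hx', rfl⟩ := mem_sup.mp h1
  rcases h.left_of_mem hx hx' hd with rfl | rfl
  · rcases h.symm.left_of_mem hx' hx (by rw [mul_comm]; exact hd) with rfl | rfl
    · exact absurd (one_mul _) hd1
    · right; rw [one_mul]
  · rcases h.symm.left_of_mem hx' hx (by rw [mul_comm]; exact hd) with rfl | rfl
    · left; rw [mul_one]
    · exact absurd h.eps.symm hdε

theorem exists_N [Finite M] (h : Two J F B D ε v v' U U') : ∃ N : Subgroup M, N ≠ ⊤ ∧ v ∈ N ∧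
    ∀ g ∈ J, g v = v → g ε ∈ N := by
  refine ⟨zpowers v ⊔ U', fun e => ?_, mem_sup_left (mem_zpowers v), fun g hg hgv => ?_⟩
  · obtain ⟨s, hs, hs1, hsv⟩ := h.exists_other h.bU h.vU h.v1
    have h1 : s ∈ zpowers v ⊔ U' := by rw [e]; exact mem_top s
    obtain ⟨a, ha, x, hx, hax⟩ := mem_sup.mp h1
    have haU : a ∈ U := (zpowers_le.mpr h.vU) ha
    have h2 : x ∈ U := by
      have e3 : x = a⁻¹ * s := by rw [← hax, inv_mul_cancel_left]
      rw [e3]
      exact mul_mem (inv_mem haU) hs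
    rw [h.inf h2 hx, mul_one] at hax
    rw [mem_zpowers_iff' h.sq, hax] at ha
    exact ha.elim hs1 hsv
  · rw [h.eps, map_mul, hgv]
    refine mul_mem_sup (mem_zpowers v) ?_
    rw [← h.map_eq_of_fix hg hgv]
    exact mem_map_of_mem _ h.vU'

theorem le_of_stab (h : Two J F B D ε v v' U U') {N : Subgroup M}
    (hN : ∀ g ∈ J, g v = v → g ε ∈ N) : U' ≤ N := by
  have h1 : ∀ x ∈ U', x ≠ 1 → v * x ∈ N := by
    intro x hx hx1
    obtain ⟨g, hg, hgv, hgf⟩ := h.exists_move h.bU' h.vU' h.symm.v1 hx hx1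
    have h2 := hgf U h.bU h.ne v h.vU
    have h3 := hN g hg h2
    rwa [h.eps, map_mul, h2, hgv] at h3
  intro x hx
  by_cases hx1 : x = 1
  · rw [hx1]; exact one_mem _
  · obtain ⟨y, hy, hy1, hyx⟩ := h.exists_other h.bU' hx hx1
    have h4 : x * y ≠ 1 := by
      intro e
      apply hyx
      calc y = (x * x) * y := by rw [h.sq, one_mul]
        _ = x := by rw [mul_assoc, e, mul_one]
    have h5 := mul_mem (h1 (x * y) (mul_mem hx hy) h4) (h1 y hy hy1)
    have e : v * (x * y) * (v * y) = x := by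
      calc v * (x * y) * (v * y) = (v * v) * (x * y * y) := mul_mul_mul_comm _ _ _ _
        _ = x := by rw [h.sq, one_mul, mul_assoc, h.sq, mul_one]
    rwa [e] at h5

end Two

/-- **the module theorem** -/
theorem Md.main [Finite M] {J F B : Subgroup (MulAut M)} {D : Subgroup M} {ε : M} (h : Md J F B D ε) :
    Nat.card M = 4 ∨
    ((∃ d ∈ D, d ≠ 1 ∧ d ≠ ε) ∧
      (∀ d ∈ D, d ≠ 1 → d ≠ ε → ∃ N : Subgroup M, N ≠ ⊤ ∧ d ∈ N ∧ ∀ g ∈ J, g d = d → g ε ∈ N) ∧
      (∀ d ∈ D, d ≠ 1 → d ≠ ε → ∀ N : Subgroup M, (∀ g ∈ J, g d = d → g ε ∈ N) →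
        (∀ g ∈ J, g (d * ε) = d * ε → g ε ∈ N) → N = ⊤)) := by
  by_cases hall : ∀ b ∈ B, ∀ v, Tv b v → v = ε
  · exact Or.inl (h.card_eq_four hall)
  · right
    push Not at hall
    obtain ⟨b, hb, v, hv, hvε⟩ := hall
    obtain ⟨v', U, U', k⟩ := h.exists_two hb hv hvε
    refine ⟨⟨v, k.vD, k.v1, hvε⟩, fun d hd hd1 hdε => ?_, fun d hd hd1 hdε N h1 h2 => ?_⟩
    · rcases k.mem_D hd hd1 hdε with rfl | rfl
      · exact k.exists_N
      · exact k.symm.exists_N
    · have e1 : v * ε = v' := by rw [k.eps, ← mul_assoc, h.sq, one_mul]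
      have e2 : v' * ε = v := by rw [← e1, mul_assoc, h.sq, mul_one]
      rw [← top_le_iff, ← k.sup_eq]
      rcases k.mem_D hd hd1 hdε with rfl | rfl
      · rw [e1] at h2
        exact sup_le (k.symm.le_of_stab h2) (k.le_of_stab h1)
      · rw [e2] at h2
        exact sup_le (k.symm.le_of_stab h1) (k.le_of_stab h2)

end Cfsg.Agent.MinSimple.TvMod
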