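import Mathlib
import Cfsg.Agent.MinSimple.TvMain
import Cfsg.Agent.MinSimple.OddTwoRep
import Cfsg.Agent.MinSimple.DihedOf

/-!
# (E1)(b), row 4406 (5): the module of a point

`z` a point, `V` a line on `z`, `q ∈ V`, `q ≠ 1`, `q ≠ z`, `A ≤ C(V)` elementary abelian with the inequality
`|ws V z| |A ⊓ kq V z| ≤ |A| |C_{dd V}(A)|` of the Thompson count. Then `|ws V z| = 8` or the configuration of
`Point.Out` holds.
-/

set_option autoImplicit false
set_option linter.unusedSectionVars false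

namespace Cfsg.Agent.MinSimple.TvPoint

open Subgroup Cfsg Cfsg.Agent.ZN Cfsg.Agent.MinSimple.Geo Cfsg.Agent.MinSimple.BTwoA
  Cfsg.Agent.MinSimple.OddLine Cfsg.Agent.MinSimple.OddBase Cfsg.Agent.MinSimple.SecRep
  Cfsg.Agent.MinSimple.OddRep Cfsg.Agent.MinSimple.OddTwoRep
open Cfsg.Agent.MinSimple.TvMod (Ctx Md fix Tv mem_fix)
open Cfsg.Agent.ZN.Block (conj_mem_of_normalizer conj_mem_of_normalizer' le_normalizer_of_forall
  mem_normalizer_of)

universe u

/-- the odd normal subgroup of a solvable group of automorphisms with `O₂ = 1` -/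
theorem exists_ctx {M : Type u} [CommGroup M] [Finite M] (hsq : ∀ m : M, m * m = 1)
    (J : Subgroup (MulAut M)) (hJ : Group.IsSolvable J)
    (hO : ∀ N : Subgroup (MulAut M), N ≤ J → (∀ j ∈ J, ∀ n ∈ N, j * n * j⁻¹ ∈ N) → IsPGroup 2 N → N = ⊥) :
    ∃ F, Ctx J F := by
  have hFX := OddOrderLocal.FitAux.fittingOf_le J
  have hFn := OddOrderLocal.FitAux.le_normalizer_fittingOf J
  have htwo : ∀ x ∈ fittingOf J, x * x = 1 → x = 1 := by
    rintro _ ⟨x, hx, rfl⟩ hxx
    have : Fact (Nat.Prime 2) := ⟨Nat.prime_two⟩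
    have h1 : x ∈ pCore 2 J := Lib.GenFitting.mem_pCore_of_mem_nilpotent_normal
      Lib.Cores.fittingSubgroup_normal Lib.Cores.fittingSubgroup_isNilpotent (k := 1) hx
      (by rw [pow_one, pow_two]; exact Subtype.ext hxx)
    have h2 := hO ((pCore 2 J).map J.subtype) (map_subtype_le _)
      (fun j hj n hn => conj_mem_of_normalizer
        (OddOrderLocal.FitAux.le_normalizer_map_subtype (Lib.Cores.pCore_normal 2)) hj hn)
      ((Lib.Cores.pCore_isPGroup 2).map _)
    have h3 : (x : MulAut M) ∈ (pCore 2 J).map J.subtype := ⟨x, h1, rfl⟩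
    rw [h2, mem_bot] at h3
    exact h3
  refine ⟨fittingOf J, ⟨hsq, hFX, fun j hj f hf => conj_mem_of_normalizer hFn hj hf, ?_, ?_⟩⟩
  · rw [← Nat.not_even_iff_odd]
    intro he
    have : Fact (Nat.Prime 2) := ⟨Nat.prime_two⟩
    obtain ⟨x, hx⟩ := exists_prime_orderOf_dvd_card' 2 (even_iff_two_dvd.1 he)
    have h1 : (x : MulAut M) * x = 1 := by
      have := pow_orderOf_eq_one x
      rw [hx, pow_two] at this
      exact congrArg Subtype.val this
    have h2 := htwo x x.2 h1
    rw [Subtype.ext (a1 := x) (a2 := 1) h2, orderOf_one] at hx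
    norm_num at hx
  · intro x hxJ hxC
    have := hJ
    have h : (⟨x, hxJ⟩ : J) ∈ centralizer (fittingSubgroup J : Set J) := by
      rw [mem_centralizer_iff]
      intro y hy
      exact Subtype.ext (hxC y ⟨y, hy, rfl⟩).symm
    exact ⟨⟨x, hxJ⟩, S0044.result h, rfl⟩

variable {G : Type u} [Group G] [Finite G] {T V : Subgroup G} {z q : G}
  {M X : Type u} [AddCommGroup M] [Group X] [DistribMulAction X M]

theorem exists_ctx_rep (h : Odd T V z) (R : Rep V z M X) : ∃ F, Ctx (act M X).range F := by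
  have hx : Pt z z := Pt.refl z
  have : Finite M := R.finite_left
  have : Finite (Multiplicative M) := this
  refine exists_ctx (fun m => ?_) _ ?_ ?_
  · exact Rep.two h hx R m.toAdd
  · have := Rep.isSolvable h hx R
    exact Group.isSolvable_of_surjective (act M X).rangeRestrict_surjective
  · intro N hN hNn hN2
    have hinj : Function.Injective (act M X) := by
      rw [injective_iff_map_eq_one]
      intro g hg
      refine R.faithful g fun m => ?_
      have h1 : act M X g (Multiplicative.ofAdd m) = Multiplicative.ofAdd m := by rw [hg]; rfl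
      rw [act_apply] at h1
      exact Multiplicative.ofAdd.injective h1
    have h1 : (N.comap (act M X)).Normal := ⟨fun n hn g => by
      rw [mem_comap, map_mul, map_mul, map_inv]
      exact hNn _ ⟨g, rfl⟩ _ hn⟩
    have h2 : IsPGroup 2 (N.comap (act M X)) := hN2.comap_of_injective (act M X) hinj
    have h3 := Rep.o2_eq_bot h hx R h1 h2
    rw [eq_bot_iff]
    intro n hn
    obtain ⟨g, rfl⟩ := hN hn
    have h4 : g ∈ N.comap (act M X) := hn
    rw [h3, mem_bot] at h4
    rw [h4, map_one]; exact one_mem _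

/-- the restriction of `ve` to a subgroup of `ws V z` -/
def vr (R : Rep V z M X) {H : Subgroup G} (hH : H ≤ ws V z) : H →* Multiplicative M where
  toFun a := ve R a
  map_one' := by
    change Multiplicative.ofAdd (R.pi ((1 : H) : G)) = 1
    rw [OneMemClass.coe_one, R.pi_one]; rfl
  map_mul' a b := ve_mul R (hH a.2) (hH b.2)

theorem mem_vr (R : Rep V z M X) {H : Subgroup G} (hH : H ≤ ws V z) {m : Multiplicative M} :
    m ∈ (vr R hH).range ↔ ∃ a ∈ H, ve R a = m :=
  ⟨fun ⟨a, ha⟩ => ⟨a, a.2, ha⟩, fun ⟨a, ha, e⟩ => ⟨⟨a, ha⟩, e⟩⟩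

theorem ve_one (R : Rep V z M X) : ve R 1 = 1 := by
  unfold ve; rw [R.pi_one]; rfl

theorem z_mem_ws (h : Odd T V z) : z ∈ ws V z := self_mem_ws h.toGeo (Pt.refl z)

theorem ve_eq_one (h : Odd T V z) (R : Rep V z M X) {a : G} (ha : a ∈ ws V z) :
    ve R a = 1 ↔ a = 1 ∨ a = z := by
  rw [← ve_one R, ve_eq h (Pt.refl z) R ha (one_mem _), mul_one]

theorem two_mul_card_vr (h : Odd T V z) (R : Rep V z M X) {H : Subgroup G} (hH : H ≤ ws V z)
    (hz : z ∈ H) : 2 * Nat.card (vr R hH).range = Nat.card H := by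
  have h1 : Nat.card (vr R hH).ker = 2 := by
    have h2 : (vr R hH).ker = zpowers (⟨z, hz⟩ : H) := by
      ext ⟨a, ha⟩
      have e1 : (⟨a, ha⟩ : H) ∈ (vr R hH).ker ↔ a = 1 ∨ a = z := by
        rw [MonoidHom.mem_ker]
        exact ve_eq_one h R (hH ha)
      rw [e1, mem_zpowers_iff_of_mul_self (Subtype.ext h.zz : (⟨z, hz⟩ : H) * ⟨z, hz⟩ = 1)]
      constructor
      · rintro (e | e)
        · exact Or.inl (Subtype.ext e)
        · exact Or.inr (Subtype.ext e)
      · rintro (e | e)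
        · exact Or.inl (congrArg Subtype.val e)
        · exact Or.inr (congrArg Subtype.val e)
    rw [h2, Nat.card_zpowers]
    refine orderOf_eq_prime (by rw [pow_two]; exact Subtype.ext h.zz) fun e => h.z_ne ?_
    exact congrArg Subtype.val e
  rw [← Subgroup.card_mul_index (vr R hH).ker, Subgroup.index_ker, h1]

theorem vr_top (R : Rep V z M X) : (vr R (le_refl (ws V z))).range = ⊤ := by
  rw [eq_top_iff]
  rintro m -
  obtain ⟨a, ha, rfl⟩ := ve_surj R m
  exact (mem_vr R _).mpr ⟨a, ha, rfl⟩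

theorem two_mul_card (h : Odd T V z) (R : Rep V z M X) :
    2 * Nat.card (Multiplicative M) = Nat.card (ws V z) := by
  rw [← two_mul_card_vr h R (le_refl _) (z_mem_ws h), vr_top R, card_top]

/-- the action of a subgroup of `C(z)` -/
def rh (R : Rep V z M X) {A : Subgroup G} (hA : A ≤ centralizer ({z} : Set G)) :
    A →* MulAut (Multiplicative M) where
  toFun a := act M X (R.rho a)
  map_one' := by rw [OneMemClass.coe_one, R.rho_one, map_one]
  map_mul' a b := by
    rw [Subgroup.coe_mul, R.rho_mul _ (hA a.2) _ (hA b.2), map_mul]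

theorem act_inj (R : Rep V z M X) : Function.Injective (act M X) := by
  rw [injective_iff_map_eq_one]
  intro g hg
  refine R.faithful g fun m => ?_
  have h1 : act M X g (Multiplicative.ofAdd m) = Multiplicative.ofAdd m := by rw [hg]; rfl
  rw [act_apply] at h1
  exact Multiplicative.ofAdd.injective h1

theorem card_rh (R : Rep V z M X) {A : Subgroup G} (hA : A ≤ centralizer ({z} : Set G)) :
    Nat.card (A ⊓ kq V z : Subgroup G) * Nat.card (rh R hA).range = Nat.card A := by
  have h1 : (rh R hA).ker = (kq V z).subgroupOf A := by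
    ext ⟨a, ha⟩
    rw [MonoidHom.mem_ker, mem_subgroupOf]
    change act M X (R.rho a) = 1 ↔ a ∈ kq V z
    rw [← Rep.rho_eq_one R (hA ha)]
    constructor
    · intro e
      exact act_inj R (by rw [e, map_one])
    · intro e
      rw [e, map_one]
  have h2 : Nat.card (rh R hA).ker = Nat.card (A ⊓ kq V z : Subgroup G) := by
    rw [h1, inf_comm, ← inf_subgroupOf_right]
    exact Nat.card_congr (subgroupOfEquivOfLe inf_le_right).toEquiv
  rw [← h2, ← Subgroup.index_ker, Subgroup.card_mul_index]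

/-- `dd V` is not normalized by `C(z)` -/
theorem dd_ne_ws (h : Odd T V z) : dd V ≠ ws V z := by
  intro e
  have h1 := h.core (ws V z) (h.two.to_le h.ws_le_T) (by rw [← e]; exact normalizer_le_normalizer_dd V)
    (Geo.centralizer_le_normalizer_ws V z)
  have h2 := h.V_le_ws h.z_mem
  rw [h1, mem_bot] at h2
  exact h.z_ne h2

/-- the points of the line -/
theorem line_cases (h : Odd T V z) (hq : q ∈ V) (hq1 : q ≠ 1) (hqz : q ≠ z) {c : G}
    (hc : c ∈ centralizer ({z} : Set G)) (hd : c * q * c⁻¹ ∈ dd V) :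
    c * q * c⁻¹ = q ∨ c * q * c⁻¹ = z * q := by
  have hcz : c * z * c⁻¹ = z := by rw [mem_centralizer_singleton_iff.mp hc]; group
  have hzd : z ∈ dd V := h.V_le_dd h.z_mem
  have hL : cj c V ∈ lines V z := ⟨⟨c, rfl⟩, mem_cj.mpr (by
    have e : c⁻¹ * z * c = z := by
      calc c⁻¹ * z * c = c⁻¹ * (c * z * c⁻¹) * c := by rw [hcz]
        _ = z := by group
    rw [e]; exact h.z_mem)⟩
  have hLd : cj c V ≤ dd V := by
    intro v hv
    rw [mem_cj] at hv
    have e : v = c * (c⁻¹ * v * c) * c⁻¹ := by group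
    rw [e]
    rcases h.four h.z_mem hq h.z_ne hq1 (Ne.symm hqz) hv with e1 | e1 | e1 | e1
    · rw [e1, mul_one, mul_inv_cancel]; exact one_mem _
    · rw [e1, hcz]; exact hzd
    · rw [e1]; exact hd
    · rw [e1]
      have e2 : c * (z * q) * c⁻¹ = (c * z * c⁻¹) * (c * q * c⁻¹) := by group
      rw [e2, hcz]
      exact mul_mem hzd hd
  have hLV := h.eq_of_mem_lines hL hLd
  have h1 : c * q * c⁻¹ ∈ V := by
    rw [← hLV]; exact conj_mem_cj hq
  rcases h.four h.z_mem hq h.z_ne hq1 (Ne.symm hqz) h1 with e1 | e1 | e1 | e1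
  · exact absurd e1 (conj_ne_one hq1)
  · exact absurd (conj_inj (e1.trans hcz.symm)) hqz
  · exact Or.inl e1
  · exact Or.inr e1

/-- the data of the Thompson count at the point `z` of `V` -/
structure Cnt (T V : Subgroup G) (z : G) (A : Subgroup G) : Prop extends Odd T V z where
  A_le : A ≤ centralizer (V : Set G)
  A_sq : ∀ a ∈ A, a * a = 1
  cnt : Nat.card (ws V z) * Nat.card (A ⊓ kq V z : Subgroup G) ≤
    Nat.card A * Nat.card (dd V ⊓ centralizer (A : Set G) : Subgroup G)

namespace Cnt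

variable {A : Subgroup G}

theorem le_z (h : Cnt T V z A) : A ≤ centralizer ({z} : Set G) :=
  h.A_le.trans (centralizer_le (Set.singleton_subset_iff.mpr h.z_mem))

theorem dd_le (h : Cnt T V z A) : dd V ≤ ws V z := h.toOdd.dd_le_ws h.z_mem h.z_ne

theorem inf_le (h : Cnt T V z A) : dd V ⊓ centralizer (A : Set G) ≤ ws V z := inf_le_left.trans h.dd_le

theorem z_mem_inf (h : Cnt T V z A) : z ∈ dd V ⊓ centralizer (A : Set G) :=
  ⟨h.toOdd.V_le_dd h.z_mem, mem_centralizer_iff.mpr fun _ ha =>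
    (mem_centralizer_iff.mp (h.A_le ha) z h.z_mem).symm⟩

theorem vr_le_fix (h : Cnt T V z A) (R : Rep V z M X) :
    (vr R h.inf_le).range ≤ fix (rh R h.le_z).range := by
  intro m hm
  obtain ⟨a, ha, rfl⟩ := (mem_vr R _).mp hm
  rintro _ ⟨⟨c, hc⟩, rfl⟩
  change act M X (R.rho c) (ve R a) = ve R a
  rw [act_ve R (h.le_z hc) (h.inf_le ha), mem_centralizer_iff.mp ha.2 c hc, mul_inv_cancel_right]

theorem card_le (h : Cnt T V z A) (R : Rep V z M X) :
    Nat.card (Multiplicative M) ≤ Nat.card (rh R h.le_z).range * Nat.card (vr R h.inf_le).range := by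
  have h1 := two_mul_card h.toOdd R
  have h2 := two_mul_card_vr h.toOdd R h.inf_le h.z_mem_inf
  have h3 := card_rh R h.le_z
  have h4 := h.cnt
  have hpos : 0 < Nat.card (A ⊓ kq V z : Subgroup G) := Nat.card_pos
  rw [← h1, ← h2, ← h3] at h4
  have h5 : (2 * Nat.card (A ⊓ kq V z : Subgroup G)) * Nat.card (Multiplicative M) ≤
      (2 * Nat.card (A ⊓ kq V z : Subgroup G)) *
        (Nat.card (rh R h.le_z).range * Nat.card (vr R h.inf_le).range) := by
    calc _ = 2 * Nat.card (Multiplicative M) * Nat.card (A ⊓ kq V z : Subgroup G) := by ring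
      _ ≤ _ := h4
      _ = _ := by ring
  exact Nat.le_of_mul_le_mul_left h5 (by omega)

theorem rh_sq (h : Cnt T V z A) (R : Rep V z M X) : ∀ b ∈ (rh R h.le_z).range, b * b = 1 := by
  rintro _ ⟨⟨c, hc⟩, rfl⟩
  rw [← map_mul]
  have e : (⟨c, hc⟩ : A) * ⟨c, hc⟩ = 1 := Subtype.ext (h.A_sq c hc)
  rw [e, map_one]

theorem rh_le (h : Cnt T V z A) (R : Rep V z M X) : (rh R h.le_z).range ≤ (act M X).range := by
  rintro _ ⟨⟨c, hc⟩, rfl⟩
  exact ⟨R.rho c, rfl⟩

theorem finite' (R : Rep V z M X) : Finite (Multiplicative M) := R.finite_left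

theorem fix_eq (h : Cnt T V z A) (R : Rep V z M X) :
    fix (rh R h.le_z).range = (vr R h.inf_le).range := by
  have := finite' R
  obtain ⟨F, hF⟩ := exists_ctx_rep h.toOdd R
  refine (eq_of_le_of_card_ge (h.vr_le_fix R) ?_).symm
  have h1 := hF.card_mul_le _ _ rfl (h.rh_le R) (h.rh_sq R)
  exact Nat.le_of_mul_le_mul_left (h1.trans (h.card_le R)) Nat.card_pos

theorem fix_le (h : Cnt T V z A) (R : Rep V z M X) :
    fix (rh R h.le_z).range ≤ (vr R h.dd_le).range := by
  rw [h.fix_eq R]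
  intro m hm
  obtain ⟨a, ha, rfl⟩ := (mem_vr R _).mp hm
  exact (mem_vr R _).mpr ⟨a, ha.1, rfl⟩

theorem rh_ne_bot (h : Cnt T V z A) (R : Rep V z M X) : (rh R h.le_z).range ≠ ⊥ := by
  have := finite' R
  intro e
  apply dd_ne_ws h.toOdd
  refine eq_of_le_of_card_ge h.dd_le ?_
  rw [← two_mul_card h.toOdd R, ← two_mul_card_vr h.toOdd R h.dd_le (h.toOdd.V_le_dd h.z_mem)]
  refine Nat.mul_le_mul_left _ ?_
  have h1 := h.card_le R
  rw [e, card_bot, one_mul] at h1
  refine h1.trans (card_le_of_le ?_)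
  rw [← h.fix_eq R]
  exact h.fix_le R

/-- elements of `dd V` with image different from `1` and `ve R q` -/
theorem not_mem_of (h : Cnt T V z A) (R : Rep V z M X) (hq : q ∈ V) (hq1 : q ≠ 1) (hqz : q ≠ z) {t : G}
    (h1 : ve R t ≠ 1) (h2 : ve R t ≠ ve R q) : t ∉ V := by
  intro ht
  rcases h.four h.z_mem hq h.z_ne hq1 (Ne.symm hqz) ht with e | e | e | e
  · exact h1 (by rw [e, ve_one])
  · exact h1 (by rw [e]; exact (ve_eq_one h.toOdd R (z_mem_ws h.toOdd)).mpr (Or.inr rfl))
  · exact h2 (by rw [e])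
  · refine h2 ?_
    rw [e, ve_eq h.toOdd (Pt.refl z) R (mul_mem (z_mem_ws h.toOdd) (h.V_le_ws hq)) (h.V_le_ws hq)]
    exact Or.inr rfl

theorem ve_z_mul (h : Odd T V z) (R : Rep V z M X) {a : G} (ha : a ∈ ws V z) : ve R (z * a) = ve R a := by
  rw [ve_eq h (Pt.refl z) R (mul_mem (z_mem_ws h) ha) ha]
  exact Or.inr rfl

/-- **the module data at the point** -/
theorem exists_md (h : Cnt T V z A) (R : Rep V z M X) (hq : q ∈ V) (hq1 : q ≠ 1) (hqz : q ≠ z) :
    ∃ F, Md (act M X).range F (rh R h.le_z).range (vr R h.dd_le).range (ve R q) := by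
  have := finite' R
  obtain ⟨F, hF⟩ := exists_ctx_rep h.toOdd R
  have hqw : q ∈ ws V z := h.V_le_ws hq
  refine ⟨F, { toCtx := hF
               BJ := h.rh_le R
               B2 := h.rh_sq R
               off := by rw [h.fix_eq R]; exact h.card_le R
               B1 := h.rh_ne_bot R
               fixD := h.fix_le R
               εB := ?_
               ε1 := ?_
               L := ?_
               T := ?_
               gen := ?_ }⟩
  · rw [h.fix_eq R]
    exact (mem_vr R _).mpr ⟨q, ⟨h.toOdd.V_le_dd hq, mem_centralizer_iff.mpr fun _ ha =>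
      (mem_centralizer_iff.mp (h.A_le ha) q hq).symm⟩, rfl⟩
  · intro e
    rcases (ve_eq_one h.toOdd R hqw).mp e with e | e
    · exact hq1 e
    · exact hqz e
  · rintro _ ⟨g, rfl⟩ hD
    obtain ⟨c, hc, rfl⟩ := R.rho_surj g
    rw [act_ve R hc hqw] at hD ⊢
    obtain ⟨t, ht, e⟩ := (mem_vr R _).mp hD
    have hcw : c * q * c⁻¹ ∈ ws V z := R.conj_mem hc hqw
    rw [ve_eq h.toOdd (Pt.refl z) R (h.dd_le ht) hcw] at e
    have hcd : c * q * c⁻¹ ∈ dd V := by
      rcases e with e | e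
      · rw [← e]; exact ht
      · have e2 : c * q * c⁻¹ = z⁻¹ * t := by rw [e, inv_mul_cancel_left]
        rw [e2]
        exact mul_mem (inv_mem (h.toOdd.V_le_dd h.z_mem)) ht
    rcases line_cases h.toOdd hq hq1 hqz hc hcd with e1 | e1
    · rw [e1]
    · rw [e1, ve_z_mul h.toOdd R hqw]
  · rintro d hd hd1 hdε
    obtain ⟨t, ht, rfl⟩ := (mem_vr R _).mp hd
    have htV := h.not_mem_of R hq hq1 hqz hd1 hdε
    obtain ⟨k, hk, hkV, hkt⟩ := h.toOdd.exists_transvection ht htV hq hq1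
    have hkz : k ∈ centralizer ({z} : Set G) :=
      centralizer_le (Set.singleton_subset_iff.mpr h.z_mem) hkV
    refine ⟨_, ⟨R.rho k, rfl⟩, ?_⟩
    rw [act_ve R hkz (h.dd_le ht), hkt, ve_mul R hqw (h.dd_le ht), mul_comm]
  · intro N hN
    have hc : Col V z q := ⟨h.z_ne, hq1, Ne.symm hqz, V, ⟨⟨1, (cj_one V).symm⟩, h.z_mem⟩, hq⟩
    have h1 := Rep.eq_top_of_line h.toOdd (Pt.refl z) R hc (Subgroup.toAddSubgroup' N) (fun g => hN _ ⟨g, rfl⟩)
    rw [eq_top_iff]
    intro m _
    have h2 : m.toAdd ∈ Subgroup.toAddSubgroup' N := by rw [h1]; exact AddSubgroup.mem_top _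
    exact h2

/-- `C_{W}(kq V z) ≤ ⟨z⟩` -/
theorem cent (h : Cnt T V z A) (R : Rep V z M X) (hq : q ∈ V) (hq1 : q ≠ 1) (hqz : q ≠ z) {w : G}
    (hw : w ∈ ws V z) (hk : ∀ k ∈ kq V z, k * w = w * k) : w ∈ zpowers z := by
  have := finite' R
  have hF := h.exists_md R hq hq1 hqz
  obtain ⟨F, hF⟩ := hF
  have hHw : ws V z ⊓ centralizer (kq V z : Set G) ≤ ws V z := inf_le_left
  by_contra hwz
  have hwz' : ¬ (w = 1 ∨ w = z) := fun e => hwz ((mem_zpowers_iff_of_mul_self h.zz).mpr e)
  -- the image `N` is invariant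
  obtain ⟨n, hn, hn1, hnf⟩ := TvMod.exists_fix hF.sq hF.B2 (N := (vr R hHw).range) (by
    rintro _ ⟨⟨c, hc⟩, rfl⟩ n hn
    obtain ⟨a, ha, rfl⟩ := (mem_vr R _).mp hn
    change act M X (R.rho c) (ve R a) ∈ _
    have hcz := h.le_z hc
    rw [act_ve R hcz ha.1]
    refine (mem_vr R _).mpr ⟨_, ⟨R.conj_mem hcz ha.1, mem_centralizer_iff.mpr fun k hk => ?_⟩, rfl⟩
    have hk' : c⁻¹ * k * c⁻¹⁻¹ ∈ kq V z :=
      conj_mem_of_normalizer (BTwoB.centralizer_le_normalizer_kq V z) (inv_mem hcz) hk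
    have h1 := mem_centralizer_iff.mp ha.2 _ hk'
    calc k * (c * a * c⁻¹) = c * ((c⁻¹ * k * c⁻¹⁻¹) * a) * c⁻¹ := by group
      _ = c * (a * (c⁻¹ * k * c⁻¹⁻¹)) * c⁻¹ := by rw [h1]
      _ = c * a * c⁻¹ * k := by group) (by
    intro e
    have h1 : ve R w ∈ (vr R hHw).range := (mem_vr R _).mpr ⟨w, ⟨hw, mem_centralizer_iff.mpr hk⟩, rfl⟩
    rw [e, mem_bot] at h1
    exact hwz' ((ve_eq_one h.toOdd R hw).mp h1))
  obtain ⟨a, ha, rfl⟩ := (mem_vr R _).mp hn
  obtain ⟨t, ht, e⟩ := (mem_vr R _).mp (h.fix_le R hnf)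
  have hzd := h.toOdd.V_le_dd h.z_mem
  have had : a ∈ dd V := by
    rw [ve_eq h.toOdd (Pt.refl z) R (h.dd_le ht) ha.1] at e
    rcases e with e | e
    · rw [← e]; exact ht
    · have e2 : a = z⁻¹ * t := by rw [e, inv_mul_cancel_left]
      rw [e2]
      exact mul_mem (inv_mem hzd) ht
  have haz : ¬ (a = 1 ∨ a = z) := fun e => hn1 ((ve_eq_one h.toOdd R ha.1).mpr e)
  push Not at haz
  have key : ∀ k ∈ kq V z, k * a * k⁻¹ ≠ z * a := by
    intro k hk e
    have h1 := mem_centralizer_iff.mp ha.2 k hk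
    rw [h1, mul_inv_cancel_right] at e
    exact h.z_ne (by simpa using e.symm)
  by_cases haV : a ∈ V
  · obtain ⟨y, hy, hym⟩ := h.toOdd.exists_swap' h.z_mem h.z_ne
    exact key y hy (hym a haV haz.1 haz.2)
  · obtain ⟨k, hk, -, hka⟩ := h.toOdd.exists_transvection had haV h.z_mem h.z_ne
    exact key k hk hka

/-- an element of `C(z)` fixing the image of `u` can be changed by `kq V z` so that it centralizes `u` -/
theorem exists_fixer (h : Cnt T V z A) (R : Rep V z M X) {u c : G} (hu : u ∈ dd V) (huV : u ∉ V)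
    (hc : c ∈ centralizer ({z} : Set G)) (he : act M X (R.rho c) (ve R u) = ve R u) :
    ∃ j ∈ centralizer ({z} : Set G), j ∈ centralizer ({u} : Set G) ∧ R.rho j = R.rho c := by
  have huw := h.dd_le hu
  rw [act_ve R hc huw, ve_eq h.toOdd (Pt.refl z) R (R.conj_mem hc huw) huw] at he
  rcases he with e | e
  · refine ⟨c, hc, mem_centralizer_singleton_iff.mpr ?_, rfl⟩
    calc c * u = (c * u * c⁻¹) * c := by group
      _ = u * c := by rw [e]
  · obtain ⟨k, hk, -, hku⟩ := h.toOdd.exists_transvection hu huV h.z_mem h.z_ne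
    have hkz := BTwoB.kq_le V z hk
    refine ⟨k * c, mul_mem hkz hc, mem_centralizer_singleton_iff.mpr ?_, ?_⟩
    · have hkc : k * z * k⁻¹ = z := by rw [mem_centralizer_singleton_iff.mp hkz]; group
      calc k * c * u = (k * (c * u * c⁻¹) * k⁻¹) * (k * c) := by group
        _ = (k * (z * u) * k⁻¹) * (k * c) := by rw [e]
        _ = ((k * z * k⁻¹) * (k * u * k⁻¹)) * (k * c) := by group
        _ = (z * z) * u * (k * c) := by rw [hkc, hku]; group
        _ = u * (k * c) := by rw [h.zz, one_mul]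
    · rw [R.rho_mul k hkz c hc, (Rep.rho_eq_one R hkz).mpr hk, one_mul]

/-- **row 4406 (5)** -/
theorem main (h : Cnt T V z A) (hq : q ∈ V) (hq1 : q ≠ 1) (hqz : q ≠ z) : Nat.card (ws V z) = 8 ∨
    ((∀ w ∈ ws V z, (∀ k ∈ kq V z, k * w = w * k) → w ∈ zpowers z) ∧
      (∃ u ∈ dd V, u ∉ V) ∧
      (∀ u ∈ dd V, u ∉ V → ∃ P : Subgroup G, P < ws V z ∧ u ∈ P ∧
        ∀ j ∈ centralizer ({z} : Set G), j ∈ centralizer ({u} : Set G) → cj j V ≤ P) ∧
      (∀ u ∈ dd V, u ∉ V → ∀ v ∈ V, v ∉ zpowers z → ∀ P : Subgroup G,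
        (∀ j ∈ centralizer ({z} : Set G), j ∈ centralizer ({u} : Set G) → cj j V ≤ P) →
        (∀ j ∈ centralizer ({z} : Set G), j ∈ centralizer ({u * v} : Set G) → cj j V ≤ P) →
        ws V z ≤ P)) := by
  obtain ⟨M, X, _, _, _, ⟨R⟩⟩ := exists_rep h.toOdd (Pt.refl z)
  have := finite' R
  obtain ⟨F, hF⟩ := h.exists_md R hq hq1 hqz
  have hqw : q ∈ ws V z := h.V_le_ws hq
  have hcase : ∀ {v : G}, v ∈ V → v = 1 ∨ v = z ∨ v = q ∨ v = z * q := fun hv =>
    h.four h.z_mem hq h.z_ne hq1 (Ne.symm hqz) hv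
  rcases hF.main with h8 | ⟨⟨d, hd, hd1, hdε⟩, h2, h3⟩
  · left
    rw [← two_mul_card h.toOdd R, h8]
  · right
    refine ⟨fun w hw hk => h.cent R hq hq1 hqz hw hk, ?_, fun u hu huV => ?_,
      fun u hu huV v hv hvz P hP1 hP2 => ?_⟩
    · obtain ⟨u, hu, rfl⟩ := (mem_vr R _).mp hd
      exact ⟨u, hu, h.not_mem_of R hq hq1 hqz hd1 hdε⟩
    · have huw := h.dd_le hu
      have hu1 : ve R u ≠ 1 := fun e => by
        rcases (ve_eq_one h.toOdd R huw).mp e with e | e
        · exact huV (by rw [e]; exact one_mem _)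
        · exact huV (by rw [e]; exact h.z_mem)
      have huε : ve R u ≠ ve R q := fun e => by
        rw [ve_eq h.toOdd (Pt.refl z) R huw hqw] at e
        rcases e with e | e
        · exact huV (by rw [e]; exact hq)
        · exact huV (by rw [e]; exact mul_mem h.z_mem hq)
      obtain ⟨N, hN, huN, hNs⟩ := h2 _ ((mem_vr R _).mpr ⟨u, hu, rfl⟩) hu1 huε
      let P : Subgroup G := (N.comap (vr R (le_refl (ws V z)))).map (ws V z).subtype
      have hP : ∀ a, a ∈ P ↔ a ∈ ws V z ∧ ve R a ∈ N := by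
        intro a
        constructor
        · rintro ⟨b, hb, rfl⟩
          exact ⟨b.2, hb⟩
        · rintro ⟨ha, hb⟩
          exact ⟨⟨a, ha⟩, hb, rfl⟩
      refine ⟨P, lt_of_le_of_ne (fun a ha => ((hP a).mp ha).1) fun e => hN ?_, (hP u).mpr ⟨huw, huN⟩,
        fun j hjz hju v hv => ?_⟩
      · rw [eq_top_iff]
        intro m _
        obtain ⟨a, ha, rfl⟩ := ve_surj R m
        rw [← e] at ha
        exact ((hP a).mp ha).2
      · rw [mem_cj] at hv
        have e : v = j * (j⁻¹ * v * j) * j⁻¹ := by group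
        rw [e]
        have hjz' : j * z * j⁻¹ = z := by rw [mem_centralizer_singleton_iff.mp hjz]; group
        have h5 : ∀ x ∈ V, j * x * j⁻¹ ∈ ws V z := fun x hx => R.conj_mem hjz (h.V_le_ws hx)
        have h6 : ve R (j * q * j⁻¹) ∈ N := by
          rw [← act_ve R hjz hqw]
          refine hNs _ ⟨R.rho j, rfl⟩ ?_
          rw [act_ve R hjz huw, mem_centralizer_singleton_iff.mp hju, mul_inv_cancel_right]
        refine (hP _).mpr ⟨h5 _ hv, ?_⟩
        rcases hcase hv with e1 | e1 | e1 | e1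
        · rw [e1, mul_one, mul_inv_cancel, ve_one]; exact one_mem _
        · rw [e1, hjz', (ve_eq_one h.toOdd R (z_mem_ws h.toOdd)).mpr (Or.inr rfl)]; exact one_mem _
        · rw [e1]; exact h6
        · rw [e1]
          have e2 : j * (z * q) * j⁻¹ = (j * z * j⁻¹) * (j * q * j⁻¹) := by group
          rw [e2, hjz', ve_z_mul h.toOdd R (h5 q hq)]
          exact h6
    · have huw := h.dd_le hu
      have hvd := h.toOdd.V_le_dd hv
      have hvw := h.V_le_ws hv
      have huvd : u * v ∈ dd V := mul_mem hu hvd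
      have huvV : u * v ∉ V := fun e => huV (by
        have := mul_mem e (inv_mem hv)
        rwa [mul_inv_cancel_right] at this)
      have hu1 : ve R u ≠ 1 := fun e => by
        rcases (ve_eq_one h.toOdd R huw).mp e with e | e
        · exact huV (by rw [e]; exact one_mem _)
        · exact huV (by rw [e]; exact h.z_mem)
      have huε : ve R u ≠ ve R q := fun e => by
        rw [ve_eq h.toOdd (Pt.refl z) R huw hqw] at e
        rcases e with e | e
        · exact huV (by rw [e]; exact hq)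
        · exact huV (by rw [e]; exact mul_mem h.z_mem hq)
      have hvq : ve R v = ve R q := by
        rcases hcase hv with e1 | e1 | e1 | e1
        · exact absurd (by rw [e1]; exact one_mem _) hvz
        · exact absurd (by rw [e1]; exact mem_zpowers z) hvz
        · rw [e1]
        · rw [e1, ve_z_mul h.toOdd R hqw]
      have huv : ve R (u * v) = ve R u * ve R q := by rw [ve_mul R huw hvw, hvq]
      -- the image of `P`
      have hPw : P ⊓ ws V z ≤ ws V z := inf_le_right
      have key : ∀ {x : G}, x ∈ dd V → x ∉ V →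
          (∀ j ∈ centralizer ({z} : Set G), j ∈ centralizer ({x} : Set G) → cj j V ≤ P) →
          ∀ g ∈ (act M X).range, g (ve R x) = ve R x → g (ve R q) ∈ (vr R hPw).range := by
        rintro x hx hxV hPx _ ⟨g, rfl⟩ hg
        obtain ⟨c, hc, rfl⟩ := R.rho_surj g
        obtain ⟨j, hjz, hjx, hjc⟩ := h.exists_fixer R hx hxV hc hg
        rw [← hjc, act_ve R hjz hqw]
        exact (mem_vr R _).mpr ⟨_, ⟨hPx j hjz hjx (conj_mem_cj hq), R.conj_mem hjz hqw⟩, rfl⟩
      have htop := h3 _ ((mem_vr R _).mpr ⟨u, hu, rfl⟩) hu1 huε _ (key hu huV hP1) (by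
        rw [← huv]
        exact key huvd huvV hP2)
      have hzP : z ∈ P := hP1 1 (one_mem _) (one_mem _) (by rw [cj_one]; exact h.z_mem)
      intro w hw
      have h5 : ve R w ∈ (vr R hPw).range := by rw [htop]; exact mem_top _
      obtain ⟨a, ha, e⟩ := (mem_vr R _).mp h5
      rw [ve_eq h.toOdd (Pt.refl z) R ha.2 hw] at e
      rcases e with e | e
      · rw [← e]; exact ha.1
      · have e2 : w = z⁻¹ * a := by rw [e, inv_mul_cancel_left]
        rw [e2]
        exact mul_mem (inv_mem hzP) ha.1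

end Cnt

end Cfsg.Agent.MinSimple.TvPoint
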