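import Mathlib
import Cfsg.Agent.MinSimple.TvPoint
import Cfsg.Agent.MinSimple.OddBeta
import Cfsg.Agent.MinSimple.ThompsonCount
import Cfsg.Agent.ZN.ChoiceBase

/-!
# (E1)(b), row 4406: `n ≥ 2` and `[V, J(T)] ≠ 1` imply `|ws V z| = 8`

* `card_ws`: for an elementary abelian subgroup `A` of maximal order of `T` with `A ≰ C(V)`, provided that `ws V r`
  and `ws V s` commute for `r`, `s ∈ V`;
* `card_ws_of_jj`: for `OddN T V z n`, `2 ≤ n`, `¬ jj T ≤ C(V)`.
-/

set_option autoImplicit false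
set_option linter.unusedSectionVars false

namespace Cfsg.Agent.MinSimple.ThompsonLine

open Subgroup Cfsg Cfsg.Agent.ZN Cfsg.Agent.MinSimple.Geo Cfsg.Agent.MinSimple.BTwoA
  Cfsg.Agent.MinSimple.OddLine Cfsg.Agent.MinSimple.OddBase Cfsg.Agent.MinSimple.ThompsonCount

universe u

variable {G : Type u} [Group G] [Finite G] {T V : Subgroup G} {z : G} {n : ℕ}

theorem card_ws (h : Odd T V z) {A : Subgroup G} (hAT : A ≤ T) (hA : El A)
    (hmax : ∀ B ≤ T, El B → Nat.card B ≤ Nat.card A) (hAV : ¬ A ≤ centralizer (V : Set G))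
    (hcomm : ∀ r ∈ V, ∀ s ∈ V, r ≠ 1 → s ≠ 1 → ∀ a ∈ ws V r, ∀ b ∈ ws V s, a * b = b * a) :
    Nat.card (ws V z) = 8 := by
  obtain ⟨r, hr, hr1, hrz⟩ := h.exists_y
  obtain ⟨g, hg, e, h1⟩ := h.toGeo.point hr hr1
  obtain ⟨T', h'⟩ := h.point hr hr1
  have hcnt := count h hAT hA hmax hAV hcomm hr hr1 hrz
  have hc : TvPoint.Cnt T' V r (A ⊓ centralizer (V : Set G)) :=
    { toOdd := h'
      A_le := inf_le_right
      A_sq := fun a ha => hA.2 a ha.1
      cnt := by
        refine (Nat.mul_le_mul_left _ (card_le_of_le ?_)).trans hcnt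
        exact inf_le_inf_right _ inf_le_left }
  have hcard : Nat.card (ws V z) = Nat.card (ws V r) := by
    rw [← e, ← cj_ws, card_cj]
  rcases hc.main h.z_mem h.z_ne (Ne.symm hrz) with h8 | ⟨h2, h3, h4, h5⟩
  · rw [hcard, h8]
  · exfalso
    refine OddBeta.Beta.false (T := T') (V := V) (z := r)
      { toOdd := h'
        cent := h2
        nt := h3
        ne := fun u hu huV => ?_
        sup := fun u hu huV v hv hvz => ?_ }
    · obtain ⟨P, hP, huP, hPj⟩ := h4 u hu huV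
      refine (lt_of_le_of_lt (OddBeta.ee_le huP fun j hj1 hj2 => hPj j ?_ ?_) hP).ne
      · exact mem_centralizer_singleton_iff.mpr hj1
      · exact mem_centralizer_singleton_iff.mpr hj2
    · refine h5 u hu huV v hv hvz _ (fun j hj1 hj2 => ?_) (fun j hj1 hj2 => ?_)
      · exact (OddBeta.cj_le_ee (mem_centralizer_singleton_iff.mp hj1)
          (mem_centralizer_singleton_iff.mp hj2)).trans le_sup_left
      · exact (OddBeta.cj_le_ee (mem_centralizer_singleton_iff.mp hj1)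
          (mem_centralizer_singleton_iff.mp hj2)).trans le_sup_right

/-- **Row 4406.** -/
theorem card_ws_of_jj (h : OddN T V z n) (hn : 2 ≤ n) (hJ : ¬ jj T ≤ centralizer (V : Set G)) :
    Nat.card (ws V z) = 8 := by
  obtain ⟨A, hA, hAV⟩ : ∃ A ∈ ChoiceBase.AA T, ¬ A ≤ centralizer (V : Set G) := by
    by_contra hcon
    push Not at hcon
    apply hJ
    rw [ChoiceBase.jj_eq]
    exact sSup_le hcon
  have hel : ∀ {B : Subgroup G}, IsElementaryAbelian 2 B ↔ El B := by
    intro B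
    rw [Cfsg.Agent.PLocal.ThompsonJ.isElementaryAbelian_iff]
    constructor
    · rintro ⟨h1, h2⟩
      exact ⟨h1, fun a ha => by rw [← pow_two]; exact h2 a ha⟩
    · rintro ⟨h1, h2⟩
      exact ⟨h1, fun a ha => by rw [pow_two]; exact h2 a ha⟩
  refine card_ws h.toOdd hA.2.1 (hel.mp hA.1) (fun B hB hB' => hA.2.2 B (hel.mpr hB') hB) hAV ?_
  intro r hr s hs hr1 hs1 a ha b hb
  have hzr : Pt z r := by
    obtain ⟨g, -, e, -⟩ := h.toGeo.point hr hr1
    exact ⟨g, e.symm⟩
  refine h.lt r s 1 (by omega) hzr ?_ a ha b hb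
  rw [walk_one]
  by_cases hrs : r = s
  · exact Or.inl hrs
  · exact Or.inr ⟨hr1, hs1, hrs, V, ⟨⟨1, (cj_one V).symm⟩, hr⟩, hs⟩

end Cfsg.Agent.MinSimple.ThompsonLine
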