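import Cfsg.Agent.MinSimple.CoreFinal
import Cfsg.Agent.MinSimple.OddOneEnd
import Cfsg.Agent.MinSimple.OddK
import Cfsg.Agent.MinSimple.OddTwo
import Cfsg.Agent.MinSimple.ThompsonLine
import Cfsg.Agent.MinSimple.OddSmall
import Cfsg.Agent.MinSimple.OddOneZero
import Cfsg.Agent.MinSimple.OddCaseOneEnd

/-!
# Core theorem T: assembly of (E1)(b)

* `finHyp_of_le_two`: `n ≤ 2` leads to the final configuration;
* `oddFFStmt`: (E1)(b) with `[V, J(T)] ≠ 1`;
* `oddMaxStmt`: (E1)(b) with `Max1`.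
-/

set_option autoImplicit false

namespace Cfsg.Agent.MinSimple.CoreOdd

open Subgroup Cfsg Cfsg.Agent.ZN Cfsg.Agent.MinSimple Cfsg.Agent.MinSimple.CoreMain
open Cfsg.Agent.MinSimple.Geo (ws)
open Cfsg.Agent.MinSimple.OddLine (Odd)
open Cfsg.Agent.MinSimple.OddBase (OddN Crit)

universe u

variable {G : Type u} [Group G]

theorem _root_.Cfsg.Agent.MinSimple.CoreMain.Core.index_ne_two' (h : Core G) (N : Subgroup G) :
    N.index ≠ 2 := fun hi =>
  h.index_ne_two N (Subgroup.normal_of_index_eq_two hi) hi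

theorem ne_zero [Finite G] {T V : Subgroup G} {z : G} (h : OddN T V z 0) : False := by
  obtain ⟨x, y, hx, hw, a, ha, b, hb, hab⟩ := h.crit
  have e : x = y := hw
  subst e
  obtain ⟨g, rfl⟩ := hx
  rw [← Geo.cj_ws] at ha hb
  rw [Geo.mem_cj] at ha hb
  have h1 := h.ab _ ha _ hb
  apply hab
  calc a * b = g * (g⁻¹ * a * g * (g⁻¹ * b * g)) * g⁻¹ := by group
    _ = g * (g⁻¹ * b * g * (g⁻¹ * a * g)) * g⁻¹ := by rw [h1]
    _ = b * a := by group

/-- `n ≤ 2` leads to the final configuration. -/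
theorem finHyp_of_le_two (hG : Core G) {T V : Subgroup G} {z : G} {n : ℕ} (h : OddN T V z n)
    (hn : n ≤ 2) : ∃ q, Classification.TitsFin.FinHyp z q := by
  have := hG.finite
  interval_cases n
  · exact (ne_zero h).elim
  · exact OddOneEnd.finHyp_of_one hG.isSimpleGroup hG.index_ne_two' (OddK.one h)
  · exact (OddTwo.not_two h).elim

/-- **(E1)(b) with `[V, J(T)] ≠ 1`** -/
theorem oddFFStmt (G : Type u) [Group G] : OddFFStmt G := by
  intro hG T V z hg hJ hab
  have := hG.finite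
  obtain ⟨n, h⟩ := OddBase.exists_n (T := T) (V := V) (z := z) { toGeo := hg, ab := hab }
  by_cases hn : n ≤ 2
  · exact ⟨z, finHyp_of_le_two hG h hn⟩
  · exact absurd (OddSmall.le_two_of_card_eight h
      (ThompsonLine.card_ws_of_jj h (by omega) hJ)) hn

/-- **(E1)(b) with `Max1`** -/
theorem oddMaxStmt (G : Type u) [Group G] : CoreFinal.OddMaxStmt G := by
  intro hG T V z hg hM hab
  have := hG.finite
  obtain ⟨n, h⟩ := OddBase.exists_n (T := T) (V := V) (z := z) { toGeo := hg, ab := hab }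
  by_cases hn : n ≤ 2
  · exact ⟨z, finHyp_of_le_two hG h hn⟩
  · obtain ⟨x, y, hc, hx, hy⟩ := OddOneZero.exists_case_one h (by omega) hM
    exact (OddSlide.false_of_crit h (by omega) hc hx hy).elim

end Cfsg.Agent.MinSimple.CoreOdd
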