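import Mathlib
import Cfsg.Agent.ZN.Defs

/-!
# Case (d) of (E1): interface

See `blueprints/P21-T-case-d-helper824.md`.  Convention: `V ^ x` is `V.map (MulAut.conj x).toMonoidHom`,
i.e. `x V x⁻¹`; commutators are written out as `g * h * g⁻¹ * h⁻¹`.

* `Ctx S P P₂ V` : the hypotheses of Theorem D together with `¬ V ≤ o2 P₂`.
* `LD V V₀ Z₀ B V'` : the part of the `L`-structure used on the side of `P`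
  (`V' = V ^ x`, `B = V₀ ^ x`, `Z₀ = V ⊓ V'`); output of steps (1) and (2).
* `XD P₂ V V₀ a x r` : the choice of `x`.
* `PD P V V₀ Z₀ B z b c y₁ y₂` : the output of steps (3) and (4): `|V| = 16`, `Z₀ = ⟨z⟩`, ...
-/

set_option autoImplicit false

namespace Cfsg.Agent.MinSimple.CaseDDefs

open Subgroup Cfsg Cfsg.Agent.ZN

universe u

variable {G : Type u} [Group G]

/-- The hypotheses of Theorem D and `V ≰ O₂(P₂)`. -/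
structure Ctx (S P P₂ V : Subgroup G) : Prop where
  /-- all 2-locals are solvable -/
  hloc : ∀ U : Subgroup G, IsPGroup 2 U → U ≠ ⊥ → Group.IsSolvable ↥(normalizer (U : Set G))
  S2 : IsPGroup 2 S
  SP : S ≤ P
  SP₂ : S ≤ P₂
  sylP : ¬ 2 ∣ S.relIndex P
  sylP₂ : ¬ 2 ∣ S.relIndex P₂
  solP : Group.IsSolvable P
  solP₂ : Group.IsSolvable P₂
  Zne : zc S ≠ ⊥
  VS : V ≤ S
  ZV : zc S ≤ V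
  PV : P ≤ normalizer (V : Set G)
  Vcomm : ∀ v ∈ V, ∀ w ∈ V, v * w = w * v
  Vsq : ∀ v ∈ V, v * v = 1
  /-- `O₂(P / C_P(V)) = 1` -/
  core : ∀ N : Subgroup G, N ≤ P → P ≤ normalizer (N : Set G) →
    (∀ n ∈ N, ∃ k : ℕ, n ^ 2 ^ k ∈ centralizer (V : Set G)) → N ≤ centralizer (V : Set G)
  /-- `C_V(P) = 1` -/
  CVP : V ⊓ centralizer (P : Set G) = ⊥
  /-- `[Ω₁Z(S), P₂] = 1` -/
  Z₂ : P₂ ≤ centralizer (zc S : Set G)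
  char : P₂ ⊓ centralizer (o2 P₂ : Set G) ≤ o2 P₂
  Vnle : ¬ V ≤ o2 P₂

/-- The choice of `x`: `D := V ⊓ O₂(P₂) ≤ V₀`, `|V : V₀| = 2`, modulo `Q₂ := O₂(P₂)` the element `x` has
prime order `r ≠ 2`, is centralised by `V₀` and inverted by `a ∈ V`. -/
structure XD (P₂ V V₀ : Subgroup G) (a x : G) (r : ℕ) : Prop where
  r_prime : r.Prime
  r_ne : r ≠ 2
  xP₂ : x ∈ P₂
  xne : x ∉ o2 P₂
  xr : x ^ r ∈ o2 P₂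
  V₀_le : V₀ ≤ V
  D_le : V ⊓ o2 P₂ ≤ V₀
  idx : V₀.relIndex V = 2
  cent : ∀ v ∈ V₀, v * x * v⁻¹ * x⁻¹ ∈ o2 P₂
  aV : a ∈ V
  inv : a * x * a⁻¹ * x ∈ o2 P₂

/-- The `L`-structure as used on the side of `P`: `V' = V ^ x`, `B = V₀ ^ x`. -/
structure LD (V V₀ Z₀ B V' : Subgroup G) : Prop where
  Vcomm : ∀ v ∈ V, ∀ w ∈ V, v * w = w * v
  Vsq : ∀ v ∈ V, v * v = 1
  V'comm : ∀ v ∈ V', ∀ w ∈ V', v * w = w * v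
  V'sq : ∀ v ∈ V', v * v = 1
  V₀_le : V₀ ≤ V
  B_le : B ≤ V'
  inf_eq : V ⊓ V' = Z₀
  Z₀_le : Z₀ ≤ V₀
  Z₀_leB : Z₀ ≤ B
  idx : V₀.relIndex V = 2
  idx' : B.relIndex V' = 2
  /-- `B` normalises `V` and `[V, B] ≤ V₀` -/
  nrm : ∀ v ∈ V, ∀ b ∈ B, v * b * v⁻¹ * b⁻¹ ∈ V₀
  /-- `V₀` normalises `V'` and `[V', V₀] ≤ B` -/
  nrm' : ∀ v ∈ V₀, ∀ v' ∈ V', v * v' * v⁻¹ * v'⁻¹ ∈ B
  /-- `C_U(a) = V₀ / Z₀` for `a ∈ V ∖ V₀`, `U = V₀ B / Z₀` -/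
  inj : ∀ v ∈ V, v ∉ V₀ → ∀ b ∈ B, v * b * v⁻¹ * b⁻¹ ∈ Z₀ → b ∈ Z₀
  /-- `C_U(a') = B / Z₀` for `a' ∈ V' ∖ B` -/
  inj' : ∀ v' ∈ V', v' ∉ B → ∀ v ∈ V₀, v * v' * v⁻¹ * v'⁻¹ ∈ Z₀ → v ∈ Z₀
  ne : ¬ B ≤ Z₀

/-- The output of steps (3) and (4), the side of `P`. All relations between `b, c, y₁, y₂` hold modulo
`C_G(V)`. -/
structure PD (P V V₀ Z₀ B : Subgroup G) (z b c y₁ y₂ : G) : Prop where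
  cardV : Nat.card V = 16
  cardV₀ : Nat.card V₀ = 8
  cardB : Nat.card B = 8
  z_ne : z ≠ 1
  Z₀_eq : ∀ g : G, g ∈ Z₀ ↔ g = 1 ∨ g = z
  bB : b ∈ B
  cB : c ∈ B
  /-- `B = ⟨b, c, z⟩` -/
  B_eq : ∀ g ∈ B, ∃ e ∈ Z₀, g = e ∨ g = e * b ∨ g = e * c ∨ g = e * (b * c)
  y₁P : y₁ ∈ P
  y₂P : y₂ ∈ P
  /-- `y₁`, `y₂` act fixed-point-freely on `V` -/
  fpf₁ : ∀ v ∈ V, y₁ * v * y₁⁻¹ = v → v = 1
  fpf₂ : ∀ v ∈ V, y₂ * v * y₂⁻¹ = v → v = 1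
  y₁_cube : y₁ ^ 3 ∈ centralizer (V : Set G)
  y₂_cube : y₂ ^ 3 ∈ centralizer (V : Set G)
  y₁y₂ : y₁ * y₂ * y₁⁻¹ * y₂⁻¹ ∈ centralizer (V : Set G)
  /-- `b` inverts `y₁` and centralises `y₂`; `c` inverts `y₂` and centralises `y₁` -/
  by₁ : b * y₁ * b⁻¹ * y₁ ∈ centralizer (V : Set G)
  by₂ : b * y₂ * b⁻¹ * y₂⁻¹ ∈ centralizer (V : Set G)
  cy₁ : c * y₁ * c⁻¹ * y₁⁻¹ ∈ centralizer (V : Set G)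
  cy₂ : c * y₂ * c⁻¹ * y₂ ∈ centralizer (V : Set G)
  /-- `C_V(b) = [V, b] = {1, z, [v, b], [v, b] z}` for any `v ∈ V ∖ V₀` -/
  Cb : ∀ v ∈ V, v ∉ V₀ → ∀ u ∈ V, b * u * b⁻¹ = u →
    u ∈ Z₀ ∨ ∃ e ∈ Z₀, u = v * b * v⁻¹ * b⁻¹ * e
  Cc : ∀ v ∈ V, v ∉ V₀ → ∀ u ∈ V, c * u * c⁻¹ = u →
    u ∈ Z₀ ∨ ∃ e ∈ Z₀, u = v * c * v⁻¹ * c⁻¹ * e
  /-- `⟨y₁, y₂⟩ C_P(V)` is normal in `P` -/
  nrm₁ : ∀ g ∈ P, ∃ i j : ℕ, g * y₁ * g⁻¹ * (y₁ ^ i * y₂ ^ j) ∈ centralizer (V : Set G)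
  nrm₂ : ∀ g ∈ P, ∃ i j : ℕ, g * y₂ * g⁻¹ * (y₁ ^ i * y₂ ^ j) ∈ centralizer (V : Set G)

end Cfsg.Agent.MinSimple.CaseDDefs
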