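import Mathlib
import Cfsg.Agent.MinSimple.VModule

/-!
# Case (d) of the core theorem: the group `L = ⟨V, V^x⟩`

Setting `Sit Q V x`: subgroups `Q`, `V` of `G` normalizing each other, `V` abelian, `x` an element
normalizing `Q` with `x ∈ L = ⟨V, V^x⟩`. Put `D = V ∩ Q` (`dd Q V`), `D^x = x D x⁻¹` (`dx Q V x`),
`I = D ∩ D^x` (`ii Q V x`), `F = D D^x` (`ff Q V x`).
-/

set_option autoImplicit false

namespace Cfsg.Agent.MinSimple.CaseDBase

open Subgroup Cfsg Cfsg.Agent.ZN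

universe u

variable {G : Type u} [Group G]

/-- `D = V ∩ Q`. -/
def dd (Q V : Subgroup G) : Subgroup G := V ⊓ Q

/-- `V^x = x V x⁻¹`. -/
def cj (V : Subgroup G) (x : G) : Subgroup G := V.map (MulAut.conj x).toMonoidHom

/-- `L = ⟨V, V^x⟩`. -/
def ll (V : Subgroup G) (x : G) : Subgroup G := V ⊔ cj V x

/-- `D^x`. -/
def dx (Q V : Subgroup G) (x : G) : Subgroup G := cj (dd Q V) x

/-- `I = D ∩ D^x`. -/
def ii (Q V : Subgroup G) (x : G) : Subgroup G := dd Q V ⊓ dx Q V x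

/-- `F = D D^x`. -/
def ff (Q V : Subgroup G) (x : G) : Subgroup G := dd Q V ⊔ dx Q V x

/-- The setting of `L = ⟨V, V^x⟩`. -/
structure Sit (Q V : Subgroup G) (x : G) : Prop where
  comm : ∀ a ∈ V, ∀ b ∈ V, a * b = b * a
  QV : Q ≤ normalizer (V : Set G)
  VQ : V ≤ normalizer (Q : Set G)
  xQ : x ∈ normalizer (Q : Set G)
  mem : x ∈ ll V x

theorem dd_def (Q V : Subgroup G) : dd Q V = V ⊓ Q := rfl
theorem cj_def (V : Subgroup G) (x : G) : cj V x = V.map (MulAut.conj x).toMonoidHom := rfl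
theorem ll_def (V : Subgroup G) (x : G) : ll V x = V ⊔ cj V x := rfl
theorem dx_def (Q V : Subgroup G) (x : G) : dx Q V x = cj (dd Q V) x := rfl
theorem ii_def (Q V : Subgroup G) (x : G) : ii Q V x = dd Q V ⊓ dx Q V x := rfl
theorem ff_def (Q V : Subgroup G) (x : G) : ff Q V x = dd Q V ⊔ dx Q V x := rfl

theorem mem_cj {V : Subgroup G} {x g : G} : g ∈ cj V x ↔ x⁻¹ * g * x ∈ V := by
  constructor
  · rintro ⟨v, hv, rfl⟩
    have : x⁻¹ * (MulAut.conj x).toMonoidHom v * x = v := by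
      change x⁻¹ * (x * v * x⁻¹) * x = v
      group
    rw [this]; exact hv
  · intro h
    refine ⟨x⁻¹ * g * x, h, ?_⟩
    change x * (x⁻¹ * g * x) * x⁻¹ = g
    group

theorem conj_mem_cj {V : Subgroup G} (x : G) {v : G} (hv : v ∈ V) : x * v * x⁻¹ ∈ cj V x :=
  ⟨v, hv, rfl⟩

theorem cj_mono {V W : Subgroup G} (h : V ≤ W) (x : G) : cj V x ≤ cj W x := Subgroup.map_mono h

theorem cj_cj (V : Subgroup G) (x y : G) : cj (cj V x) y = cj V (y * x) := by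
  ext g
  rw [mem_cj, mem_cj, mem_cj]
  have : x⁻¹ * (y⁻¹ * g * y) * x = (y * x)⁻¹ * g * (y * x) := by group
  rw [this]

theorem cj_inf (V W : Subgroup G) (x : G) : cj (V ⊓ W) x = cj V x ⊓ cj W x := by
  ext g
  simp only [mem_inf, mem_cj]

theorem cj_eq_of_mem_normalizer {V : Subgroup G} {x : G} (h : x ∈ normalizer (V : Set G)) :
    cj V x = V := mem_normalizer_iff_map_conj_eq.mp h

theorem conj_mem_of_le {A B : Subgroup G} (h : A ≤ normalizer (B : Set G)) {a b : G} (ha : a ∈ A)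
    (hb : b ∈ B) : a * b * a⁻¹ ∈ B := (mem_normalizer_iff.mp (h ha) b).mp hb

theorem inv_conj_mem_of_le {A B : Subgroup G} (h : A ≤ normalizer (B : Set G)) {a b : G}
    (ha : a ∈ A) (hb : b ∈ B) : a⁻¹ * b * a ∈ B := by
  have := conj_mem_of_le h (inv_mem ha) hb
  rwa [inv_inv] at this

/-- `A` normalizes `B` as soon as conjugation by elements of `A` maps `B` into `B`. -/
theorem le_normalizer_of {A B : Subgroup G} (h : ∀ a ∈ A, ∀ b ∈ B, a * b * a⁻¹ ∈ B) :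
    A ≤ normalizer (B : Set G) := by
  intro a ha
  rw [mem_normalizer_iff]
  intro b
  refine ⟨h a ha b, fun hb => ?_⟩
  have := h a⁻¹ (inv_mem ha) _ hb
  have e : a⁻¹ * (a * b * a⁻¹) * a⁻¹⁻¹ = b := by group
  rwa [e] at this

section Sit

variable {Q V : Subgroup G} {x : G}

theorem dd_le_left : dd Q V ≤ V := inf_le_left
theorem dd_le_right : dd Q V ≤ Q := inf_le_right

theorem dx_le_cj : dx Q V x ≤ cj V x := cj_mono dd_le_left x

theorem Sit.cj_Q (h : Sit Q V x) : cj Q x = Q := cj_eq_of_mem_normalizer h.xQ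

theorem Sit.dx_le_Q (h : Sit Q V x) : dx Q V x ≤ Q := by
  conv_rhs => rw [← h.cj_Q]
  exact cj_mono dd_le_right x

theorem Sit.dx_eq (h : Sit Q V x) : dx Q V x = cj V x ⊓ Q := by
  rw [dx_def, dd_def, cj_inf, h.cj_Q]

theorem V_le_ll : V ≤ ll V x := le_sup_left
theorem cj_le_ll : cj V x ≤ ll V x := le_sup_right

theorem dd_le_ff : dd Q V ≤ ff Q V x := le_sup_left
theorem dx_le_ff : dx Q V x ≤ ff Q V x := le_sup_right
theorem ii_le_dd : ii Q V x ≤ dd Q V := inf_le_left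
theorem ii_le_dx : ii Q V x ≤ dx Q V x := inf_le_right
theorem ii_le_ff : ii Q V x ≤ ff Q V x := ii_le_dd.trans dd_le_ff

theorem ff_le_ll : ff Q V x ≤ ll V x :=
  sup_le (dd_le_left.trans V_le_ll) (dx_le_cj.trans cj_le_ll)

theorem Sit.ff_le_Q (h : Sit Q V x) : ff Q V x ≤ Q := sup_le dd_le_right h.dx_le_Q

theorem Sit.cj_comm (h : Sit Q V x) : ∀ a ∈ cj V x, ∀ b ∈ cj V x, a * b = b * a := by
  rintro _ ⟨a, ha, rfl⟩ _ ⟨b, hb, rfl⟩
  rw [← map_mul, ← map_mul, h.comm a ha b hb]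

theorem Sit.Q_cj (h : Sit Q V x) : Q ≤ normalizer (cj V x : Set G) := by
  refine le_normalizer_of fun q hq b hb => ?_
  rw [mem_cj] at hb ⊢
  have h1 : x⁻¹ * q * x ∈ Q := by
    rw [← mem_cj, h.cj_Q]; exact hq
  have e : x⁻¹ * (q * b * q⁻¹) * x = (x⁻¹ * q * x) * (x⁻¹ * b * x) * (x⁻¹ * q * x)⁻¹ := by group
  rw [e]
  exact conj_mem_of_le h.QV h1 hb

theorem Sit.cj_Q' (h : Sit Q V x) : cj V x ≤ normalizer (Q : Set G) := by
  refine le_normalizer_of fun v hv q hq => ?_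
  rw [mem_cj] at hv
  have h1 : x⁻¹ * q * x ∈ Q := by
    rw [← mem_cj, h.cj_Q]; exact hq
  have h2 := conj_mem_of_le h.VQ hv h1
  have e : v * q * v⁻¹ = x * ((x⁻¹ * v * x) * (x⁻¹ * q * x) * (x⁻¹ * v * x)⁻¹) * x⁻¹ := by group
  rw [e, ← h.cj_Q]
  exact conj_mem_cj x h2

theorem Sit.ll_Q (h : Sit Q V x) : ll V x ≤ normalizer (Q : Set G) := sup_le h.VQ h.cj_Q'

/-- `[Q, V] ≤ D`. -/
theorem Sit.comm_mem (h : Sit Q V x) {q v : G} (hq : q ∈ Q) (hv : v ∈ V) :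
    q * v * q⁻¹ * v⁻¹ ∈ dd Q V := by
  refine ⟨V.mul_mem (conj_mem_of_le h.QV hq hv) (V.inv_mem hv), ?_⟩
  have e : q * v * q⁻¹ * v⁻¹ = q * (v * q⁻¹ * v⁻¹) := by group
  rw [e]
  exact mul_mem hq (conj_mem_of_le h.VQ hv (inv_mem hq))

theorem Sit.comm_mem' (h : Sit Q V x) {q v : G} (hq : q ∈ Q) (hv : v ∈ V) :
    v * q * v⁻¹ * q⁻¹ ∈ dd Q V := by
  have := inv_mem (h.comm_mem hq hv)
  have e : (q * v * q⁻¹ * v⁻¹)⁻¹ = v * q * v⁻¹ * q⁻¹ := by group
  rwa [e] at this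

/-- `[Q, V^x] ≤ D^x`. -/
theorem Sit.comm_mem_dx (h : Sit Q V x) {q v : G} (hq : q ∈ Q) (hv : v ∈ cj V x) :
    q * v * q⁻¹ * v⁻¹ ∈ dx Q V x := by
  rw [dx_def, mem_cj]
  have h1 : x⁻¹ * q * x ∈ Q := by
    rw [← mem_cj, h.cj_Q]; exact hq
  have h2 := h.comm_mem h1 (mem_cj.mp hv)
  have e : x⁻¹ * (q * v * q⁻¹ * v⁻¹) * x =
      (x⁻¹ * q * x) * (x⁻¹ * v * x) * (x⁻¹ * q * x)⁻¹ * (x⁻¹ * v * x)⁻¹ := by group
  rwa [e]

theorem Sit.comm_mem_dx' (h : Sit Q V x) {q v : G} (hq : q ∈ Q) (hv : v ∈ cj V x) :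
    v * q * v⁻¹ * q⁻¹ ∈ dx Q V x := by
  have := inv_mem (h.comm_mem_dx hq hv)
  have e : (q * v * q⁻¹ * v⁻¹)⁻¹ = v * q * v⁻¹ * q⁻¹ := by group
  rwa [e] at this

theorem Sit.Q_dd (h : Sit Q V x) : Q ≤ normalizer (dd Q V : Set G) :=
  le_normalizer_of fun _ hq _ hd =>
    ⟨conj_mem_of_le h.QV hq hd.1, Q.mul_mem (Q.mul_mem hq hd.2) (Q.inv_mem hq)⟩

theorem Sit.Q_dx (h : Sit Q V x) : Q ≤ normalizer (dx Q V x : Set G) := by
  rw [h.dx_eq]
  exact le_normalizer_of fun _ hq _ hd =>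
    ⟨conj_mem_of_le h.Q_cj hq hd.1, Q.mul_mem (Q.mul_mem hq hd.2) (Q.inv_mem hq)⟩

theorem Sit.Q_ff (h : Sit Q V x) : Q ≤ normalizer (ff Q V x : Set G) := by
  refine le_normalizer_of fun q hq b hb => ?_
  have h1 : cj (ff Q V x) q ≤ ff Q V x := by
    rw [ff_def, cj_def, Subgroup.map_sup]
    exact sup_le ((cj_eq_of_mem_normalizer (h.Q_dd hq)).le.trans le_sup_left)
      ((cj_eq_of_mem_normalizer (h.Q_dx hq)).le.trans le_sup_right)
  exact h1 (conj_mem_cj q hb)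

/-- `F ⊴ L`. -/
theorem Sit.ll_ff (h : Sit Q V x) : ll V x ≤ normalizer (ff Q V x : Set G) := by
  refine sup_le ?_ ?_
  · refine le_normalizer_of fun v hv b hb => ?_
    have h1 := h.comm_mem' (h.ff_le_Q hb) hv
    have e : v * b * v⁻¹ = (v * b * v⁻¹ * b⁻¹) * b := by group
    rw [e]
    exact mul_mem (dd_le_ff h1) hb
  · refine le_normalizer_of fun v hv b hb => ?_
    have h1 := h.comm_mem_dx' (h.ff_le_Q hb) hv
    have e : v * b * v⁻¹ = (v * b * v⁻¹ * b⁻¹) * b := by group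
    rw [e]
    exact mul_mem (dx_le_ff h1) hb

/-- `[Q, L] ≤ F`. -/
theorem Sit.comm_mem_ff (h : Sit Q V x) {q l : G} (hq : q ∈ Q) (hl : l ∈ ll V x) :
    l * q * l⁻¹ * q⁻¹ ∈ ff Q V x := by
  -- the elements of `L` acting trivially on `Q` mod `F`
  have key : ∀ l ∈ ll V x, ∀ q ∈ Q, l * q * l⁻¹ * q⁻¹ ∈ ff Q V x := by
    intro l hl
    rw [ll_def, sup_eq_closure] at hl
    have hsub : (V : Set G) ∪ (cj V x : Set G) ⊆ (ll V x : Set G) := by
      rintro y (hy | hy)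
      · exact V_le_ll hy
      · exact cj_le_ll hy
    have hF : ∀ y ∈ (V : Set G) ∪ (cj V x : Set G), ∀ q ∈ Q, y * q * y⁻¹ * q⁻¹ ∈ ff Q V x := by
      rintro y (hy | hy) q hq
      · exact dd_le_ff (h.comm_mem' hq hy)
      · exact dx_le_ff (h.comm_mem_dx' hq hy)
    have hcl : closure ((V : Set G) ∪ (cj V x : Set G)) ≤ ll V x := (closure_le _).mpr hsub
    refine closure_induction (p := fun y _ => ∀ q ∈ Q, y * q * y⁻¹ * q⁻¹ ∈ ff Q V x) hF
      (fun q _ => by simp) ?_ ?_ hl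
    · intro a b ha hb h1 h2 q hq
      have e : a * b * q * (a * b)⁻¹ * q⁻¹ =
          (a * (b * q * b⁻¹ * q⁻¹) * a⁻¹) * (a * q * a⁻¹ * q⁻¹) := by group
      rw [e]
      exact mul_mem (conj_mem_of_le h.ll_ff (hcl ha) (h2 q hq)) (h1 q hq)
    · intro a ha h1 q hq
      have h2 : a⁻¹ * q * a ∈ Q := inv_conj_mem_of_le h.ll_Q (hcl ha) hq
      have h3 := h1 _ h2
      have e : a⁻¹ * q * a⁻¹⁻¹ * q⁻¹ = (a * (a⁻¹ * q * a) * a⁻¹ * (a⁻¹ * q * a)⁻¹)⁻¹ := by group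
      have e2 : a⁻¹ * q * a⁻¹⁻¹ * q⁻¹ =
          (q * (a⁻¹ * q * a)⁻¹)⁻¹ := by group
      have e3 : a * (a⁻¹ * q * a) * a⁻¹ * (a⁻¹ * q * a)⁻¹ = q * (a⁻¹ * q * a)⁻¹ := by group
      rw [e2, ← e3]
      exact inv_mem h3
  exact key l hl q hq

/-- `I ≤ Z(L)`. -/
theorem Sit.ii_cent (h : Sit Q V x) : ll V x ≤ centralizer (ii Q V x : Set G) := by
  refine sup_le (fun v hv => ?_) (fun v hv => ?_)
  · exact mem_centralizer_iff.mpr fun i hi => h.comm i (dd_le_left (ii_le_dd hi)) v hv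
  · exact mem_centralizer_iff.mpr fun i hi => h.cj_comm i (dx_le_cj (ii_le_dx hi)) v hv

theorem Sit.ii_comm (h : Sit Q V x) {i l : G} (hi : i ∈ ii Q V x) (hl : l ∈ ll V x) :
    l * i = i * l := (mem_centralizer_iff.mp (h.ii_cent hl) i hi).symm

theorem ii_le_ll : ii Q V x ≤ ll V x := ii_le_ff.trans ff_le_ll

/-- `[D, D^x] ≤ I`. -/
theorem Sit.comm_mem_ii (h : Sit Q V x) {d e : G} (hd : d ∈ dd Q V) (he : e ∈ dx Q V x) :
    d * e * d⁻¹ * e⁻¹ ∈ ii Q V x := by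
  constructor
  · have e1 : d * e * d⁻¹ * e⁻¹ = d * (e * d⁻¹ * e⁻¹) := by group
    rw [e1]
    exact mul_mem hd (conj_mem_of_le h.Q_dd (h.dx_le_Q he) (inv_mem hd))
  · exact (dx Q V x).mul_mem (conj_mem_of_le h.Q_dx (dd_le_right hd) he) ((dx Q V x).inv_mem he)

/-- `[V, D^x] ≤ D`. -/
theorem Sit.comm_V_dx (h : Sit Q V x) {v e : G} (hv : v ∈ V) (he : e ∈ dx Q V x) :
    v * e * v⁻¹ * e⁻¹ ∈ dd Q V := h.comm_mem' (h.dx_le_Q he) hv

/-- `C_{D^x}(V mod I) = I`. -/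
theorem Sit.mem_ii_of_comm (h : Sit Q V x) {e : G} (he : e ∈ dx Q V x)
    (hc : ∀ v ∈ V, v * e * v⁻¹ * e⁻¹ ∈ ii Q V x) : e ∈ ii Q V x := by
  -- the elements of `L` centralizing `e` mod `I`
  have key : ∀ l ∈ ll V x, l * e * l⁻¹ * e⁻¹ ∈ ii Q V x := by
    intro l hl
    rw [ll_def, sup_eq_closure] at hl
    have hcl : closure ((V : Set G) ∪ (cj V x : Set G)) ≤ ll V x := by
      rw [closure_le]
      rintro y (hy | hy)
      · exact V_le_ll hy
      · exact cj_le_ll hy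
    refine closure_induction (p := fun y _ => y * e * y⁻¹ * e⁻¹ ∈ ii Q V x) ?_ (by simp) ?_ ?_ hl
    · rintro y (hy | hy)
      · exact hc y hy
      · have : y * e * y⁻¹ * e⁻¹ = 1 := by
          rw [h.cj_comm y hy e (dx_le_cj he)]
          group
        rw [this]
        exact one_mem _
    · intro a b ha hb h1 h2
      have e1 : a * b * e * (a * b)⁻¹ * e⁻¹ =
          (a * (b * e * b⁻¹ * e⁻¹) * a⁻¹) * (a * e * a⁻¹ * e⁻¹) := by group
      have e2 : a * (b * e * b⁻¹ * e⁻¹) * a⁻¹ = b * e * b⁻¹ * e⁻¹ := by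
        rw [h.ii_comm h2 (hcl ha)]
        group
      rw [e1, e2]
      exact mul_mem h2 h1
    · intro a ha h1
      have e1 : a⁻¹ * e * a⁻¹⁻¹ * e⁻¹ = a⁻¹ * (a * e * a⁻¹ * e⁻¹)⁻¹ * a := by group
      have e2 : (a * e * a⁻¹ * e⁻¹)⁻¹ * a = a * (a * e * a⁻¹ * e⁻¹)⁻¹ :=
        (h.ii_comm (inv_mem h1) (hcl ha)).symm
      rw [e1, mul_assoc, e2]
      have : a⁻¹ * (a * (a * e * a⁻¹ * e⁻¹)⁻¹) = (a * e * a⁻¹ * e⁻¹)⁻¹ := by group
      rw [this]
      exact inv_mem h1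
  have h1 := key x⁻¹ (inv_mem h.mem)
  -- `x⁻¹ e x ∈ I e` and `x⁻¹ e x ∈ D`
  have h2 : x⁻¹ * e * x ∈ dd Q V := mem_cj.mp he
  have h3 : e = (x⁻¹ * e * x⁻¹⁻¹ * e⁻¹)⁻¹ * (x⁻¹ * e * x) := by group
  have h4 : e ∈ dd Q V := by
    rw [h3]
    exact mul_mem (inv_mem (ii_le_dd h1)) h2
  exact ⟨h4, he⟩

/-- `C_{D^x}(V) = I`. -/
theorem Sit.mem_ii_of_mem_centralizer (h : Sit Q V x) {e : G} (he : e ∈ dx Q V x)
    (hc : e ∈ centralizer (V : Set G)) : e ∈ ii Q V x := by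
  refine h.mem_ii_of_comm he fun v hv => ?_
  have : v * e * v⁻¹ * e⁻¹ = 1 := by
    rw [mem_centralizer_iff.mp hc v hv]
    group
  rw [this]
  exact one_mem _

theorem Sit.dx_inf_centralizer (h : Sit Q V x) :
    dx Q V x ⊓ centralizer (V : Set G) = ii Q V x := by
  apply le_antisymm
  · exact fun e he => h.mem_ii_of_mem_centralizer he.1 he.2
  · exact le_inf ii_le_dx (V_le_ll.trans h.ii_cent |> fun h1 => le_centralizer_iff.mp h1)

/-- `N = [V, D^x] I`: the subgroup generated by the commutators `[v, e]`, `v ∈ V`, `e ∈ D^x`, and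
`I`. -/
def nn (Q V : Subgroup G) (x : G) : Subgroup G :=
  closure {g | ∃ v ∈ V, ∃ e ∈ dx Q V x, g = v * e * v⁻¹ * e⁻¹} ⊔ ii Q V x

theorem nn_def (Q V : Subgroup G) (x : G) : nn Q V x =
    closure {g | ∃ v ∈ V, ∃ e ∈ dx Q V x, g = v * e * v⁻¹ * e⁻¹} ⊔ ii Q V x := rfl

/-- `N' = [V^x, D] I`. -/
def nn' (Q V : Subgroup G) (x : G) : Subgroup G :=
  closure {g | ∃ v ∈ cj V x, ∃ e ∈ dd Q V, g = v * e * v⁻¹ * e⁻¹} ⊔ ii Q V x

theorem nn'_def (Q V : Subgroup G) (x : G) : nn' Q V x =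
    closure {g | ∃ v ∈ cj V x, ∃ e ∈ dd Q V, g = v * e * v⁻¹ * e⁻¹} ⊔ ii Q V x := rfl

theorem Sit.nn_le (h : Sit Q V x) : nn Q V x ≤ dd Q V := by
  refine sup_le ((closure_le _).mpr ?_) ii_le_dd
  rintro g ⟨v, hv, e, he, rfl⟩
  exact h.comm_V_dx hv he

theorem Sit.nn'_le (h : Sit Q V x) : nn' Q V x ≤ dx Q V x := by
  refine sup_le ((closure_le _).mpr ?_) ii_le_dx
  rintro g ⟨v, hv, e, he, rfl⟩
  exact h.comm_mem_dx' (dd_le_right he) hv

theorem ii_le_nn : ii Q V x ≤ nn Q V x := le_sup_right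
theorem ii_le_nn' : ii Q V x ≤ nn' Q V x := le_sup_right

/-- Elements of `D` and `D^x` commute mod `I`. -/
theorem Sit.swap (h : Sit Q V x) {d e : G} (hd : d ∈ dd Q V) (he : e ∈ dx Q V x) :
    ∃ i ∈ ii Q V x, e * d = d * e * i := by
  refine ⟨(d * e)⁻¹ * (e * d), ?_, by group⟩
  have h1 := h.comm_mem_ii (inv_mem hd) (inv_mem he)
  have e1 : (d * e)⁻¹ * (e * d) = (e⁻¹ * (d⁻¹ * e * d * e⁻¹) * e) := by group
  have e2 : (d * e)⁻¹ * (e * d) = e⁻¹ * d⁻¹ * e * d := by group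
  have h2 : (d⁻¹ * e⁻¹ * d⁻¹⁻¹ * e⁻¹⁻¹)⁻¹ = e⁻¹ * d⁻¹ * e * d := by group
  rw [e2, ← h2]
  exact inv_mem h1

/-- Normal form of the elements of `N N'`. -/
theorem Sit.mem_nn_sup (h : Sit Q V x) {g : G} (hg : g ∈ nn Q V x ⊔ nn' Q V x) :
    ∃ n ∈ nn Q V x, ∃ n' ∈ nn' Q V x, g = n * n' := by
  have hn : nn' Q V x ≤ normalizer (nn Q V x : Set G) := by
    refine le_normalizer_of fun e he d hd => ?_
    obtain ⟨i, hi, hi2⟩ := h.swap (h.nn_le hd) (h.nn'_le he)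
    have e1 : e * d * e⁻¹ = d * (e * i * e⁻¹) := by
      rw [hi2]; group
    have e2 : e * i * e⁻¹ = i := by
      rw [h.ii_comm hi (cj_le_ll (dx_le_cj (h.nn'_le he)))]
      group
    rw [e1, e2]
    exact mul_mem hd (ii_le_nn hi)
  rw [← SetLike.mem_coe, coe_mul_of_right_le_normalizer_left _ _ hn] at hg
  obtain ⟨n, hn, n', hn', rfl⟩ := hg
  exact ⟨n, hn, n', hn', rfl⟩

/-- `D = [V, D^x] I`. -/
theorem Sit.dd_eq (h : Sit Q V x) : dd Q V = nn Q V x := by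
  apply le_antisymm _ h.nn_le
  set M := nn Q V x ⊔ nn' Q V x with hM
  have hMF : M ≤ ff Q V x := sup_le (h.nn_le.trans dd_le_ff) (h.nn'_le.trans dx_le_ff)
  -- generators move `D`, `D^x` inside `M`
  have hVx : ∀ v ∈ V, ∀ e ∈ dx Q V x, v * e * v⁻¹ * e⁻¹ ∈ M := fun v hv e he =>
    (le_sup_left : nn Q V x ≤ M) ((le_sup_left : _ ≤ nn Q V x) (subset_closure ⟨v, hv, e, he, rfl⟩))
  have hxV : ∀ v ∈ cj V x, ∀ e ∈ dd Q V, v * e * v⁻¹ * e⁻¹ ∈ M := fun v hv e he =>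
    (le_sup_right : nn' Q V x ≤ M)
      ((le_sup_left : _ ≤ nn' Q V x) (subset_closure ⟨v, hv, e, he, rfl⟩))
  have hIM : ii Q V x ≤ M := ii_le_nn.trans le_sup_left
  -- `M` is normalized by `D` and `D^x`: everything commutes mod `I`
  have hMn : ff Q V x ≤ normalizer (M : Set G) := by
    refine sup_le (le_normalizer_of fun d hd m hm => ?_) (le_normalizer_of fun d hd m hm => ?_)
    · obtain ⟨n, hn, n', hn', rfl⟩ := h.mem_nn_sup hm
      obtain ⟨i, hi, hi2⟩ := h.swap hd (h.nn'_le hn')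
      have e1 : d * (n * n') * d⁻¹ = n * (d * n' * d⁻¹) := by
        have : d * n = n * d := h.comm d (dd_le_left hd) n (dd_le_left (h.nn_le hn))
        calc d * (n * n') * d⁻¹ = (d * n) * n' * d⁻¹ := by group
          _ = n * (d * n' * d⁻¹) := by rw [this]; group
      have e2 : d * n' * d⁻¹ = n' * i⁻¹ := by
        have h3 : d * n' = n' * d * i⁻¹ := by rw [hi2]; group
        have h4 : d * i⁻¹ = i⁻¹ * d := h.ii_comm (inv_mem hi) (V_le_ll (dd_le_left hd))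
        calc d * n' * d⁻¹ = n' * (d * i⁻¹) * d⁻¹ := by rw [h3]; group
          _ = n' * i⁻¹ := by rw [h4]; group
      rw [e1, e2]
      exact mul_mem (mem_sup_left hn) (mul_mem (mem_sup_right hn') (hIM (inv_mem hi)))
    · obtain ⟨n, hn, n', hn', rfl⟩ := h.mem_nn_sup hm
      obtain ⟨i, hi, hi2⟩ := h.swap (h.nn_le hn) hd
      have hcc : d * n' = n' * d := h.cj_comm d (dx_le_cj hd) n' (dx_le_cj (h.nn'_le hn'))
      have hic : i * n' = n' * i := (h.ii_comm hi (cj_le_ll (dx_le_cj (h.nn'_le hn')))).symm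
      have hid : i * d = d * i := (h.ii_comm hi (cj_le_ll (dx_le_cj hd))).symm
      have e1 : d * (n * n') * d⁻¹ = n * n' * i := by
        calc d * (n * n') * d⁻¹ = (d * n) * n' * d⁻¹ := by group
          _ = n * (d * (i * n')) * d⁻¹ := by rw [hi2]; group
          _ = n * ((d * n') * i) * d⁻¹ := by rw [hic]; group
          _ = n * n' * (d * i) * d⁻¹ := by rw [hcc]; group
          _ = n * n' * i := by rw [← hid]; group
      rw [e1]
      exact mul_mem (mul_mem (mem_sup_left hn) (mem_sup_right hn')) (hIM hi)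
  -- generators of `L` move `F` inside `M`
  have hgen : ∀ y ∈ (V : Set G) ∪ (cj V x : Set G), ∀ f ∈ ff Q V x, y * f * y⁻¹ * f⁻¹ ∈ M := by
    intro y hy f hf
    have hn : ff Q V x ≤ normalizer (M : Set G) := hMn
    rw [ff_def, sup_eq_closure] at hf
    have hcl : closure ((dd Q V : Set G) ∪ (dx Q V x : Set G)) ≤ ff Q V x := by
      rw [closure_le]
      rintro y (hy | hy)
      · exact dd_le_ff hy
      · exact dx_le_ff hy
    refine closure_induction (p := fun f _ => y * f * y⁻¹ * f⁻¹ ∈ M) ?_ (by simp) ?_ ?_ hf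
    · rintro f (hf | hf)
      · rcases hy with hy | hy
        · have : y * f * y⁻¹ * f⁻¹ = 1 := by
            rw [h.comm y hy f (dd_le_left hf)]
            group
          rw [this]; exact one_mem _
        · exact hxV y hy f hf
      · rcases hy with hy | hy
        · exact hVx y hy f hf
        · have : y * f * y⁻¹ * f⁻¹ = 1 := by
            rw [h.cj_comm y hy f (dx_le_cj hf)]
            group
          rw [this]; exact one_mem _
    · intro a b ha hb h1 h2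
      have e1 : y * (a * b) * y⁻¹ * (a * b)⁻¹ =
          (y * a * y⁻¹ * a⁻¹) * (a * (y * b * y⁻¹ * b⁻¹) * a⁻¹) := by group
      rw [e1]
      exact mul_mem h1 (conj_mem_of_le hn (hcl ha) h2)
    · intro a ha h1
      have e1 : y * a⁻¹ * y⁻¹ * a⁻¹⁻¹ = a⁻¹ * (y * a * y⁻¹ * a⁻¹)⁻¹ * a := by group
      rw [e1]
      exact inv_conj_mem_of_le hn (hcl ha) (inv_mem h1)
  -- so `[F, L] ≤ M`
  have hFL : ∀ l ∈ ll V x, ∀ f ∈ ff Q V x, l * f * l⁻¹ * f⁻¹ ∈ M := by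
    intro l hl
    rw [ll_def, sup_eq_closure] at hl
    have hcl : closure ((V : Set G) ∪ (cj V x : Set G)) ≤ ll V x := by
      rw [closure_le]
      rintro y (hy | hy)
      · exact V_le_ll hy
      · exact cj_le_ll hy
    refine closure_induction (p := fun y _ => ∀ f ∈ ff Q V x, y * f * y⁻¹ * f⁻¹ ∈ M) hgen
      (fun f _ => by simp) ?_ ?_ hl
    · intro a b ha hb h1 h2 f hf
      have hbf : b * f * b⁻¹ ∈ ff Q V x := conj_mem_of_le h.ll_ff (hcl hb) hf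
      have e1 : a * b * f * (a * b)⁻¹ * f⁻¹ =
          (a * (b * f * b⁻¹) * a⁻¹ * (b * f * b⁻¹)⁻¹) * (b * f * b⁻¹ * f⁻¹) := by group
      rw [e1]
      exact mul_mem (h1 _ hbf) (h2 f hf)
    · intro a ha h1 f hf
      have haf : a⁻¹ * f * a ∈ ff Q V x := inv_conj_mem_of_le h.ll_ff (hcl ha) hf
      have e1 : a⁻¹ * f * a⁻¹⁻¹ * f⁻¹ =
          (a * (a⁻¹ * f * a) * a⁻¹ * (a⁻¹ * f * a)⁻¹)⁻¹ := by group
      rw [e1]
      exact inv_mem (h1 _ haf)
  intro d hd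
  have h1 := hFL x h.mem d (dd_le_ff hd)
  obtain ⟨n, hn, n', hn', hnn⟩ := h.mem_nn_sup h1
  -- `x d x⁻¹ = n n' d = n d n' i`
  obtain ⟨i, hi, hi2⟩ := h.swap hd (h.nn'_le hn')
  have h2 : x * d * x⁻¹ = n * d * (n' * i) := by
    calc x * d * x⁻¹ = (x * d * x⁻¹ * d⁻¹) * d := by group
      _ = n * (n' * d) := by rw [hnn]; group
      _ = n * d * (n' * i) := by rw [hi2]; group
  have h3 : n * d ∈ dx Q V x := by
    have : n * d = (x * d * x⁻¹) * (n' * i)⁻¹ := by rw [h2]; group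
    rw [this]
    exact mul_mem (conj_mem_cj x hd) (inv_mem (mul_mem (h.nn'_le hn') (ii_le_dx hi)))
  have h4 : n * d ∈ ii Q V x := ⟨mul_mem (h.nn_le hn) hd, h3⟩
  have h5 : d = n⁻¹ * (n * d) := by group
  rw [h5]
  exact mul_mem (inv_mem hn) (ii_le_nn h4)

end Sit

/-! ### Lifting -/

theorem exists_lift_min [Finite G] {Q V : Subgroup G} (hVQ : V ≤ normalizer (Q : Set G)) {x : G}
    (hx : x ∈ normalizer (Q : Set G)) (hmem : x ∈ ll V x ⊔ Q) :
    ∃ q ∈ Q, x * q ∈ ll V (x * q) ∧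
      ∀ s ∈ Q, Nat.card (ll V (x * q)) ≤ Nat.card (ll V (x * s)) := by
  -- choose `q` with `|⟨V, V^{xq}⟩|` minimal
  obtain ⟨q, hq, hmin⟩ : ∃ q ∈ Q, ∀ r ∈ Q, Nat.card (ll V (x * q)) ≤ Nat.card (ll V (x * r)) := by
    have hne : ({n | ∃ q ∈ Q, Nat.card (ll V (x * q)) = n} : Set ℕ).Nonempty :=
      ⟨_, 1, one_mem _, rfl⟩
    obtain ⟨q, hq, hqn⟩ := Nat.sInf_mem hne
    exact ⟨q, hq, fun r hr => hqn.le.trans (Nat.sInf_le ⟨r, hr, rfl⟩)⟩
  -- `L Q` does not depend on `q`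
  have h1 : ll V x ⊔ Q ≤ ll V (x * q) ⊔ Q := by
    refine sup_le (sup_le (V_le_ll.trans le_sup_left) ?_) le_sup_right
    intro g hg
    rw [mem_cj] at hg
    -- `g = x v x⁻¹`, `(xq) v (xq)⁻¹ ∈ L'`
    have h2 : (x * q) * (x⁻¹ * g * x) * (x * q)⁻¹ ∈ ll V (x * q) ⊔ Q :=
      mem_sup_left (cj_le_ll (conj_mem_cj _ hg))
    have h3 : x * q * x⁻¹ ∈ ll V (x * q) ⊔ Q :=
      mem_sup_right ((mem_normalizer_iff.mp hx q).mp hq)
    have e : g = (x * q * x⁻¹)⁻¹ * ((x * q) * (x⁻¹ * g * x) * (x * q)⁻¹) * (x * q * x⁻¹) := by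
      group
    rw [e]
    exact mul_mem (mul_mem (inv_mem h3) h2) h3
  have h4 : x * q ∈ ll V (x * q) ⊔ Q := mul_mem (h1 hmem) (mem_sup_right hq)
  have hxq : x * q ∈ normalizer (Q : Set G) := mul_mem hx (le_normalizer hq)
  have hn : ll V (x * q) ≤ normalizer (Q : Set G) := by
    refine sup_le hVQ ?_
    rintro _ ⟨v, hv, rfl⟩
    exact mul_mem (mul_mem hxq (hVQ hv)) (inv_mem hxq)
  rw [← SetLike.mem_coe, coe_mul_of_left_le_normalizer_right _ _ hn] at h4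
  obtain ⟨l, hl, r, hr, hlr⟩ := h4
  have hlr' : l * r = x * q := hlr
  -- `l = x (q r⁻¹)`
  have h5 : l = x * (q * r⁻¹) := by
    rw [← mul_assoc, ← hlr']; group
  have h6 : ll V l ≤ ll V (x * q) := by
    refine sup_le V_le_ll ?_
    rintro _ ⟨v, hv, rfl⟩
    exact mul_mem (mul_mem hl (V_le_ll hv)) (inv_mem hl)
  have h7 : ll V l = ll V (x * q) := by
    apply eq_of_le_of_card_ge h6
    rw [h5]
    exact hmin _ (mul_mem hq (inv_mem hr))
  refine ⟨q * r⁻¹, mul_mem hq (inv_mem hr), ?_⟩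
  rw [← h5, h7]
  exact ⟨hl, hmin⟩

theorem exists_lift [Finite G] {Q V : Subgroup G} (hVQ : V ≤ normalizer (Q : Set G)) {x : G}
    (hx : x ∈ normalizer (Q : Set G)) (hmem : x ∈ ll V x ⊔ Q) :
    ∃ q ∈ Q, x * q ∈ ll V (x * q) := by
  obtain ⟨q, hq, h, -⟩ := exists_lift_min hVQ hx hmem
  exact ⟨q, hq, h⟩

/-! ### `L ∩ Q = F` -/

open scoped IsMulCommutative in
/-- A finite group with a central 2-subgroup of odd index `n`: the elements `e` with `e ^ n = 1` form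
a complement. -/
theorem exists_complement {E : Type*} [Group E] [Finite E] (C : Subgroup E) (hC : C ≤ center E)
    (hodd : Odd C.index) (h2 : IsPGroup 2 C) : ∃ H : Subgroup E,
      (∀ e : E, e ∈ H ↔ e ^ C.index = 1) ∧ (∀ e ∈ H, e ∈ C → e = 1) ∧
        ∀ e : E, ∃ h ∈ H, ∃ c ∈ C, e = h * c := by
  have key : ∀ g : E, ∀ (k : ℕ) (g₀ : E), g₀⁻¹ * g ^ k * g₀ ∈ C → g₀⁻¹ * g ^ k * g₀ = g ^ k := by
    intro g k g₀ hg
    have h1 := mem_center_iff.mp (hC hg) g₀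
    have h3 : g₀ * (g₀⁻¹ * g ^ k * g₀) = g ^ k * g₀ := by group
    have h4 : (g₀⁻¹ * g ^ k * g₀) * g₀ = g ^ k * g₀ := by rw [← h1, h3]
    exact mul_right_cancel h4
  have hpow : ∀ g : E, ((MonoidHom.transfer (Subgroup.inclusion hC : C →* center E) g :
      center E) : E) = g ^ C.index := by
    intro g
    rw [MonoidHom.transfer_eq_pow _ g (key g)]
    rfl
  set τ := MonoidHom.transfer (Subgroup.inclusion hC : C →* center E) with hτ
  have hker : ∀ e : E, e ∈ τ.ker ↔ e ^ C.index = 1 := by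
    intro e
    rw [MonoidHom.mem_ker, ← hpow e]
    exact ⟨fun h => by rw [h]; rfl, fun h => Subtype.ext h⟩
  obtain ⟨k, hk⟩ := IsPGroup.iff_card.mp h2
  have hcop : Nat.Coprime C.index (Nat.card C) := by
    rw [hk]
    exact Nat.Coprime.pow_right k (Nat.coprime_two_right.mpr hodd)
  have hCpow : ∀ c ∈ C, c ^ Nat.card C = 1 := by
    intro c hc
    have h1 : (⟨c, hc⟩ : C) ^ Nat.card C = 1 := pow_card_eq_one'
    have h3 := congrArg Subtype.val h1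
    exact h3
  refine ⟨τ.ker, hker, ?_, ?_⟩
  · intro e he hec
    have h1 := (hker e).mp he
    have h3 := hCpow e hec
    have h4 : orderOf e ∣ Nat.gcd C.index (Nat.card C) :=
      Nat.dvd_gcd (orderOf_dvd_of_pow_eq_one h1) (orderOf_dvd_of_pow_eq_one h3)
    rw [hcop] at h4
    exact orderOf_eq_one_iff.mp (Nat.dvd_one.mp h4)
  · intro e
    have hen : C.Normal := ⟨fun c hc g => by
      have h1 := mem_center_iff.mp (hC hc) g
      rw [h1]
      simpa using hc⟩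
    have h1 : e ^ C.index ∈ C := by
      exact Subgroup.pow_index_mem C e
    -- the `n`-th root in `C`
    obtain ⟨m, hm⟩ : ∃ m : ℕ, (C.index * m) ≡ 1 [MOD Nat.card C] := by
      by_cases hc1 : Nat.card C = 1
      · exact ⟨0, by rw [hc1]; exact Nat.modEq_one⟩
      · obtain ⟨m, hm⟩ := Nat.exists_mul_mod_eq_one_of_coprime hcop
          (by
            have : 0 < Nat.card C := Nat.card_pos
            omega)
        refine ⟨m, ?_⟩
        have : 0 < Nat.card C := Nat.card_pos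
        rw [Nat.ModEq, hm.2, Nat.mod_eq_of_lt (by omega)]
    set c := (e ^ C.index) ^ m with hc
    have hcC : c ∈ C := pow_mem h1 m
    have hcn : c ^ C.index = e ^ C.index := by
      rw [hc, ← pow_mul, mul_comm m]
      have h5 : orderOf (e ^ C.index) ∣ Nat.card C := orderOf_dvd_of_pow_eq_one (hCpow _ h1)
      have h6 : C.index * m ≡ 1 [MOD orderOf (e ^ C.index)] := hm.of_dvd h5
      rw [pow_eq_pow_iff_modEq.mpr h6, pow_one]
    refine ⟨e * c⁻¹, ?_, c, hcC, by group⟩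
    rw [hker]
    have h7 : Commute e c⁻¹ := mem_center_iff.mp (hC (inv_mem hcC)) e
    rw [h7.mul_pow, inv_pow, hcn, mul_inv_cancel]

section Inf

variable {Q V : Subgroup G} {x : G}

/-- `L ∩ Q = F` if `x` lies in a subgroup `R ≥ Q` normalized by `V` such that `R/Q` has odd order. -/
theorem Sit.ll_inf_le [Finite G] (h : Sit Q V x) (hQ2 : IsPGroup 2 Q) (hV2 : ∀ v ∈ V, v ^ 2 = 1)
    {R : Subgroup G} (hQR : Q ≤ R) (hodd : ∀ r ∈ R, ∃ n : ℕ, Odd n ∧ r ^ n ∈ Q) (hxR : x ∈ R)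
    (hVR : V ≤ normalizer (R : Set G)) : ll V x ⊓ Q ≤ ff Q V x := by
  classical
  have hLR : ll V x ≤ normalizer (R : Set G) := by
    refine sup_le hVR ?_
    rintro _ ⟨v, hv, rfl⟩
    exact mul_mem (mul_mem (le_normalizer hxR) (hVR hv)) (inv_mem (le_normalizer hxR))
  set E : Subgroup G := ll V x ⊓ R with hE
  have hxE : x ∈ E := ⟨h.mem, hxR⟩
  have hFE : ff Q V x ≤ E := le_inf ff_le_ll (h.ff_le_Q.trans hQR)
  have hCE : ll V x ⊓ Q ≤ E := inf_le_inf_left _ hQR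
  set F' : Subgroup E := (ff Q V x).subgroupOf E with hF'
  have hF'n : F'.Normal := normal_subgroupOf_of_le_normalizer ((inf_le_left).trans h.ll_ff)
  set C' : Subgroup E := (ll V x ⊓ Q).subgroupOf E with hC'
  set π := QuotientGroup.mk' F' with hπ
  have hπs : Function.Surjective π := QuotientGroup.mk'_surjective F'
  have hF'C' : F' ≤ C' := by
    intro e he
    rw [hF', mem_subgroupOf] at he
    rw [hC', mem_subgroupOf]
    exact ⟨ff_le_ll he, h.ff_le_Q he⟩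
  have hC'n : C'.Normal := by
    refine ⟨fun c hc g => ?_⟩
    rw [hC', mem_subgroupOf] at hc ⊢
    have hg : (g : G) ∈ ll V x := g.2.1
    exact ⟨(ll V x).mul_mem ((ll V x).mul_mem hg hc.1) ((ll V x).inv_mem hg),
      conj_mem_of_le h.ll_Q hg hc.2⟩
  set Cb : Subgroup (E ⧸ F') := C'.map π with hCb
  have hcen : Cb ≤ center (E ⧸ F') := by
    rintro _ ⟨c, hc, rfl⟩
    rw [mem_center_iff]
    intro g
    obtain ⟨e, rfl⟩ := hπs g
    rw [← map_mul, ← map_mul, hπ, QuotientGroup.mk'_eq_mk']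
    refine ⟨(e * c)⁻¹ * (c * e), ?_, by group⟩
    rw [hF', mem_subgroupOf]
    replace hc : (c : G) ∈ ll V x ⊓ Q := hc
    have h2 := h.comm_mem_ff hc.2 (inv_mem (e.2.1))
    -- `(e c)⁻¹ (c e) = c⁻¹ (e⁻¹ c e c⁻¹) c`
    have e1 : (((e * c)⁻¹ * (c * e) : E) : G) =
        (c : G)⁻¹ * ((e : G)⁻¹ * (c : G) * ((e : G)⁻¹)⁻¹ * (c : G)⁻¹) * (c : G) := by
      push_cast
      group
    rw [e1]
    exact inv_conj_mem_of_le h.Q_ff hc.2 h2
  have hindex : Cb.index = C'.index := by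
    rw [hCb, Subgroup.index_map_eq _ hπs]
    rw [hπ, QuotientGroup.ker_mk']
    exact hF'C'
  have hodd' : Odd Cb.index := by
    rw [hindex]
    by_contra hne
    rw [Nat.not_odd_iff_even, even_iff_two_dvd, index_eq_card] at hne
    obtain ⟨q, hq⟩ := exists_prime_orderOf_dvd_card' 2 hne
    obtain ⟨e, rfl⟩ := QuotientGroup.mk'_surjective C' q
    obtain ⟨n, hn, hnQ⟩ := hodd e e.2.2
    have h1 : (QuotientGroup.mk' C' e) ^ n = 1 := by
      rw [← map_pow]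
      refine (QuotientGroup.eq_one_iff _).mpr ?_
      rw [hC', mem_subgroupOf]
      exact ⟨pow_mem e.2.1 n, hnQ⟩
    have h2 := orderOf_dvd_of_pow_eq_one h1
    rw [hq] at h2
    exact (Nat.not_even_iff_odd.mpr hn) (even_iff_two_dvd.mpr h2)
  have hCb2 : IsPGroup 2 Cb := by
    refine IsPGroup.map ?_ π
    have h1 : IsPGroup 2 (Q.subgroupOf E) := hQ2.comap_of_injective _ E.subtype_injective
    exact h1.to_le (fun e he => he.2)
  obtain ⟨H, hH, hHC, hHE⟩ := exists_complement Cb hcen hodd' hCb2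
  -- pull back
  have hmem : ∀ e : E, π e ∈ H → (e : G) ∈ Q → (e : G) ∈ ff Q V x := by
    intro e he heQ
    have h1 : π e ∈ Cb := ⟨e, ⟨e.2.1, heQ⟩, rfl⟩
    have h2 := hHC _ he h1
    have h3 := (QuotientGroup.eq_one_iff e).mp h2
    exact h3
  -- the subgroup `H₀` of `G`
  set H₀ : Subgroup G := (H.comap π).map E.subtype with hH₀
  have hH₀mem : ∀ g : G, g ∈ H₀ ↔ g ∈ E ∧ g ^ Cb.index ∈ ff Q V x := by
    intro g
    constructor
    · rintro ⟨e, he, rfl⟩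
      refine ⟨e.2, ?_⟩
      have h1 : π e ∈ H := he
      rw [hH, ← map_pow] at h1
      exact (QuotientGroup.eq_one_iff (e ^ Cb.index)).mp h1
    · rintro ⟨h1, h2⟩
      refine ⟨⟨g, h1⟩, ?_, rfl⟩
      change π ⟨g, h1⟩ ∈ H
      rw [hH, ← map_pow]
      exact (QuotientGroup.eq_one_iff _).mpr h2
  have hFH : ff Q V x ≤ H₀ := fun f hf => (hH₀mem f).mpr ⟨hFE hf, pow_mem hf _⟩
  have hLH : ll V x ≤ normalizer (H₀ : Set G) := by
    refine le_normalizer_of fun l hl e he => ?_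
    rw [hH₀mem] at he ⊢
    refine ⟨⟨(ll V x).mul_mem ((ll V x).mul_mem hl he.1.1) ((ll V x).inv_mem hl),
      conj_mem_of_le hLR hl he.1.2⟩, ?_⟩
    rw [conj_pow]
    exact conj_mem_of_le h.ll_ff hl he.2
  obtain ⟨hb, hhb, cb, hcb, hx1⟩ := hHE (π ⟨x, hxE⟩)
  obtain ⟨c, hc, rfl⟩ := hcb
  rw [hC'] at hc
  have hcmem : (c : G) ∈ ll V x ⊓ Q := mem_subgroupOf.mp hc
  -- `x c⁻¹ ∈ H₀`
  have hxc : x * (c : G)⁻¹ ∈ H₀ := by
    refine ⟨⟨x, hxE⟩ * c⁻¹, ?_, rfl⟩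
    change π (⟨x, hxE⟩ * c⁻¹) ∈ H
    rw [map_mul, map_inv, hx1]
    simpa using hhb
  have hLVH : ll V x ≤ V ⊔ H₀ := by
    refine sup_le le_sup_left ?_
    rintro _ ⟨v, hv, rfl⟩
    change x * v * x⁻¹ ∈ _
    have e1 : x * v * x⁻¹ = (x * (c : G)⁻¹) * (((c : G) * v * (c : G)⁻¹ * v⁻¹) * v) *
        (x * (c : G)⁻¹)⁻¹ := by group
    rw [e1]
    have h1 : (c : G) * v * (c : G)⁻¹ * v⁻¹ ∈ H₀ := hFH (dd_le_ff (h.comm_mem hcmem.2 hv))
    exact mul_mem (mul_mem (mem_sup_right hxc) (mul_mem (mem_sup_right h1) (mem_sup_left hv)))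
      (inv_mem (mem_sup_right hxc))
  intro g hg
  have h1 : g ∈ V ⊔ H₀ := hLVH hg.1
  rw [← SetLike.mem_coe, coe_mul_of_left_le_normalizer_right _ _ (V_le_ll.trans hLH)] at h1
  obtain ⟨v, hv, k, hk, hvk⟩ := h1
  have hvk' : v * k = g := hvk
  have hkE := ((hH₀mem k).mp hk).1
  have hvR : v ∈ R := by
    have : v = g * k⁻¹ := by rw [← hvk']; group
    rw [this]
    exact mul_mem (hQR hg.2) (inv_mem hkE.2)
  have hvQ : v ∈ Q := by
    obtain ⟨n, hn, hnQ⟩ := hodd v hvR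
    have : v ^ n = v := by
      obtain ⟨m, rfl⟩ := hn
      rw [pow_succ, pow_mul, hV2 v hv, one_pow, one_mul]
    rwa [this] at hnQ
  have hvF : v ∈ ff Q V x := dd_le_ff ⟨hv, hvQ⟩
  have hgH : g ∈ H₀ := by
    rw [← hvk']
    exact mul_mem (hFH hvF) hk
  obtain ⟨e, he, rfl⟩ := hgH
  exact hmem e he hg.2

theorem Sit.ll_inf_eq [Finite G] (h : Sit Q V x) (hQ2 : IsPGroup 2 Q) (hV2 : ∀ v ∈ V, v ^ 2 = 1)
    {R : Subgroup G} (hQR : Q ≤ R) (hodd : ∀ r ∈ R, ∃ n : ℕ, Odd n ∧ r ^ n ∈ Q) (hxR : x ∈ R)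
    (hVR : V ≤ normalizer (R : Set G)) : ll V x ⊓ Q = ff Q V x :=
  le_antisymm (h.ll_inf_le hQ2 hV2 hQR hodd hxR hVR) (le_inf ff_le_ll h.ff_le_Q)

end Inf

end Cfsg.Agent.MinSimple.CaseDBase
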