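import Mathlib
import Cfsg.Agent.MinSimple.CaseDBase
import Cfsg.Agent.MinSimple.Killing

/-!
# Case (d) of the core theorem: the `P₂`-side (helper824's blueprint, (1) and (2))

`Hyp Q V V0 x a r`: `Q = O₂(P₂)`, `V` elementary abelian, `V0` a hyperplane of `V` containing
`D = V ∩ Q`, `a ∈ V \ V0`, `x ∈ L = ⟨V, V^x⟩` of prime order `r > 2` modulo `Q`, centralized by `V0` and
inverted by `a` modulo `Q`, and `L ∩ Q = F = D D^x`.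
Put `Z0 = V ∩ V^x` (`zz V x`), `B = V0^x` (`cj V0 x`), `E = V0 B` (`ee V0 x`).
-/

set_option autoImplicit false

namespace Cfsg.Agent.MinSimple.CaseDHyp

open Subgroup Cfsg Cfsg.Agent.ZN Cfsg.Agent.MinSimple.CaseDBase Cfsg.Agent.MinSimple.Killing

universe u

variable {G : Type u} [Group G]

/-- `Z0 = V ∩ V^x`. -/
def zz (V : Subgroup G) (x : G) : Subgroup G := V ⊓ cj V x

/-- `E = V0 V0^x`. -/
def ee (V0 : Subgroup G) (x : G) : Subgroup G := V0 ⊔ cj V0 x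

theorem zz_def (V : Subgroup G) (x : G) : zz V x = V ⊓ cj V x := rfl
theorem ee_def (V0 : Subgroup G) (x : G) : ee V0 x = V0 ⊔ cj V0 x := rfl

/-- The data of the `P₂`-side. -/
structure Hyp (Q V V0 : Subgroup G) (x a : G) (r : ℕ) : Prop where
  sit : Sit Q V x
  sq : ∀ v ∈ V, v ^ 2 = 1
  le : V0 ≤ V
  ddle : dd Q V ≤ V0
  aV : a ∈ V
  aV0 : a ∉ V0
  or : ∀ v ∈ V, v ∈ V0 ∨ a * v ∈ V0
  prime : r.Prime
  two : r ≠ 2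
  pow : x ^ r ∈ Q
  xQ : x ∉ Q
  cent : ∀ v ∈ V0, v * x * v⁻¹ * x⁻¹ ∈ Q
  inv : a * x * a⁻¹ * x ∈ Q
  inf : ll V x ⊓ Q = ff Q V x

section Hyp

variable {Q V V0 : Subgroup G} {x a : G} {r : ℕ}

theorem zz_le_V : zz V x ≤ V := inf_le_left
theorem zz_le_cj : zz V x ≤ cj V x := inf_le_right
theorem zz_le_ll : zz V x ≤ ll V x := zz_le_V.trans V_le_ll

theorem Hyp.inv_a (h : Hyp Q V V0 x a r) : a⁻¹ = a := by
  have := h.sq a h.aV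
  rw [pow_two] at this
  exact inv_eq_of_mul_eq_one_left this

theorem Hyp.zz_cent (h : Hyp Q V V0 x a r) {z l : G} (hz : z ∈ zz V x) (hl : l ∈ ll V x) :
    l * z = z * l := by
  have h1 : ll V x ≤ centralizer (zz V x : Set G) := by
    refine sup_le (fun v hv => ?_) (fun v hv => ?_)
    · exact mem_centralizer_iff.mpr fun i hi => h.sit.comm i hi.1 v hv
    · exact mem_centralizer_iff.mpr fun i hi => h.sit.cj_comm i hi.2 v hv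
  exact (mem_centralizer_iff.mp (h1 hl) z hz).symm

theorem Hyp.ii_le_zz (_ : Hyp Q V V0 x a r) : ii Q V x ≤ zz V x :=
  inf_le_inf dd_le_left dx_le_cj

theorem Hyp.V0_ll (h : Hyp Q V V0 x a r) : V0 ≤ ll V x := h.le.trans V_le_ll
theorem Hyp.B_le (h : Hyp Q V V0 x a r) : cj V0 x ≤ cj V x := cj_mono h.le x
theorem Hyp.B_ll (h : Hyp Q V V0 x a r) : cj V0 x ≤ ll V x := h.B_le.trans cj_le_ll

/-- `x ^ 2 ∈ Q` is impossible. -/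
theorem Hyp.sq_notMem (h : Hyp Q V V0 x a r) : x ^ 2 ∉ Q := by
  intro h2
  apply h.xQ
  obtain ⟨k, hk⟩ := h.prime.odd_of_ne_two h.two
  have h1 : x = x ^ r * ((x ^ 2) ^ k)⁻¹ := by
    rw [hk, ← pow_mul, pow_succ']
    group
  rw [h1]
  exact Q.mul_mem h.pow (Q.inv_mem (Q.pow_mem h2 k))

/-- `Z0 ≤ V0`. -/
theorem Hyp.zz_le (h : Hyp Q V V0 x a r) : zz V x ≤ V0 := by
  intro z hz
  rcases h.or z hz.1 with h1 | h1
  · exact h1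
  exfalso
  have h2 := h.cent _ h1
  have h3 : x * z = z * x := h.zz_cent hz h.sit.mem
  have e1 : a * z * x * (a * z)⁻¹ * x⁻¹ = a * x * a⁻¹ * x⁻¹ := by
    calc a * z * x * (a * z)⁻¹ * x⁻¹ = a * (z * x) * z⁻¹ * a⁻¹ * x⁻¹ := by group
      _ = a * x * a⁻¹ * x⁻¹ := by rw [← h3]; group
  rw [e1] at h2
  apply h.sq_notMem
  have e2 : x ^ 2 = (a * x * a⁻¹ * x⁻¹)⁻¹ * (a * x * a⁻¹ * x) := by
    rw [pow_two]; group
  rw [e2]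
  exact Q.mul_mem (Q.inv_mem h2) h.inv

theorem Hyp.zz_le_B (h : Hyp Q V V0 x a r) : zz V x ≤ cj V0 x := by
  intro z hz
  rw [mem_cj]
  have h3 : x * z = z * x := h.zz_cent hz h.sit.mem
  have : x⁻¹ * z * x = z := by rw [mul_assoc, ← h3]; group
  rw [this]
  exact h.zz_le hz

/-- The hypotheses for another element of `V \ V0`. -/
theorem Hyp.change (h : Hyp Q V V0 x a r) {a' : G} (ha : a' ∈ V) (ha' : a' ∉ V0) :
    Hyp Q V V0 x a' r := by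
  have h1 : a * a' ∈ V0 := (h.or a' ha).resolve_left ha'
  have hcomm := h.sit.comm a h.aV a' ha
  refine ⟨h.sit, h.sq, h.le, h.ddle, ha, ha', fun v hv => ?_, h.prime, h.two, h.pow, h.xQ, h.cent,
    ?_, h.inf⟩
  · rcases h.or v hv with h2 | h2
    · exact Or.inl h2
    · right
      have e : a' * v = (a * a') * (a * v) * (a⁻¹ * a⁻¹) := by
        have h3 : a' * (a * v) = (a * v) * a' := h.sit.comm a' ha _ (mul_mem h.aV hv)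
        have h4 : a⁻¹ * a⁻¹ = (a ^ 2)⁻¹ := by rw [pow_two]; group
        rw [h4, h.sq a h.aV, inv_one, mul_one, hcomm]
        have h5 : a * (a * v) = v := by
          rw [← mul_assoc, ← pow_two, h.sq a h.aV, one_mul]
        rw [mul_assoc, h5]
      have h4 : a⁻¹ * a⁻¹ = 1 := by
        rw [← mul_inv_rev, ← pow_two, h.sq a h.aV, inv_one]
      rw [e, h4, mul_one]
      exact mul_mem h1 h2
  · -- `a' = a (a a')`
    have e0 : a' = a * (a * a') := by rw [← mul_assoc, ← pow_two, h.sq a h.aV, one_mul]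
    have h2 := h.cent _ h1
    have e1 : a' * x * a'⁻¹ * x =
        (a * ((a * a') * x * (a * a')⁻¹ * x⁻¹) * a⁻¹) * (a * x * a⁻¹ * x) := by
      conv_lhs => rw [e0]
      group
    rw [e1]
    exact Q.mul_mem (conj_mem_of_le h.sit.VQ h.aV h2) h.inv

/-- Normal form of the elements of `F`. -/
theorem Hyp.mem_ff (h : Hyp Q V V0 x a r) {f : G} (hf : f ∈ ff Q V x) :
    ∃ d ∈ dd Q V, ∃ e ∈ dx Q V x, f = d * e := by
  rw [ff_def, ← SetLike.mem_coe, coe_mul_of_right_le_normalizer_left _ _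
    (h.sit.dx_le_Q.trans h.sit.Q_dd)] at hf
  obtain ⟨d, hd, e, he, rfl⟩ := hf
  exact ⟨d, hd, e, he, rfl⟩

/-- `V0 = D Z0`. -/
theorem Hyp.mem_V0 (h : Hyp Q V V0 x a r) {v : G} (hv : v ∈ V0) :
    ∃ d ∈ dd Q V, ∃ z ∈ zz V x, v = d * z := by
  have h1 : x * v * x⁻¹ * v⁻¹ ∈ ff Q V x := by
    rw [← h.inf]
    refine ⟨?_, ?_⟩
    · exact (ll V x).mul_mem ((ll V x).mul_mem ((ll V x).mul_mem h.sit.mem (h.V0_ll hv))
        ((ll V x).inv_mem h.sit.mem)) ((ll V x).inv_mem (h.V0_ll hv))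
    · have e : x * v * x⁻¹ * v⁻¹ = (v * x * v⁻¹ * x⁻¹)⁻¹ := by group
      rw [e]
      exact Q.inv_mem (h.cent v hv)
  obtain ⟨d, hd, e, he, hde⟩ := h.mem_ff h1
  have heQ := h.sit.dx_le_Q he
  have hz : x * v * x⁻¹ * e⁻¹ = d * (e * v * e⁻¹) := by
    have : x * v * x⁻¹ = d * e * v := by rw [← hde]; group
    rw [this]; group
  have hzz : x * v * x⁻¹ * e⁻¹ ∈ zz V x := by
    refine ⟨?_, ?_⟩
    · rw [hz]
      exact V.mul_mem (dd_le_left hd) (conj_mem_of_le h.sit.QV heQ (h.le hv))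
    · exact (cj V x).mul_mem (conj_mem_cj x (h.le hv)) ((cj V x).inv_mem (dx_le_cj he))
  set z := x * v * x⁻¹ * e⁻¹ with hzdef
  refine ⟨e⁻¹ * d⁻¹ * e, ?_, z, hzz, ?_⟩
  · exact inv_conj_mem_of_le h.sit.Q_dd heQ (inv_mem hd)
  · have h2 : e * z = z * e := h.zz_cent hzz (cj_le_ll (dx_le_cj he))
    have h3 : e⁻¹ * d⁻¹ * e * z = e⁻¹ * d⁻¹ * z * e := by
      rw [mul_assoc (e⁻¹ * d⁻¹), h2]; group
    rw [h3, hz]
    group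

/-- `B = D^x Z0`. -/
theorem Hyp.mem_B (h : Hyp Q V V0 x a r) {b : G} (hb : b ∈ cj V0 x) :
    ∃ e ∈ dx Q V x, ∃ z ∈ zz V x, b = e * z := by
  rw [mem_cj] at hb
  obtain ⟨d, hd, z, hz, hdz⟩ := h.mem_V0 hb
  refine ⟨x * d * x⁻¹, conj_mem_cj x hd, z, hz, ?_⟩
  have h1 : x * z = z * x := h.zz_cent hz h.sit.mem
  have h2 : b = x * (d * z) * x⁻¹ := by rw [← hdz]; group
  rw [h2]
  calc x * (d * z) * x⁻¹ = x * d * x⁻¹ * (x * z) * x⁻¹ := by group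
    _ = x * d * x⁻¹ * z := by rw [h1]; group

theorem Hyp.dx_le_B (h : Hyp Q V V0 x a r) : dx Q V x ≤ cj V0 x := cj_mono h.ddle x

theorem Hyp.dx_comm (h : Hyp Q V V0 x a r) {e z : G} (he : e ∈ dx Q V x) (hz : z ∈ zz V x) :
    e * z = z * e := h.zz_cent hz (cj_le_ll (dx_le_cj he))

/-- `B ≤ V Q`. -/
theorem Hyp.B_le_sup (h : Hyp Q V V0 x a r) : cj V0 x ≤ V ⊔ Q := by
  intro b hb
  obtain ⟨e, he, z, hz, rfl⟩ := h.mem_B hb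
  exact mul_mem (mem_sup_right (h.sit.dx_le_Q he)) (mem_sup_left hz.1)

theorem Hyp.B_V (h : Hyp Q V V0 x a r) : cj V0 x ≤ normalizer (V : Set G) :=
  h.B_le_sup.trans (sup_le le_normalizer h.sit.QV)

/-- `[V, B] ≤ D`. -/
theorem Hyp.comm_V_B (h : Hyp Q V V0 x a r) {v b : G} (hv : v ∈ V) (hb : b ∈ cj V0 x) :
    v * b * v⁻¹ * b⁻¹ ∈ dd Q V := by
  obtain ⟨e, he, z, hz, rfl⟩ := h.mem_B hb
  have h1 : z * v⁻¹ = v⁻¹ * z := h.sit.comm z hz.1 _ (inv_mem hv)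
  have e1 : v * (e * z) * v⁻¹ * (e * z)⁻¹ = v * e * v⁻¹ * e⁻¹ := by
    calc v * (e * z) * v⁻¹ * (e * z)⁻¹ = v * e * (z * v⁻¹) * z⁻¹ * e⁻¹ := by group
      _ = v * e * v⁻¹ * e⁻¹ := by rw [h1]; group
  rw [e1]
  exact h.sit.comm_V_dx hv he

/-- `[V0, B] ≤ D ∩ D^x ≤ Z0`. -/
theorem Hyp.comm_V0_B' (h : Hyp Q V V0 x a r) {v b : G} (hv : v ∈ V0) (hb : b ∈ cj V0 x) :
    v * b * v⁻¹ * b⁻¹ ∈ ii Q V x := by
  obtain ⟨e, he, z, hz, rfl⟩ := h.mem_B hb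
  obtain ⟨d, hd, w, hw, rfl⟩ := h.mem_V0 hv
  have h1 : z * (d * w)⁻¹ = (d * w)⁻¹ * z :=
    h.sit.comm z hz.1 _ (inv_mem (mul_mem (dd_le_left hd) hw.1))
  have h2 : w * e = e * w := (h.dx_comm he hw).symm
  have e1 : d * w * (e * z) * (d * w)⁻¹ * (e * z)⁻¹ = d * e * d⁻¹ * e⁻¹ := by
    calc d * w * (e * z) * (d * w)⁻¹ * (e * z)⁻¹
        = d * (w * e) * (z * (d * w)⁻¹) * z⁻¹ * e⁻¹ := by group
      _ = d * e * (w * (d * w)⁻¹) * e⁻¹ := by rw [h1, h2]; group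
      _ = d * e * d⁻¹ * e⁻¹ := by group
  rw [e1]
  exact h.sit.comm_mem_ii hd he

/-- `[V0, B] ≤ Z0`. -/
theorem Hyp.comm_V0_B (h : Hyp Q V V0 x a r) {v b : G} (hv : v ∈ V0) (hb : b ∈ cj V0 x) :
    v * b * v⁻¹ * b⁻¹ ∈ zz V x := h.ii_le_zz (h.comm_V0_B' hv hb)

theorem Hyp.zz_inf_Q (h : Hyp Q V V0 x a r) : zz V x ⊓ Q ≤ ii Q V x := by
  rintro z ⟨⟨h1, h2⟩, h3⟩
  refine ⟨⟨h1, h3⟩, ?_⟩
  rw [h.sit.dx_eq]
  exact ⟨h2, h3⟩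

/-- An element `b` of `B` with `[a, b] ∈ Z0` lies in `Z0`. -/
theorem Hyp.mem_zz (h : Hyp Q V V0 x a r) {b : G} (hb : b ∈ cj V0 x)
    (hab : a * b * a⁻¹ * b⁻¹ ∈ zz V x) : b ∈ zz V x := by
  obtain ⟨e, he, z, hz, rfl⟩ := h.mem_B hb
  have h1 : z * a⁻¹ = a⁻¹ * z := h.sit.comm z hz.1 _ (inv_mem h.aV)
  have e1 : a * (e * z) * a⁻¹ * (e * z)⁻¹ = a * e * a⁻¹ * e⁻¹ := by
    calc a * (e * z) * a⁻¹ * (e * z)⁻¹ = a * e * (z * a⁻¹) * z⁻¹ * e⁻¹ := by group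
      _ = a * e * a⁻¹ * e⁻¹ := by rw [h1]; group
  rw [e1] at hab
  have h2 : a * e * a⁻¹ * e⁻¹ ∈ ii Q V x :=
    h.zz_inf_Q ⟨hab, dd_le_right (h.sit.comm_V_dx h.aV he)⟩
  have h3 : ∀ v ∈ V0, v * e * v⁻¹ * e⁻¹ ∈ ii Q V x := fun v hv => h.comm_V0_B' hv (h.dx_le_B he)
  refine mul_mem (h.ii_le_zz (h.sit.mem_ii_of_comm he fun v hv => ?_)) hz
  rcases h.or v hv with h4 | h4
  · exact h3 v h4
  · have h5 := h3 _ h4
    -- `v = a (a v)`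
    have e2 : v = a * (a * v) := by rw [← mul_assoc, ← pow_two, h.sq a h.aV, one_mul]
    have e3 : v * e * v⁻¹ * e⁻¹ =
        (a * ((a * v) * e * (a * v)⁻¹ * e⁻¹) * a⁻¹) * (a * e * a⁻¹ * e⁻¹) := by
      conv_lhs => rw [e2]
      group
    have e4 : a * ((a * v) * e * (a * v)⁻¹ * e⁻¹) * a⁻¹ = (a * v) * e * (a * v)⁻¹ * e⁻¹ := by
      rw [h.sit.ii_comm h5 (V_le_ll h.aV)]
      group
    rw [e3, e4]
    exact mul_mem h5 h2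

/-- `C_B(V) = Z0`. -/
theorem Hyp.mem_zz_of_cent (h : Hyp Q V V0 x a r) {b : G} (hb : b ∈ cj V0 x)
    (hab : a * b = b * a) : b ∈ zz V x := by
  refine h.mem_zz hb ?_
  have : a * b * a⁻¹ * b⁻¹ = 1 := by rw [hab]; group
  rw [this]
  exact one_mem _

/-- For `b, b' ∈ B`: `[a, b b'] ≡ [a, b] [a, b']` mod `Z0`. -/
theorem Hyp.comm_mul (h : Hyp Q V V0 x a r) {b b' : G} (hb : b ∈ cj V0 x) (hb' : b' ∈ cj V0 x) :
    ∃ z ∈ zz V x, a * (b * b') * a⁻¹ * (b * b')⁻¹ =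
      (a * b * a⁻¹ * b⁻¹) * (a * b' * a⁻¹ * b'⁻¹) * z := by
  set c := a * b' * a⁻¹ * b'⁻¹ with hc
  have hcD : c ∈ dd Q V := h.comm_V_B h.aV hb'
  have h1 := h.comm_V0_B (h.ddle hcD) hb
  refine ⟨(c * b * c⁻¹ * b⁻¹)⁻¹, inv_mem h1, ?_⟩
  have hcc : c * (c * b * c⁻¹ * b⁻¹)⁻¹ = (c * b * c⁻¹ * b⁻¹)⁻¹ * c :=
    h.zz_cent (inv_mem h1) (h.V0_ll (h.ddle hcD))
  have e1 : a * (b * b') * a⁻¹ * (b * b')⁻¹ = (a * b * a⁻¹ * b⁻¹) * (b * c * b⁻¹) := by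
    rw [hc]; group
  have e2 : b * c * b⁻¹ = (c * b * c⁻¹ * b⁻¹)⁻¹ * c := by group
  rw [e1, e2, mul_assoc (a * b * a⁻¹ * b⁻¹), ← hcc]

/-- `V0 = [a, B] Z0`. -/
theorem Hyp.mem_V0_comm (h : Hyp Q V V0 x a r) {v : G} (hv : v ∈ V0) :
    ∃ b ∈ cj V0 x, ∃ z ∈ zz V x, v = a * b * a⁻¹ * b⁻¹ * z := by
  -- the subgroup of these elements
  let T : Subgroup G :=
    { carrier := {v | ∃ b ∈ cj V0 x, ∃ z ∈ zz V x, v = a * b * a⁻¹ * b⁻¹ * z}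
      one_mem' := ⟨1, one_mem _, 1, one_mem _, by group⟩
      mul_mem' := by
        rintro _ _ ⟨b, hb, z, hz, rfl⟩ ⟨b', hb', z', hz', rfl⟩
        obtain ⟨w, hw, hw2⟩ := h.comm_mul hb hb'
        refine ⟨b * b', mul_mem hb hb', w⁻¹ * z * z', mul_mem (mul_mem (inv_mem hw) hz) hz', ?_⟩
        have hc' : a * b' * a⁻¹ * b'⁻¹ ∈ ll V x :=
          V_le_ll (dd_le_left (h.comm_V_B h.aV hb'))
        have h1 := h.zz_cent hz hc'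
        rw [hw2]
        calc a * b * a⁻¹ * b⁻¹ * z * (a * b' * a⁻¹ * b'⁻¹ * z')
            = a * b * a⁻¹ * b⁻¹ * (z * (a * b' * a⁻¹ * b'⁻¹)) * z' := by group
          _ = a * b * a⁻¹ * b⁻¹ * ((a * b' * a⁻¹ * b'⁻¹) * z) * z' := by rw [h1]
          _ = _ := by group
      inv_mem' := by
        rintro _ ⟨b, hb, z, hz, rfl⟩
        obtain ⟨w, hw, hw2⟩ := h.comm_mul hb (inv_mem hb)
        rw [mul_inv_cancel] at hw2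
        have h0 : (a * b⁻¹ * a⁻¹ * b⁻¹⁻¹) * w = (a * b * a⁻¹ * b⁻¹)⁻¹ := by
          have h2 : (a * b * a⁻¹ * b⁻¹) * ((a * b⁻¹ * a⁻¹ * b⁻¹⁻¹) * w) = 1 := by
            rw [← mul_assoc, ← hw2]; group
          exact eq_inv_of_mul_eq_one_right h2
        refine ⟨b⁻¹, inv_mem hb, w * z⁻¹, mul_mem hw (inv_mem hz), ?_⟩
        rw [mul_inv_rev, ← h0]
        have hc' : (a * b⁻¹ * a⁻¹ * b⁻¹⁻¹) * w ∈ ll V x :=
          mul_mem (V_le_ll (dd_le_left (h.comm_V_B h.aV (inv_mem hb)))) (zz_le_ll hw)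
        rw [← h.zz_cent (inv_mem hz) hc']
        group }
  have hT : ∀ v, v ∈ T ↔ ∃ b ∈ cj V0 x, ∃ z ∈ zz V x, v = a * b * a⁻¹ * b⁻¹ * z := fun v => Iff.rfl
  have hZT : zz V x ≤ T := fun z hz => (hT z).mpr ⟨1, one_mem _, z, hz, by group⟩
  have hDT : dd Q V ≤ T := by
    rw [h.sit.dd_eq, nn_def]
    refine sup_le ((closure_le _).mpr ?_) (h.ii_le_zz.trans hZT)
    rintro g ⟨v, hv, e, he, rfl⟩
    have heB := h.dx_le_B he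
    rcases h.or v hv with h4 | h4
    · exact hZT (h.comm_V0_B h4 heB)
    · have h5 := h.comm_V0_B h4 heB
      have e2 : v = a * (a * v) := by rw [← mul_assoc, ← pow_two, h.sq a h.aV, one_mul]
      have e3 : v * e * v⁻¹ * e⁻¹ =
          (a * ((a * v) * e * (a * v)⁻¹ * e⁻¹) * a⁻¹) * (a * e * a⁻¹ * e⁻¹) := by
        conv_lhs => rw [e2]
        group
      have e4 : a * ((a * v) * e * (a * v)⁻¹ * e⁻¹) * a⁻¹ = (a * v) * e * (a * v)⁻¹ * e⁻¹ := by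
        rw [h.zz_cent h5 (V_le_ll h.aV)]
        group
      change v * e * v⁻¹ * e⁻¹ ∈ T
      rw [e3, e4]
      exact mul_mem (hZT h5) ((hT _).mpr ⟨e, heB, 1, one_mem _, by group⟩)
  obtain ⟨d, hd, z, hz, rfl⟩ := h.mem_V0 hv
  exact mul_mem (hDT hd) (hZT hz)

/-! ### The group `E = V0 B` -/

theorem Hyp.B_V0 (h : Hyp Q V V0 x a r) : cj V0 x ≤ normalizer (V0 : Set G) := by
  refine le_normalizer_of fun b hb v hv => ?_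
  have h1 := h.comm_V_B (h.le hv) hb
  have e : b * v * b⁻¹ = (v * b * v⁻¹ * b⁻¹)⁻¹ * v := by group
  rw [e]
  exact mul_mem (inv_mem (h.ddle h1)) hv

theorem Hyp.mem_ee (h : Hyp Q V V0 x a r) {u : G} :
    u ∈ ee V0 x ↔ ∃ v ∈ V0, ∃ b ∈ cj V0 x, u = v * b := by
  rw [ee_def, ← SetLike.mem_coe, coe_mul_of_right_le_normalizer_left _ _ h.B_V0]
  constructor
  · rintro ⟨v, hv, b, hb, rfl⟩
    exact ⟨v, hv, b, hb, rfl⟩
  · rintro ⟨v, hv, b, hb, rfl⟩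
    exact ⟨v, hv, b, hb, rfl⟩

theorem V0_le_ee : V0 ≤ ee V0 x := le_sup_left
theorem B_le_ee : cj V0 x ≤ ee V0 x := le_sup_right
theorem Hyp.ee_ll (h : Hyp Q V V0 x a r) : ee V0 x ≤ ll V x := sup_le h.V0_ll h.B_ll
theorem Hyp.zz_ee (h : Hyp Q V V0 x a r) : zz V x ≤ ee V0 x := h.zz_le.trans V0_le_ee
theorem Hyp.ff_ee (h : Hyp Q V V0 x a r) : ff Q V x ≤ ee V0 x :=
  sup_le (h.ddle.trans V0_le_ee) (h.dx_le_B.trans B_le_ee)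

theorem Hyp.B_comm (h : Hyp Q V V0 x a r) {b b' : G} (hb : b ∈ cj V0 x) (hb' : b' ∈ cj V0 x) :
    b * b' = b' * b := h.sit.cj_comm b (h.B_le hb) b' (h.B_le hb')

/-- `E` is normal in `L`. -/
theorem Hyp.ll_ee (h : Hyp Q V V0 x a r) : ll V x ≤ normalizer (ee V0 x : Set G) := by
  refine sup_le (le_normalizer_of fun w hw u hu => ?_) (le_normalizer_of fun w hw u hu => ?_)
  · obtain ⟨v, hv, b, hb, rfl⟩ := h.mem_ee.mp hu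
    have h1 : w * v * w⁻¹ = v := by
      rw [h.sit.comm w hw v (h.le hv)]; group
    have e : w * (v * b) * w⁻¹ = (w * v * w⁻¹) * ((w * b * w⁻¹ * b⁻¹) * b) := by group
    rw [e, h1]
    exact mul_mem (V0_le_ee hv) (mul_mem (V0_le_ee (h.ddle (h.comm_V_B hw hb))) (B_le_ee hb))
  · obtain ⟨v, hv, b, hb, rfl⟩ := h.mem_ee.mp hu
    have h1 : w * b * w⁻¹ = b := by
      rw [h.sit.cj_comm w hw b (h.B_le hb)]; group
    obtain ⟨d, hd, z, hz, rfl⟩ := h.mem_V0 hv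
    have h2 : w * z * w⁻¹ = z := by
      rw [h.zz_cent hz (cj_le_ll hw)]; group
    have e : w * (d * z * b) * w⁻¹ =
        ((w * d * w⁻¹ * d⁻¹) * d) * (w * z * w⁻¹) * (w * b * w⁻¹) := by group
    rw [e, h1, h2]
    have h3 : w * d * w⁻¹ * d⁻¹ ∈ dx Q V x := h.sit.comm_mem_dx' (dd_le_right hd) hw
    exact mul_mem (mul_mem (mul_mem (h.ff_ee (dx_le_ff h3)) (V0_le_ee (h.ddle hd))) (h.zz_ee hz))
      (B_le_ee hb)

/-- `E / Z0` is abelian. -/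
theorem Hyp.ee_comm (h : Hyp Q V V0 x a r) {u w : G} (hu : u ∈ ee V0 x) (hw : w ∈ ee V0 x) :
    u * w * u⁻¹ * w⁻¹ ∈ zz V x := by
  -- `[v, u] ∈ Z0` for `v ∈ V0` or `v ∈ B`
  have hgen : ∀ v ∈ (V0 : Set G) ∪ (cj V0 x : Set G), ∀ w ∈ ee V0 x,
      v * w * v⁻¹ * w⁻¹ ∈ zz V x := by
    rintro v (hv | hv) w hw
    · obtain ⟨v', hv', b, hb, rfl⟩ := h.mem_ee.mp hw
      have h1 : v * v' = v' * v := h.sit.comm v (h.le hv) v' (h.le hv')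
      have h2 := h.comm_V0_B hv hb
      have e : v * (v' * b) * v⁻¹ * (v' * b)⁻¹ = v' * (v * b * v⁻¹ * b⁻¹) * v'⁻¹ := by
        calc v * (v' * b) * v⁻¹ * (v' * b)⁻¹ = (v * v') * b * v⁻¹ * b⁻¹ * v'⁻¹ := by group
          _ = v' * (v * b * v⁻¹ * b⁻¹) * v'⁻¹ := by rw [h1]; group
      rw [e, h.zz_cent h2 (h.V0_ll hv')]
      have e2 : v * b * v⁻¹ * b⁻¹ * v' * v'⁻¹ = v * b * v⁻¹ * b⁻¹ := by group
      rw [e2]
      exact h2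
    · obtain ⟨v', hv', b, hb, rfl⟩ := h.mem_ee.mp hw
      have h1 : v * b = b * v := h.B_comm hv hb
      have h2 := inv_mem (h.comm_V0_B hv' hv)
      have e : v * (v' * b) * v⁻¹ * (v' * b)⁻¹ = (v' * v * v'⁻¹ * v⁻¹)⁻¹ := by
        calc v * (v' * b) * v⁻¹ * (v' * b)⁻¹ = v * v' * (b * v⁻¹) * b⁻¹ * v'⁻¹ := by group
          _ = v * v' * (v⁻¹ * b) * b⁻¹ * v'⁻¹ := by
            have : b * v⁻¹ = v⁻¹ * b := by
              have h3 : v⁻¹ * (v * b) * v⁻¹ = v⁻¹ * (b * v) * v⁻¹ := by rw [h1]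
              have h4 : v⁻¹ * (v * b) * v⁻¹ = b * v⁻¹ := by group
              have h5 : v⁻¹ * (b * v) * v⁻¹ = v⁻¹ * b := by group
              rw [h4, h5] at h3
              exact h3
            rw [this]
          _ = _ := by group
      rw [e]
      exact h2
  rw [ee_def, sup_eq_closure] at hu
  have hcl : closure ((V0 : Set G) ∪ (cj V0 x : Set G)) ≤ ll V x := by
    rw [closure_le]
    rintro y (hy | hy)
    · exact h.V0_ll hy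
    · exact h.B_ll hy
  refine closure_induction (p := fun u _ => u * w * u⁻¹ * w⁻¹ ∈ zz V x)
    (fun v hv => hgen v hv w hw) (by simp) ?_ ?_ hu
  · intro a b ha hb h1 h2
    have e : a * b * w * (a * b)⁻¹ * w⁻¹ =
        (a * (b * w * b⁻¹ * w⁻¹) * a⁻¹) * (a * w * a⁻¹ * w⁻¹) := by group
    rw [e, h.zz_cent h2 (hcl ha)]
    have e2 : b * w * b⁻¹ * w⁻¹ * a * a⁻¹ = b * w * b⁻¹ * w⁻¹ := by group
    rw [e2]
    exact mul_mem h2 h1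
  · intro a ha h1
    have e : a⁻¹ * w * a⁻¹⁻¹ * w⁻¹ = a⁻¹ * (a * w * a⁻¹ * w⁻¹)⁻¹ * a := by group
    have e2 : a⁻¹ * (a * w * a⁻¹ * w⁻¹)⁻¹ = (a * w * a⁻¹ * w⁻¹)⁻¹ * a⁻¹ :=
      h.zz_cent (inv_mem h1) (inv_mem (hcl ha))
    rw [e, e2, inv_mul_cancel_right]
    exact inv_mem h1

theorem Hyp.B_sq (h : Hyp Q V V0 x a r) {b : G} (hb : b ∈ cj V0 x) : b ^ 2 = 1 := by
  rw [mem_cj] at hb
  have h1 := h.sq _ (h.le hb)
  have e : (x⁻¹ * b * x) ^ 2 = x⁻¹ * b ^ 2 * x := by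
    rw [pow_two, pow_two]; group
  rw [e] at h1
  have h2 : b ^ 2 = x * (x⁻¹ * b ^ 2 * x) * x⁻¹ := by group
  rw [h2, h1]
  group

/-- `E / Z0` has exponent 2. -/
theorem Hyp.ee_sq (h : Hyp Q V V0 x a r) {u : G} (hu : u ∈ ee V0 x) : u ^ 2 ∈ zz V x := by
  obtain ⟨v, hv, b, hb, rfl⟩ := h.mem_ee.mp hu
  have h1 := h.comm_V0_B hv hb
  have e : (v * b) ^ 2 = (v * b * v⁻¹ * b⁻¹) * (b * v ^ 2 * b⁻¹) * (b ^ 2) := by
    rw [pow_two, pow_two, pow_two]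
    group
  have h2 : (v * b) ^ 2 = (v * b * v⁻¹ * b⁻¹) * (b * v ^ 2 * b⁻¹) * (b ^ 2) := by
    have : (v * b * v⁻¹ * b⁻¹) * (b * v ^ 2 * b⁻¹) * (b ^ 2) = v * b * v * b := by
      rw [pow_two, pow_two]; group
    rw [this, pow_two]; group
  rw [h2, h.sq v (h.le hv), h.B_sq hb, mul_one, mul_one, mul_inv_cancel, mul_one]
  exact h1

/-- An element `u ∈ E` with `[a, u] ∈ Z0` lies in `V0`. -/
theorem Hyp.mem_V0_of_comm (h : Hyp Q V V0 x a r) {u : G} (hu : u ∈ ee V0 x)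
    (hau : a * u * a⁻¹ * u⁻¹ ∈ zz V x) : u ∈ V0 := by
  obtain ⟨v, hv, b, hb, rfl⟩ := h.mem_ee.mp hu
  have h1 : a * v = v * a := h.sit.comm a h.aV v (h.le hv)
  have hD := h.comm_V_B h.aV hb
  have h2 : v * (a * b * a⁻¹ * b⁻¹) = (a * b * a⁻¹ * b⁻¹) * v :=
    h.sit.comm v (h.le hv) _ (dd_le_left hD)
  have e : a * (v * b) * a⁻¹ * (v * b)⁻¹ = a * b * a⁻¹ * b⁻¹ := by
    calc a * (v * b) * a⁻¹ * (v * b)⁻¹ = (a * v) * b * a⁻¹ * b⁻¹ * v⁻¹ := by group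
      _ = v * (a * b * a⁻¹ * b⁻¹) * v⁻¹ := by rw [h1]; group
      _ = a * b * a⁻¹ * b⁻¹ := by rw [h2]; group
  rw [e] at hau
  exact mul_mem hv (h.zz_le (h.mem_zz hb hau))

theorem Hyp.comm_ee (h : Hyp Q V V0 x a r) {u : G} (hu : u ∈ ee V0 x) :
    a * u * a⁻¹ * u⁻¹ ∈ V0 := by
  obtain ⟨v, hv, b, hb, rfl⟩ := h.mem_ee.mp hu
  have h1 : a * v = v * a := h.sit.comm a h.aV v (h.le hv)
  have hD := h.comm_V_B h.aV hb
  have h2 : v * (a * b * a⁻¹ * b⁻¹) = (a * b * a⁻¹ * b⁻¹) * v :=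
    h.sit.comm v (h.le hv) _ (dd_le_left hD)
  have e : a * (v * b) * a⁻¹ * (v * b)⁻¹ = a * b * a⁻¹ * b⁻¹ := by
    calc a * (v * b) * a⁻¹ * (v * b)⁻¹ = (a * v) * b * a⁻¹ * b⁻¹ * v⁻¹ := by group
      _ = v * (a * b * a⁻¹ * b⁻¹) * v⁻¹ := by rw [h1]; group
      _ = a * b * a⁻¹ * b⁻¹ := by rw [h2]; group
  rw [e]
  exact h.ddle hD

/-- An element `u ∈ V0` with `[x, u] ∈ Z0` lies in `Z0`. -/
theorem Hyp.mem_zz_of_V0 (h : Hyp Q V V0 x a r) {u : G} (hu : u ∈ V0)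
    (hxu : x * u * x⁻¹ * u⁻¹ ∈ zz V x) : u ∈ zz V x := by
  refine ⟨h.le hu, ?_⟩
  have e : u = (x * u * x⁻¹ * u⁻¹)⁻¹ * (x * u * x⁻¹) := by group
  rw [e]
  exact (cj V x).mul_mem ((cj V x).inv_mem (zz_le_cj hxu)) (conj_mem_cj x (h.le hu))

/-- `C_{E/Z0}(x) = 1`. -/
theorem Hyp.mem_zz_of_x (h : Hyp Q V V0 x a r) {u : G} (hu : u ∈ ee V0 x)
    (hxu : x * u * x⁻¹ * u⁻¹ ∈ zz V x) : u ∈ zz V x := by
  have hx := h.sit.mem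
  have ha : a ∈ ll V x := V_le_ll h.aV
  -- `f = a x a⁻¹ x ∈ F`
  have hf : a * x * a⁻¹ * x ∈ ee V0 x := by
    refine h.ff_ee ?_
    rw [← h.inf]
    exact ⟨(ll V x).mul_mem ((ll V x).mul_mem ((ll V x).mul_mem ha hx) ((ll V x).inv_mem ha)) hx,
      h.inv⟩
  have huL := h.ee_ll hu
  -- `x⁻¹ u x = u z`
  have hz1 : x⁻¹ * u * x * u⁻¹ ∈ zz V x := by
    have e : x⁻¹ * u * x * u⁻¹ = x⁻¹ * (x * u * x⁻¹ * u⁻¹)⁻¹ * x := by group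
    have e2 : x⁻¹ * (x * u * x⁻¹ * u⁻¹)⁻¹ = (x * u * x⁻¹ * u⁻¹)⁻¹ * x⁻¹ :=
      h.zz_cent (inv_mem hxu) (inv_mem hx)
    rw [e, e2, inv_mul_cancel_right]
    exact inv_mem hxu
  -- `a' = a⁻¹`; `x (a⁻¹ u a) x⁻¹ (a⁻¹ u a)⁻¹ ∈ Z0`
  set f := a * x * a⁻¹ * x with hfdef
  -- `x a⁻¹ = a⁻¹ f x⁻¹`
  have hxa : x * a⁻¹ = a⁻¹ * f * x⁻¹ := by rw [hfdef]; group
  set w := x⁻¹ * u * x * u⁻¹ with hw
  have hwx : x⁻¹ * u * x = w * u := by rw [hw]; group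
  have h2 := h.ee_comm hf hu
  set z2 := f * u * f⁻¹ * u⁻¹ with hz2
  have h3 : f * u * f⁻¹ = z2 * u := by rw [hz2]; group
  have hfL : f ∈ ll V x := h.ee_ll hf
  have h4 : x * (a⁻¹ * u * a) * x⁻¹ * (a⁻¹ * u * a)⁻¹ = w * z2 := by
    calc x * (a⁻¹ * u * a) * x⁻¹ * (a⁻¹ * u * a)⁻¹
        = (x * a⁻¹) * u * (x * a⁻¹)⁻¹ * (a⁻¹ * u * a)⁻¹ := by group
      _ = a⁻¹ * f * (x⁻¹ * u * x) * f⁻¹ * u⁻¹ * a := by rw [hxa]; group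
      _ = a⁻¹ * (f * w) * u * f⁻¹ * u⁻¹ * a := by rw [hwx]; group
      _ = a⁻¹ * w * (f * u * f⁻¹) * u⁻¹ * a := by rw [h.zz_cent hz1 hfL]; group
      _ = a⁻¹ * (w * z2) * a := by rw [h3]; group
      _ = w * z2 := by
        rw [h.zz_cent (mul_mem hz1 h2) (inv_mem ha)]; group
  have h5 : x * (a⁻¹ * u * a) * x⁻¹ * (a⁻¹ * u * a)⁻¹ ∈ zz V x := by
    rw [h4]; exact mul_mem hz1 h2
  -- the commutator `c = a u a⁻¹ u⁻¹`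
  have haa : a⁻¹ * u * a = a * u * a⁻¹ := by rw [h.inv_a]
  rw [haa] at h5
  set c := a * u * a⁻¹ * u⁻¹ with hc
  have hcV0 : c ∈ V0 := h.comm_ee hu
  have hc2 : a * u * a⁻¹ = c * u := by rw [hc]; group
  have hxc : x * c * x⁻¹ * c⁻¹ ∈ zz V x := by
    have hcL : c ∈ ll V x := h.V0_ll hcV0
    set y := x * u * x⁻¹ * u⁻¹ with hy
    have e2 : x * u⁻¹ * x⁻¹ = u⁻¹ * y⁻¹ := by rw [hy]; group
    have e : x * c * x⁻¹ * c⁻¹ =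
        (x * (a * u * a⁻¹) * x⁻¹ * (a * u * a⁻¹)⁻¹) * ((a * u * a⁻¹) * (x * u⁻¹ * x⁻¹) * c⁻¹) := by
      rw [hc2]; group
    rw [e, e2, hc2]
    have e3 : c * u * (u⁻¹ * y⁻¹) * c⁻¹ = y⁻¹ := by
      have : c * u * (u⁻¹ * y⁻¹) * c⁻¹ = (c * y⁻¹) * c⁻¹ := by group
      rw [this, h.zz_cent (inv_mem hxu) hcL]
      group
    rw [e3]
    rw [hc2] at h5
    exact mul_mem h5 (inv_mem hxu)
  have h6 : c ∈ zz V x := h.mem_zz_of_V0 hcV0 hxc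
  exact h.mem_zz_of_V0 (h.mem_V0_of_comm hu h6) hxu

/-- `x ^ r` acts trivially on `E / Z0`. -/
theorem Hyp.pow_mem_ee (h : Hyp Q V V0 x a r) : x ^ r ∈ ee V0 x := by
  refine h.ff_ee ?_
  rw [← h.inf]
  exact ⟨(ll V x).pow_mem h.sit.mem r, h.pow⟩

/-- The elements of `L` centralizing `u` modulo `Z0`. -/
def cz (Q V V0 : Subgroup G) (x a : G) (r : ℕ) (h : Hyp Q V V0 x a r) (u : G) : Subgroup G where
  carrier := {l | l ∈ ll V x ∧ l * u * l⁻¹ * u⁻¹ ∈ zz V x}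
  one_mem' := ⟨one_mem _, by simp⟩
  mul_mem' := by
    rintro a b ⟨ha, h1⟩ ⟨hb, h2⟩
    refine ⟨mul_mem ha hb, ?_⟩
    have e : a * b * u * (a * b)⁻¹ * u⁻¹ =
        (a * (b * u * b⁻¹ * u⁻¹) * a⁻¹) * (a * u * a⁻¹ * u⁻¹) := by group
    rw [e, h.zz_cent h2 ha]
    have e2 : b * u * b⁻¹ * u⁻¹ * a * a⁻¹ = b * u * b⁻¹ * u⁻¹ := by group
    rw [e2]
    exact mul_mem h2 h1
  inv_mem' := by
    rintro a ⟨ha, h1⟩
    refine ⟨inv_mem ha, ?_⟩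
    have e : a⁻¹ * u * a⁻¹⁻¹ * u⁻¹ = a⁻¹ * (a * u * a⁻¹ * u⁻¹)⁻¹ * a := by group
    have e2 : a⁻¹ * (a * u * a⁻¹ * u⁻¹)⁻¹ = (a * u * a⁻¹ * u⁻¹)⁻¹ * a⁻¹ :=
      h.zz_cent (inv_mem h1) (inv_mem ha)
    rw [e, e2, inv_mul_cancel_right]
    exact inv_mem h1

theorem Hyp.mem_cz (h : Hyp Q V V0 x a r) {u l : G} :
    l ∈ cz Q V V0 x a r h u ↔ l ∈ ll V x ∧ l * u * l⁻¹ * u⁻¹ ∈ zz V x := Iff.rfl

/-- `C_{E/Z0}(x²) = 1`. -/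
theorem Hyp.mem_zz_of_x_sq (h : Hyp Q V V0 x a r) {u : G} (hu : u ∈ ee V0 x)
    (hxu : x ^ 2 * u * (x ^ 2)⁻¹ * u⁻¹ ∈ zz V x) : u ∈ zz V x := by
  have h2 : x ^ 2 ∈ cz Q V V0 x a r h u := ⟨(ll V x).pow_mem h.sit.mem 2, hxu⟩
  have hr : x ^ r ∈ cz Q V V0 x a r h u :=
    ⟨(ll V x).pow_mem h.sit.mem r, h.ee_comm h.pow_mem_ee hu⟩
  obtain ⟨k, hk⟩ := h.prime.odd_of_ne_two h.two
  have h1 : x = x ^ r * ((x ^ 2) ^ k)⁻¹ := by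
    rw [hk, ← pow_mul, pow_succ']
    group
  have h3 : x ∈ cz Q V V0 x a r h u := by
    have h4 : x ^ r * ((x ^ 2) ^ k)⁻¹ ∈ cz Q V V0 x a r h u :=
      mul_mem hr (inv_mem (pow_mem h2 k))
    rwa [← h1] at h4
  exact h.mem_zz_of_x hu h3.2

/-- `C_{E/Z0}(a a^x) = 1`. -/
theorem Hyp.mem_zz_of_rho (h : Hyp Q V V0 x a r) {u : G} (hu : u ∈ ee V0 x)
    (hxu : (a * (x * a * x⁻¹)) * u * (a * (x * a * x⁻¹))⁻¹ * u⁻¹ ∈ zz V x) : u ∈ zz V x := by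
  have hx := h.sit.mem
  have ha : a ∈ ll V x := V_le_ll h.aV
  have hρ : a * (x * a * x⁻¹) ∈ cz Q V V0 x a r h u :=
    ⟨(ll V x).mul_mem ha ((ll V x).mul_mem ((ll V x).mul_mem hx ha) ((ll V x).inv_mem hx)), hxu⟩
  -- `f = a x a⁻¹ x ∈ F`
  have hf : a * x * a⁻¹ * x ∈ ee V0 x := by
    refine h.ff_ee ?_
    rw [← h.inf]
    exact ⟨(ll V x).mul_mem ((ll V x).mul_mem ((ll V x).mul_mem ha hx) ((ll V x).inv_mem ha)) hx,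
      h.inv⟩
  have hfc : a * x * a⁻¹ * x ∈ cz Q V V0 x a r h u := ⟨h.ee_ll hf, h.ee_comm hf hu⟩
  -- `a (x a x⁻¹) = (a x a⁻¹ x) x⁻² `
  have e1 : (x ^ 2)⁻¹ = (a * x * a⁻¹ * x)⁻¹ * (a * (x * a * x⁻¹)) := by
    have h1 : a * a = 1 := by rw [← pow_two, h.sq a h.aV]
    have h2 : (a * x * a⁻¹ * x)⁻¹ * (a * (x * a * x⁻¹)) = x⁻¹ * (a * a) * x⁻¹ := by group
    rw [h2, h1, pow_two]
    group
  have h3 : x ^ 2 ∈ cz Q V V0 x a r h u := by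
    rw [← inv_mem_iff, e1]
    exact mul_mem (inv_mem hfc) hρ
  exact h.mem_zz_of_x_sq hu h3.2

/-- **(3)** For `b ∈ B` and `z1 = [a, b]` the group `⟨z1 ^ L⟩` contains an element `w ≡ b` modulo
`Z0`. -/
theorem Hyp.exists_ncl [Finite G] (h : Hyp Q V V0 x a r) {b : G} (hb : b ∈ cj V0 x) :
    ∃ w ∈ ncl (ll V x) (a * b * a⁻¹ * b⁻¹), w * b⁻¹ ∈ zz V x := by
  classical
  set z1 := a * b * a⁻¹ * b⁻¹ with hz1
  set M := ncl (ll V x) z1 with hM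
  have hx := h.sit.mem
  have ha : a ∈ ll V x := V_le_ll h.aV
  have hz1V0 : z1 ∈ V0 := h.ddle (h.comm_V_B h.aV hb)
  have hME : M ≤ ee V0 x := by
    refine ncl_le_of_conj (V0_le_ee hz1V0) ?_
    intro l hl k hk
    exact conj_mem_of_le h.ll_ee hl hk
  set ρ := a * (x * a * x⁻¹) with hρ
  have hρL : ρ ∈ ll V x :=
    (ll V x).mul_mem ha ((ll V x).mul_mem ((ll V x).mul_mem hx ha) ((ll V x).inv_mem hx))
  have hρM : ∀ m ∈ M, ρ * m * ρ⁻¹ ∈ M := fun m hm => conj_mem_of_mem_ncl hρL hm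
  -- the map `m ↦ [ρ, m]` is injective modulo `Z0`
  have hinj : ∀ m ∈ ee V0 x, ∀ m' ∈ ee V0 x,
      (ρ * m * ρ⁻¹ * m⁻¹)⁻¹ * (ρ * m' * ρ⁻¹ * m'⁻¹) ∈ zz V x → m⁻¹ * m' ∈ zz V x := by
    intro m hm m' hm' h1
    have hmm : m⁻¹ * m' ∈ ee V0 x := mul_mem (inv_mem hm) hm'
    refine h.mem_zz_of_rho hmm ?_
    -- compute modulo `Z0`
    have hc1 := h.ee_comm (u := ρ * m⁻¹ * ρ⁻¹ * m) (w := ρ * m' * ρ⁻¹ * m'⁻¹)
      (mul_mem (conj_mem_of_le h.ll_ee hρL (inv_mem hm)) hm)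
      (mul_mem (conj_mem_of_le h.ll_ee hρL hm') (inv_mem hm'))
    set p := m with hp
    have hpE := hm
    -- `[ρ, m⁻¹ m'] = (ρ m⁻¹ ρ⁻¹) (ρ m' ρ⁻¹ m'⁻¹) m`
    have e1 : ρ * (m⁻¹ * m') * ρ⁻¹ * (m⁻¹ * m')⁻¹ =
        (ρ * m⁻¹ * ρ⁻¹) * (ρ * m' * ρ⁻¹ * m'⁻¹) * m := by group
    have e2 : (ρ * m * ρ⁻¹ * m⁻¹)⁻¹ * (ρ * m' * ρ⁻¹ * m'⁻¹) =
        m * ((ρ * m⁻¹ * ρ⁻¹) * (ρ * m' * ρ⁻¹ * m'⁻¹)) := by group
    rw [e2] at h1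
    have e3 : (ρ * m⁻¹ * ρ⁻¹) * (ρ * m' * ρ⁻¹ * m'⁻¹) * m =
        m⁻¹ * (m * ((ρ * m⁻¹ * ρ⁻¹) * (ρ * m' * ρ⁻¹ * m'⁻¹))) * m := by group
    have e4 := h.zz_cent h1 (inv_mem (h.ee_ll hm))
    have hgoal : ρ * (m⁻¹ * m') * ρ⁻¹ * (m⁻¹ * m')⁻¹ ∈ zz V x := by
      rw [e1, e3, e4, inv_mul_cancel_right]
      exact h1
    exact hgoal
  -- surjectivity on `M / (M ∩ Z0)`
  let Z' : Subgroup M := (zz V x).subgroupOf M
  let f : M → M := fun m => ⟨ρ * m * ρ⁻¹ * (m : G)⁻¹, mul_mem (hρM m m.2) (inv_mem m.2)⟩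
  let g : M ⧸ Z' → M ⧸ Z' := fun q => (QuotientGroup.mk (f q.out) : M ⧸ Z')
  have hg : Function.Injective g := by
    intro q q' hqq
    have h1 : (f q.out)⁻¹ * f q'.out ∈ Z' := QuotientGroup.eq.mp hqq
    have h2 := hinj _ (hME q.out.2) _ (hME q'.out.2) h1
    have h3 : q.out⁻¹ * q'.out ∈ Z' := h2
    have h4 := QuotientGroup.eq.mpr h3
    rw [QuotientGroup.out_eq', QuotientGroup.out_eq'] at h4
    exact h4
  have hz1M : z1 ∈ M := self_mem_ncl _ _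
  obtain ⟨q, hq⟩ := (Finite.injective_iff_surjective.mp hg) (QuotientGroup.mk (⟨z1, hz1M⟩ : M))
  have h1 : (f q.out)⁻¹ * ⟨z1, hz1M⟩ ∈ Z' := QuotientGroup.eq.mp hq
  have h2 : (ρ * (q.out : G) * ρ⁻¹ * (q.out : G)⁻¹)⁻¹ * z1 ∈ zz V x := h1
  -- `[ρ, b] = z1`
  have hcb : (x * a * x⁻¹) * b = b * (x * a * x⁻¹) :=
    h.sit.cj_comm _ (conj_mem_cj x h.aV) b (h.B_le hb)
  have hρb : ρ * b * ρ⁻¹ * b⁻¹ = z1 := by
    have e : ρ * b * ρ⁻¹ * b⁻¹ = a * ((x * a * x⁻¹) * b) * (x * a * x⁻¹)⁻¹ * a⁻¹ * b⁻¹ := by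
      rw [hρ]; group
    rw [e, hcb, hz1]
    group
  rw [← hρb] at h2
  have h3 := hinj _ (hME q.out.2) _ (B_le_ee hb) h2
  refine ⟨q.out, q.out.2, ?_⟩
  -- `m⁻¹ b ∈ Z0` so `m b⁻¹ ∈ Z0`
  have e : (q.out : G) * b⁻¹ = (q.out : G) * (((q.out : G)⁻¹ * b)⁻¹) * (q.out : G)⁻¹ := by group
  rw [e, h.zz_cent (inv_mem h3) (h.ee_ll (hME q.out.2))]
  have e2 : ((q.out : G)⁻¹ * b)⁻¹ * (q.out : G) * (q.out : G)⁻¹ = ((q.out : G)⁻¹ * b)⁻¹ := by group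
  rw [e2]
  exact inv_mem h3

end Hyp

end Cfsg.Agent.MinSimple.CaseDHyp
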