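import Mathlib
import Cfsg.Agent.MinSimple.Basic
import Cfsg.Agent.MinSimple.LemmaH
import Cfsg.Agent.MinSimple.CaseDDefs
import Cfsg.Agent.MinSimple.CaseDHyp

/-!
# Case (d) of the core theorem: existence of `x` and of the `L`-structure
-/

set_option autoImplicit false

namespace Cfsg.Agent.MinSimple.CaseDExists

open Subgroup Cfsg Cfsg.Agent.ZN Cfsg.Agent.MinSimple.CaseDBase Cfsg.Agent.MinSimple.CaseDHyp
open Cfsg.Agent.MinSimple.CaseDDefs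
open Cfsg.Agent.MinSimple.VModule (o2_def o2_isPGroup le_normalizer_o2 le_o2)

universe u

/-- `C_X(O(X)) ≤ O(X)` for a solvable group with `O₂(X) = 1`. -/
theorem centralizer_pPrimeCore_le {X : Type*} [Group X] [Finite X] (hX : Group.IsSolvable X)
    (h1 : pCore 2 X = ⊥) : centralizer (pPrimeCore 2 X : Set X) ≤ pPrimeCore 2 X := by
  have hf : Fact (Nat.Prime 2) := ⟨Nat.prime_two⟩
  have h2 : fittingSubgroup X ≤ pPrimeCore 2 X := by
    rw [Lib.Cores.fittingSubgroup_eq_iSup_pCore]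
    refine iSup_le fun p => ?_
    have hp : Fact (p : ℕ).Prime := ⟨p.2⟩
    by_cases hp2 : (p : ℕ) = 2
    · rw [hp2, h1]
      exact bot_le
    · refine Lib.Cores.le_pPrimeCore (Lib.Cores.pCore_normal _) ?_
      obtain ⟨n, hn⟩ := IsPGroup.iff_card.mp (Lib.Cores.pCore_isPGroup (G := X) (p : ℕ))
      rw [hn]
      exact Nat.Coprime.pow_left n ((Nat.coprime_primes p.2 Nat.prime_two).mpr hp2)
  exact (centralizer_le h2).trans (Cfsg.Agent.S0044.result.trans h2)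

variable {G : Type u} [Group G]

/-- The choice of `x`. -/
theorem exists_XD [Finite G] {S P P₂ V : Subgroup G} (h : CaseDDefs.Ctx S P P₂ V) :
    ∃ (V₀ : Subgroup G) (a x : G) (r : ℕ), XD P₂ V V₀ a x r := by
  have hf : Fact (Nat.Prime 2) := ⟨Nat.prime_two⟩
  set O := pCore 2 ↥P₂ with hO
  set π := QuotientGroup.mk' O with hπ
  have hπs : Function.Surjective π := QuotientGroup.mk'_surjective O
  have hsolX : Group.IsSolvable (↥P₂ ⧸ O) :=
    have := h.solP₂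
    inferInstance
  set K := pPrimeCore 2 (↥P₂ ⧸ O) with hK
  have hKn : K.Normal := Lib.Cores.pPrimeCore_normal 2
  have hKodd : Odd (Nat.card K) := Nat.coprime_two_right.mp (Lib.Cores.pPrimeCore_coprime 2)
  have hKc : centralizer (K : Set (↥P₂ ⧸ O)) ≤ K :=
    centralizer_pPrimeCore_le hsolX (Lib.Cores.pCore_quotient_pCore 2)
  have hVP : V ≤ P₂ := h.VS.trans h.SP₂
  set A : Subgroup (↥P₂ ⧸ O) := (V.subgroupOf P₂).map π with hA
  have hAmem : ∀ b ∈ A, ∃ (v : G) (hv : v ∈ V), π ⟨v, hVP hv⟩ = b := by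
    rintro _ ⟨v, hv, rfl⟩
    exact ⟨v, hv, rfl⟩
  have hπ1 : ∀ p : P₂, π p = 1 ↔ (p : G) ∈ o2 P₂ := by
    intro p
    constructor
    · intro hp
      exact ⟨p, (QuotientGroup.eq_one_iff p).mp hp, rfl⟩
    · rintro ⟨q, hq, hqp⟩
      have : q = p := Subtype.ext hqp
      rw [← this]
      exact (QuotientGroup.eq_one_iff q).mpr hq
  have hAc : ∀ a ∈ A, ∀ b ∈ A, a * b = b * a := by
    rintro _ ⟨a, ha, rfl⟩ _ ⟨b, hb, rfl⟩
    rw [← map_mul, ← map_mul]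
    congr 1
    exact Subtype.ext (h.Vcomm a ha b hb)
  have hA2 : ∀ a ∈ A, a ^ 2 = 1 := by
    rintro _ ⟨a, ha, rfl⟩
    rw [← map_pow]
    have : a ^ 2 = 1 := Subtype.ext (by
      rw [pow_two]
      exact h.Vsq a ha)
    rw [this, map_one]
  have hAK : A ≤ normalizer (K : Set (↥P₂ ⧸ O)) := by
    rw [normalizer_eq_top_iff.mpr hKn]
    exact le_top
  -- some element of `A` does not centralize `K`
  obtain ⟨b, hb, hbK⟩ : ∃ b ∈ A, b ∉ centralizer (K : Set (↥P₂ ⧸ O)) := by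
    by_contra hcon
    push Not at hcon
    apply h.Vnle
    intro v hv
    rw [← hπ1 ⟨v, hVP hv⟩]
    have h1 : π ⟨v, hVP hv⟩ ∈ K := hKc (hcon _ ⟨⟨v, hVP hv⟩, hv, rfl⟩)
    have h2 := hA2 _ (⟨⟨v, hVP hv⟩, hv, rfl⟩ : π ⟨v, hVP hv⟩ ∈ A)
    have h3 : (⟨π ⟨v, hVP hv⟩, h1⟩ : K) ^ Nat.card K = 1 := pow_card_eq_one'
    have h4 : (π ⟨v, hVP hv⟩) ^ Nat.card K = 1 := congrArg Subtype.val h3
    obtain ⟨k, hk⟩ := hKodd
    rw [hk, pow_succ, pow_mul, h2, one_pow, one_mul] at h4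
    exact h4
  obtain ⟨A₁, hA₁A, hbA₁, -, -, hor, y, hyK, hyp, hyc, hyi⟩ :=
    LemmaH.exists_inverted hAK hAc hA2 hKodd hb hbK
  obtain ⟨a, haV, rfl⟩ := hAmem b hb
  obtain ⟨x, rfl⟩ := hπs y
  set V₀ : Subgroup G := (A₁.comap π).map P₂.subtype ⊓ V with hV₀
  have hV₀mem : ∀ v (hv : v ∈ V), v ∈ V₀ ↔ π ⟨v, hVP hv⟩ ∈ A₁ := by
    intro v hv
    constructor
    · rintro ⟨⟨w, hw, hwv⟩, -⟩
      have : w = ⟨v, hVP hv⟩ := Subtype.ext hwv
      rw [← this]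
      exact hw
    · intro h1
      exact ⟨⟨⟨v, hVP hv⟩, h1, rfl⟩, hv⟩
  refine ⟨V₀, a, x, orderOf (π x), hyp, ?_, x.2, ?_, ?_, inf_le_right, ?_, ?_, ?_, haV, ?_⟩
  · intro h2
    have h3 : orderOf (⟨π x, hyK⟩ : K) ∣ Nat.card K := orderOf_dvd_natCard _
    rw [orderOf_mk, h2] at h3
    exact (Nat.not_even_iff_odd.mpr hKodd) (even_iff_two_dvd.mpr h3)
  · intro h1
    rw [← hπ1] at h1
    rw [h1, orderOf_one] at hyp
    exact Nat.not_prime_one hyp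
  · have h1 : π (x ^ orderOf (π x)) = 1 := by rw [map_pow, pow_orderOf_eq_one]
    exact (hπ1 _).mp h1
  · rintro d ⟨hd1, hd2⟩
    rw [hV₀mem d hd1]
    have : π ⟨d, hVP hd1⟩ = 1 := (hπ1 _).mpr hd2
    rw [this]
    exact one_mem _
  · rw [relIndex_eq_two_iff]
    refine ⟨a, haV, fun v hv => ?_⟩
    have hva : v * a ∈ V := mul_mem hv haV
    rw [hV₀mem v hv, hV₀mem _ hva]
    have e : π ⟨v * a, hVP hva⟩ = π ⟨v, hVP hv⟩ * π ⟨a, hVP haV⟩ := by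
      rw [← map_mul]; rfl
    rw [e]
    rcases hor (π ⟨v, hVP hv⟩) ⟨⟨v, hVP hv⟩, hv, rfl⟩ with h1 | h1
    · refine Or.inr ⟨h1, fun h2 => hbA₁ ?_⟩
      exact (mul_mem_cancel_left h1).mp h2
    · refine Or.inl ⟨h1, fun h2 => hbA₁ ?_⟩
      exact (mul_mem_cancel_left h2).mp h1
  · rintro v hv
    have hvV : v ∈ V := hv.2
    have h1 := (hV₀mem v hvV).mp hv
    have h2 := hyc _ h1
    have h3 : π (⟨v, hVP hvV⟩ * x * ⟨v, hVP hvV⟩⁻¹ * x⁻¹) = 1 := by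
      rw [map_mul, map_mul, map_mul, map_inv, map_inv, h2]
      group
    exact (hπ1 _).mp h3
  · have h3 : π (⟨a, hVP haV⟩ * x * ⟨a, hVP haV⟩⁻¹ * x) = 1 := by
      rw [map_mul, map_mul, map_mul, map_inv, hyi, inv_mul_cancel]
    exact (hπ1 _).mp h3

section

variable {S P P₂ V V₀ : Subgroup G} {a x : G} {r : ℕ}

theorem XD.aV₀ (hX : XD P₂ V V₀ a x r) : a ∉ V₀ := by
  intro ha
  have h1 := hX.cent a ha
  have h2 : x ^ 2 ∈ o2 P₂ := by
    have e2 : x ^ 2 = (a * x * a⁻¹ * x⁻¹)⁻¹ * (a * x * a⁻¹ * x) := by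
      rw [pow_two]; group
    rw [e2]
    exact (o2 P₂).mul_mem ((o2 P₂).inv_mem h1) hX.inv
  apply hX.xne
  obtain ⟨k, hk⟩ := hX.r_prime.odd_of_ne_two hX.r_ne
  have h3 : x = x ^ r * ((x ^ 2) ^ k)⁻¹ := by
    rw [hk, ← pow_mul, pow_succ']
    group
  rw [h3]
  exact (o2 P₂).mul_mem hX.xr ((o2 P₂).inv_mem ((o2 P₂).pow_mem h2 k))

theorem XD.or (hX : XD P₂ V V₀ a x r) : ∀ v ∈ V, v ∈ V₀ ∨ a * v ∈ V₀ := by
  intro v hv
  have h1 : (V₀.subgroupOf V).index = 2 := hX.idx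
  by_cases h2 : v ∈ V₀
  · exact Or.inl h2
  right
  have h3 : (⟨a, hX.aV⟩ * ⟨v, hv⟩ : V) ∈ V₀.subgroupOf V := by
    rw [mul_mem_iff_of_index_two h1, mem_subgroupOf, mem_subgroupOf]
    exact ⟨fun h => absurd h (XD.aV₀ hX), fun h => absurd h h2⟩
  exact h3

theorem XD.mulRight (hX : XD P₂ V V₀ a x r) (hVP : V ≤ P₂) {q : G} (hq : q ∈ o2 P₂) :
    XD P₂ V V₀ a (x * q) r := by
  have hn := le_normalizer_o2 P₂
  have hconj : ∀ g ∈ P₂, ∀ y ∈ o2 P₂, g * y * g⁻¹ ∈ o2 P₂ := fun g hg y hy =>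
    conj_mem_of_le hn hg hy
  have hqP : q ∈ P₂ := VModule.o2_le P₂ hq
  refine ⟨hX.r_prime, hX.r_ne, mul_mem hX.xP₂ hqP, ?_, ?_, hX.V₀_le, hX.D_le, hX.idx, ?_, hX.aV, ?_⟩
  · intro h
    apply hX.xne
    have : x = x * q * q⁻¹ := by group
    rw [this]
    exact mul_mem h (inv_mem hq)
  · -- `(x q)^n ∈ x^n Q`
    have key : ∀ n : ℕ, (x ^ n)⁻¹ * (x * q) ^ n ∈ o2 P₂ := by
      intro n
      induction n with
      | zero => simp
      | succ n ih =>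
        have e : (x ^ (n + 1))⁻¹ * (x * q) ^ (n + 1) =
            (x⁻¹ * ((x ^ n)⁻¹ * (x * q) ^ n) * x⁻¹⁻¹) * q := by
          rw [pow_succ (x * q), pow_succ x]
          group
        rw [e]
        exact mul_mem (hconj _ (inv_mem hX.xP₂) _ ih) hq
    have h1 := key r
    have e : (x * q) ^ r = x ^ r * ((x ^ r)⁻¹ * (x * q) ^ r) := by group
    rw [e]
    exact mul_mem hX.xr h1
  · intro v hv
    have hvP := hVP (hX.V₀_le hv)
    have h1 := hX.cent v hv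
    have e : v * (x * q) * v⁻¹ * (x * q)⁻¹ =
        (v * x * v⁻¹ * x⁻¹) * (x * ((v * q * v⁻¹) * q⁻¹) * x⁻¹) := by group
    rw [e]
    exact mul_mem h1 (hconj _ hX.xP₂ _ (mul_mem (hconj _ hvP _ hq) (inv_mem hq)))
  · have haP := hVP hX.aV
    have e : a * (x * q) * a⁻¹ * (x * q) =
        (a * x * a⁻¹ * x) * (x⁻¹ * (a * q * a⁻¹) * x⁻¹⁻¹) * q := by group
    rw [e]
    exact mul_mem (mul_mem hX.inv (hconj _ (inv_mem hX.xP₂) _ (hconj _ haP _ hq))) hq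

/-- `x ∈ ⟨V, V^x⟩ O₂(P₂)`. -/
theorem XD.mem_sup (hX : XD P₂ V V₀ a x r) : x ∈ ll V x ⊔ o2 P₂ := by
  set M := ll V x ⊔ o2 P₂ with hM
  have ha : a ∈ M := mem_sup_left (V_le_ll hX.aV)
  have hax : x * a * x⁻¹ ∈ M := mem_sup_left (cj_le_ll (conj_mem_cj x hX.aV))
  have h2 : x ^ 2 ∈ M := by
    have e : x ^ 2 = (x * a * x⁻¹) * a⁻¹ * (a * x * a⁻¹ * x) := by
      rw [pow_two]; group
    rw [e]
    exact mul_mem (mul_mem hax (inv_mem ha)) (mem_sup_right hX.inv)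
  have hr : x ^ r ∈ M := mem_sup_right hX.xr
  obtain ⟨k, hk⟩ := hX.r_prime.odd_of_ne_two hX.r_ne
  have h3 : x ^ r * ((x ^ 2) ^ k)⁻¹ = x := by
    rw [hk, ← pow_mul, pow_succ']
    group
  rw [← h3]
  exact mul_mem hr (inv_mem (pow_mem h2 k))

theorem ctx_sit [Finite G] (h : CaseDDefs.Ctx S P P₂ V) (hX : XD P₂ V V₀ a x r) (hm : x ∈ ll V x) :
    Sit (o2 P₂) V x := by
  have hVP : V ≤ P₂ := h.VS.trans h.SP₂
  have hO : o2 P₂ ≤ S := VModule.o2_le_of_sylow h.S2 h.sylP₂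
  exact ⟨h.Vcomm, (hO.trans h.SP).trans h.PV, hVP.trans (le_normalizer_o2 P₂),
    le_normalizer_o2 P₂ hX.xP₂, hm⟩

/-- `L ∩ Q = F`. -/
theorem ctx_inf [Finite G] (h : CaseDDefs.Ctx S P P₂ V) (hX : XD P₂ V V₀ a x r) (hm : x ∈ ll V x) :
    ll V x ⊓ o2 P₂ = ff (o2 P₂) V x := by
  have hVP : V ≤ P₂ := h.VS.trans h.SP₂
  have hsit := ctx_sit h hX hm
  have hn : ∀ g ∈ P₂, ∀ y ∈ o2 P₂, g * y * g⁻¹ ∈ o2 P₂ := fun g hg y hy =>
    conj_mem_of_le (le_normalizer_o2 P₂) hg hy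
  set R := o2 P₂ ⊔ zpowers x with hR
  have hRmem : ∀ t ∈ R, ∃ q ∈ o2 P₂, ∃ i : ℤ, t = q * x ^ i := by
    intro t ht
    rw [hR, ← SetLike.mem_coe, coe_mul_of_right_le_normalizer_left _ _
      ((zpowers_le.mpr hX.xP₂).trans (le_normalizer_o2 P₂))] at ht
    obtain ⟨q, hq, y, ⟨i, rfl⟩, rfl⟩ := ht
    exact ⟨q, hq, i, rfl⟩
  refine hsit.ll_inf_eq (o2_isPGroup P₂) (fun v hv => by rw [pow_two]; exact h.Vsq v hv) (R := R)
    le_sup_left ?_ (mem_sup_right (mem_zpowers x)) ?_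
  · intro t ht
    obtain ⟨q, hq, i, rfl⟩ := hRmem t ht
    refine ⟨r, hX.r_prime.odd_of_ne_two hX.r_ne, ?_⟩
    have hxi : x ^ i ∈ P₂ := zpow_mem hX.xP₂ i
    have key : ∀ n : ℕ, (q * x ^ i) ^ n * ((x ^ i) ^ n)⁻¹ ∈ o2 P₂ := by
      intro n
      induction n with
      | zero => simp
      | succ n ih =>
        have e : (q * x ^ i) ^ (n + 1) * ((x ^ i) ^ (n + 1))⁻¹ =
            q * (x ^ i * ((q * x ^ i) ^ n * ((x ^ i) ^ n)⁻¹) * (x ^ i)⁻¹) := by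
          rw [pow_succ' (q * x ^ i), pow_succ (x ^ i)]
          have : x ^ i * (x ^ i) ^ n = (x ^ i) ^ n * x ^ i := (Commute.self_pow (x ^ i) n).eq
          group
        rw [e]
        exact mul_mem hq (hn _ hxi _ ih)
    have e : (q * x ^ i) ^ r = ((q * x ^ i) ^ r * ((x ^ i) ^ r)⁻¹) * (x ^ i) ^ r := by group
    rw [e]
    refine mul_mem (key r) ?_
    have e2 : (x ^ i) ^ r = (x ^ r) ^ i := by
      rw [← zpow_natCast, ← zpow_natCast, ← zpow_mul, ← zpow_mul, mul_comm]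
    rw [e2]
    exact zpow_mem hX.xr i
  · -- `V` normalizes `R`
    have hgen : ∀ v ∈ V, v * x * v⁻¹ ∈ R := by
      intro v hv
      rcases XD.or hX v hv with h1 | h1
      · have e : v * x * v⁻¹ = (v * x * v⁻¹ * x⁻¹) * x := by group
        rw [e]
        exact mul_mem (mem_sup_left (hX.cent v h1)) (mem_sup_right (mem_zpowers x))
      · have h2 := hX.cent _ h1
        have haa : a * a = 1 := h.Vsq a hX.aV
        have e : v * x * v⁻¹ = (a * (a * v * x * (a * v)⁻¹ * x⁻¹) * a⁻¹) *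
            (a * x * a⁻¹ * x) * x⁻¹ := by
          have e1 : (a * (a * v * x * (a * v)⁻¹ * x⁻¹) * a⁻¹) * (a * x * a⁻¹ * x) * x⁻¹ =
              (a * a) * v * x * v⁻¹ * (a * a)⁻¹ := by group
          rw [e1, haa]
          group
        rw [e]
        exact mul_mem (mul_mem (mem_sup_left (hn _ (hVP hX.aV) _ h2)) (mem_sup_left hX.inv))
          (inv_mem (mem_sup_right (mem_zpowers x)))
    intro v hv
    refine VModule.mem_normalizer_of_map_le ?_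
    rw [hR, Subgroup.map_sup]
    refine sup_le ?_ ?_
    · rintro _ ⟨y, hy, rfl⟩
      exact mem_sup_left (hn _ (hVP hv) _ hy)
    · rw [MonoidHom.map_zpowers, zpowers_le]
      exact hgen v hv

theorem ctx_hyp [Finite G] (h : CaseDDefs.Ctx S P P₂ V) (hX : XD P₂ V V₀ a x r)
    (hm : x ∈ ll V x) : Hyp (o2 P₂) V V₀ x a r where
  sit := ctx_sit h hX hm
  sq := fun v hv => by rw [pow_two]; exact h.Vsq v hv
  le := hX.V₀_le
  ddle := hX.D_le
  aV := hX.aV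
  aV0 := XD.aV₀ hX
  or := XD.or hX
  prime := hX.r_prime
  two := hX.r_ne
  pow := hX.xr
  xQ := hX.xne
  cent := hX.cent
  inv := hX.inv
  inf := ctx_inf h hX hm

/-- `B ≰ Z₀`. -/
theorem not_B_le [Finite G] (h : CaseDDefs.Ctx S P P₂ V) (hX : XD P₂ V V₀ a x r)
    (hm : x ∈ ll V x) : ¬ cj V₀ x ≤ zz V x := by
  intro hB
  have hH := ctx_hyp h hX hm
  -- `F ≤ Z₀`
  have hV0 : V₀ ≤ zz V x := by
    intro v hv
    obtain ⟨b, hb, z, hz, rfl⟩ := hH.mem_V0_comm hv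
    have h1 := hH.zz_cent (hB hb) (V_le_ll hX.aV)
    have e : a * b * a⁻¹ * b⁻¹ * z = z := by
      rw [h1]; group
    rw [e]
    exact hz
  have hF : ff (o2 P₂) V x ≤ zz V x := sup_le (hX.D_le.trans hV0) (hH.dx_le_B.trans hB)
  -- `x' = x ^ |Q|` centralizes `Q`
  set m := Nat.card (o2 P₂) with hmdef
  have hxc : ∀ f ∈ ff (o2 P₂) V x, x * f = f * x := fun f hf => hH.zz_cent (hF hf) hm
  have h1 : x ^ m ∈ centralizer (o2 P₂ : Set G) := by
    rw [mem_centralizer_iff]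
    intro q hq
    have hcF := hH.sit.comm_mem_ff hq hm
    set c := x * q * x⁻¹ * q⁻¹ with hc
    have hcm : c ^ m = 1 := by
      have h2 : (⟨c, hH.sit.ff_le_Q hcF⟩ : o2 P₂) ^ Nat.card (o2 P₂) = 1 := pow_card_eq_one'
      exact congrArg Subtype.val h2
    have hxq : x * q * x⁻¹ = c * q := by rw [hc]; group
    have hxcc : x * c = c * x := hxc c hcF
    -- `x^n q x^-n = c^n q`
    have key : ∀ n : ℕ, x ^ n * q * (x ^ n)⁻¹ = c ^ n * q := by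
      intro n
      induction n with
      | zero => simp
      | succ n ih =>
        have hcn : x * c ^ n = c ^ n * x := (Commute.pow_right (show Commute x c from hxcc) n).eq
        calc x ^ (n + 1) * q * (x ^ (n + 1))⁻¹ = x * (x ^ n * q * (x ^ n)⁻¹) * x⁻¹ := by
              rw [pow_succ']; group
          _ = (x * c ^ n) * q * x⁻¹ := by rw [ih]; group
          _ = c ^ n * (x * q * x⁻¹) := by rw [hcn]; group
          _ = c ^ (n + 1) * q := by rw [hxq, pow_succ]; group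
    have h3 := key m
    rw [hcm, one_mul] at h3
    have h4 : x ^ m * q = q * x ^ m := by
      calc x ^ m * q = (x ^ m * q * (x ^ m)⁻¹) * x ^ m := by group
        _ = q * x ^ m := by rw [h3]
    exact h4.symm
  have h2 : x ^ m ∈ o2 P₂ := h.char ⟨pow_mem hX.xP₂ m, h1⟩
  -- `m` is a power of 2
  have hm2 : ∃ k, m = 2 ^ k := by
    have := IsPGroup.iff_card.mp (o2_isPGroup P₂)
    exact this
  obtain ⟨k, hk⟩ := hm2
  -- coprime exponents
  have hcop : IsCoprime (m : ℤ) (r : ℤ) := by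
    rw [Nat.isCoprime_iff_coprime, hk]
    refine Nat.Coprime.pow_left k ?_
    exact (Nat.coprime_primes Nat.prime_two hX.r_prime).mpr hX.r_ne.symm
  obtain ⟨u, w, huw⟩ := hcop
  apply hX.xne
  have e : x = (x ^ m) ^ u * (x ^ r) ^ w := by
    rw [← zpow_natCast, ← zpow_natCast, ← zpow_mul, ← zpow_mul, ← zpow_add, mul_comm (m : ℤ),
      mul_comm (r : ℤ), huw, zpow_one]
  rw [e]
  exact mul_mem (zpow_mem h2 u) (zpow_mem hX.xr w)

/-- The `L`-structure. -/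
theorem ctx_LD [Finite G] (h : CaseDDefs.Ctx S P P₂ V) (hX : XD P₂ V V₀ a x r)
    (hm : x ∈ ll V x) : LD V V₀ (V ⊓ cj V x) (cj V₀ x) (cj V x) := by
  have hH := ctx_hyp h hX hm
  have hsq : ∀ v ∈ V, v * v = 1 := h.Vsq
  refine
    { Vcomm := h.Vcomm
      Vsq := hsq
      V'comm := hH.sit.cj_comm
      V'sq := ?_
      V₀_le := hX.V₀_le
      B_le := hH.B_le
      inf_eq := rfl
      Z₀_le := hH.zz_le
      Z₀_leB := hH.zz_le_B
      idx := hX.idx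
      idx' := ?_
      nrm := fun v hv b hb => hX.D_le (hH.comm_V_B hv hb)
      nrm' := ?_
      inj := fun v hv hv0 b hb hz => (hH.change hv hv0).mem_zz hb hz
      inj' := ?_
      ne := not_B_le h hX hm }
  · rintro _ ⟨v, hv, rfl⟩
    rw [← map_mul, hsq v hv, map_one]
  · rw [cj_def, cj_def, relIndex_map_map_of_injective _ _ (MulAut.conj x).injective]
    exact hX.idx
  · intro v hv v' hv'
    obtain ⟨d, hd, z, hz, rfl⟩ := hH.mem_V0 hv
    have h1 := hH.zz_cent hz (cj_le_ll hv')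
    have e : d * z * v' * (d * z)⁻¹ * v'⁻¹ = d * v' * d⁻¹ * v'⁻¹ := by
      calc d * z * v' * (d * z)⁻¹ * v'⁻¹ = d * (z * v') * z⁻¹ * d⁻¹ * v'⁻¹ := by group
        _ = d * v' * d⁻¹ * v'⁻¹ := by rw [← h1]; group
    rw [e]
    exact hH.dx_le_B (hH.sit.comm_mem_dx (dd_le_right hd) hv')
  · intro v' hv' hv'B v hv hz
    -- conjugate by `x`
    rw [mem_cj] at hv' hv'B
    set a' := x⁻¹ * v' * x with ha'
    have hH' := hH.change hv' hv'B
    have hxm := hH.sit.mem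
    have hvE : x⁻¹ * v * x ∈ ee V₀ x := inv_conj_mem_of_le hH.ll_ee hxm (V0_le_ee hv)
    have h1 : a' * (x⁻¹ * v * x) * a'⁻¹ * (x⁻¹ * v * x)⁻¹ ∈ zz V x := by
      have hz' : (v * v' * v⁻¹ * v'⁻¹)⁻¹ ∈ zz V x := inv_mem hz
      have e : a' * (x⁻¹ * v * x) * a'⁻¹ * (x⁻¹ * v * x)⁻¹ =
          x⁻¹ * (v * v' * v⁻¹ * v'⁻¹)⁻¹ * x := by rw [ha']; group
      rw [e, hH.zz_cent hz' (inv_mem hxm), inv_mul_cancel_right]
      exact hz'
    have h2 := hH'.mem_V0_of_comm hvE h1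
    exact ⟨hX.V₀_le hv, mem_cj.mpr (hX.V₀_le h2)⟩

/-- **Steps (1), (2)**: after replacing `x` by `y ∈ x O₂(P₂)` of order `r` one has
`y ∈ ⟨V, V^y⟩`. -/
theorem exists_LD [Finite G] (h : CaseDDefs.Ctx S P P₂ V) (hX : XD P₂ V V₀ a x r) :
    ∃ q ∈ o2 P₂, (x * q) ^ r = 1 ∧ XD P₂ V V₀ a (x * q) r ∧
      Hyp (o2 P₂) V V₀ (x * q) a r ∧
      LD V V₀ (V ⊓ cj V (x * q)) (cj V₀ (x * q)) (cj V (x * q)) := by
  have hVP : V ≤ P₂ := h.VS.trans h.SP₂
  have hn := le_normalizer_o2 P₂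
  obtain ⟨q, hq, hm, hmin⟩ := exists_lift_min (hVP.trans hn) (hn hX.xP₂) (XD.mem_sup hX)
  have hX1 := XD.mulRight hX hVP hq
  set y := x * q with hy
  -- the exponent
  obtain ⟨k, hk⟩ : ∃ k : ℕ, (y ^ r) ^ 2 ^ k = 1 := by
    obtain ⟨k, hk⟩ := o2_isPGroup P₂ ⟨y ^ r, hX1.xr⟩
    exact ⟨k, congrArg Subtype.val hk⟩
  have hcop : Nat.Coprime r (2 ^ k) :=
    Nat.Coprime.pow_right k ((Nat.coprime_primes hX.r_prime Nat.prime_two).mpr hX.r_ne)
  obtain ⟨m, hm1, hm2⟩ := Nat.chineseRemainder hcop 1 0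
  have hm3 : 2 ^ k ∣ m := (Nat.modEq_zero_iff_dvd).mp hm2
  -- `y ^ m = y * s`
  have hs : y⁻¹ * y ^ m ∈ o2 P₂ := by
    have h1 : (r : ℤ) ∣ (m : ℤ) - 1 := by
      have := (Nat.modEq_iff_dvd.mp hm1.symm)
      simpa using this
    obtain ⟨t, ht⟩ := h1
    have e : y⁻¹ * y ^ m = (y ^ r) ^ t := by
      rw [← zpow_natCast y m, ← zpow_natCast y r, ← zpow_mul, ← ht, ← zpow_neg_one, ← zpow_add,
        neg_add_eq_sub]
    rw [e]
    exact zpow_mem hX1.xr t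
  have hyr : (y ^ m) ^ r = 1 := by
    obtain ⟨t, rfl⟩ := hm3
    rw [← pow_mul, mul_comm (2 ^ k * t) r, pow_mul, pow_mul, hk, one_pow]
  set s := y⁻¹ * y ^ m with hsdef
  have hys : y ^ m = x * (q * s) := by rw [← mul_assoc, ← hy, hsdef]; group
  have hqs : q * s ∈ o2 P₂ := mul_mem hq hs
  have hle : ll V (y ^ m) ≤ ll V y := by
    refine sup_le V_le_ll ?_
    rintro _ ⟨v, hv, rfl⟩
    exact mul_mem (mul_mem (pow_mem hm m) (V_le_ll hv)) (inv_mem (pow_mem hm m))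
  have heq : ll V (y ^ m) = ll V y := by
    apply eq_of_le_of_card_ge hle
    rw [hys]
    exact hmin _ hqs
  have hm' : x * (q * s) ∈ ll V (x * (q * s)) := by
    rw [← hys, heq]
    exact pow_mem hm m
  have hX2 := XD.mulRight hX hVP hqs
  refine ⟨q * s, hqs, ?_, hX2, ctx_hyp h hX2 hm', ctx_LD h hX2 hm'⟩
  rw [← hys]
  exact hyr

/-- The same in the form used by `CaseDEnd`. -/
theorem exists_lift_all [Finite G] (h : CaseDDefs.Ctx S P P₂ V) (hX : XD P₂ V V₀ a x r) :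
    ∃ q ∈ o2 P₂, ∀ x', x' = x * q →
      x' ^ r = 1 ∧ XD P₂ V V₀ a x' r ∧ Hyp (o2 P₂) V V₀ x' a r ∧
      x' ∈ V ⊔ V.map (MulAut.conj x').toMonoidHom ∧
      LD V V₀ (V ⊓ V.map (MulAut.conj x').toMonoidHom) (V₀.map (MulAut.conj x').toMonoidHom)
        (V.map (MulAut.conj x').toMonoidHom) ∧
      V₀.map (MulAut.conj x').toMonoidHom ≤ V ⊔ o2 P₂ ∧
      (V ⊔ V.map (MulAut.conj x').toMonoidHom) ⊓ o2 P₂ =
        (V ⊓ o2 P₂) ⊔ (V ⊓ o2 P₂).map (MulAut.conj x').toMonoidHom ∧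
      ⁅o2 P₂, V ⊔ V.map (MulAut.conj x').toMonoidHom⁆ ≤
        (V ⊓ o2 P₂) ⊔ (V ⊓ o2 P₂).map (MulAut.conj x').toMonoidHom ∧
      V₀ ≤ (V ⊓ o2 P₂) ⊔ (V ⊓ V.map (MulAut.conj x').toMonoidHom) := by
  obtain ⟨q, hq, h1, h2, h3, h4⟩ := exists_LD h hX
  refine ⟨q, hq, ?_⟩
  rintro _ rfl
  refine ⟨h1, h2, h3, h3.sit.mem, h4, h3.B_le_sup, h3.inf, ?_, ?_⟩
  · rw [commutator_le]
    intro g hg l hl
    have h5 := inv_mem (h3.sit.comm_mem_ff hg hl)
    have e : (l * g * l⁻¹ * g⁻¹)⁻¹ = g * l * g⁻¹ * l⁻¹ := by group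
    rw [e] at h5
    exact h5
  · intro v hv
    obtain ⟨d, hd, z, hz, rfl⟩ := h3.mem_V0 hv
    exact mul_mem (mem_sup_left hd) (mem_sup_right hz)

end

end Cfsg.Agent.MinSimple.CaseDExists
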