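import Cfsg.Agent.MinSimple.CaseDThree
import Cfsg.Agent.MinSimple.CaseDExists

/-!
# Case (d) of (E1): from `XD` to `LX` and `PD`

`PDAll P P₂ V`: the statement of steps (3) and (4) for all `x`.
`exists_lx`: for every choice `XD P₂ V (V ⊓ o2 P₂) a ρ r` there is `q ∈ o2 P₂` such that `x = ρ q` has
order `r` and all the data `LX`, `PD`, with `Z₀ = zc S`.
-/

set_option autoImplicit false

namespace Cfsg.Agent.MinSimple.CaseDGlue

open Subgroup Cfsg Cfsg.Agent.ZN Cfsg.Agent.MinSimple.CaseDDefs Cfsg.Agent.MinSimple.CaseDMin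
open Cfsg.Agent.MinSimple.CaseDThree Cfsg.Agent.MinSimple.CaseDHyp
open Cfsg.Agent.MinSimple.VModule (o2_def o2_isPGroup le_normalizer_o2 le_o2 o2_le)
open scoped commutatorElement

universe u

variable {G : Type u} [Group G]

/-- Steps (3) and (4). -/
def PDAll (P P₂ V : Subgroup G) : Prop :=
  ∀ (V₀ : Subgroup G) (a x : G) (r : ℕ), XD P₂ V V₀ a x r → Hyp (o2 P₂) V V₀ x a r →
    ∃ z b c y₁ y₂ : G, PD P V V₀ (V ⊓ V.map (MulAut.conj x).toMonoidHom)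
      (V₀.map (MulAut.conj x).toMonoidHom) z b c y₁ y₂

variable {S P P₂ V : Subgroup G}

theorem zc_le_map (h : CaseDDefs.Ctx S P P₂ V) {x : G} (hx : x ∈ P₂) :
    zc S ≤ V.map (MulAut.conj x).toMonoidHom := by
  intro z hz
  refine ⟨z, h.ZV hz, ?_⟩
  change x * z * x⁻¹ = z
  rw [← mem_centralizer_iff.1 (h.Z₂ hx) z hz, mul_inv_cancel_right]

theorem zc_le_o2 (h : CaseDDefs.Ctx S P P₂ V) : zc S ≤ o2 P₂ := by
  intro z hz
  refine h.char ⟨h.SP₂ (VModule.zc_le S hz), ?_⟩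
  refine mem_centralizer_iff.2 fun g hg => ?_
  exact (mem_centralizer_iff.1 (h.Z₂ (o2_le P₂ hg)) z hz).symm

theorem zc_eq (h : CaseDDefs.Ctx S P P₂ V) {V₀ B : Subgroup G} {x z b c y₁ y₂ : G} (hx : x ∈ P₂)
    (hPD : PD P V V₀ (V ⊓ V.map (MulAut.conj x).toMonoidHom) B z b c y₁ y₂) :
    V ⊓ V.map (MulAut.conj x).toMonoidHom = zc S := by
  have hle : zc S ≤ V ⊓ V.map (MulAut.conj x).toMonoidHom := le_inf h.ZV (zc_le_map h hx)
  refine le_antisymm ?_ hle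
  obtain ⟨z', hz1⟩ := (zc S).ne_bot_iff_exists_ne_one.1 h.Zne
  have hzS : z ∈ zc S := by
    rcases (hPD.Z₀_eq z').1 (hle z'.2) with h1 | h1
    · exact absurd (Subtype.ext h1) hz1
    · exact h1 ▸ z'.2
  intro g hg
  rcases (hPD.Z₀_eq g).1 hg with rfl | rfl
  · exact one_mem _
  · exact hzS

/-- `V₀` does not centralise `b`. -/
theorem exists_nc [Finite G] {V₀ Z B : Subgroup G} {z b c y₁ y₂ : G} (hPD : PD P V V₀ Z B z b c y₁ y₂)
    (hV₀ : V₀ ≤ V) : ∃ d ∈ V₀, ∃ e ∈ B, d * e ≠ e * d := by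
  by_contra hcon
  push Not at hcon
  obtain ⟨v, hv, hv0⟩ : ∃ v ∈ V, v ∉ V₀ := by
    by_contra hcon2
    push Not at hcon2
    have h1 : V = V₀ := le_antisymm hcon2 hV₀
    have h2 := hPD.cardV
    rw [h1, hPD.cardV₀] at h2
    omega
  have hsub : (V₀ : Set G) ⊆ {1, z, v * b * v⁻¹ * b⁻¹, v * b * v⁻¹ * b⁻¹ * z} := by
    intro u hu
    have h1 : b * u * b⁻¹ = u := by rw [← hcon u hu b hPD.bB, mul_inv_cancel_right]
    rcases hPD.Cb v hv hv0 u (hV₀ hu) h1 with h2 | ⟨e, he, h2⟩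
    · rcases (hPD.Z₀_eq u).1 h2 with h3 | h3 <;> simp [h3]
    · rcases (hPD.Z₀_eq e).1 he with h3 | h3 <;> simp [h2, h3]
  have h1 : (V₀ : Set G).ncard ≤ 4 := by
    refine (Set.ncard_le_ncard hsub (Set.toFinite _)).trans ?_
    refine (Set.ncard_insert_le _ _).trans ?_
    have h2 := Set.ncard_insert_le z {v * b * v⁻¹ * b⁻¹, v * b * v⁻¹ * b⁻¹ * z}
    have h3 := Set.ncard_insert_le (v * b * v⁻¹ * b⁻¹) {v * b * v⁻¹ * b⁻¹ * z}
    rw [Set.ncard_singleton] at h3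
    omega
  have h2 : (V₀ : Set G).ncard = 8 := by
    rw [← Nat.card_coe_set_eq]
    exact hPD.cardV₀
  omega

/-- The group `V₀` is `V ⊓ o2 P₂`. -/
theorem V₀_eq [Finite G] (h : CaseDDefs.Ctx S P P₂ V) (hPD : PDAll P P₂ V) {V₀ : Subgroup G}
    {a x : G} {r : ℕ} (hX : XD P₂ V V₀ a x r) :
    V₀ = V ⊓ o2 P₂ ∧ Nat.card V = 16 ∧ Nat.card V₀ = 8 ∧ Nat.card (zc S) = 2 := by
  obtain ⟨q, hq, hq'⟩ := CaseDExists.exists_lift_all h hX
  obtain ⟨h1, h2, h3, h4, h5, h6, h7, h8, h9⟩ := hq' _ rfl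
  obtain ⟨z, b, c, y₁, y₂, hP⟩ := hPD V₀ a _ r h2 h3
  have hz := zc_eq h h2.xP₂ hP
  refine ⟨le_antisymm ?_ hX.D_le, hP.cardV, hP.cardV₀, ?_⟩
  · refine h9.trans (sup_le le_rfl ?_)
    rw [hz]
    exact le_inf h.ZV (zc_le_o2 h)
  · rw [← hz]
    have h10 : ((V ⊓ V.map (MulAut.conj (x * q)).toMonoidHom : Subgroup G) : Set G) = {1, z} := by
      ext g
      exact hP.Z₀_eq g
    rw [← SetLike.coe_sort_coe, h10, Nat.card_coe_set_eq, Set.ncard_pair hP.z_ne.symm]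

/-- All data for one element `ρ`. -/
theorem exists_lx [Finite G] (h : CaseDDefs.Ctx S P P₂ V) (hPD : PDAll P P₂ V) {a ρ : G} {r : ℕ}
    (hX : XD P₂ V (V ⊓ o2 P₂) a ρ r) :
    ∃ q ∈ o2 P₂, (ρ * q) ^ r = 1 ∧
      LX (o2 P₂) V (V ⊓ o2 P₂) (zc S) ((V ⊓ o2 P₂).map (MulAut.conj (ρ * q)).toMonoidHom)
        (V.map (MulAut.conj (ρ * q)).toMonoidHom) a (ρ * q) r ∧
      ∃ z b c y₁ y₂ : G, PD P V (V ⊓ o2 P₂) (zc S)
        ((V ⊓ o2 P₂).map (MulAut.conj (ρ * q)).toMonoidHom) z b c y₁ y₂ := by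
  obtain ⟨q, hq, hq'⟩ := CaseDExists.exists_lift_all h hX
  obtain ⟨h1, h2, h3, h4, h5, h6, h7, h8, h9⟩ := hq' _ rfl
  obtain ⟨z, b, c, y₁, y₂, hP⟩ := hPD _ a _ r h2 h3
  obtain ⟨_, hc16, hc8, hc2⟩ := V₀_eq h hPD hX
  have hz := zc_eq h h2.xP₂ hP
  rw [hz] at hP h5
  have hVP : V ≤ P₂ := h.VS.trans h.SP₂
  refine ⟨q, hq, h1, ?_, z, b, c, y₁, y₂, hP⟩
  exact
    { ld := h5
      V'_eq := rfl
      B_eq := rfl
      xL := h4
      FQ := h7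
      QL := fun q hq l hl => h8 (commutator_mem_commutator hq hl)
      LN := by
        refine (sup_le hVP ?_).trans (le_normalizer_o2 P₂)
        rintro _ ⟨v, hv, rfl⟩
        exact mul_mem (mul_mem h2.xP₂ (hVP hv)) (inv_mem h2.xP₂)
      r_prime := hX.r_prime
      r_ne := hX.r_ne
      xr := h2.xr
      xQ := h2.xne
      aV := hX.aV
      aD := h3.aV0
      inv := h2.inv
      cardD := hc8
      cardZ := hc2
      nc := exists_nc hP hX.V₀_le }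

end Cfsg.Agent.MinSimple.CaseDGlue
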