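import Mathlib
import Cfsg.Agent.ZN.Plane

/-!
# Elements acting on a four-group by conjugation

`V` is a subgroup of order `4` and exponent `2`.

* `mem_cases`: the elements of `V`;
* `eq_one_of_fixed`: an element acting on `V` with order `3` fixes only `1`;
* `fixed_unique`: an element acting nontrivially with a fixed point `≠ 1` fixes exactly one
  element `≠ 1`;
* `sup_eq`: elements acting with order `2` and `3` generate all of `N` modulo `C_N(V)`.
-/

set_option autoImplicit false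

namespace Cfsg.Agent.MinSimple.PlaneAct

open Subgroup

variable {K : Type*} [Group K]

/-- The elements of a four-group. -/
theorem mem_cases {V : Subgroup K} (hV : Nat.card V = 4) (hsq : ∀ v ∈ V, v ^ 2 = 1) {a b : K}
    (ha : a ∈ V) (hb : b ∈ V) (ha1 : a ≠ 1) (hb1 : b ≠ 1) (hab : a ≠ b) :
    ∀ v ∈ V, v = 1 ∨ v = a ∨ v = b ∨ v = a * b := by
  classical
  have hfin : Finite V := Nat.finite_of_card_ne_zero (by omega)
  have ha2 : a * a = 1 := by rw [← pow_two]; exact hsq a ha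
  have hab1 : a * b ≠ 1 := by
    intro h
    apply hab
    calc a = a * (a * b) := by rw [h, mul_one]
      _ = b := by rw [← mul_assoc, ha2, one_mul]
  have haba : a * b ≠ a := fun h => hb1 (mul_eq_left.mp h)
  have habb : a * b ≠ b := fun h => ha1 (mul_eq_right.mp h)
  intro v hv
  by_contra hcon
  push Not at hcon
  obtain ⟨h1, h2, h3, h4⟩ := hcon
  let f : Fin 5 → V := ![1, ⟨a, ha⟩, ⟨b, hb⟩, ⟨a * b, V.mul_mem ha hb⟩, ⟨v, hv⟩]
  have hinj : Function.Injective f := by
    intro i j hij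
    have hij' := congrArg Subtype.val hij
    fin_cases i <;> fin_cases j <;> simp [f] at hij' ⊢ <;>
      first
        | exact absurd hij' ha1
        | exact absurd hij'.symm ha1
        | exact absurd hij' hb1
        | exact absurd hij'.symm hb1
        | exact absurd hij' hab
        | exact absurd hij'.symm hab
        | exact absurd hij' hab1
        | exact absurd hij'.symm hab1
        | exact absurd hij' haba
        | exact absurd hij'.symm haba
        | exact absurd hij' habb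
        | exact absurd hij'.symm habb
        | exact absurd hij' h1
        | exact absurd hij'.symm h1
        | exact absurd hij' h2
        | exact absurd hij'.symm h2
        | exact absurd hij' h3
        | exact absurd hij'.symm h3
        | exact absurd hij' h4
        | exact absurd hij'.symm h4
  have := Nat.card_le_card_of_injective f hinj
  rw [hV, Nat.card_eq_fintype_card, Fintype.card_fin] at this
  omega

/-- An element inducing an automorphism of order `3` fixes only `1`. -/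
theorem eq_one_of_fixed {V : Subgroup K} (hV : Nat.card V = 4) (hsq : ∀ v ∈ V, v ^ 2 = 1) {d : K}
    (hd : d ∈ normalizer (V : Set K)) (hne : ∃ v ∈ V, d * v * d⁻¹ ≠ v)
    (h3 : ∀ v ∈ V, d ^ 3 * v * (d ^ 3)⁻¹ = v) {v : K} (hv : v ∈ V) (hfix : d * v * d⁻¹ = v) :
    v = 1 := by
  by_contra hv1
  obtain ⟨w, hw, hdw⟩ := hne
  have hw1 : w ≠ 1 := by
    rintro rfl
    exact hdw (by group)
  have hvw : v ≠ w := by
    rintro rfl
    exact hdw hfix
  have hdwV : d * w * d⁻¹ ∈ V := (mem_normalizer_iff.1 hd w).1 hw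
  have hv2 : v * v = 1 := by rw [← pow_two]; exact hsq v hv
  have h1 : d * w * d⁻¹ = v * w := by
    rcases mem_cases hV hsq hv hw hv1 hw1 hvw _ hdwV with h | h | h | h
    · exfalso
      apply hw1
      calc w = d⁻¹ * (d * w * d⁻¹) * d := by group
        _ = 1 := by rw [h]; group
    · exfalso
      apply hvw
      have h5 : d * w * d⁻¹ = d * v * d⁻¹ := h.trans hfix.symm
      have h6 : w = v := by simpa using h5
      exact h6.symm
    · exact absurd h hdw
    · exact h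
  have h2 : d ^ 2 * w * (d ^ 2)⁻¹ = w := by
    calc d ^ 2 * w * (d ^ 2)⁻¹ = d * (d * w * d⁻¹) * d⁻¹ := by
          rw [pow_two, mul_inv_rev]; simp only [mul_assoc]
      _ = d * (v * w) * d⁻¹ := by rw [h1]
      _ = (d * v * d⁻¹) * (d * w * d⁻¹) := by group
      _ = v * (v * w) := by rw [hfix, h1]
      _ = w := by rw [← mul_assoc, hv2, one_mul]
  apply hdw
  calc d * w * d⁻¹ = d * (d ^ 2 * w * (d ^ 2)⁻¹) * d⁻¹ := by rw [h2]
    _ = d ^ 3 * w * (d ^ 3)⁻¹ := by
        rw [pow_succ' d 2, mul_inv_rev]; simp only [mul_assoc]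
    _ = w := h3 w hw

/-- An element acting nontrivially fixes at most one element `≠ 1`. -/
theorem fixed_unique {V : Subgroup K} (hV : Nat.card V = 4) (hsq : ∀ v ∈ V, v ^ 2 = 1) {t : K}
    (hne : ∃ v ∈ V, t * v * t⁻¹ ≠ v) {v w : K} (hv : v ∈ V) (hw : w ∈ V) (hv1 : v ≠ 1)
    (hw1 : w ≠ 1) (hfv : t * v * t⁻¹ = v) (hfw : t * w * t⁻¹ = w) : v = w := by
  by_contra hvw
  obtain ⟨u, hu, htu⟩ := hne
  apply htu
  rcases mem_cases hV hsq hv hw hv1 hw1 hvw u hu with rfl | rfl | rfl | rfl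
  · group
  · exact hfv
  · exact hfw
  · calc t * (v * w) * t⁻¹ = (t * v * t⁻¹) * (t * w * t⁻¹) := by group
      _ = v * w := by rw [hfv, hfw]

theorem mem_centralizer_iff' {V : Subgroup K} {g : K} :
    g ∈ centralizer (V : Set K) ↔ ∀ v ∈ V, g * v * g⁻¹ = v := by
  rw [mem_centralizer_iff]
  refine forall₂_congr fun v _ => ?_
  rw [mul_inv_eq_iff_eq_mul, eq_comm]

theorem dvd_relIndex {N : Type*} [Group N] {C U : Subgroup N} [C.Normal] {p : ℕ} (hp : p.Prime)
    {y : N} (hyU : y ∈ U) (hyC : y ∉ C) (hyp : y ^ p ∈ C) : p ∣ C.relIndex U := by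
  have h1 : orderOf (QuotientGroup.mk y : N ⧸ C) = p := by
    have h2 : orderOf (QuotientGroup.mk y : N ⧸ C) ∣ p := by
      apply orderOf_dvd_of_pow_eq_one
      rw [← QuotientGroup.mk_pow, QuotientGroup.eq_one_iff]
      exact hyp
    rcases (Nat.dvd_prime hp).1 h2 with h3 | h3
    · exact absurd ((QuotientGroup.eq_one_iff y).1 (orderOf_eq_one_iff.1 h3)) hyC
    · exact h3
  have h4 : C.relIndex U = Nat.card (U.map (QuotientGroup.mk' C)) := by
    have h5 := Subgroup.relIndex_ker U (QuotientGroup.mk' C)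
    rwa [QuotientGroup.ker_mk'] at h5
  rw [h4, ← h1]
  have h6 : (QuotientGroup.mk y : N ⧸ C) ∈ U.map (QuotientGroup.mk' C) := ⟨y, hyU, rfl⟩
  exact Subgroup.orderOf_dvd_natCard _ h6

/-- In a group of order dividing `6` the elements with `x ^ 3 = 1` form a subgroup. -/
theorem mul_pow_three {Γ : Type*} [Group Γ] (h : Nat.card Γ ∣ 6) {x y : Γ}
    (hx : x ^ 3 = 1) (hy : y ^ 3 = 1) : (x * y) ^ 3 = 1 := by
  have hfin : Finite Γ := Nat.finite_of_card_ne_zero (fun h0 => by rw [h0] at h; norm_num at h)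
  by_cases hx1 : x = 1
  · rw [hx1, one_mul, hy]
  have hox : orderOf x = 3 := orderOf_eq_prime hx hx1
  have hcard : Nat.card (zpowers x) = 3 := by rw [Nat.card_zpowers, hox]
  have hidx : (zpowers x).index ∣ 2 := by
    have h1 := (zpowers x).card_mul_index
    rw [hcard] at h1
    rw [← h1] at h
    exact Nat.dvd_of_mul_dvd_mul_left (by norm_num) (show 3 * (zpowers x).index ∣ 3 * 2 from h)
  have hn : (zpowers x).Normal := by
    rcases (Nat.dvd_prime Nat.prime_two).1 hidx with h1 | h1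
    · rw [index_eq_one.1 h1]; infer_instance
    · exact normal_of_index_eq_two h1
  have hyN : y ∈ zpowers x := by
    rw [← QuotientGroup.eq_one_iff]
    have h1 : orderOf (QuotientGroup.mk y : Γ ⧸ zpowers x) ∣ 3 := by
      apply orderOf_dvd_of_pow_eq_one
      rw [← QuotientGroup.mk_pow, hy, QuotientGroup.mk_one]
    have h2 : orderOf (QuotientGroup.mk y : Γ ⧸ zpowers x) ∣ 2 :=
      (_root_.orderOf_dvd_natCard _).trans hidx
    have h3 : orderOf (QuotientGroup.mk y : Γ ⧸ zpowers x) ∣ 1 := by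
      have := Nat.dvd_gcd h1 h2
      simpa using this
    exact orderOf_eq_one_iff.1 (Nat.dvd_one.1 h3)
  have hc : Commute x y := by
    obtain ⟨n, rfl⟩ := mem_zpowers_iff.1 hyN
    exact (Commute.refl x).zpow_right n
  rw [hc.mul_pow, hx, hy, one_mul]

/-- The centralizer of `V` in `N` is normal in `N`. -/
theorem normal_centralizer_subgroupOf {V N : Subgroup K} (hN : N ≤ normalizer (V : Set K)) :
    ((centralizer (V : Set K)).subgroupOf N).Normal := by
  refine ⟨fun n hn g => ?_⟩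
  rw [mem_subgroupOf, mem_centralizer_iff'] at hn ⊢
  intro v hv
  have h1 : (g : K)⁻¹ * v * (g : K) ∈ V := by
    have := (mem_normalizer_iff.1 (inv_mem (hN g.2)) v).1 hv
    rwa [inv_inv] at this
  have h2 := hn _ h1
  calc ((g * n * g⁻¹ : N) : K) * v * ((g * n * g⁻¹ : N) : K)⁻¹ =
        (g : K) * ((n : K) * ((g : K)⁻¹ * v * (g : K)) * (n : K)⁻¹) * (g : K)⁻¹ := by
          push_cast; group
    _ = v := by rw [h2]; group

/-- Elements acting on a four-group with cube acting trivially form a subgroup. -/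
theorem cube_mul {V N : Subgroup K} (hV : Nat.card V = 4) (hN : N ≤ normalizer (V : Set K))
    {x y : K} (hx : x ∈ N) (hy : y ∈ N) (hx3 : ∀ v ∈ V, x ^ 3 * v * (x ^ 3)⁻¹ = v)
    (hy3 : ∀ v ∈ V, y ^ 3 * v * (y ^ 3)⁻¹ = v) :
    ∀ v ∈ V, (x * y) ^ 3 * v * ((x * y) ^ 3)⁻¹ = v := by
  obtain ⟨C, hCdef⟩ : ∃ C : Subgroup N, C = (centralizer (V : Set K)).subgroupOf N := ⟨_, rfl⟩
  have hmem : ∀ n : N, n ∈ C ↔ ∀ v ∈ V, (n : K) * v * (n : K)⁻¹ = v := fun n => by
    rw [hCdef, mem_subgroupOf, mem_centralizer_iff']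
  have hCn : C.Normal := hCdef ▸ normal_centralizer_subgroupOf hN
  have hidx : C.index ∣ 6 := by
    rw [hCdef]
    exact ZN.Plane.relIndex_dvd_six hV hN
  have h1 : ((QuotientGroup.mk (⟨x, hx⟩ : N) : N ⧸ C)) ^ 3 = 1 := by
    rw [← QuotientGroup.mk_pow, QuotientGroup.eq_one_iff, hmem]
    exact hx3
  have h2 : ((QuotientGroup.mk (⟨y, hy⟩ : N) : N ⧸ C)) ^ 3 = 1 := by
    rw [← QuotientGroup.mk_pow, QuotientGroup.eq_one_iff, hmem]
    exact hy3
  have h3 := mul_pow_three (Γ := N ⧸ C) hidx h1 h2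
  rw [← QuotientGroup.mk_mul, ← QuotientGroup.mk_pow, QuotientGroup.eq_one_iff, hmem] at h3
  exact h3

/-- A 2-group acting on a four-group: squares act trivially. -/
theorem sq_mem {V N : Subgroup K} [Finite N] (hV : Nat.card V = 4)
    (hN : N ≤ normalizer (V : Set K)) (h2 : IsPGroup 2 N) {t : K} (ht : t ∈ N) :
    ∀ v ∈ V, t ^ 2 * v * (t ^ 2)⁻¹ = v := by
  have h1 := ZN.Plane.relIndex_le_two hV hN h2
  have h3 : (⟨t, ht⟩ : N) ^ 2 ∈ (centralizer (V : Set K)).subgroupOf N := by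
    rcases h1 with h1 | h1
    · have h4 : (centralizer (V : Set K)).subgroupOf N = ⊤ := index_eq_one.1 h1
      rw [h4]; exact mem_top _
    · exact sq_mem_of_index_two h1 _
  exact mem_centralizer_iff'.1 (mem_subgroupOf.1 h3)

/-- The fixed element of an element acting with order `2`. -/
theorem exists_fixed {V : Subgroup K} (hsq : ∀ v ∈ V, v ^ 2 = 1)
    (hcomm : ∀ v ∈ V, ∀ w ∈ V, v * w = w * v) {t : K}
    (ht : t ∈ normalizer (V : Set K)) (hne : ∃ v ∈ V, t * v * t⁻¹ ≠ v)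
    (ht2 : ∀ v ∈ V, t ^ 2 * v * (t ^ 2)⁻¹ = v) : ∃ v ∈ V, v ≠ 1 ∧ t * v * t⁻¹ = v := by
  obtain ⟨w, hw, htw⟩ := hne
  have htwV : t * w * t⁻¹ ∈ V := (mem_normalizer_iff.1 ht w).1 hw
  have hww : w * w = 1 := by rw [← pow_two]; exact hsq w hw
  refine ⟨w * (t * w * t⁻¹), V.mul_mem hw htwV, fun h => htw ?_, ?_⟩
  · calc t * w * t⁻¹ = w * (w * (t * w * t⁻¹)) := by rw [← mul_assoc, hww, one_mul]
      _ = w := by rw [h, mul_one]
  · calc t * (w * (t * w * t⁻¹)) * t⁻¹ = (t * w * t⁻¹) * (t ^ 2 * w * (t ^ 2)⁻¹) := by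
          rw [pow_two, mul_inv_rev]; group
      _ = (t * w * t⁻¹) * w := by rw [ht2 w hw]
      _ = w * (t * w * t⁻¹) := hcomm _ htwV _ hw

/-- Two elements acting nontrivially with a common fixed element `≠ 1` act in the same way. -/
theorem act_eq {V : Subgroup K} (hV : Nat.card V = 4) (hsq : ∀ v ∈ V, v ^ 2 = 1) {s t v : K}
    (hs : s ∈ normalizer (V : Set K)) (ht : t ∈ normalizer (V : Set K))
    (hsne : ∃ v ∈ V, s * v * s⁻¹ ≠ v) (htne : ∃ v ∈ V, t * v * t⁻¹ ≠ v)
    (hv : v ∈ V) (hv1 : v ≠ 1) (hsv : s * v * s⁻¹ = v) (htv : t * v * t⁻¹ = v) :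
    ∀ w ∈ V, s * w * s⁻¹ = t * w * t⁻¹ := by
  have key : ∀ r : K, r ∈ normalizer (V : Set K) → (∃ v ∈ V, r * v * r⁻¹ ≠ v) →
      r * v * r⁻¹ = v → ∀ w ∈ V, w ≠ 1 → w ≠ v → r * w * r⁻¹ = v * w := by
    intro r hr hrne hrv w hw hw1 hwv
    have hrw : r * w * r⁻¹ ∈ V := (mem_normalizer_iff.1 hr w).1 hw
    have hne : r * w * r⁻¹ ≠ w := by
      intro h
      exact hwv (fixed_unique hV hsq hrne hw hv hw1 hv1 h hrv)
    rcases mem_cases hV hsq hv hw hv1 hw1 (Ne.symm hwv) _ hrw with h | h | h | h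
    · exfalso
      apply hw1
      calc w = r⁻¹ * (r * w * r⁻¹) * r := by group
        _ = 1 := by rw [h]; group
    · exfalso
      apply hwv
      have h5 : r * w * r⁻¹ = r * v * r⁻¹ := h.trans hrv.symm
      simpa using h5
    · exact absurd h hne
    · exact h
  intro w hw
  by_cases hw1 : w = 1
  · rw [hw1]; group
  by_cases hwv : w = v
  · rw [hwv, hsv, htv]
  · rw [key s hs hsne hsv w hw hw1 hwv, key t ht htne htv w hw hw1 hwv]

/-- Elements `t`, `x` acting with order `2` and `3` on the four-group `V` generate a group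
inducing all the automorphisms of `V`. -/
theorem exists_mul {V N : Subgroup K} (hV : Nat.card V = 4) (hN : N ≤ normalizer (V : Set K))
    {t x : K} (ht : t ∈ N) (hx : x ∈ N) (htne : ∃ v ∈ V, t * v * t⁻¹ ≠ v)
    (ht2 : ∀ v ∈ V, t ^ 2 * v * (t ^ 2)⁻¹ = v) (hxne : ∃ v ∈ V, x * v * x⁻¹ ≠ v)
    (hx3 : ∀ v ∈ V, x ^ 3 * v * (x ^ 3)⁻¹ = v) {g : K} (hg : g ∈ N) :
    ∃ u ∈ closure ({t, x} : Set K), ∀ v ∈ V, u * v * u⁻¹ = g * v * g⁻¹ := by
  -- the centralizer inside `N`
  obtain ⟨C, hCdef⟩ : ∃ C : Subgroup N, C = (centralizer (V : Set K)).subgroupOf N := ⟨_, rfl⟩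
  have hmem : ∀ n : N, n ∈ C ↔ ∀ v ∈ V, (n : K) * v * (n : K)⁻¹ = v := fun n => by
    rw [hCdef, mem_subgroupOf, mem_centralizer_iff']
  have hCn : C.Normal := hCdef ▸ normal_centralizer_subgroupOf hN
  have hidx : C.index ∣ 6 := by
    rw [hCdef]
    exact ZN.Plane.relIndex_dvd_six hV hN
  obtain ⟨U, hUdef⟩ : ∃ U : Subgroup N,
      U = (closure ({t, x} : Set K)).subgroupOf N ⊔ C := ⟨_, rfl⟩
  have htU : (⟨t, ht⟩ : N) ∈ U :=
    hUdef ▸ mem_sup_left (mem_subgroupOf.2 (subset_closure (by simp)))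
  have hxU : (⟨x, hx⟩ : N) ∈ U :=
    hUdef ▸ mem_sup_left (mem_subgroupOf.2 (subset_closure (by simp)))
  have h2d : 2 ∣ C.relIndex U := by
    refine dvd_relIndex Nat.prime_two htU ?_ ?_
    · rw [hmem]
      push Not
      exact htne
    · rw [hmem]
      exact ht2
  have h3d : 3 ∣ C.relIndex U := by
    refine dvd_relIndex Nat.prime_three hxU ?_ ?_
    · rw [hmem]
      push Not
      exact hxne
    · rw [hmem]
      exact hx3
  have h6d : 6 ∣ C.relIndex U := (Nat.Coprime.mul_dvd_of_dvd_of_dvd (by norm_num) h2d h3d)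
  have hmul : C.relIndex U * U.index = C.index := relIndex_mul_index (hUdef ▸ le_sup_right)
  have hU1 : U.index = 1 := by
    obtain ⟨a, ha⟩ := h6d
    obtain ⟨b, hb⟩ := hidx
    rw [ha] at hmul
    rw [← hmul] at hb
    have : 6 * (a * U.index * b) = 6 * 1 := by
      calc 6 * (a * U.index * b) = 6 * a * U.index * b := by ring
        _ = 6 := hb.symm
    have h7 := Nat.eq_of_mul_eq_mul_left (by norm_num) this
    have h8 : a * U.index = 1 := Nat.eq_one_of_mul_eq_one_right h7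
    exact Nat.eq_one_of_mul_eq_one_left h8
  have hUtop : U = ⊤ := index_eq_one.1 hU1
  have hgU : (⟨g, hg⟩ : N) ∈ (closure ({t, x} : Set K)).subgroupOf N ⊔ C :=
    hUdef ▸ hUtop.symm ▸ mem_top _
  obtain ⟨u, hu, c, hc, huc⟩ := mem_sup_of_normal_right.1 hgU
  refine ⟨u, mem_subgroupOf.1 hu, fun v hv => ?_⟩
  have hc' := (hmem c).1 hc v hv
  have hg' : g = (u : K) * c := (congrArg Subtype.val huc).symm
  rw [hg']
  calc (u : K) * v * (u : K)⁻¹ = (u : K) * ((c : K) * v * (c : K)⁻¹) * (u : K)⁻¹ := by rw [hc']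
    _ = (u : K) * c * v * ((u : K) * c)⁻¹ := by group

end Cfsg.Agent.MinSimple.PlaneAct
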