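import Mathlib
import Cfsg.Agent.MinSimple.Dihedral
import Cfsg.Agent.MinSimple.PlaneAct
import Cfsg.Agent.Lib.Cores
import Cfsg.Agent.S0044

/-!
# Case (d) of (E1), step (4)
-/

set_option autoImplicit false

namespace Cfsg.Agent.MinSimple.CaseD4

open Subgroup

variable {M : Type*} [CommGroup M]

/-- `m ↦ m * σ m` -/
def del (σ : MulAut M) : M →* M where
  toFun m := m * σ m
  map_one' := by simp
  map_mul' a b := by rw [map_mul]; exact mul_mul_mul_comm a b (σ a) (σ b)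

theorem del_apply (σ : MulAut M) (m : M) : del σ m = m * σ m := rfl

section Sq

variable (sq : ∀ m : M, m * m = 1)

include sq

theorem inv_eq (m : M) : m⁻¹ = m := inv_eq_of_mul_eq_one_left (sq m)

theorem mul_eq_one {a b : M} : a * b = 1 ↔ a = b := by
  constructor
  · intro h
    have := eq_inv_of_mul_eq_one_left h
    rwa [inv_eq sq] at this
  · rintro rfl; exact sq a

theorem mul_cancel' (a b : M) : a * (a * b) = b := by
  rw [← mul_assoc, sq, one_mul]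

theorem swap {a b c d : M} (h : a * b = c * d) : a * c = b * d := by
  calc a * c = (a * b) * (c * b) := by
        rw [mul_mul_mul_comm, sq, mul_one]
    _ = (c * d) * (c * b) := by rw [h]
    _ = b * d := by rw [mul_mul_mul_comm, sq, one_mul, mul_comm]

theorem del_eq_one {σ : MulAut M} {m : M} : del σ m = 1 ↔ σ m = m := by
  rw [del_apply, mul_eq_one sq]
  exact eq_comm

end Sq

theorem apply_inv_apply (y : MulAut M) (m : M) : y (y⁻¹ m) = m := by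
  rw [← MulAut.mul_apply, mul_inv_cancel]; rfl

theorem inv_apply_apply (y : MulAut M) (m : M) : y⁻¹ (y m) = m := by
  rw [← MulAut.mul_apply, inv_mul_cancel]; rfl

/-- a criterion for index two -/
theorem card_two [Finite M] (sq : ∀ m : M, m * m = 1) {X Y : Subgroup M} (hXY : X ≤ Y) {a : M}
    (ha : a ∈ Y) (haX : a ∉ X) (hall : ∀ y ∈ Y, y ∈ X ∨ a * y ∈ X) :
    Nat.card Y = 2 * Nat.card X := by
  let f : Bool × X → Y := fun p =>
    bif p.1 then ⟨a * p.2, mul_mem ha (hXY p.2.2)⟩ else ⟨p.2, hXY p.2.2⟩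
  have hf : Function.Bijective f := by
    constructor
    · rintro ⟨i, x, hx⟩ ⟨j, x', hx'⟩ he
      cases i <;> cases j
      · have h1 : x = x' := congrArg Subtype.val he
        subst h1; rfl
      · have h1 : x = a * x' := congrArg Subtype.val he
        exfalso
        apply haX
        have h2 : a = x * x'⁻¹ := by rw [h1]; group
        rw [h2]; exact mul_mem hx (inv_mem hx')
      · have h1 : a * x = x' := congrArg Subtype.val he
        exfalso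
        apply haX
        have h2 : a = x' * x⁻¹ := by rw [← h1]; group
        rw [h2]; exact mul_mem hx' (inv_mem hx)
      · have h1 : a * x = a * x' := congrArg Subtype.val he
        have h2 := mul_left_cancel h1
        subst h2; rfl
    · rintro ⟨y, hy⟩
      rcases hall y hy with h | h
      · exact ⟨(false, ⟨y, h⟩), rfl⟩
      · refine ⟨(true, ⟨a * y, h⟩), ?_⟩
        apply Subtype.ext
        exact mul_cancel' sq a y
  rw [← Nat.card_congr (Equiv.ofBijective f hf), Nat.card_prod]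
  simp

theorem fix_of_sq {y : MulAut M} (hy : Odd (orderOf y)) {m : M} (h : y (y m) = m) : y m = m := by
  obtain ⟨k, hk⟩ := hy
  have h1 : ∀ k : ℕ, ((y ^ 2) ^ k) m = m := by
    intro k
    induction k with
    | zero => simp
    | succ k ih => rw [pow_succ, MulAut.mul_apply, pow_two, MulAut.mul_apply, h]; exact ih
  have h2 : (y ^ (2 * k + 1)) m = m := by rw [← hk, pow_orderOf_eq_one]; rfl
  rw [pow_succ', MulAut.mul_apply, pow_mul, h1] at h2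
  exact h2

/-- `[M, y] ∩ C_M(y) = 1` -/
theorem range_inf_fix (sq : ∀ m : M, m * m = 1) {y : MulAut M} (hy : Odd (orderOf y)) {w : M}
    (hw : w ∈ (del y).range) (h : y w = w) : w = 1 := by
  obtain ⟨m, rfl⟩ := hw
  have h1 : del y (del y m) = 1 := (del_eq_one sq).2 h
  have h2 : y (y m) = m := by
    have h3 : m * y (y m) = 1 := by
      rw [← h1, del_apply, del_apply, map_mul]
      calc m * y (y m) = m * (y m * y m) * y (y m) := by rw [sq, mul_one]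
        _ = _ := by simp only [mul_assoc]
    exact ((mul_eq_one sq).1 h3).symm
  exact (del_eq_one sq).2 (fix_of_sq hy h2)

/-- `M = [M, y] C_M(y)` -/
theorem exists_decomp [Finite M] (sq : ∀ m : M, m * m = 1) {y : MulAut M}
    (hy : Odd (orderOf y)) (m : M) : ∃ w ∈ (del y).range, ∃ c, y c = c ∧ m = w * c := by
  let f : (del y).range × (del y).ker → M := fun p => (p.1 : M) * p.2
  have hf : Function.Injective f := by
    rintro ⟨⟨w, hw⟩, ⟨c, hc⟩⟩ ⟨⟨w', hw'⟩, ⟨c', hc'⟩⟩ h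
    have h1 : w * c = w' * c' := h
    have h2 : w * w' = c * c' := swap sq h1
    have h3 : w * w' = 1 := by
      refine range_inf_fix sq hy (mul_mem hw hw') ?_
      rw [h2, map_mul, (del_eq_one sq).1 (MonoidHom.mem_ker.1 hc),
        (del_eq_one sq).1 (MonoidHom.mem_ker.1 hc')]
    have h4 := (mul_eq_one sq).1 h3
    have h5 := (mul_eq_one sq).1 (h2 ▸ h3)
    subst h4; subst h5; rfl
  have hcard : Nat.card M ≤ Nat.card ((del y).range × (del y).ker) := by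
    rw [Nat.card_prod, ← Subgroup.index_ker, mul_comm, Subgroup.card_mul_index]
  obtain ⟨⟨w, c⟩, hm⟩ := (hf.bijective_of_nat_card_le hcard).surjective m
  exact ⟨w, w.2, c, (del_eq_one sq).1 (MonoidHom.mem_ker.1 c.2), hm.symm⟩

/-- the fixed points of `σ` in `X` -/
def fx (X : Subgroup M) (σ : MulAut M) : Subgroup M where
  carrier := {x | x ∈ X ∧ σ x = x}
  one_mem' := ⟨one_mem _, map_one σ⟩
  mul_mem' := by
    rintro a b ⟨ha, ha'⟩ ⟨hb, hb'⟩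
    exact ⟨mul_mem ha hb, by rw [map_mul, ha', hb']⟩
  inv_mem' := by
    rintro a ⟨ha, ha'⟩
    exact ⟨inv_mem ha, by rw [map_inv, ha']⟩

theorem mem_fx {X : Subgroup M} {σ : MulAut M} {x : M} : x ∈ fx X σ ↔ x ∈ X ∧ σ x = x := Iff.rfl

/-- `b` inverts the fixed-point-freely acting `y`: `|X| = |C_X(b)|²` and `C_X(b) = [X, b]`. -/
theorem card_eq_sq [Finite M] (sq : ∀ m : M, m * m = 1) {X : Subgroup M} {b y : MulAut M}
    (hbX : ∀ x ∈ X, b x ∈ X) (hyX : ∀ x ∈ X, y x ∈ X) (hb : b * b = 1) (hby : b * y * b⁻¹ = y⁻¹)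
    (hf : ∀ x ∈ X, y (y x) = x → x = 1) :
    Nat.card X = Nat.card (fx X b) ^ 2 ∧ ∀ w ∈ fx X b, ∃ x ∈ X, x * b x = w := by
  have hbb : ∀ m, b (b m) = m := fun m => by rw [← MulAut.mul_apply, hb]; rfl
  have hyinv : ∀ m, b (y m) = y⁻¹ (b m) := fun m => by
    have h1 : b * y = y⁻¹ * b := by rw [← hby]; group
    rw [← MulAut.mul_apply, h1, MulAut.mul_apply]
  have hyX' : ∀ x ∈ X, y⁻¹ x ∈ X := by
    intro x hx
    have h1 : X.map y.toMonoidHom = X := by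
      refine eq_of_le_of_card_ge ?_ (card_map_of_injective y.injective).ge
      rintro _ ⟨x, hx, rfl⟩
      exact hyX x hx
    have h2 : x ∈ X.map y.toMonoidHom := by rw [h1]; exact hx
    obtain ⟨x', hx', rfl⟩ := h2
    change y⁻¹ (y x') ∈ X
    rw [← MulAut.mul_apply, inv_mul_cancel]
    exact hx'
  -- `δ : X → C_X(b)`
  let δ : X →* fx X b :=
    { toFun := fun x => ⟨x * b x, mul_mem x.2 (hbX x x.2), by
        rw [map_mul, hbb, mul_comm]⟩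
      map_one' := by ext; simp
      map_mul' := fun x x' => by
        ext
        change (x : M) * x' * b (x * x') = (x : M) * b x * (x' * b x')
        rw [map_mul]
        exact mul_mul_mul_comm _ _ _ _ }
  have hδ : ∀ x : X, ((δ x : fx X b) : M) = x * b x := fun x => rfl
  have hker : Nat.card δ.ker = Nat.card (fx X b) := by
    refine Nat.card_congr ⟨fun x => ⟨x.1.1, x.1.2, ?_⟩, fun x => ⟨⟨x.1, x.2.1⟩, ?_⟩, ?_, ?_⟩
    · have h1 := congrArg Subtype.val (MonoidHom.mem_ker.1 x.2)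
      exact (del_eq_one sq).1 h1
    · apply MonoidHom.mem_ker.2
      apply Subtype.ext
      exact (del_eq_one sq).2 x.2.2
    · intro x; rfl
    · intro x; rfl
  have h1 : Nat.card X = Nat.card (fx X b) * Nat.card δ.range := by
    rw [← hker, ← Subgroup.index_ker, Subgroup.card_mul_index]
  have h2 : Nat.card δ.range ≤ Nat.card (fx X b) :=
    Nat.card_le_card_of_injective _ Subtype.val_injective
  -- `C_X(b) × C_X(b) → X` is injective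
  let f : fx X b × fx X b → X := fun p => ⟨p.1 * y p.2, mul_mem p.1.2.1 (hyX _ p.2.2.1)⟩
  have hfi : Function.Injective f := by
    rintro ⟨⟨u, hu, hu'⟩, ⟨v, hv, hv'⟩⟩ ⟨⟨s, hs, hs'⟩, ⟨t, ht, ht'⟩⟩ h
    have h1 : u * y v = s * y t := congrArg Subtype.val h
    have h2 : u * s = y (v * t) := by
      rw [map_mul]
      exact swap sq h1
    have h3 : b (u * s) = u * s := by rw [map_mul, hu', hs']
    have h4 : b (v * t) = v * t := by rw [map_mul, hv', ht']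
    have h5 : y (y (v * t)) = v * t := by
      have h6 : y⁻¹ (v * t) = y (v * t) := by
        rw [← h4, ← hyinv, ← h2, h3, h2]
        rw [h4]
      rw [← h6, ← MulAut.mul_apply, mul_inv_cancel]; rfl
    have h6 : v * t = 1 := hf _ (mul_mem hv ht) h5
    have h7 : u * s = 1 := by rw [h2, h6, map_one]
    have h8 := (mul_eq_one sq).1 h6
    have h9 := (mul_eq_one sq).1 h7
    subst h8; subst h9; rfl
  have h3 : Nat.card (fx X b) * Nat.card (fx X b) ≤ Nat.card X := by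
    rw [← Nat.card_prod]
    exact Nat.card_le_card_of_injective f hfi
  have hpos : 0 < Nat.card (fx X b) := Nat.card_pos
  have h4 : Nat.card δ.range = Nat.card (fx X b) := by
    apply le_antisymm h2
    rw [h1] at h3
    exact Nat.le_of_mul_le_mul_left h3 hpos
  refine ⟨by rw [h1, h4, pow_two], ?_⟩
  intro w hw
  have h5 : δ.range = ⊤ := Subgroup.eq_top_of_card_eq _ h4
  have h6 : (⟨w, hw⟩ : fx X b) ∈ δ.range := by rw [h5]; exact mem_top _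
  obtain ⟨x, hx⟩ := h6
  exact ⟨x, x.2, congrArg Subtype.val hx⟩

/-- The action of `A = B̄` on `M = V`. -/
structure Data (A : Subgroup (MulAut M)) (M₀ Z : Subgroup M) : Prop where
  sq : ∀ m : M, m * m = 1
  Asq : ∀ σ ∈ A, σ * σ = 1
  idx : M₀.index = 2
  Zle : Z ≤ M₀
  Zfix : ∀ σ ∈ A, ∀ z ∈ Z, σ z = z
  M₀Z : ∀ σ ∈ A, ∀ m ∈ M₀, m * σ m ∈ Z
  MM₀ : ∀ σ ∈ A, ∀ m, m * σ m ∈ M₀
  inj : ∀ σ ∈ A, ∀ m, m ∉ M₀ → m * σ m ∈ Z → σ = 1
  card : Nat.card M₀ = Nat.card Z * Nat.card A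

namespace Data

variable {A : Subgroup (MulAut M)} {M₀ Z : Subgroup M}

theorem Ainv (h : Data A M₀ Z) {σ : MulAut M} (hσ : σ ∈ A) (m : M) : σ (σ m) = m := by
  rw [← MulAut.mul_apply, h.Asq σ hσ]; rfl

/-- injectivity of `(σ, z) ↦ [a, σ] z` -/
theorem inj2 (h : Data A M₀ Z) {a : M} (ha : a ∉ M₀) {σ τ : MulAut M} (hσ : σ ∈ A) (hτ : τ ∈ A)
    {z z' : M} (hz : z ∈ Z) (hz' : z' ∈ Z) (he : a * σ a * z = a * τ a * z') :
    σ = τ ∧ z = z' := by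
  have h1 : σ a * z = τ a * z' := by
    rw [mul_assoc, mul_assoc] at he
    exact mul_left_cancel he
  have h2 : σ a * τ a = z * z' := swap h.sq h1
  have h3 : a * (τ * σ) a = z * z' := by
    have h4 : τ (σ a * τ a) = z * z' := by
      rw [h2, map_mul, h.Zfix τ hτ z hz, h.Zfix τ hτ z' hz']
    rw [map_mul, h.Ainv hτ] at h4
    rw [MulAut.mul_apply, ← h4, mul_comm]
  have h4 : τ * σ = 1 := h.inj _ (mul_mem hτ hσ) a ha (by rw [h3]; exact mul_mem hz hz')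
  have h5 : σ = τ := by
    calc σ = τ * τ * σ := by rw [h.Asq τ hτ, one_mul]
      _ = τ * (τ * σ) := by group
      _ = τ := by rw [h4, mul_one]
  subst h5
  exact ⟨rfl, mul_left_cancel h1⟩

/-- `V = X Z` for every `A`-invariant `X ≰ M₀`; more precisely: -/
theorem cover₀ [Finite M] (h : Data A M₀ Z) {a : M} (ha : a ∉ M₀) {m : M} (hm : m ∈ M₀) :
    ∃ σ ∈ A, ∃ z ∈ Z, m = a * σ a * z := by
  have hfin : Finite (MulAut M) := Finite.of_injective (fun σ : MulAut M => (σ : M → M))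
    DFunLike.coe_injective
  let f : A × Z → M₀ := fun p =>
    ⟨a * (p.1 : MulAut M) a * p.2, mul_mem (h.MM₀ _ p.1.2 a) (h.Zle p.2.2)⟩
  have hf : Function.Injective f := by
    rintro ⟨⟨σ, hσ⟩, ⟨z, hz⟩⟩ ⟨⟨τ, hτ⟩, ⟨z', hz'⟩⟩ he
    obtain ⟨h1, h2⟩ := h.inj2 ha hσ hτ hz hz' (congrArg Subtype.val he)
    subst h1; subst h2; rfl
  have hcard : Nat.card M₀ ≤ Nat.card (A × Z) := by
    rw [h.card, Nat.card_prod, mul_comm]
  obtain ⟨⟨σ, z⟩, hs⟩ := (hf.bijective_of_nat_card_le hcard).surjective ⟨m, hm⟩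
  exact ⟨σ, σ.2, z, z.2, (congrArg Subtype.val hs).symm⟩

theorem mem_or (h : Data A M₀ Z) {a : M} (ha : a ∉ M₀) (m : M) : m ∈ M₀ ∨ a * m ∈ M₀ := by
  by_cases hm : m ∈ M₀
  · exact Or.inl hm
  · exact Or.inr ((mul_mem_iff_of_index_two h.idx).2 (by simp [ha, hm]))

theorem cover [Finite M] (h : Data A M₀ Z) {X : Subgroup M} (hX : ∀ σ ∈ A, ∀ x ∈ X, σ x ∈ X)
    {a : M} (haX : a ∈ X) (ha : a ∉ M₀) (m : M) : ∃ x ∈ X, ∃ z ∈ Z, m = x * z := by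
  rcases h.mem_or ha m with hm | hm
  · obtain ⟨σ, hσ, z, hz, e⟩ := h.cover₀ ha hm
    exact ⟨_, mul_mem haX (hX σ hσ a haX), z, hz, e⟩
  · obtain ⟨σ, hσ, z, hz, e⟩ := h.cover₀ ha hm
    refine ⟨_, mul_mem haX (mul_mem haX (hX σ hσ a haX)), z, hz, ?_⟩
    rw [mul_assoc a, ← e, mul_cancel' h.sq]

theorem triv [Finite M] (h : Data A M₀ Z) {X Y : Subgroup M} (hX : ∀ σ ∈ A, ∀ x ∈ X, σ x ∈ X)
    (hY : ∀ σ ∈ A, ∀ x ∈ Y, σ x ∈ Y) (hXY : ∀ x ∈ X, x ∈ Y → x = 1) {a : M} (haX : a ∈ X)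
    (ha : a ∉ M₀) : ∀ σ ∈ A, ∀ y ∈ Y, σ y = y := by
  intro σ hσ y hy
  obtain ⟨x, hx, z, hz, e⟩ := h.cover hX haX ha y
  have h1 : y * σ y = x * σ x := by
    rw [e, map_mul, h.Zfix σ hσ z hz, mul_mul_mul_comm, h.sq z, mul_one]
  have h2 : x * σ x = 1 := hXY _ (mul_mem hx (hX σ hσ x hx)) (h1 ▸ mul_mem hy (hY σ hσ y hy))
  rw [h2] at h1
  exact ((mul_eq_one h.sq).1 h1).symm

end Data

/-- `b ∈ A` inverts `y ≠ 1`, and `A` normalises `⟨y⟩`. -/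
structure Pr (A : Subgroup (MulAut M)) (b y : MulAut M) : Prop where
  bA : b ∈ A
  odd : Odd (orderOf y)
  ne : y ≠ 1
  inv : b * y * b⁻¹ = y⁻¹
  eig : ∀ σ ∈ A, σ * y = y * σ ∨ σ * y * σ⁻¹ = y⁻¹

/-- `C_M(y)` -/
def cc (y : MulAut M) : Subgroup M := fx ⊤ y

theorem mem_cc {y : MulAut M} {m : M} : m ∈ cc y ↔ y m = m := by
  rw [cc, mem_fx]; exact ⟨fun h => h.2, fun h => ⟨mem_top _, h⟩⟩

/-- `[M, y]` -/
def ww (y : MulAut M) : Subgroup M := (del y).range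

theorem mem_ww {y : MulAut M} {m : M} : m ∈ ww y ↔ ∃ x, x * y x = m := Iff.rfl

namespace Pr

variable {A : Subgroup (MulAut M)} {b y : MulAut M}

theorem invy (hp : Pr A b y) (m : M) : b (y m) = y⁻¹ (b m) := by
  have h1 : b * y = y⁻¹ * b := by rw [← hp.inv]; group
  rw [← MulAut.mul_apply, h1, MulAut.mul_apply]

theorem conj_or (hp : Pr A b y) {σ : MulAut M} (hσ : σ ∈ A) :
    (∀ m, σ (y m) = y (σ m)) ∨ ∀ m, σ (y m) = y⁻¹ (σ m) := by
  rcases hp.eig σ hσ with h | h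
  · left; intro m
    rw [← MulAut.mul_apply, h, MulAut.mul_apply]
  · right; intro m
    have h1 : σ * y = y⁻¹ * σ := by rw [← h]; group
    rw [← MulAut.mul_apply, h1, MulAut.mul_apply]

theorem cc_inv (hp : Pr A b y) : ∀ σ ∈ A, ∀ x ∈ cc y, σ x ∈ cc y := by
  intro σ hσ x hx
  rw [mem_cc] at hx ⊢
  rcases hp.conj_or hσ with h | h
  · rw [← h, hx]
  · have h1 := h x
    rw [hx] at h1
    nth_rewrite 1 [h1]
    rw [← MulAut.mul_apply, mul_inv_cancel]; rfl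

theorem ww_inv (hp : Pr A b y) : ∀ σ ∈ A, ∀ x ∈ ww y, σ x ∈ ww y := by
  rintro σ hσ _ ⟨x, rfl⟩
  rw [del_apply, map_mul]
  rcases hp.conj_or hσ with h | h
  · rw [h]; exact ⟨σ x, rfl⟩
  · rw [h]
    refine ⟨y⁻¹ (σ x), ?_⟩
    rw [del_apply, apply_inv_apply, mul_comm]

theorem y_ww (_hp : Pr A b y) : ∀ x ∈ ww y, y x ∈ ww y := by
  rintro _ ⟨x, rfl⟩
  exact ⟨y x, by rw [del_apply, del_apply, map_mul]⟩

theorem ww_fpf (hp : Pr A b y) (sq : ∀ m : M, m * m = 1) {x : M} (hx : x ∈ ww y)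
    (h : y (y x) = x) : x = 1 := range_inf_fix sq hp.odd hx (fix_of_sq hp.odd h)

/-- `[M, y] ≰ M₀` -/
theorem exists_not_mem [Finite M] {M₀ Z : Subgroup M} (h : Data A M₀ Z) (hp : Pr A b y) :
    ∃ a ∈ ww y, a ∉ M₀ := by
  by_contra hcon
  push Not at hcon
  -- some `a ∈ C_M(y)` is not in `M₀`
  obtain ⟨m, hm⟩ : ∃ m, m ∉ M₀ := by
    by_contra h2
    push Not at h2
    have h3 : M₀ = ⊤ := eq_top_iff.2 fun m _ => h2 m
    have h4 := h.idx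
    rw [h3, index_top] at h4
    omega
  obtain ⟨w, hw, c, hc, e⟩ := exists_decomp h.sq hp.odd m
  have hcM : c ∉ M₀ := fun h2 => hm (e ▸ mul_mem (hcon w hw) h2)
  have h1 := h.triv (X := cc y) (Y := ww y) hp.cc_inv hp.ww_inv
    (fun x hx hx' => range_inf_fix h.sq hp.odd hx' (mem_cc.1 hx)) (mem_cc.2 hc) hcM b hp.bA
  apply hp.ne
  ext m
  have h2 : m * y m ∈ ww y := ⟨m, rfl⟩
  have h3 : m * y m = 1 := by
    refine hp.ww_fpf h.sq h2 ?_
    have h4 := hp.invy (m * y m)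
    rw [h1 _ h2, h1 _ (hp.y_ww _ h2)] at h4
    rw [h4, ← MulAut.mul_apply, mul_inv_cancel]; rfl
  exact ((mul_eq_one h.sq).1 h3).symm

/-- `A` centralises `C_M(y)`. -/
theorem cc_triv [Finite M] {M₀ Z : Subgroup M} (h : Data A M₀ Z) (hp : Pr A b y) :
    ∀ σ ∈ A, ∀ c ∈ cc y, σ c = c := by
  obtain ⟨a, ha, haM⟩ := hp.exists_not_mem h
  exact h.triv hp.ww_inv hp.cc_inv
    (fun x hx hx' => range_inf_fix h.sq hp.odd hx (mem_cc.1 hx')) ha haM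

theorem card_ww [Finite M] {M₀ Z : Subgroup M} (h : Data A M₀ Z) (hp : Pr A b y) :
    Nat.card (ww y) = Nat.card (fx (ww y) b) ^ 2 ∧ ∀ w ∈ fx (ww y) b, ∃ x ∈ ww y, x * b x = w :=
  card_eq_sq h.sq (hp.ww_inv b hp.bA) hp.y_ww (h.Asq b hp.bA) hp.inv
    (fun _ hx hx' => hp.ww_fpf h.sq hx hx')

theorem b_ne (hp : Pr A b y) : b ≠ 1 := by
  intro hb
  have h1 := hp.inv
  rw [hb, one_mul, inv_one, mul_one] at h1
  apply hp.ne
  have h2 : y ^ 2 = 1 := by rw [pow_two]; nth_rewrite 1 [h1]; exact inv_mul_cancel y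
  have h3 := orderOf_dvd_of_pow_eq_one h2
  have h4 : (orderOf y).Coprime 2 := Nat.Coprime.symm (Nat.coprime_two_left.mpr hp.odd)
  exact orderOf_eq_one_iff.1 (Nat.eq_one_of_dvd_coprimes h4 dvd_rfl h3)

/-- `C_W(b) = (Z ∩ W) ∪ [a, b] (Z ∩ W)` -/
theorem mem_fx_ww_iff [Finite M] {M₀ Z : Subgroup M} (h : Data A M₀ Z) (hp : Pr A b y)
    {a : M} (ha : a ∈ ww y) (haM : a ∉ M₀) {w : M} :
    w ∈ fx (ww y) b ↔ ∃ z ∈ Z, z ∈ ww y ∧ (w = z ∨ w = a * b a * z) := by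
  have haw : a * b a ∈ ww y := mul_mem ha (hp.ww_inv b hp.bA a ha)
  constructor
  · intro hw
    obtain ⟨x, hx, e⟩ := (hp.card_ww h).2 w hw
    rcases h.mem_or haM x with hx0 | hx0
    · exact ⟨w, e ▸ h.M₀Z b hp.bA x hx0, hw.1, Or.inl rfl⟩
    · have h1 := h.M₀Z b hp.bA _ hx0
      have h2 : w = a * b a * (a * x * b (a * x)) := by
        rw [← e, map_mul, mul_mul_mul_comm a x, ← mul_assoc, h.sq, one_mul]
      refine ⟨_, h1, ?_, Or.inr h2⟩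
      have h3 := mul_mem ha hx
      exact mul_mem h3 (hp.ww_inv b hp.bA _ h3)
  · rintro ⟨z, hz, hzw, rfl | rfl⟩
    · exact ⟨hzw, h.Zfix b hp.bA w hz⟩
    · refine ⟨mul_mem haw hzw, ?_⟩
      rw [map_mul, map_mul, h.Ainv hp.bA, h.Zfix b hp.bA z hz, mul_comm (b a)]

theorem card_fx [Finite M] {M₀ Z : Subgroup M} (h : Data A M₀ Z) (hp : Pr A b y) :
    Nat.card (fx (ww y) b) = 2 * Nat.card (Z ⊓ ww y : Subgroup M) := by
  obtain ⟨a, ha, haM⟩ := hp.exists_not_mem h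
  refine card_two h.sq (a := a * b a) ?_ ?_ ?_ ?_
  · intro z hz
    exact ⟨hz.2, h.Zfix b hp.bA z hz.1⟩
  · exact (hp.mem_fx_ww_iff h ha haM).2 ⟨1, one_mem _, one_mem _, Or.inr (mul_one _).symm⟩
  · intro hc
    exact hp.b_ne (h.inj b hp.bA a haM hc.1)
  · intro w hw
    obtain ⟨z, hz, hzw, rfl | rfl⟩ := (hp.mem_fx_ww_iff h ha haM).1 hw
    · exact Or.inl ⟨hz, hzw⟩
    · right
      rw [mul_cancel' h.sq]
      exact ⟨hz, hzw⟩

theorem card_inf [Finite M] {M₀ Z : Subgroup M} (h : Data A M₀ Z) (hp : Pr A b y) :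
    Nat.card (M₀ ⊓ ww y : Subgroup M) = Nat.card A * Nat.card (Z ⊓ ww y : Subgroup M) := by
  obtain ⟨a, ha, haM⟩ := hp.exists_not_mem h
  let f : A × (Z ⊓ ww y : Subgroup M) → (M₀ ⊓ ww y : Subgroup M) := fun p =>
    ⟨a * (p.1 : MulAut M) a * p.2, mul_mem (h.MM₀ _ p.1.2 a) (h.Zle p.2.2.1),
      mul_mem (mul_mem ha (hp.ww_inv _ p.1.2 a ha)) p.2.2.2⟩
  have hf : Function.Bijective f := by
    constructor
    · rintro ⟨⟨σ, hσ⟩, ⟨z, hz⟩⟩ ⟨⟨τ, hτ⟩, ⟨z', hz'⟩⟩ he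
      obtain ⟨h1, h2⟩ := h.inj2 haM hσ hτ hz.1 hz'.1 (congrArg Subtype.val he)
      subst h1; subst h2; rfl
    · rintro ⟨m, hm⟩
      obtain ⟨σ, hσ, z, hz, e⟩ := h.cover₀ haM hm.1
      refine ⟨⟨⟨σ, hσ⟩, ⟨z, hz, ?_⟩⟩, ?_⟩
      · have h1 : z = a * σ a * m := by rw [e, mul_cancel' h.sq]
        rw [h1]
        exact mul_mem (mul_mem ha (hp.ww_inv σ hσ a ha)) hm.2
      · exact Subtype.ext e.symm
  rw [← Nat.card_congr (Equiv.ofBijective f hf), Nat.card_prod]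

/-- `|W| = 4 |Z ∩ W|²` -/
theorem card_W [Finite M] {M₀ Z : Subgroup M} (h : Data A M₀ Z) (hp : Pr A b y) :
    Nat.card (ww y) = 4 * Nat.card (Z ⊓ ww y : Subgroup M) ^ 2 := by
  rw [(hp.card_ww h).1, hp.card_fx h]; ring

/-- `|A| = 2 |Z ∩ W|` -/
theorem card_A [Finite M] {M₀ Z : Subgroup M} (h : Data A M₀ Z) (hp : Pr A b y) :
    Nat.card A = 2 * Nat.card (Z ⊓ ww y : Subgroup M) := by
  obtain ⟨a, ha, haM⟩ := hp.exists_not_mem h
  have h1 : Nat.card (ww y) = 2 * Nat.card (M₀ ⊓ ww y : Subgroup M) := by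
    refine card_two h.sq (a := a) inf_le_right ha (fun hc => haM hc.1) ?_
    intro w hw
    rcases h.mem_or haM w with h1 | h1
    · exact Or.inl ⟨h1, hw⟩
    · exact Or.inr ⟨h1, mul_mem ha hw⟩
  rw [hp.card_W h, hp.card_inf h] at h1
  have hpos : 0 < Nat.card (Z ⊓ ww y : Subgroup M) := Nat.card_pos
  have h2 : (2 * Nat.card (Z ⊓ ww y : Subgroup M)) * Nat.card (Z ⊓ ww y : Subgroup M) =
      Nat.card A * Nat.card (Z ⊓ ww y : Subgroup M) := by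
    have h3 : 2 * ((2 * Nat.card (Z ⊓ ww y : Subgroup M)) * Nat.card (Z ⊓ ww y : Subgroup M)) =
      2 * (Nat.card A * Nat.card (Z ⊓ ww y : Subgroup M)) := by
      rw [← h1]; ring
    exact Nat.eq_of_mul_eq_mul_left (by norm_num) h3
  exact (Nat.eq_of_mul_eq_mul_right hpos h2).symm

end Pr

/-- Two independent pairs. -/
structure Two (A : Subgroup (MulAut M)) (b₁ y₁ b₂ y₂ : MulAut M) : Prop where
  p₁ : Pr A b₁ y₁
  p₂ : Pr A b₂ y₂
  c₁₂ : b₁ * y₂ = y₂ * b₁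
  c₂₁ : b₂ * y₁ = y₁ * b₂
  yy : y₁ * y₂ = y₂ * y₁
  bb : b₁ * b₂ = b₂ * b₁

namespace Two

variable {A : Subgroup (MulAut M)} {M₀ Z : Subgroup M} {b₁ y₁ b₂ y₂ : MulAut M}

theorem symm (t : Two A b₁ y₁ b₂ y₂) : Two A b₂ y₂ b₁ y₁ :=
  ⟨t.p₂, t.p₁, t.c₂₁, t.c₁₂, t.yy.symm, t.bb.symm⟩

theorem yy' (t : Two A b₁ y₁ b₂ y₂) (m : M) : y₁ (y₂ m) = y₂ (y₁ m) := by
  rw [← MulAut.mul_apply, t.yy, MulAut.mul_apply]

theorem bb' (t : Two A b₁ y₁ b₂ y₂) (m : M) : b₁ (b₂ m) = b₂ (b₁ m) := by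
  rw [← MulAut.mul_apply, t.bb, MulAut.mul_apply]

theorem by₁₂ (t : Two A b₁ y₁ b₂ y₂) (m : M) : b₁ (y₂ m) = y₂ (b₁ m) := by
  rw [← MulAut.mul_apply, t.c₁₂, MulAut.mul_apply]

theorem by₂₁ (t : Two A b₁ y₁ b₂ y₂) (m : M) : b₂ (y₁ m) = y₁ (b₂ m) := by
  rw [← MulAut.mul_apply, t.c₂₁, MulAut.mul_apply]

theorem cc_le [Finite M] (h : Data A M₀ Z) (t : Two A b₁ y₁ b₂ y₂) : cc y₁ ≤ cc y₂ := by
  intro c hc
  rw [mem_cc] at hc ⊢
  have h1 : y₂ c ∈ cc y₁ := by rw [mem_cc, t.yy', hc]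
  have h2 := t.p₁.cc_triv h b₂ t.p₂.bA (y₂ c) h1
  have h3 := t.p₁.cc_triv h b₂ t.p₂.bA c (mem_cc.2 hc)
  have h4 := t.p₂.invy c
  rw [h2, h3] at h4
  apply fix_of_sq t.p₂.odd
  rw [h4, apply_inv_apply]

theorem cc_eq [Finite M] (h : Data A M₀ Z) (t : Two A b₁ y₁ b₂ y₂) : cc y₁ = cc y₂ :=
  le_antisymm (t.cc_le h) (t.symm.cc_le h)

theorem ww_le [Finite M] (h : Data A M₀ Z) (t : Two A b₁ y₁ b₂ y₂) : ww y₁ ≤ ww y₂ := by
  -- `del y₂ : W₁ → W₁` is injective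
  have hinv : ∀ w ∈ ww y₁, y₂ w ∈ ww y₁ := by
    rintro _ ⟨x, rfl⟩
    exact ⟨y₂ x, by rw [del_apply, del_apply, map_mul, t.yy']⟩
  let f : ww y₁ → ww y₁ := fun w => ⟨w * y₂ w, mul_mem w.2 (hinv w w.2)⟩
  have hf : Function.Injective f := by
    rintro ⟨w, hw⟩ ⟨w', hw'⟩ he
    have h1 : del y₂ w = del y₂ w' := congrArg Subtype.val he
    have h2 : del y₂ (w * w') = 1 := by rw [map_mul, h1, h.sq]
    have h3 : w * w' ∈ cc y₁ := by
      rw [t.cc_eq h, mem_cc]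
      exact (del_eq_one h.sq).1 h2
    have h4 := range_inf_fix h.sq t.p₁.odd (mul_mem hw hw') (mem_cc.1 h3)
    exact Subtype.ext ((mul_eq_one h.sq).1 h4)
  intro w hw
  obtain ⟨⟨x, hx⟩, he⟩ := (Finite.injective_iff_surjective.1 hf) ⟨w, hw⟩
  exact ⟨x, congrArg Subtype.val he⟩

theorem ww_eq [Finite M] (h : Data A M₀ Z) (t : Two A b₁ y₁ b₂ y₂) : ww y₁ = ww y₂ :=
  le_antisymm (t.ww_le h) (t.symm.ww_le h)

theorem b_ne_b (t : Two A b₁ y₁ b₂ y₂) : b₁ ≠ b₂ := by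
  intro e
  have h1 := t.p₂.inv
  rw [← e, t.c₁₂, mul_inv_cancel_right] at h1
  apply t.p₂.ne
  have h2 : y₂ ^ 2 = 1 := by rw [pow_two]; nth_rewrite 1 [h1]; exact inv_mul_cancel y₂
  have h3 := orderOf_dvd_of_pow_eq_one h2
  have h4 : (orderOf y₂).Coprime 2 := Nat.Coprime.symm (Nat.coprime_two_left.mpr t.p₂.odd)
  exact orderOf_eq_one_iff.1 (Nat.eq_one_of_dvd_coprimes h4 dvd_rfl h3)

/-- `C_W(b₁) ∩ C_W(b₂) = Z ∩ W` -/
theorem mem_Z [Finite M] (h : Data A M₀ Z) (t : Two A b₁ y₁ b₂ y₂) {w : M} (hw : w ∈ ww y₁)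
    (h1 : b₁ w = w) (h2 : b₂ w = w) : w ∈ Z := by
  obtain ⟨a, ha, haM⟩ := t.p₁.exists_not_mem h
  obtain ⟨z, hz, hzw, e⟩ := (t.p₁.mem_fx_ww_iff h ha haM).1 ⟨hw, h1⟩
  obtain ⟨z', hz', hzw', e'⟩ := (t.p₂.mem_fx_ww_iff h (t.ww_eq h ▸ ha) haM).1
    ⟨t.ww_eq h ▸ hw, h2⟩
  rcases e with rfl | e
  · exact hz
  rcases e' with rfl | e'
  · exact hz'
  · exfalso
    exact t.b_ne_b (h.inj2 haM t.p₁.bA t.p₂.bA hz hz' (e.symm.trans e')).1

theorem card_Z [Finite M] (h : Data A M₀ Z) (t : Two A b₁ y₁ b₂ y₂) :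
    Nat.card (Z ⊓ ww y₁ : Subgroup M) = 2 := by
  have hX : fx (fx (ww y₁) b₁) b₂ = Z ⊓ ww y₁ := by
    ext w
    constructor
    · rintro ⟨⟨h1, h2⟩, h3⟩
      exact ⟨t.mem_Z h h1 h2 h3, h1⟩
    · rintro ⟨h1, h2⟩
      exact ⟨⟨h2, h.Zfix b₁ t.p₁.bA w h1⟩, h.Zfix b₂ t.p₂.bA w h1⟩
  have h1 := (card_eq_sq h.sq (X := fx (ww y₁) b₁) (b := b₂) (y := y₂) ?_ ?_ (h.Asq b₂ t.p₂.bA)
    t.p₂.inv ?_).1
  · rw [hX, t.p₁.card_fx h] at h1
    have hpos : 0 < Nat.card (Z ⊓ ww y₁ : Subgroup M) := Nat.card_pos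
    have h2 : Nat.card (Z ⊓ ww y₁ : Subgroup M) * Nat.card (Z ⊓ ww y₁ : Subgroup M) =
      2 * Nat.card (Z ⊓ ww y₁ : Subgroup M) := by rw [h1]; ring
    exact Nat.eq_of_mul_eq_mul_right hpos h2
  · rintro w ⟨hw, hw'⟩
    refine ⟨t.p₁.ww_inv b₂ t.p₂.bA w hw, ?_⟩
    rw [t.bb', hw']
  · rintro w ⟨hw, hw'⟩
    refine ⟨?_, ?_⟩
    · rw [t.ww_eq h] at hw ⊢
      exact t.p₂.y_ww w hw
    · rw [t.by₁₂, hw']
  · rintro w ⟨hw, hw'⟩ he
    rw [t.ww_eq h] at hw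
    exact t.p₂.ww_fpf h.sq hw he

theorem card_A [Finite M] (h : Data A M₀ Z) (t : Two A b₁ y₁ b₂ y₂) : Nat.card A = 4 := by
  rw [t.p₁.card_A h, t.card_Z h]

theorem card_W [Finite M] (h : Data A M₀ Z) (t : Two A b₁ y₁ b₂ y₂) :
    Nat.card (ww y₁) = 16 := by
  rw [t.p₁.card_W h, t.card_Z h]; norm_num

theorem card_fx [Finite M] (h : Data A M₀ Z) (t : Two A b₁ y₁ b₂ y₂) :
    Nat.card (fx (ww y₁) b₁) = 4 := by
  rw [t.p₁.card_fx h, t.card_Z h]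

/-- `C_M(y₁) ≤ Z` -/
theorem cc_le_Z [Finite M] (h : Data A M₀ Z) (t : Two A b₁ y₁ b₂ y₂) : cc y₁ ≤ Z := by
  intro c hc
  obtain ⟨a, ha, haM⟩ := t.p₁.exists_not_mem h
  obtain ⟨w, hw, z, hz, e⟩ := h.cover t.p₁.ww_inv ha haM c
  have h1 : ∀ σ ∈ A, σ w = w := by
    intro σ hσ
    have h2 := t.p₁.cc_triv h σ hσ c hc
    rw [e, map_mul, h.Zfix σ hσ z hz] at h2
    exact mul_right_cancel h2
  rw [e]
  exact mul_mem (t.mem_Z h hw (h1 b₁ t.p₁.bA) (h1 b₂ t.p₂.bA)) hz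

end Two

/-- `y` acting fixed-point-freely on a four-group -/
theorem four {X : Subgroup M} (hX : Nat.card X = 4) (sq : ∀ m : M, m * m = 1) {y : MulAut M}
    (hyX : ∀ x ∈ X, y x ∈ X) (hf : ∀ x ∈ X, y (y x) = x → x = 1) {x : M} (hx : x ∈ X) :
    y (y x) = x * y x := by
  by_cases hx1 : x = 1
  · rw [hx1]; simp
  have hyx1 : y x ≠ 1 := fun h => hx1 (by simpa using h)
  have hne : x ≠ y x := fun h => hx1 (hf x hx (by rw [← h, ← h]))
  rcases PlaneAct.mem_cases hX (fun v _ => by rw [pow_two]; exact sq v) hx (hyX x hx) hx1 hyx1 hne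
    _ (hyX _ (hyX x hx)) with h | h | h | h
  · exact absurd (by simpa using h) hx1
  · exact absurd (hf x hx h) hx1
  · have h1 : y x = x := y.injective h
    exact absurd h1.symm hne
  · exact h

theorem cube_of {sq : ∀ m : M, m * m = 1} {y : MulAut M} {x : M} (h : y (y x) = x * y x) :
    y (y (y x)) = x := by
  rw [h, map_mul, h, mul_comm x, mul_cancel' sq]

/-- `m ↦ m * y m * y² m` -/
def nm (y : MulAut M) : M →* M where
  toFun m := m * y m * y (y m)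
  map_one' := by simp
  map_mul' a b := by
    simp only [map_mul]
    rw [mul_mul_mul_comm a b, mul_mul_mul_comm]

theorem nm_apply (y : MulAut M) (m : M) : nm y m = m * y m * y (y m) := rfl

theorem nm_eq_one_iff {sq : ∀ m : M, m * m = 1} {y : MulAut M} {m : M} :
    nm y m = 1 ↔ y (y m) = m * y m := by
  rw [nm_apply, mul_eq_one sq]; exact eq_comm

theorem nm_fix {y : MulAut M} {m : M} (h : y (y (y m)) = m) : y (nm y m) = nm y m := by
  rw [nm_apply, map_mul, map_mul, h, mul_comm _ m, ← mul_assoc]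

theorem nm_comm {y σ : MulAut M} (h : ∀ m, σ (y m) = y (σ m)) (m : M) :
    σ (nm y m) = nm y (σ m) := by
  simp only [nm_apply, map_mul, h]

namespace Two

variable {A : Subgroup (MulAut M)} {M₀ Z : Subgroup M} {b₁ y₁ b₂ y₂ : MulAut M}

theorem three [Finite M] (h : Data A M₀ Z) (t : Two A b₁ y₁ b₂ y₂) {w : M} (hw : w ∈ ww y₁) :
    y₁ (y₁ w) = w * y₁ w := by
  -- on `X = C_W(b₂)`
  have hX4 : Nat.card (fx (ww y₁) b₂) = 4 := by
    have := t.symm.card_fx h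
    rwa [← t.ww_eq h] at this
  have hX : ∀ x ∈ fx (ww y₁) b₂, y₁ (y₁ x) = x * y₁ x := by
    intro x hx
    refine four hX4 h.sq ?_ ?_ hx
    · rintro x ⟨hx, hx'⟩
      exact ⟨t.p₁.y_ww x hx, by rw [t.by₂₁, hx']⟩
    · rintro x ⟨hx, hx'⟩ he
      exact t.p₁.ww_fpf h.sq hx he
  have hwi : ∀ σ ∈ A, ∀ x ∈ ww y₁, σ x ∈ ww y₁ := t.p₁.ww_inv
  -- `N(w) ∈ X`
  have h1 : nm y₁ w ∈ fx (ww y₁) b₂ := by
    have h2 : w * b₂ w ∈ fx (ww y₁) b₂ := by
      refine ⟨mul_mem hw (hwi b₂ t.p₂.bA w hw), ?_⟩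
      rw [map_mul, h.Ainv t.p₂.bA, mul_comm]
    have h3 : nm y₁ (w * b₂ w) = 1 := (nm_eq_one_iff (sq := h.sq)).2 (hX _ h2)
    rw [map_mul, mul_eq_one h.sq, ← nm_comm t.by₂₁] at h3
    refine ⟨?_, h3.symm⟩
    exact mul_mem (mul_mem hw (t.p₁.y_ww w hw)) (t.p₁.y_ww _ (t.p₁.y_ww w hw))
  have h2 : (y₁ ^ 3) (nm y₁ w) = nm y₁ w := by
    have h3 := cube_of (sq := h.sq) (hX _ h1)
    simpa [pow_succ, MulAut.mul_apply] using h3
  have hs : ∀ m, (y₁ ^ 3) (y₁ m) = y₁ ((y₁ ^ 3) m) := by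
    intro m
    rw [← MulAut.mul_apply, ← MulAut.mul_apply, ← pow_succ, ← pow_succ']
  have h3 : nm y₁ (w * (y₁ ^ 3) w) = 1 := by
    rw [map_mul, ← nm_comm hs, h2, h.sq]
  have h4 := cube_of (sq := h.sq) ((nm_eq_one_iff (sq := h.sq)).1 h3)
  have h5 : (y₁ ^ 3) (w * (y₁ ^ 3) w) = w * (y₁ ^ 3) w := by
    simpa [pow_succ, MulAut.mul_apply] using h4
  have h6 : (y₁ ^ 3) ((y₁ ^ 3) w) = w := by
    rw [map_mul, mul_comm w] at h5
    exact mul_left_cancel h5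
  have hodd : Odd (orderOf (y₁ ^ 3)) := t.p₁.odd.of_dvd_nat (orderOf_pow_dvd 3)
  have h7 : y₁ (y₁ (y₁ w)) = w := by
    have h8 := fix_of_sq hodd h6
    simpa [pow_succ, MulAut.mul_apply] using h8
  have h8 : nm y₁ w = 1 := t.p₁.ww_fpf h.sq h1.1 (by rw [nm_fix h7, nm_fix h7])
  exact (nm_eq_one_iff (sq := h.sq)).1 h8

theorem cube [Finite M] (h : Data A M₀ Z) (t : Two A b₁ y₁ b₂ y₂) : y₁ ^ 3 = 1 := by
  ext m
  obtain ⟨w, hw, c, hc, e⟩ := exists_decomp h.sq t.p₁.odd m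
  have h1 := cube_of (sq := h.sq) (t.three h hw)
  have h2 : (y₁ ^ 3) m = y₁ (y₁ (y₁ m)) := by simp [pow_succ, MulAut.mul_apply]
  rw [h2, e]
  simp only [map_mul, hc]
  rw [h1]; rfl

theorem pow_inv {y : MulAut M} (h : y ^ 3 = 1) (m : M) : y⁻¹ m = y (y m) := by
  have h1 : y⁻¹ = y * y := by
    rw [inv_eq_iff_mul_eq_one, ← pow_two, ← pow_succ']; exact h
  rw [h1, MulAut.mul_apply]

/-- `W = C_W(y₁ y₂) C_W(y₁ y₂⁻¹)` -/
theorem split [Finite M] (h : Data A M₀ Z) (t : Two A b₁ y₁ b₂ y₂) {w : M} (hw : w ∈ ww y₁) :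
    nm (y₁ * y₂) w * nm (y₁ * y₂⁻¹) w = w := by
  have c1 := t.cube h
  have c2 := t.symm.cube h
  have e2 : ∀ m, y₂⁻¹ m = y₂ (y₂ m) := pow_inv c2
  have c1' : ∀ m, y₁ (y₁ (y₁ m)) = m := fun m => by
    have := congrArg (fun f : MulAut M => f m) c1
    simpa [pow_succ, MulAut.mul_apply] using this
  have c2' : ∀ m, y₂ (y₂ (y₂ m)) = m := fun m => by
    have := congrArg (fun f : MulAut M => f m) c2
    simpa [pow_succ, MulAut.mul_apply] using this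
  have t1 : y₁ (y₁ w) = w * y₁ w := t.three h hw
  have t2 : y₂ (y₂ w) = w * y₂ w := t.symm.three h (t.ww_eq h ▸ hw)
  -- `y₁`, `y₂` on `a = w`, `b = y₁ w`, `c = y₂ w`, `d = y₁ y₂ w`
  have td1 : y₁ (y₁ (y₂ w)) = y₂ w * y₁ (y₂ w) := by
    rw [t.yy', t.yy', t1, map_mul]
  have td2 : y₂ (y₁ (y₂ w)) = y₁ w * y₁ (y₂ w) := by
    rw [← t.yy', t2, map_mul]
  have tb2 : y₂ (y₁ w) = y₁ (y₂ w) := (t.yy' w).symm
  have h1 : nm (y₁ * y₂) w = y₁ w * y₂ w := by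
    rw [nm_apply]
    simp only [MulAut.mul_apply]
    rw [td2, map_mul, t1, td1]
    calc w * y₁ (y₂ w) * (w * y₁ w * (y₂ w * y₁ (y₂ w)))
        = (w * w) * (y₁ (y₂ w) * y₁ (y₂ w)) * (y₁ w * y₂ w) := by ac_rfl
      _ = _ := by rw [h.sq, h.sq, one_mul, one_mul]
  have h2 : nm (y₁ * y₂⁻¹) w = w * y₁ w * y₂ w := by
    rw [nm_apply]
    simp only [MulAut.mul_apply, e2]
    rw [t2]
    simp only [map_mul, tb2, td2]
    calc w * (y₁ w * y₁ (y₂ w)) * (y₁ (y₁ w) * y₁ (y₁ (y₂ w)) *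
          (y₁ (y₁ (y₂ w)) * (y₁ (y₁ w) * y₁ (y₁ (y₂ w)))))
        = (y₁ (y₁ w) * y₁ (y₁ w)) * (y₁ (y₁ (y₂ w)) * y₁ (y₁ (y₂ w))) *
          (w * (y₁ w * y₁ (y₂ w)) * y₁ (y₁ (y₂ w))) := by ac_rfl
      _ = w * (y₁ w * y₁ (y₂ w)) * (y₂ w * y₁ (y₂ w)) := by
          rw [h.sq, h.sq, one_mul, one_mul, td1]
      _ = (y₁ (y₂ w) * y₁ (y₂ w)) * (w * y₁ w * y₂ w) := by ac_rfl
      _ = _ := by rw [h.sq, one_mul]
  rw [h1, h2]
  calc y₁ w * y₂ w * (w * y₁ w * y₂ w) = (y₁ w * y₁ w) * (y₂ w * y₂ w) * w := by ac_rfl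
    _ = w := by rw [h.sq, h.sq, one_mul, one_mul]

theorem ww_y₂ [Finite M] (h : Data A M₀ Z) (t : Two A b₁ y₁ b₂ y₂) {w : M} (hw : w ∈ ww y₁) :
    y₂ w ∈ ww y₁ := by
  rw [t.ww_eq h] at hw ⊢
  exact t.p₂.y_ww w hw

theorem eval₃ {y : MulAut M} (hy : y ^ 3 = 1) (m : M) : y (y (y m)) = m := by
  have := congrArg (fun f : MulAut M => f m) hy
  simpa [pow_succ, MulAut.mul_apply] using this

theorem p_cube [Finite M] (h : Data A M₀ Z) (t : Two A b₁ y₁ b₂ y₂) : (y₁ * y₂) ^ 3 = 1 := by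
  have hc : Commute y₁ y₂ := t.yy
  rw [hc.mul_pow, t.cube h, t.symm.cube h, one_mul]

theorem q_cube [Finite M] (h : Data A M₀ Z) (t : Two A b₁ y₁ b₂ y₂) : (y₁ * y₂⁻¹) ^ 3 = 1 := by
  have hc : Commute y₁ y₂⁻¹ := Commute.inv_right t.yy
  rw [hc.mul_pow, t.cube h, inv_pow, t.symm.cube h, one_mul, inv_one]

/-- `C_W(y₁ y₂) ∩ C_W(y₁ y₂⁻¹) = 1` -/
theorem pq_inter [Finite M] (h : Data A M₀ Z) (t : Two A b₁ y₁ b₂ y₂) {w : M} (hw : w ∈ ww y₁)
    (hp : (y₁ * y₂) w = w) (hq : (y₁ * y₂⁻¹) w = w) : w = 1 := by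
  apply t.p₁.ww_fpf h.sq hw
  have h1 : y₁ (y₂ w) = w := hp
  have h2 : y₁ (y₂⁻¹ w) = w := hq
  -- `y₁ w = y₂ w`
  have h3 : y₂⁻¹ w = y₂ w := y₁.injective (h2.trans h1.symm)
  have h4 : y₂ w = w := by
    apply fix_of_sq t.p₂.odd
    rw [← h3, apply_inv_apply]
  rw [h4] at h1
  rw [h1, h1]

/-- The key element for step (3). -/
theorem exists_key [Finite M] (h : Data A M₀ Z) (t : Two A b₁ y₁ b₂ y₂) :
    ∃ u ∈ ww y₁, u ∉ Z ∧ (y₁ * y₂) u * (b₁ * b₂) ((y₁ * y₂) u) = u := by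
  have c1 := t.cube h
  have c2 := t.symm.cube h
  have c1' := eval₃ c1
  have c2' := eval₃ c2
  have e1 : ∀ m, y₁⁻¹ m = y₁ (y₁ m) := pow_inv c1
  have e2 : ∀ m, y₂⁻¹ m = y₂ (y₂ m) := pow_inv c2
  have hpe : ∀ m, (y₁ * y₂) m = y₁ (y₂ m) := fun m => rfl
  have hqe : ∀ m, (y₁ * y₂⁻¹) m = y₁ (y₂ (y₂ m)) := fun m => by rw [MulAut.mul_apply, e2]
  -- `g = b₁ b₂` inverts `y₁` and `y₂`
  have hi1 : ∀ m, (b₁ * b₂) (y₁ m) = y₁ (y₁ ((b₁ * b₂) m)) := by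
    intro m
    rw [MulAut.mul_apply, t.by₂₁, t.p₁.invy, e1, MulAut.mul_apply]
  have hi2 : ∀ m, (b₁ * b₂) (y₂ m) = y₂ (y₂ ((b₁ * b₂) m)) := by
    intro m
    rw [MulAut.mul_apply, t.p₂.invy, e2, t.by₁₂, t.by₁₂, MulAut.mul_apply]
  have hgp : ∀ m, (b₁ * b₂) ((y₁ * y₂) m) = (y₁ * y₂) ((y₁ * y₂) ((b₁ * b₂) m)) := by
    intro m
    rw [hpe, hi1, hi2, hpe, hpe, t.yy']
  have hb1p : ∀ m, b₁ ((y₁ * y₂) m) = y₁ (y₁ (y₂ (b₁ m))) := by
    intro m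
    rw [hpe, t.p₁.invy, e1, t.by₁₂]
  have hb1q : ∀ m, b₁ ((y₁ * y₂⁻¹) m) = y₁ (y₁ (y₂ (y₂ (b₁ m)))) := by
    intro m
    rw [hqe, t.p₁.invy, e1, t.by₁₂, t.by₁₂]
  have hA : b₁ * b₂ ∈ A := mul_mem t.p₁.bA t.p₂.bA
  have hpq : ∀ m, (y₁ * y₂⁻¹) ((y₁ * y₂) m) = (y₁ * y₂) ((y₁ * y₂⁻¹) m) := by
    intro m
    simp only [hpe, hqe, t.yy']
  have hpW : ∀ w ∈ ww y₁, (y₁ * y₂) w ∈ ww y₁ := fun w hw => t.p₁.y_ww _ (t.ww_y₂ h hw)
  have hp3 := t.p_cube h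
  have hq3 := t.q_cube h
  have hnpW : ∀ w ∈ ww y₁, nm (y₁ * y₂) w ∈ ww y₁ := fun w hw =>
    mul_mem (mul_mem hw (hpW w hw)) (hpW _ (hpW w hw))
  have hqW : ∀ w ∈ ww y₁, (y₁ * y₂⁻¹) w ∈ ww y₁ := fun w hw => by
    rw [hqe]; exact t.p₁.y_ww _ (t.ww_y₂ h (t.ww_y₂ h hw))
  have hnqW : ∀ w ∈ ww y₁, nm (y₁ * y₂⁻¹) w ∈ ww y₁ := fun w hw =>
    mul_mem (mul_mem hw (hqW w hw)) (hqW _ (hqW w hw))
  have hqf : ∀ w, (y₁ * y₂⁻¹) w = w ↔ y₁ w = y₂ w := by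
    intro w
    rw [hqe]
    constructor
    · intro h1
      have h2 : y₂ (y₁ (y₂ (y₂ w))) = y₂ w := by rw [h1]
      rw [← t.yy', c2'] at h2
      exact h2
    · intro h1
      rw [t.yy', t.yy', h1, c2']
  have hpf : ∀ w, (y₁ * y₂) w = w ↔ y₁ (y₁ w) = y₂ w := by
    intro w
    rw [hpe]
    constructor
    · intro h1
      have h2 : y₁ (y₁ (y₁ (y₂ w))) = y₁ (y₁ w) := by rw [h1]
      rw [c1'] at h2
      exact h2.symm
    · intro h1
      rw [← h1, c1']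
  -- an element of `C_W(y₁ y₂⁻¹)` not fixed by `b₁ b₂`
  have hex : ∃ a ∈ ww y₁, (y₁ * y₂⁻¹) a = a ∧ (b₁ * b₂) a ≠ a := by
    by_contra hcon
    push Not at hcon
    have h1 : ∀ w ∈ ww y₁, (y₁ * y₂⁻¹) w = w → w = 1 := by
      intro w hw hqw
      refine t.pq_inter h hw ?_ hqw
      have h2 := hcon _ (hpW w hw) (by rw [hpq, hqw])
      rw [hgp, hcon w hw hqw] at h2
      exact (y₁ * y₂).injective h2
    have h2 : ∀ w ∈ ww y₁, w = 1 := by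
      intro w hw
      have h3 : nm (y₁ * y₂⁻¹) w = 1 := h1 _ (hnqW w hw) (nm_fix (eval₃ hq3 w))
      have h4 := t.split h hw
      rw [h3, mul_one] at h4
      have h5 : (y₁ * y₂) w = w := by
        have := nm_fix (eval₃ hp3 w)
        rwa [h4] at this
      have h6 : b₁ w = 1 := by
        apply h1 _ (t.p₁.ww_inv b₁ t.p₁.bA w hw)
        rw [hqf]
        have h7 := hb1p w
        rw [h5] at h7
        have h8 : y₁ (b₁ w) = y₁ (y₁ (y₁ (y₂ (b₁ w)))) := by rw [← h7]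
        rwa [c1'] at h8
      simpa using h6
    obtain ⟨a, ha, haM⟩ := t.p₁.exists_not_mem h
    exact haM (h2 a ha ▸ one_mem _)
  obtain ⟨a, ha, hqa, hga⟩ := hex
  obtain ⟨u, hu⟩ : ∃ u, u = a * (b₁ * b₂) a := ⟨_, rfl⟩
  have hgaW : (b₁ * b₂) a ∈ ww y₁ := t.p₁.ww_inv _ hA a ha
  have huW : u ∈ ww y₁ := hu ▸ mul_mem ha hgaW
  have hgu : (b₁ * b₂) u = u := by rw [hu, map_mul, h.Ainv hA, mul_comm]
  have hqu : (y₁ * y₂⁻¹) u = u := by
    rw [hqf] at hqa ⊢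
    have h1 : y₁ ((b₁ * b₂) a) = y₂ ((b₁ * b₂) a) := by
      have h2 : (b₁ * b₂) (y₁ a) = (b₁ * b₂) (y₂ a) := by rw [hqa]
      rw [hi1, hi2] at h2
      -- `y₁² g a = y₂² g a`
      have h3 : y₁ (y₁ (y₁ (y₁ ((b₁ * b₂) a)))) = y₂ (y₂ (y₂ (y₂ ((b₁ * b₂) a)))) := by
        have h4 : y₁ (y₁ (y₂ (y₂ ((b₁ * b₂) a)))) = y₂ (y₂ (y₁ (y₁ ((b₁ * b₂) a)))) := by
          simp only [t.yy']
        rw [h2, h4, h2]
      rwa [c1', c2'] at h3
    rw [hu, map_mul, map_mul, hqa, h1]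
  have hu1 : u ≠ 1 := by
    intro h1
    rw [hu, mul_eq_one h.sq] at h1
    exact hga h1.symm
  have hnp : nm (y₁ * y₂) u = 1 := by
    refine t.pq_inter h (hnpW u huW) (nm_fix (eval₃ hp3 u)) ?_
    rw [nm_comm hpq, hqu]
  refine ⟨u, huW, ?_, ?_⟩
  · intro huZ
    apply hu1
    refine t.pq_inter h huW ?_ hqu
    have h1 := hb1q u
    rw [hqu, h.Zfix b₁ t.p₁.bA u huZ] at h1
    rw [hpe]
    have h2 : y₁ (y₂ u) = y₁ (y₂ (y₁ (y₁ (y₂ (y₂ u))))) := by rw [← h1]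
    rw [← t.yy', ← t.yy', c1', c2'] at h2
    exact h2
  · rw [hgp, hgu]
    have h1 := (nm_eq_one_iff (sq := h.sq)).1 hnp
    rw [h1, mul_comm u, mul_cancel' h.sq]

end Two

/-! ### One pair: `|A| = 2` is impossible -/

theorem eval₃ {y : MulAut M} (hy : y ^ 3 = 1) (m : M) : y (y (y m)) = m := by
  have := congrArg (fun f : MulAut M => f m) hy
  simpa [pow_succ, MulAut.mul_apply] using this

/-- `x ∈ ⟨y⟩`, `x ≠ 1`, `y ^ 3 = 1`: `x = y` or `x = y⁻¹`, so `C(x) = C(y)`. -/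
theorem fix_of_pow {y x : MulAut M} (hy : y ^ 3 = 1) {k : ℕ} (hx : x = y ^ k) (hx1 : x ≠ 1)
    {m : M} (hm : x m = m) : y m = m := by
  have h1 := eval₃ hy
  have h2 : y ^ k = y ^ (k % 3) := by
    conv_lhs => rw [← Nat.div_add_mod k 3, pow_add, pow_mul, hy, one_pow, one_mul]
  rw [h2] at hx
  have h3 : k % 3 < 3 := Nat.mod_lt _ (by norm_num)
  interval_cases hk : k % 3
  · exact absurd (by rw [hx, pow_zero]) hx1
  · rw [hx, pow_one] at hm; exact hm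
  · rw [hx, pow_two, MulAut.mul_apply] at hm
    have h4 : y (y (y m)) = y m := by rw [hm]
    rw [h1] at h4
    exact h4.symm

theorem pow_apply_succ (y : MulAut M) (k : ℕ) (m : M) : (y ^ k) (y m) = y ((y ^ k) m) := by
  rw [← MulAut.mul_apply, ← MulAut.mul_apply, ← pow_succ, ← pow_succ']

/-- The orbit of `u ≠ 1` under `y` acting fixed-point-freely on a four-group `X`. -/
theorem orbit_four {X : Subgroup M} (hX : Nat.card X = 4) (sq : ∀ m : M, m * m = 1)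
    {y : MulAut M} (hyX : ∀ x ∈ X, y x ∈ X) (hf : ∀ x ∈ X, y (y x) = x → x = 1) {u : M}
    (hu : u ∈ X) (hu1 : u ≠ 1) {x : M} (hx : x ∈ X) (hx1 : x ≠ 1) : ∃ k : ℕ, x = (y ^ k) u := by
  have hyx1 : y u ≠ 1 := fun h => hu1 (by simpa using h)
  have hne : u ≠ y u := fun h => hu1 (hf u hu (by rw [← h, ← h]))
  rcases PlaneAct.mem_cases hX (fun v _ => by rw [pow_two]; exact sq v) hu (hyX u hu) hu1 hyx1 hne
    _ hx with h | h | h | h
  · exact absurd h hx1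
  · exact ⟨0, by simpa using h⟩
  · exact ⟨1, by simpa using h⟩
  · exact ⟨2, by rw [h, ← four hX sq hyX hf hu, pow_two, MulAut.mul_apply]⟩

theorem eq_of_gen {X : Subgroup M} (hX : Nat.card X = 4) (sq : ∀ m : M, m * m = 1)
    {y f g : MulAut M} (hyX : ∀ x ∈ X, y x ∈ X) (hf : ∀ x ∈ X, y (y x) = x → x = 1) {u : M}
    (hu : u ∈ X) (hu1 : u ≠ 1) (hfy : ∀ m, f (y m) = y (f m)) (hgy : ∀ m, g (y m) = y (g m))
    (he : f u = g u) : ∀ x ∈ X, f x = g x := by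
  intro x hx
  by_cases hx1 : x = 1
  · rw [hx1]; simp
  obtain ⟨k, rfl⟩ := orbit_four hX sq hyX hf hu hu1 hx hx1
  have h1 : ∀ k : ℕ, ∀ m, f ((y ^ k) m) = (y ^ k) (f m) := by
    intro k
    induction k with
    | zero => intro m; simp
    | succ k ih => intro m; rw [pow_succ, MulAut.mul_apply, ih, hfy, MulAut.mul_apply]
  have h2 : ∀ k : ℕ, ∀ m, g ((y ^ k) m) = (y ^ k) (g m) := by
    intro k
    induction k with
    | zero => intro m; simp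
    | succ k ih => intro m; rw [pow_succ, MulAut.mul_apply, ih, hgy, MulAut.mul_apply]
  rw [h1, h2, he]

theorem Pr.absurd_of_card_two [Finite M] {A : Subgroup (MulAut M)} {b y : MulAut M}
    {M₀ Z : Subgroup M} (h : Data A M₀ Z) (hp : Pr A b y) (hA2 : Nat.card A = 2)
    {Γ R : Subgroup (MulAut M)} (hR : Group.IsNilpotent R) (hyR : y ∈ R)
    (hΓR : ∀ g ∈ Γ, ∀ r ∈ R, g * r * g⁻¹ ∈ R) (hRΓ : R ≤ Γ) (hZ : Z ≠ ⊥)
    (hfix : ∀ m, (∀ g ∈ Γ, g m = m) → m = 1)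
    (N3 : ∀ σ ∈ A, ∀ t ∈ Γ, ∀ u, u ∉ Z → t u * σ (t u) = u → ∀ e ∈ Z, t e = e → e = 1) :
    False := by
  have hZW1 : Nat.card (Z ⊓ ww y : Subgroup M) = 1 := by
    have h1 := hp.card_A h
    omega
  have hZW : Z ⊓ ww y = ⊥ := Subgroup.card_eq_one.1 hZW1
  have hW4 : Nat.card (ww y) = 4 := by rw [hp.card_W h, hZW1]; norm_num
  have hff : ∀ x ∈ ww y, y (y x) = x → x = 1 := fun x hx hx' => hp.ww_fpf h.sq hx hx'
  have hfour : ∀ x ∈ ww y, y (y x) = x * y x := fun x hx => four hW4 h.sq hp.y_ww hff hx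
  have hy3 : y ^ 3 = 1 := by
    ext m
    obtain ⟨w, hw, c, hc, e⟩ := exists_decomp h.sq hp.odd m
    have h1 := cube_of (sq := h.sq) (hfour w hw)
    have h2 : (y ^ 3) m = y (y (y m)) := by simp [pow_succ, MulAut.mul_apply]
    rw [h2, e]
    simp only [map_mul, hc]
    rw [h1]; rfl
  obtain ⟨a, ha, haM⟩ := hp.exists_not_mem h
  obtain ⟨u, hu⟩ : ∃ u, u = a * b a := ⟨_, rfl⟩
  have huW : u ∈ ww y := hu ▸ mul_mem ha (hp.ww_inv b hp.bA a ha)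
  have huZ : u ∉ Z := fun h1 => hp.b_ne (h.inj b hp.bA a haM (hu ▸ h1))
  have hu1 : u ≠ 1 := fun h1 => huZ (h1 ▸ one_mem _)
  have hbu : b u = u := by rw [hu, map_mul, h.Ainv hp.bA, mul_comm]
  have hN := N3 b hp.bA y (hRΓ hyR) u huZ (by
    rw [hp.invy, hbu, Two.pow_inv hy3, hfour u huW, mul_comm u, mul_cancel' h.sq])
  -- `C_M(y) = {1, c₀}`
  have hcZ : ∀ c ∈ cc y, c ∈ Z → c = 1 := fun c hc hcZ => hN c hcZ (mem_cc.1 hc)
  have hAb : ∀ σ ∈ A, σ = 1 ∨ σ = b := by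
    intro σ hσ
    by_contra hcon
    push Not at hcon
    have hfin : Finite A := Nat.finite_of_card_ne_zero (by omega)
    let f : Fin 3 → A := ![1, ⟨b, hp.bA⟩, ⟨σ, hσ⟩]
    have hinj : Function.Injective f := by
      have hb := hp.b_ne
      intro i j hij
      have hij' := congrArg Subtype.val hij
      fin_cases i <;> fin_cases j <;> simp [f] at hij' ⊢ <;>
        first
          | exact absurd hij' hb
          | exact absurd hij'.symm hb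
          | exact absurd hij' hcon.1
          | exact absurd hij'.symm hcon.1
          | exact absurd hij' hcon.2
          | exact absurd hij'.symm hcon.2
    have := Nat.card_le_card_of_injective f hinj
    rw [hA2, Nat.card_eq_fintype_card, Fintype.card_fin] at this
    omega
  have hcu : ∀ c ∈ cc y, c ≠ 1 → ∃ z ∈ Z, c = u * z := by
    intro c hc hc1
    have hbc := hp.cc_triv h b hp.bA c hc
    have hcM : c ∈ M₀ := by
      by_contra hcM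
      refine hp.b_ne (h.inj b hp.bA c hcM ?_)
      rw [hbc, h.sq]; exact one_mem _
    obtain ⟨σ, hσ, z, hz, e⟩ := h.cover₀ haM hcM
    rcases hAb σ hσ with rfl | rfl
    · exfalso
      apply hc1
      apply hcZ c hc
      rw [e, MulAut.one_apply, h.sq, one_mul]
      exact hz
    · exact ⟨z, hz, by rw [hu]; exact e⟩
  have huniq : ∀ c ∈ cc y, ∀ c' ∈ cc y, c ≠ 1 → c' ≠ 1 → c = c' := by
    intro c hc c' hc' h1 h1'
    obtain ⟨z, hz, e⟩ := hcu c hc h1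
    obtain ⟨z', hz', e'⟩ := hcu c' hc' h1'
    have h2 : c * c' = z * z' := by
      rw [e, e', mul_mul_mul_comm, h.sq, one_mul]
    have h3 := hcZ (c * c') (mul_mem hc hc') (h2 ▸ mul_mem hz hz')
    exact (mul_eq_one h.sq).1 h3
  obtain ⟨c₀, hc₀, hc₀1⟩ : ∃ c₀ ∈ cc y, c₀ ≠ 1 := by
    obtain ⟨⟨e₀, he₀⟩, he₀1⟩ := ne_bot_iff_exists_ne_one.1 hZ
    obtain ⟨w, hw, c, hc, e⟩ := exists_decomp h.sq hp.odd e₀
    refine ⟨c, mem_cc.2 hc, ?_⟩
    rintro rfl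
    apply he₀1
    rw [mul_one] at e
    have h1 : e₀ ∈ Z ⊓ ww y := ⟨he₀, e ▸ hw⟩
    rw [hZW] at h1
    exact Subtype.ext (mem_bot.1 h1)
  -- the centre of `R`
  have hRn : Nontrivial R := by
    refine ⟨⟨⟨y, hyR⟩, 1, fun h1 => hp.ne (congrArg Subtype.val h1)⟩⟩
  have hcen : ∃ x ∈ R, x ≠ 1 ∧ ∀ r ∈ R, x * r = r * x := by
    have h1 := Group.IsNilpotent.center_ne_bot (G := R)
    obtain ⟨x, hx⟩ := ne_bot_iff_exists_ne_one.1 h1
    refine ⟨x.1.1, x.1.2, fun h2 => hx (Subtype.ext (Subtype.ext h2)), ?_⟩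
    intro r hr
    have h2 := mem_center_iff.1 x.2 ⟨r, hr⟩
    exact (congrArg Subtype.val h2).symm
  -- every element centralising `R` is a power of `y`
  have hpow : ∀ x ∈ R, (∀ r ∈ R, x * r = r * x) → ∃ k : ℕ, x = y ^ k := by
    intro x hx hxc
    have hxy : ∀ m, x (y m) = y (x m) := fun m => by
      rw [← MulAut.mul_apply, hxc y hyR, MulAut.mul_apply]
    have hxW : ∀ w ∈ ww y, x w ∈ ww y := by
      rintro _ ⟨m, rfl⟩
      exact ⟨x m, by rw [del_apply, del_apply, map_mul, hxy]⟩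
    obtain ⟨k, hk⟩ := orbit_four hW4 h.sq hp.y_ww hff huW hu1 (hxW u huW) (by simpa using hu1)
    refine ⟨k, ?_⟩
    have h1 : ∀ w ∈ ww y, x w = (y ^ k) w :=
      eq_of_gen hW4 h.sq hp.y_ww hff huW hu1 hxy (pow_apply_succ y k) hk
    ext m
    obtain ⟨w, hw, c, hc, e⟩ := exists_decomp h.sq hp.odd m
    have h2 : x c = c := by
      by_cases hc1 : c = 1
      · rw [hc1, map_one]
      · exact (huniq c (mem_cc.2 hc) (x c) (mem_cc.2 (by rw [← hxy, hc])) hc1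
          (by simpa using hc1)).symm
    have h3 : (y ^ k) c = c := by
      clear hk h1
      induction k with
      | zero => simp
      | succ k ih => rw [pow_succ, MulAut.mul_apply, hc]; exact ih
    rw [e, map_mul, map_mul, h1 w hw, h2, h3]
  obtain ⟨x, hxR, hx1, hxc⟩ := hcen
  obtain ⟨k, hk⟩ := hpow x hxR hxc
  apply hc₀1
  apply hfix
  intro g hg
  -- `g⁻¹ x g` centralises `R`
  have h1 : g⁻¹ * x * g ∈ R := by
    have := hΓR g⁻¹ (inv_mem hg) x hxR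
    rwa [inv_inv] at this
  have h2 : ∀ r ∈ R, (g⁻¹ * x * g) * r = r * (g⁻¹ * x * g) := by
    intro r hr
    have h3 := hxc _ (hΓR g hg r hr)
    calc (g⁻¹ * x * g) * r = g⁻¹ * (x * (g * r * g⁻¹)) * g := by group
      _ = g⁻¹ * ((g * r * g⁻¹) * x) * g := by rw [h3]
      _ = r * (g⁻¹ * x * g) := by group
  obtain ⟨l, hl⟩ := hpow _ h1 h2
  have h3 : (g⁻¹ * x * g) c₀ = c₀ := by
    rw [hl]
    clear hl
    induction l with
    | zero => simp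
    | succ l ih => rw [pow_succ, MulAut.mul_apply, mem_cc.1 hc₀]; exact ih
  have h4 : x (g c₀) = g c₀ := by
    have h5 : g ((g⁻¹ * x * g) c₀) = g c₀ := by rw [h3]
    rw [MulAut.mul_apply, MulAut.mul_apply, apply_inv_apply] at h5
    exact h5
  have h5 := fix_of_pow hy3 hk hx1 h4
  exact (huniq (g c₀) (mem_cc.2 h5) c₀ hc₀ (by simpa using hc₀1) hc₀1)

/-! ### Two pairs, `M = W`: `R = ⟨y₁, y₂⟩` -/

/-- An element of odd order fixing a nontrivial element of a four-group acts trivially on it. -/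
theorem trivial_of_fix {X : Subgroup M} (hX : Nat.card X = 4) (sq : ∀ m : M, m * m = 1)
    {s : MulAut M} (hs : Odd (orderOf s)) (hsX : ∀ x ∈ X, s x ∈ X) {u : M} (hu : u ∈ X)
    (hu1 : u ≠ 1) (hsu : s u = u) : ∀ x ∈ X, s x = x := by
  intro x hx
  by_cases hx1 : x = 1
  · rw [hx1, map_one]
  by_cases hxu : x = u
  · rw [hxu]; exact hsu
  have hux : u ≠ x := fun h => hxu h.symm
  rcases PlaneAct.mem_cases hX (fun v _ => by rw [pow_two]; exact sq v) hu hx hu1 hx1 hux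
    _ (hsX x hx) with h | h | h | h
  · exact absurd (by simpa using h) hx1
  · exact absurd (s.injective (h.trans hsu.symm)) hxu
  · exact h
  · apply fix_of_sq hs
    rw [h, map_mul, hsu, h, mul_cancel' sq]

/-- On a four-group `X` on which `t` acts fixed-point-freely, an element `g` (`g, t` in a group of
odd order) acts as a power of `t`. -/
theorem exists_pow_of_odd [Finite M] {X : Subgroup M} (hX : Nat.card X = 4)
    (sq : ∀ m : M, m * m = 1) {R : Subgroup (MulAut M)} (hR : Odd (Nat.card R)) {t g : MulAut M}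
    (ht : t ∈ R) (hg : g ∈ R) (htX : ∀ x ∈ X, t x ∈ X) (hgX : ∀ x ∈ X, g x ∈ X)
    (hf : ∀ x ∈ X, t (t x) = x → x = 1) : ∃ k : ℕ, ∀ x ∈ X, g x = (t ^ k) x := by
  obtain ⟨u, hu, hu1⟩ : ∃ u ∈ X, u ≠ 1 := by
    by_contra hcon
    push Not at hcon
    have h1 : X = ⊥ := by
      rw [eq_bot_iff]; intro x hx; exact mem_bot.2 (hcon x hx)
    rw [h1, card_bot] at hX
    omega
  obtain ⟨k, hk⟩ := orbit_four hX sq htX hf hu hu1 (hgX u hu) (by simpa using hu1)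
  have htk : ∀ k : ℕ, ∀ x ∈ X, (t ^ k) x ∈ X := by
    intro k
    induction k with
    | zero => intro x hx; simpa using hx
    | succ k ih => intro x hx; rw [pow_succ, MulAut.mul_apply]; exact ih _ (htX x hx)
  have hodd : Odd (orderOf ((t ^ k)⁻¹ * g)) := by
    have h1 : (t ^ k)⁻¹ * g ∈ R := mul_mem (inv_mem (pow_mem ht k)) hg
    have h2 : orderOf (⟨(t ^ k)⁻¹ * g, h1⟩ : R) ∣ Nat.card R := orderOf_dvd_natCard _
    rw [Subgroup.orderOf_mk] at h2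
    exact hR.of_dvd_nat h2
  have hsX : ∀ x ∈ X, ((t ^ k)⁻¹ * g) x ∈ X := by
    intro x hx
    have h1 : X.map (t ^ k).toMonoidHom = X := by
      refine eq_of_le_of_card_ge ?_ (card_map_of_injective (t ^ k).injective).ge
      rintro _ ⟨x, hx, rfl⟩
      exact htk k x hx
    have h2 : g x ∈ X.map (t ^ k).toMonoidHom := by rw [h1]; exact hgX x hx
    obtain ⟨x', hx', he⟩ := h2
    have he' : (t ^ k) x' = g x := he
    rw [MulAut.mul_apply, ← he', inv_apply_apply]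
    exact hx'
  refine ⟨k, fun x hx => ?_⟩
  have h1 := trivial_of_fix hX sq hodd hsX hu hu1
    (by rw [MulAut.mul_apply, hk, inv_apply_apply]) x hx
  rw [MulAut.mul_apply] at h1
  have h2 : (t ^ k) ((t ^ k)⁻¹ (g x)) = (t ^ k) x := by rw [h1]
  rwa [apply_inv_apply] at h2

/-- `⟨y₁, y₂⟩` -/
def e9 (y₁ y₂ : MulAut M) (hyy : y₁ * y₂ = y₂ * y₁) (h1 : y₁ ^ 3 = 1) (h2 : y₂ ^ 3 = 1) :
    Subgroup (MulAut M) where
  carrier := {g | ∃ i j : ℕ, g = y₁ ^ i * y₂ ^ j}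
  one_mem' := ⟨0, 0, by simp⟩
  mul_mem' := by
    rintro _ _ ⟨i, j, rfl⟩ ⟨k, l, rfl⟩
    refine ⟨i + k, j + l, ?_⟩
    have hc : Commute y₁ y₂ := hyy
    rw [pow_add, pow_add]
    have h3 : y₂ ^ j * y₁ ^ k = y₁ ^ k * y₂ ^ j := ((hc.pow_pow k j).symm).eq
    calc y₁ ^ i * y₂ ^ j * (y₁ ^ k * y₂ ^ l) = y₁ ^ i * (y₂ ^ j * y₁ ^ k) * y₂ ^ l := by group
      _ = _ := by rw [h3]; group
  inv_mem' := by
    rintro _ ⟨i, j, rfl⟩
    refine ⟨2 * i, 2 * j, ?_⟩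
    have hc : Commute y₁ y₂ := hyy
    rw [inv_eq_iff_mul_eq_one]
    have h3 : y₂ ^ j * y₁ ^ (2 * i) = y₁ ^ (2 * i) * y₂ ^ j := ((hc.pow_pow (2 * i) j).symm).eq
    calc y₁ ^ i * y₂ ^ j * (y₁ ^ (2 * i) * y₂ ^ (2 * j))
        = y₁ ^ i * (y₂ ^ j * y₁ ^ (2 * i)) * y₂ ^ (2 * j) := by group
      _ = y₁ ^ i * (y₁ ^ (2 * i) * y₂ ^ j) * y₂ ^ (2 * j) := by rw [h3]
      _ = y₁ ^ (i + 2 * i) * y₂ ^ (j + 2 * j) := by rw [pow_add, pow_add]; group
      _ = (y₁ ^ 3) ^ i * (y₂ ^ 3) ^ j := by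
          rw [← pow_mul, ← pow_mul, show i + 2 * i = 3 * i by ring, show j + 2 * j = 3 * j by ring]
      _ = 1 := by rw [h1, h2, one_pow, one_pow, one_mul]

namespace Two

variable {A : Subgroup (MulAut M)} {M₀ Z : Subgroup M} {b₁ y₁ b₂ y₂ : MulAut M}

/-- The decomposition in case `C_M(y₁) = 1`. -/
theorem ww_top [Finite M] (h : Data A M₀ Z) (t : Two A b₁ y₁ b₂ y₂) (hc : cc y₁ = ⊥) :
    ww y₁ = ⊤ := by
  rw [eq_top_iff]
  intro m _
  obtain ⟨w, hw, c, hc', e⟩ := exists_decomp h.sq t.p₁.odd m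
  have h1 : c ∈ cc y₁ := mem_cc.2 hc'
  rw [hc, mem_bot] at h1
  rw [e, h1, mul_one]
  exact hw

theorem inter [Finite M] (h : Data A M₀ Z) (t : Two A b₁ y₁ b₂ y₂) (hc : cc y₁ = ⊥) {m : M}
    (hp : m ∈ cc (y₁ * y₂)) (hq : m ∈ cc (y₁ * y₂⁻¹)) : m = 1 :=
  t.pq_inter h (t.ww_top h hc ▸ mem_top m) (mem_cc.1 hp) (mem_cc.1 hq)

theorem split' [Finite M] (h : Data A M₀ Z) (t : Two A b₁ y₁ b₂ y₂) (hc : cc y₁ = ⊥) (m : M) :
    ∃ u ∈ cc (y₁ * y₂), ∃ v ∈ cc (y₁ * y₂⁻¹), m = u * v :=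
  ⟨_, mem_cc.2 (nm_fix (eval₃ (t.p_cube h) m)), _, mem_cc.2 (nm_fix (eval₃ (t.q_cube h) m)),
    (t.split h (t.ww_top h hc ▸ mem_top m)).symm⟩

theorem card_M [Finite M] (h : Data A M₀ Z) (t : Two A b₁ y₁ b₂ y₂) (hc : cc y₁ = ⊥) :
    Nat.card M = 16 := by
  have h1 := t.card_W h
  rw [t.ww_top h hc] at h1
  rw [← h1]
  exact Subgroup.card_top.symm

theorem card_pq [Finite M] (h : Data A M₀ Z) (t : Two A b₁ y₁ b₂ y₂) (hc : cc y₁ = ⊥) :
    Nat.card (cc (y₁ * y₂)) = 4 ∧ Nat.card (cc (y₁ * y₂⁻¹)) = 4 := by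
  have c1 := eval₃ (t.cube h)
  have c2 := eval₃ (t.symm.cube h)
  have e1 : ∀ m, y₁⁻¹ m = y₁ (y₁ m) := pow_inv (t.cube h)
  have e2 : ∀ m, y₂⁻¹ m = y₂ (y₂ m) := pow_inv (t.symm.cube h)
  have hqf : ∀ w, w ∈ cc (y₁ * y₂⁻¹) ↔ y₁ w = y₂ w := by
    intro w
    rw [mem_cc, MulAut.mul_apply, e2]
    constructor
    · intro h1
      have h2 : y₂ (y₁ (y₂ (y₂ w))) = y₂ w := by rw [h1]
      rw [← t.yy', c2] at h2
      exact h2
    · intro h1
      rw [t.yy', t.yy', h1, c2]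
  have hpf : ∀ w, w ∈ cc (y₁ * y₂) ↔ y₁ (y₁ w) = y₂ w := by
    intro w
    rw [mem_cc, MulAut.mul_apply]
    constructor
    · intro h1
      have h2 : y₁ (y₁ (y₁ (y₂ w))) = y₁ (y₁ w) := by rw [h1]
      rw [c1] at h2
      exact h2.symm
    · intro h1
      rw [← h1, c1]
  -- `b₁` swaps the two
  have hle1 : (cc (y₁ * y₂)).map b₁.toMonoidHom ≤ cc (y₁ * y₂⁻¹) := by
    rintro _ ⟨w, hw, rfl⟩
    change b₁ w ∈ _
    rw [hqf]
    have h1 := (hpf w).1 hw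
    have h2 : b₁ (y₁ (y₁ w)) = b₁ (y₂ w) := by rw [h1]
    rw [t.p₁.invy, t.p₁.invy, t.by₁₂, e1, e1] at h2
    rw [← h2, c1]
  have hle2 : (cc (y₁ * y₂⁻¹)).map b₁.toMonoidHom ≤ cc (y₁ * y₂) := by
    rintro _ ⟨w, hw, rfl⟩
    change b₁ w ∈ _
    rw [hpf]
    have h1 := (hqf w).1 hw
    have h2 : b₁ (y₁ w) = b₁ (y₂ w) := by rw [h1]
    rw [t.p₁.invy, t.by₁₂, e1] at h2
    exact h2
  have h1 : Nat.card (cc (y₁ * y₂)) = Nat.card (cc (y₁ * y₂⁻¹)) := by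
    apply le_antisymm
    · rw [← card_map_of_injective (f := b₁.toMonoidHom) (K := cc (y₁ * y₂)) b₁.injective]
      exact card_le_of_le hle1
    · rw [← card_map_of_injective (f := b₁.toMonoidHom) (K := cc (y₁ * y₂⁻¹)) b₁.injective]
      exact card_le_of_le hle2
  let f : cc (y₁ * y₂) × cc (y₁ * y₂⁻¹) → M := fun p => p.1 * p.2
  have hf : Function.Bijective f := by
    constructor
    · rintro ⟨⟨u, hu⟩, ⟨v, hv⟩⟩ ⟨⟨u', hu'⟩, ⟨v', hv'⟩⟩ he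
      have h2 : u * v = u' * v' := he
      have h3 : u * u' = v * v' := swap h.sq h2
      have h4 : u * u' = 1 := t.inter h hc (mul_mem hu hu') (h3 ▸ mul_mem hv hv')
      have h5 := (mul_eq_one h.sq).1 h4
      have h6 := (mul_eq_one h.sq).1 (h3 ▸ h4)
      subst h5; subst h6; rfl
    · intro m
      obtain ⟨u, hu, v, hv, e⟩ := t.split' h hc m
      exact ⟨(⟨u, hu⟩, ⟨v, hv⟩), e.symm⟩
  have h2 := Nat.card_congr (Equiv.ofBijective f hf)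
  rw [Nat.card_prod, ← h1, t.card_M h hc] at h2
  have h3 : Nat.card (cc (y₁ * y₂)) = 4 := by
    have h4 : Nat.card (cc (y₁ * y₂)) ≤ 16 := by nlinarith
    interval_cases h5 : Nat.card (cc (y₁ * y₂)) <;> omega
  exact ⟨h3, h1 ▸ h3⟩

/-- `e9` in the present situation -/
def E (h : Data A M₀ Z) (t : Two A b₁ y₁ b₂ y₂) [Finite M] : Subgroup (MulAut M) :=
  e9 y₁ y₂ t.yy (t.cube h) (t.symm.cube h)

theorem mem_E [Finite M] (h : Data A M₀ Z) (t : Two A b₁ y₁ b₂ y₂) {g : MulAut M} :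
    g ∈ t.E h ↔ ∃ i j : ℕ, g = y₁ ^ i * y₂ ^ j := Iff.rfl

theorem cc_conj (g y : MulAut M) {m : M} : g m ∈ cc (g * y * g⁻¹) ↔ m ∈ cc y := by
  rw [mem_cc, mem_cc, MulAut.mul_apply, MulAut.mul_apply, inv_apply_apply]
  exact g.injective.eq_iff

/-- elements of `E` with nontrivial fixed points -/
theorem cc_of_mem [Finite M] (h : Data A M₀ Z) (t : Two A b₁ y₁ b₂ y₂) (hc : cc y₁ = ⊥)
    {e : MulAut M} (he : e ∈ t.E h) (he1 : e ≠ 1) (hf : cc e ≠ ⊥) :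
    cc e ≤ cc (y₁ * y₂) ∨ cc e ≤ cc (y₁ * y₂⁻¹) := by
  have c1 := eval₃ (t.cube h)
  have c2 := eval₃ (t.symm.cube h)
  have e2 : ∀ m, y₂⁻¹ m = y₂ (y₂ m) := pow_inv (t.symm.cube h)
  have hc2 : cc y₂ = ⊥ := by rw [← t.cc_eq h]; exact hc
  obtain ⟨i, j, rfl⟩ := he
  have hi : y₁ ^ i = y₁ ^ (i % 3) := by
    conv_lhs => rw [← Nat.div_add_mod i 3, pow_add, pow_mul, t.cube h, one_pow, one_mul]
  have hj : y₂ ^ j = y₂ ^ (j % 3) := by
    conv_lhs => rw [← Nat.div_add_mod j 3, pow_add, pow_mul, t.symm.cube h, one_pow, one_mul]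
  rw [hi, hj] at he1 hf ⊢
  have hi3 : i % 3 < 3 := Nat.mod_lt _ (by norm_num)
  have hj3 : j % 3 < 3 := Nat.mod_lt _ (by norm_num)
  have hfy1 : ∀ m, y₁ m = m → m = 1 := fun m hm => by
    have h1 : m ∈ cc y₁ := mem_cc.2 hm
    rw [hc] at h1; exact mem_bot.1 h1
  have hfy2 : ∀ m, y₂ m = m → m = 1 := fun m hm => by
    have h1 : m ∈ cc y₂ := mem_cc.2 hm
    rw [hc2] at h1; exact mem_bot.1 h1
  have hbot : ∀ e : MulAut M, (∀ m, e m = m → m = 1) → cc e = ⊥ := fun e he => by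
    rw [eq_bot_iff]; intro m hm; exact mem_bot.2 (he m (mem_cc.1 hm))
  generalize i % 3 = i' at *
  generalize j % 3 = j' at *
  interval_cases i' <;> interval_cases j'
  · exact absurd (by simp) he1
  · refine absurd (hbot _ fun m hm => hfy2 m ?_) hf
    simpa using hm
  · refine absurd (hbot _ fun m hm => hfy2 m ?_) hf
    have h1 : y₂ (y₂ m) = m := by simpa [pow_two, MulAut.mul_apply] using hm
    exact fix_of_sq t.p₂.odd h1
  · refine absurd (hbot _ fun m hm => hfy1 m ?_) hf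
    simpa using hm
  · left; simp
  · right
    intro m hm
    rw [mem_cc] at hm ⊢
    rw [MulAut.mul_apply, e2]
    simpa [pow_two, MulAut.mul_apply] using hm
  · refine absurd (hbot _ fun m hm => hfy1 m ?_) hf
    have h1 : y₁ (y₁ m) = m := by simpa [pow_two, MulAut.mul_apply] using hm
    exact fix_of_sq t.p₁.odd h1
  · right
    intro m hm
    rw [mem_cc] at hm ⊢
    have h1 : y₁ (y₁ (y₂ m)) = m := by simpa [pow_two, MulAut.mul_apply] using hm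
    rw [MulAut.mul_apply, e2]
    -- `y₁² y₂ m = m`, so `y₁ y₂² m = y₁⁴ y₂² m = m`
    have h2 : y₁ (y₁ (y₂ (y₁ (y₁ (y₂ m))))) = m := by rw [h1, h1]
    simp only [← t.yy'] at h2
    rw [c1] at h2
    exact h2
  · left
    intro m hm
    rw [mem_cc] at hm ⊢
    have h1 : y₁ (y₁ (y₂ (y₂ m))) = m := by simpa [pow_two, MulAut.mul_apply] using hm
    rw [MulAut.mul_apply]
    have h2 : y₁ (y₁ (y₂ (y₂ (y₁ (y₁ (y₂ (y₂ m))))))) = m := by rw [h1, h1]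
    simp only [← t.yy'] at h2
    rw [c1, c2] at h2
    exact h2

/-- An element of odd order permuting two sets fixes them. -/
theorem fix_of_swap {g : MulAut M} (hg : Odd (orderOf g)) {X Y : Subgroup M}
    (h1 : ∀ x ∈ X, g x ∈ Y) (h2 : ∀ y ∈ Y, g y ∈ X) : ∀ x ∈ X, x ∈ Y := by
  obtain ⟨k, hk⟩ := hg
  have h3 : ∀ k : ℕ, ∀ x ∈ X, (g ^ (2 * k)) x ∈ X := by
    intro k
    induction k with
    | zero => intro x hx; simpa using hx
    | succ k ih =>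
      intro x hx
      rw [show 2 * (k + 1) = 2 * k + 1 + 1 by ring, pow_succ, pow_succ, MulAut.mul_apply,
        MulAut.mul_apply]
      exact ih _ (h2 _ (h1 x hx))
  intro x hx
  have h4 := h1 _ (h3 k x hx)
  rw [← MulAut.mul_apply, ← pow_succ', ← hk, pow_orderOf_eq_one] at h4
  exact h4

/-- `N_R(E) = E` -/
theorem mem_E_of_norm [Finite M] (h : Data A M₀ Z) (t : Two A b₁ y₁ b₂ y₂) (hc : cc y₁ = ⊥)
    {R : Subgroup (MulAut M)} (hRodd : Odd (Nat.card R)) (h1R : y₁ ∈ R) (h2R : y₂ ∈ R)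
    {g : MulAut M} (hg : g ∈ R) (hgE : ∀ e ∈ t.E h, g * e * g⁻¹ ∈ t.E h) : g ∈ t.E h := by
  obtain ⟨cp, cq⟩ := t.card_pq h hc
  have hgodd : Odd (orderOf g) := by
    have h2 : orderOf (⟨g, hg⟩ : R) ∣ Nat.card R := orderOf_dvd_natCard _
    rw [Subgroup.orderOf_mk] at h2
    exact hRodd.of_dvd_nat h2
  have c2' : y₂⁻¹ = y₂ ^ 2 := by
    rw [inv_eq_iff_mul_eq_one, ← pow_succ']; exact t.symm.cube h
  have hpE : y₁ * y₂ ∈ t.E h := ⟨1, 1, by simp⟩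
  have hqE : y₁ * y₂⁻¹ ∈ t.E h := ⟨1, 2, by rw [c2', pow_one]⟩
  have hne : ∀ e : MulAut M, Nat.card (cc e) = 4 → e ≠ 1 ∧ cc e ≠ ⊥ := by
    intro e he
    constructor
    · rintro rfl
      have h1 : cc (1 : MulAut M) = ⊤ := by
        rw [eq_top_iff]; intro m _; exact mem_cc.2 rfl
      rw [h1, card_top, t.card_M h hc] at he
      omega
    · intro h1
      rw [h1, card_bot] at he
      omega
  have hcardc : ∀ e : MulAut M, Nat.card (cc (g * e * g⁻¹)) = Nat.card (cc e) := by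
    intro e
    refine Nat.card_congr ⟨fun m => ⟨g⁻¹ m, ?_⟩, fun m => ⟨g m, (cc_conj g e).2 m.2⟩, ?_, ?_⟩
    · rw [← cc_conj g e, apply_inv_apply]; exact m.2
    · intro m; exact Subtype.ext (apply_inv_apply g _)
    · intro m; exact Subtype.ext (inv_apply_apply g _)
  have key : ∀ e ∈ t.E h, Nat.card (cc e) = 4 →
      (∀ m ∈ cc e, g m ∈ cc (y₁ * y₂)) ∨ (∀ m ∈ cc e, g m ∈ cc (y₁ * y₂⁻¹)) := by
    intro e he hce
    obtain ⟨hn1, hn2⟩ := hne (g * e * g⁻¹) (by rw [hcardc, hce])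
    rcases t.cc_of_mem h hc (hgE e he) hn1 hn2 with h1 | h1
    · exact Or.inl fun m hm => h1 ((cc_conj g e).2 hm)
    · exact Or.inr fun m hm => h1 ((cc_conj g e).2 hm)
  have hnle : ¬ cc (y₁ * y₂) ≤ cc (y₁ * y₂⁻¹) := by
    intro hle
    apply (hne _ cp).2
    rw [eq_bot_iff]
    intro m hm
    exact mem_bot.2 (t.inter h hc hm (hle hm))
  have hnle' : ¬ cc (y₁ * y₂⁻¹) ≤ cc (y₁ * y₂) := by
    intro hle
    apply (hne _ cq).2
    rw [eq_bot_iff]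
    intro m hm
    exact mem_bot.2 (t.inter h hc (hle hm) hm)
  have hinjp : ∀ X Y K : Subgroup M, Nat.card X = 4 → Nat.card Y = 4 → Nat.card K = 4 →
      (∀ m ∈ X, g m ∈ K) → (∀ m ∈ Y, g m ∈ K) → X ≤ Y := by
    intro X Y K hX hY hK h1 h2
    have h3 : X.map g.toMonoidHom = K := by
      refine eq_of_le_of_card_ge ?_ ?_
      · rintro _ ⟨x, hx, rfl⟩; exact h1 x hx
      · rw [card_map_of_injective (f := g.toMonoidHom) g.injective, hX, hK]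
    have h4 : Y.map g.toMonoidHom = K := by
      refine eq_of_le_of_card_ge ?_ ?_
      · rintro _ ⟨x, hx, rfl⟩; exact h2 x hx
      · rw [card_map_of_injective (f := g.toMonoidHom) g.injective, hY, hK]
    intro x hx
    have h5 : g x ∈ Y.map g.toMonoidHom := by rw [h4]; exact h1 x hx
    obtain ⟨y, hy, he⟩ := h5
    have : y = x := g.injective he
    rw [← this]; exact hy
  -- `g` preserves both
  have hpres : (∀ m ∈ cc (y₁ * y₂), g m ∈ cc (y₁ * y₂)) ∧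
      (∀ m ∈ cc (y₁ * y₂⁻¹), g m ∈ cc (y₁ * y₂⁻¹)) := by
    rcases key _ hpE cp with h1 | h1 <;> rcases key _ hqE cq with h2 | h2
    · exact absurd (hinjp _ _ _ cp cq cp h1 h2) hnle
    · exact ⟨h1, h2⟩
    · exact absurd (fix_of_swap hgodd h1 h2) hnle
    · exact absurd (hinjp _ _ _ cp cq cq h1 h2) hnle
  obtain ⟨hgp, hgq⟩ := hpres
  have hcpq : ∀ m, (y₁ * y₂) ((y₁ * y₂⁻¹) m) = (y₁ * y₂⁻¹) ((y₁ * y₂) m) := by
    intro m
    have h1 : (y₁ * y₂) * (y₁ * y₂⁻¹) = (y₁ * y₂⁻¹) * (y₁ * y₂) := by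
      have h2 := t.yy
      calc (y₁ * y₂) * (y₁ * y₂⁻¹) = y₁ * (y₂ * y₁) * y₂⁻¹ := by group
        _ = y₁ * (y₁ * y₂) * y₂⁻¹ := by rw [h2]
        _ = y₁ * y₂⁻¹ * (y₂ * y₁) := by group
        _ = _ := by rw [h2]
    rw [← MulAut.mul_apply, h1, MulAut.mul_apply]
  have hqp : ∀ m ∈ cc (y₁ * y₂), (y₁ * y₂⁻¹) m ∈ cc (y₁ * y₂) := fun m hm => by
    rw [mem_cc, hcpq, mem_cc.1 hm]
  have hpq : ∀ m ∈ cc (y₁ * y₂⁻¹), (y₁ * y₂) m ∈ cc (y₁ * y₂⁻¹) := fun m hm => by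
    rw [mem_cc, ← hcpq, mem_cc.1 hm]
  have hpR : y₁ * y₂ ∈ R := mul_mem h1R h2R
  have hqR : y₁ * y₂⁻¹ ∈ R := mul_mem h1R (inv_mem h2R)
  have sq3 : ∀ s : MulAut M, s ^ 3 = 1 → ∀ m, s (s m) = m → s m = m := by
    intro s hs m hm
    have h1 := eval₃ hs m
    rw [hm] at h1
    exact h1
  obtain ⟨l, hl⟩ := exists_pow_of_odd cp h.sq hRodd hqR hg hqp hgp
    (fun m hm he => t.inter h hc hm (mem_cc.2 (sq3 _ (t.q_cube h) m he)))
  obtain ⟨k, hk⟩ := exists_pow_of_odd cq h.sq hRodd hpR hg hpq hgq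
    (fun m hm he => t.inter h hc (mem_cc.2 (sq3 _ (t.p_cube h) m he)) hm)
  have hpow_fix : ∀ (s : MulAut M) (n : ℕ) (m : M), s m = m → (s ^ n) m = m := by
    intro s n m hm
    induction n with
    | zero => simp
    | succ n ih => rw [pow_succ, MulAut.mul_apply, hm]; exact ih
  have hfin : g = (y₁ * y₂) ^ k * (y₁ * y₂⁻¹) ^ l := by
    ext m
    obtain ⟨u, hu, v, hv, e⟩ := t.split' h hc m
    have h1 : ((y₁ * y₂⁻¹) ^ l) u ∈ cc (y₁ * y₂) := by rw [← hl u hu]; exact hgp u hu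
    rw [MulAut.mul_apply, e, map_mul, map_mul, map_mul, hpow_fix _ k _ (mem_cc.1 h1),
      hpow_fix _ l v (mem_cc.1 hv), hl u hu, hk v hv]
  rw [hfin]
  exact mul_mem (pow_mem hpE k) (pow_mem hqE l)

/-- `R = ⟨y₁, y₂⟩` for nilpotent `R` of odd order containing `y₁, y₂`. -/
theorem R_le_E [Finite M] (h : Data A M₀ Z) (t : Two A b₁ y₁ b₂ y₂) (hc : cc y₁ = ⊥)
    {R : Subgroup (MulAut M)} (hR : Group.IsNilpotent R) (hRodd : Odd (Nat.card R)) (h1R : y₁ ∈ R)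
    (h2R : y₂ ∈ R) : R ≤ t.E h := by
  have hER : t.E h ≤ R := by
    rintro _ ⟨i, j, rfl⟩
    exact mul_mem (pow_mem h1R i) (pow_mem h2R j)
  by_contra hcon
  have hlt : (t.E h).subgroupOf R < ⊤ := by
    rw [lt_top_iff_ne_top]
    intro h1
    exact hcon (subgroupOf_eq_top.1 h1)
  have hN := Group.normalizerCondition_of_isNilpotent (G := R) _ hlt
  obtain ⟨g, hg, hgE⟩ := SetLike.exists_of_lt hN
  apply hgE
  rw [mem_subgroupOf]
  refine t.mem_E_of_norm h hc hRodd h1R h2R g.2 ?_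
  intro e he
  have h1 := (mem_normalizer_iff.1 hg ⟨e, hER he⟩).1 (mem_subgroupOf.2 he)
  exact mem_subgroupOf.1 h1

end Two

/-! ### The theorem -/

theorem odd_fitting {Γ : Type*} [Group Γ] [Finite Γ] (hcore : Cfsg.pCore 2 Γ = ⊥) :
    Odd (Nat.card (Cfsg.fittingSubgroup Γ)) := by
  have hf : Fact (Nat.Prime 2) := ⟨Nat.prime_two⟩
  have h1 : Cfsg.fittingSubgroup Γ ≤ Cfsg.pPrimeCore 2 Γ := by
    rw [Cfsg.Agent.Lib.Cores.fittingSubgroup_eq_iSup_pCore]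
    refine iSup_le fun r => ?_
    by_cases hr : (r : ℕ) = 2
    · rw [hr, hcore]; exact bot_le
    · refine Cfsg.Agent.Lib.Cores.le_pPrimeCore (Cfsg.Agent.Lib.Cores.pCore_normal _) ?_
      have hfr : Fact (r : ℕ).Prime := ⟨r.2⟩
      obtain ⟨n, hn⟩ := (Cfsg.Agent.Lib.Cores.pCore_isPGroup (G := Γ) (r : ℕ)).exists_card_eq
      rw [hn]
      exact Nat.Coprime.pow_left n ((Nat.coprime_primes r.2 Nat.prime_two).2 hr)
  have h2 := Cfsg.Agent.Lib.Cores.pPrimeCore_coprime (G := Γ) 2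
  have h3 : (Nat.card (Cfsg.fittingSubgroup Γ)).Coprime 2 :=
    Nat.Coprime.coprime_dvd_left (card_dvd_of_le h1) h2
  exact Nat.coprime_two_right.1 h3

theorem exists_fit {G : Type*} [Group G] [Finite G] {Γ : Subgroup G} (hsol : Group.IsSolvable Γ)
    (hcore : Cfsg.pCore 2 Γ = ⊥) : ∃ R ≤ Γ, Group.IsNilpotent R ∧ Odd (Nat.card R) ∧
      (∀ g ∈ Γ, ∀ r ∈ R, g * r * g⁻¹ ∈ R) ∧ ∀ a ∈ Γ, (∀ r ∈ R, a * r = r * a) → a ∈ R := by
  refine ⟨(Cfsg.fittingSubgroup Γ).map Γ.subtype, map_subtype_le _, ?_, ?_, ?_, ?_⟩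
  · have := Cfsg.Agent.Lib.Cores.fittingSubgroup_isNilpotent (G := Γ)
    exact (Cfsg.Agent.Lib.Cores.isNilpotent_map_equiv (subtype_injective Γ) _).2 this
  · rw [card_map_of_injective (subtype_injective Γ)]
    exact odd_fitting hcore
  · rintro g hg _ ⟨r, hr, rfl⟩
    have hn := Cfsg.Agent.Lib.Cores.fittingSubgroup_normal (G := Γ)
    exact ⟨⟨g, hg⟩ * r * ⟨g, hg⟩⁻¹, hn.conj_mem r hr _, rfl⟩
  · intro a ha hc
    have h1 : (⟨a, ha⟩ : Γ) ∈ centralizer (Cfsg.fittingSubgroup Γ : Set Γ) := by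
      rw [mem_centralizer_iff]
      intro r hr
      apply Subtype.ext
      exact (hc r ⟨r, hr, rfl⟩).symm
    exact ⟨_, Cfsg.Agent.S0044.result h1, rfl⟩

theorem main [Finite M] {Γ A : Subgroup (MulAut M)} {M₀ Z : Subgroup M} (h : Data A M₀ Z)
    (hAΓ : A ≤ Γ) (hsol : Group.IsSolvable Γ) (hcore : Cfsg.pCore 2 Γ = ⊥)
    (hfix : ∀ m, (∀ g ∈ Γ, g m = m) → m = 1) (hZ : Z ≠ ⊥) (hA : A ≠ ⊥)
    (N3 : ∀ σ ∈ A, ∀ t ∈ Γ, ∀ u, u ∉ Z → t u * σ (t u) = u → ∀ e ∈ Z, t e = e → e = 1) :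
    ∃ b₁ y₁ b₂ y₂, Two A b₁ y₁ b₂ y₂ ∧ y₁ ∈ Γ ∧ y₂ ∈ Γ ∧ cc y₁ = ⊥ ∧
      (∀ g ∈ Γ, ∃ i j : ℕ, g * y₁ * g⁻¹ = y₁ ^ i * y₂ ^ j) ∧
      (∀ g ∈ Γ, ∃ i j : ℕ, g * y₂ * g⁻¹ = y₁ ^ i * y₂ ^ j) := by
  have hfin : Finite (MulAut M) := Finite.of_injective (fun σ : MulAut M => (σ : M → M))
    DFunLike.coe_injective
  obtain ⟨R, hRΓ, hRnil, hRodd, hΓR, hRc⟩ := exists_fit hsol hcore
  have hAR : A ≤ normalizer (R : Set (MulAut M)) := by
    intro a ha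
    rw [mem_normalizer_iff]
    intro r
    refine ⟨hΓR a (hAΓ ha) r, fun hr => ?_⟩
    have h1 := hΓR a⁻¹ (inv_mem (hAΓ ha)) _ hr
    have h2 : a⁻¹ * (a * r * a⁻¹) * a⁻¹⁻¹ = r := by group
    rwa [h2] at h1
  have hfaith : ∀ a ∈ A, (∀ r ∈ R, a * r = r * a) → a = 1 := by
    intro a ha hc
    exact Dihedral.eq_one_of_mul_self hRodd (hRc a (hAΓ ha) hc) (h.Asq a ha)
  obtain ⟨n, b, y, hcard, -, hbA, hyR, hpr, hinv, hbfix, hyy, heig⟩ :=
    Dihedral.exists_dihedral A R h.Asq hRnil hRodd hAR hfaith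
  have hPr : ∀ j, Pr A (b j) (y j) := by
    intro j
    refine ⟨hbA j, ?_, ?_, hinv j, fun σ hσ => heig σ hσ j⟩
    · have h2 : orderOf (⟨y j, hyR j⟩ : R) ∣ Nat.card R := orderOf_dvd_natCard _
      rw [Subgroup.orderOf_mk] at h2
      exact hRodd.of_dvd_nat h2
    · intro h1
      have h2 := hpr j
      rw [h1, orderOf_one] at h2
      exact Nat.not_prime_one h2
  rcases Nat.lt_or_ge n 1 with hn | hn
  · exfalso
    apply hA
    have hn0 : n = 0 := by omega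
    rw [hn0, pow_zero] at hcard
    exact Subgroup.card_eq_one.1 hcard
  rcases Nat.lt_or_ge n 2 with hn2 | hn2
  · exfalso
    have hn1 : n = 1 := by omega
    subst hn1
    exact Pr.absurd_of_card_two h (hPr 0) (by rw [hcard, pow_one]) hRnil (hyR 0) hΓR hRΓ hZ hfix N3
  · let i0 : Fin n := ⟨0, by omega⟩
    let i1 : Fin n := ⟨1, by omega⟩
    have h01 : i0 ≠ i1 := by intro h1; simp [i0, i1] at h1
    have hAcomm : ∀ a ∈ A, ∀ c ∈ A, a * c = c * a := by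
      intro a ha c hc
      have h1 := h.Asq _ (mul_mem ha hc)
      have h4 : a⁻¹ = a := inv_eq_of_mul_eq_one_left (h.Asq a ha)
      have h5 : c⁻¹ = c := inv_eq_of_mul_eq_one_left (h.Asq c hc)
      have h6 : (a * c)⁻¹ = a * c := inv_eq_of_mul_eq_one_left h1
      rw [mul_inv_rev, h4, h5] at h6
      exact h6.symm
    have t : Two A (b i0) (y i0) (b i1) (y i1) :=
      ⟨hPr i0, hPr i1, hbfix i0 i1 h01, hbfix i1 i0 h01.symm, hyy i0 i1,
        hAcomm _ (hbA i0) _ (hbA i1)⟩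
    have hcc : cc (y i0) = ⊥ := by
      obtain ⟨u, hu, huZ, hu2⟩ := t.exists_key h
      have h1 := N3 (b i0 * b i1) (mul_mem (hbA i0) (hbA i1)) (y i0 * y i1)
        (mul_mem (hRΓ (hyR i0)) (hRΓ (hyR i1))) u huZ hu2
      rw [eq_bot_iff]
      intro c hc
      refine mem_bot.2 (h1 c (t.cc_le_Z h hc) ?_)
      have h2 := t.cc_le h hc
      rw [MulAut.mul_apply, mem_cc.1 h2, mem_cc.1 hc]
    have hRE := t.R_le_E h hcc hRnil hRodd (hyR i0) (hyR i1)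
    exact ⟨_, _, _, _, t, hRΓ (hyR i0), hRΓ (hyR i1), hcc,
      fun g hg => hRE (hΓR g hg _ (hyR i0)), fun g hg => hRE (hΓR g hg _ (hyR i1))⟩

end Cfsg.Agent.MinSimple.CaseD4
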