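import Mathlib
import Cfsg.Agent.MinSimple.CaseDDefs
import Cfsg.Agent.MinSimple.CaseD4
import Cfsg.Agent.MinSimple.CaseDExists
import Cfsg.Agent.MinSimple.Killing

/-!
# Case (d) of (E1): steps (3) and (4) on the side of `P`

`exists_PD`: the output of steps (3) and (4).
-/

set_option autoImplicit false
set_option linter.style.haveILetI false

namespace Cfsg.Agent.MinSimple.CaseDPD

open Subgroup Cfsg Cfsg.Agent.ZN Cfsg.Agent.MinSimple.CaseDDefs Cfsg.Agent.MinSimple.Killing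

universe u

variable {G : Type u} [Group G]

/-- the action of `N_G(V)` on `V` -/
theorem act_coe {V : Subgroup G} {g : G} (hg : g ∈ normalizer (V : Set G)) (v : V) :
    ((V.normalizerMonoidHom ⟨g, hg⟩ v : V) : G) = g * v * g⁻¹ := rfl

theorem act_eq_one {V : Subgroup G} {g : G} (hg : g ∈ normalizer (V : Set G)) :
    V.normalizerMonoidHom ⟨g, hg⟩ = 1 ↔ g ∈ centralizer (V : Set G) := by
  constructor
  · intro h
    rw [mem_centralizer_iff]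
    intro v hv
    have h1 : g * v * g⁻¹ = v := by
      have h2 := act_coe hg ⟨v, hv⟩
      rw [h] at h2
      exact h2.symm
    calc v * g = g * v * g⁻¹ * g := by rw [h1]
      _ = g * v := by group
  · intro h
    ext v
    rw [act_coe hg v]
    have h1 := mem_centralizer_iff.1 h v v.2
    rw [← h1]
    simp

/-- Hypotheses on the side of `P` for steps (3), (4). -/
structure PH (P V V₀ Z₀ B V' : Subgroup G) : Prop where
  hloc : ∀ U : Subgroup G, IsPGroup 2 U → U ≠ ⊥ → Group.IsSolvable ↥(normalizer (U : Set G))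
  ld : LD V V₀ Z₀ B V'
  cardB : Nat.card B = Nat.card V₀
  solP : Group.IsSolvable P
  PV : P ≤ normalizer (V : Set G)
  BP : B ≤ P
  core : ∀ N : Subgroup G, N ≤ P → P ≤ normalizer (N : Set G) →
    (∀ n ∈ N, ∃ k : ℕ, n ^ 2 ^ k ∈ centralizer (V : Set G)) → N ≤ centralizer (V : Set G)
  CVP : V ⊓ centralizer (P : Set G) = ⊥
  Zne : Z₀ ≠ ⊥
  three : ∀ v ∈ V, v ∉ V₀ → ∀ b ∈ B, ∃ w ∈ ncl (V ⊔ V') (v * b * v⁻¹ * b⁻¹), w * b⁻¹ ∈ Z₀

variable {P V V₀ Z₀ B V' : Subgroup G}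

namespace PH

/-- `Γ`, the image of `P` in `Aut(V)` -/
def Γ (P V : Subgroup G) : Subgroup (MulAut V) :=
  (P.subgroupOf (normalizer (V : Set G))).map V.normalizerMonoidHom

theorem mem_Γ (P V : Subgroup G) {σ : MulAut V} : σ ∈ Γ P V ↔
    ∃ g ∈ P, ∃ hg : g ∈ normalizer (V : Set G), V.normalizerMonoidHom ⟨g, hg⟩ = σ := by
  constructor
  · rintro ⟨⟨g, hg⟩, hgP, rfl⟩
    exact ⟨g, mem_subgroupOf.1 hgP, hg, rfl⟩
  · rintro ⟨g, hgP, hg, rfl⟩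
    exact ⟨⟨g, hg⟩, mem_subgroupOf.2 hgP, rfl⟩

/-- the action as a homomorphism `P → Γ` -/
def ah (hPV : P ≤ normalizer (V : Set G)) : P →* Γ P V where
  toFun p := ⟨V.normalizerMonoidHom ⟨p, hPV p.2⟩, (mem_Γ P V).2 ⟨p, p.2, hPV p.2, rfl⟩⟩
  map_one' := Subtype.ext (map_one V.normalizerMonoidHom)
  map_mul' a b := Subtype.ext (map_mul V.normalizerMonoidHom ⟨a, hPV a.2⟩ ⟨b, hPV b.2⟩)

theorem ah_surj (hPV : P ≤ normalizer (V : Set G)) : Function.Surjective (ah hPV) := by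
  rintro ⟨σ, hσ⟩
  obtain ⟨g, hgP, hg, rfl⟩ := (mem_Γ P V).1 hσ
  exact ⟨⟨g, hgP⟩, rfl⟩

theorem ah_coe (hPV : P ≤ normalizer (V : Set G)) (p : P) (v : V) :
    (((ah hPV p : Γ P V) : MulAut V) v : G) = p * v * (p : G)⁻¹ := rfl

theorem ah_eq_one (hPV : P ≤ normalizer (V : Set G)) (p : P) :
    ah hPV p = 1 ↔ (p : G) ∈ centralizer (V : Set G) := by
  rw [← act_eq_one (hPV p.2), Subtype.ext_iff]
  rfl

theorem sol_Γ (hP : Group.IsSolvable P) (hPV : P ≤ normalizer (V : Set G)) :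
    Group.IsSolvable (Γ P V) :=
  Group.isSolvable_of_surjective (ah_surj hPV)

theorem core_Γ (hPV : P ≤ normalizer (V : Set G))
    (core : ∀ N : Subgroup G, N ≤ P → P ≤ normalizer (N : Set G) →
      (∀ n ∈ N, ∃ k : ℕ, n ^ 2 ^ k ∈ centralizer (V : Set G)) → N ≤ centralizer (V : Set G)) :
    Cfsg.pCore 2 (Γ P V) = ⊥ := by
  have hn := Cfsg.Agent.Lib.Cores.pCore_normal (G := Γ P V) 2
  have hp := Cfsg.Agent.Lib.Cores.pCore_isPGroup (G := Γ P V) 2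
  -- the preimage `N`
  have hnc : ((Cfsg.pCore 2 (Γ P V)).comap (ah hPV)).Normal := hn.comap _
  have hN := core (((Cfsg.pCore 2 (Γ P V)).comap (ah hPV)).map P.subtype) (map_subtype_le _)
    (VModule.le_normalizer_map_of_normal hnc) ?_
  · rw [eq_bot_iff]
    intro σ h1
    obtain ⟨g, rfl⟩ := ah_surj hPV σ
    have h2 : (g : G) ∈ ((Cfsg.pCore 2 (Γ P V)).comap (ah hPV)).map P.subtype := ⟨g, h1, rfl⟩
    rw [mem_bot, ah_eq_one]
    exact hN h2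
  · rintro _ ⟨n, hn', rfl⟩
    obtain ⟨k, hk⟩ := hp ⟨_, mem_comap.1 hn'⟩
    refine ⟨k, ?_⟩
    have h1 : (ah hPV n) ^ 2 ^ k = 1 :=
      congrArg (fun t : Cfsg.pCore 2 (Γ P V) => (t : Γ P V)) hk
    rw [← map_pow, ah_eq_one] at h1
    exact h1

end PH

/-! ### The data for `CaseD4` -/

section Data

variable {V V₀ Z₀ B V' : Subgroup G}

theorem B_le_normalizer (h : LD V V₀ Z₀ B V') : B ≤ normalizer (V : Set G) := by
  have h1 : ∀ b ∈ B, ∀ v ∈ V, b * v * b⁻¹ ∈ V := by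
    intro b hb v hv
    have h2 := h.V₀_le (h.nrm v hv b hb)
    have h3 : b * v * b⁻¹ = (v⁻¹ * (v * b * v⁻¹ * b⁻¹))⁻¹ := by group
    rw [h3]
    exact V.inv_mem (V.mul_mem (V.inv_mem hv) h2)
  intro b hb
  rw [mem_normalizer_iff]
  intro v
  refine ⟨h1 b hb v, fun h2 => ?_⟩
  have h3 := h1 b⁻¹ (B.inv_mem hb) _ h2
  have h4 : b⁻¹ * (b * v * b⁻¹) * b⁻¹⁻¹ = v := by group
  rwa [h4] at h3

theorem invV (h : LD V V₀ Z₀ B V') {v : G} (hv : v ∈ V) : v⁻¹ = v :=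
  inv_eq_of_mul_eq_one_left (h.Vsq v hv)

theorem invV' (h : LD V V₀ Z₀ B V') {v : G} (hv : v ∈ V') : v⁻¹ = v :=
  inv_eq_of_mul_eq_one_left (h.V'sq v hv)

/-- `v (b v b⁻¹) = [v, b]` -/
theorem comm_eq (h : LD V V₀ Z₀ B V') {v b : G} (hv : v ∈ V) :
    v * (b * v * b⁻¹) = v * b * v⁻¹ * b⁻¹ := by
  rw [invV h hv]; group

theorem comm_mem_Z₀ (h : LD V V₀ Z₀ B V') {v b : G} (hv : v ∈ V₀) (hb : b ∈ B) :
    v * b * v⁻¹ * b⁻¹ ∈ Z₀ := by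
  rw [← h.inf_eq]
  exact ⟨h.V₀_le (h.nrm v (h.V₀_le hv) b hb), h.B_le (h.nrm' v hv b (h.B_le hb))⟩

theorem Z₀_comm (h : LD V V₀ Z₀ B V') {z b : G} (hz : z ∈ Z₀) (hb : b ∈ B) : b * z * b⁻¹ = z := by
  rw [← h.inf_eq] at hz
  rw [h.V'comm b (h.B_le hb) z hz.2]; group

theorem mem_Z₀_of_cent (h : LD V V₀ Z₀ B V') {b : G} (hb : b ∈ B)
    (hc : b ∈ centralizer (V : Set G)) : b ∈ Z₀ := by
  obtain ⟨v, hv, hv0⟩ : ∃ v ∈ V, v ∉ V₀ := by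
    by_contra hcon
    push Not at hcon
    have h1 := relIndex_eq_one.2 (show V ≤ V₀ from hcon)
    rw [h.idx] at h1
    omega
  refine h.inj v hv hv0 b hb ?_
  have h1 : v * b * v⁻¹ * b⁻¹ = 1 := by
    rw [mem_centralizer_iff.1 hc v hv]; group
  rw [h1]; exact one_mem _

theorem cent_of_mem_Z₀ (h : LD V V₀ Z₀ B V') {b : G} (hb : b ∈ Z₀) :
    b ∈ centralizer (V : Set G) := by
  rw [← h.inf_eq] at hb
  exact mem_centralizer_iff.2 fun v hv => h.Vcomm v hv b hb.1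

/-- the commutative group structure of `V` -/
@[reducible] def cg {V : Subgroup G} (hV : ∀ v ∈ V, ∀ w ∈ V, v * w = w * v) : CommGroup V :=
  { (inferInstance : Group V) with
    mul_comm := fun a b => Subtype.ext (hV a a.2 b b.2) }

theorem card_A [Finite G] (h : LD V V₀ Z₀ B V') (hB : Nat.card B = Nat.card V₀) :
    Nat.card V₀ = Nat.card Z₀ * Nat.card (PH.Γ B V) := by
  have h1 : Nat.card (PH.Γ B V) * Nat.card (PH.ah (B_le_normalizer h)).ker = Nat.card B := by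
    have h2 := Subgroup.card_mul_index (PH.ah (B_le_normalizer h)).ker
    rw [Subgroup.index_ker, MonoidHom.range_eq_top.2 (PH.ah_surj _), card_top] at h2
    rw [← h2, mul_comm]
  have h2 : Nat.card (PH.ah (B_le_normalizer h)).ker = Nat.card Z₀ := by
    refine Nat.card_congr ⟨fun b => ⟨b.1, ?_⟩, fun z => ⟨⟨z, h.Z₀_leB z.2⟩, ?_⟩, fun _ => rfl,
      fun _ => rfl⟩
    · exact mem_Z₀_of_cent h b.1.2 ((PH.ah_eq_one _ _).1 (MonoidHom.mem_ker.1 b.2))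
    · exact MonoidHom.mem_ker.2 ((PH.ah_eq_one _ _).2 (cent_of_mem_Z₀ h z.2))
  rw [← hB, ← h1, h2, mul_comm]

theorem data [Finite G] (h : LD V V₀ Z₀ B V') (hB : Nat.card B = Nat.card V₀) :
    letI := cg h.Vcomm
    CaseD4.Data (PH.Γ B V) (V₀.subgroupOf V) (Z₀.subgroupOf V) := by
  letI := cg h.Vcomm
  have hZV : Z₀ ≤ V := h.Z₀_le.trans h.V₀_le
  refine ⟨fun m => Subtype.ext (h.Vsq m m.2), ?_, h.idx, ?_, ?_, ?_, ?_, ?_, ?_⟩
  · intro σ hσ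
    obtain ⟨b, hb, hbN, rfl⟩ := (PH.mem_Γ B V).1 hσ
    rw [← map_mul]
    have h1 : (⟨b, hbN⟩ : normalizer (V : Set G)) * ⟨b, hbN⟩ = 1 :=
      Subtype.ext (h.V'sq b (h.B_le hb))
    rw [h1, map_one]
  · intro z hz
    exact h.Z₀_le hz
  · intro σ hσ z hz
    obtain ⟨b, hb, hbN, rfl⟩ := (PH.mem_Γ B V).1 hσ
    exact Subtype.ext (Z₀_comm h hz hb)
  · intro σ hσ m hm
    obtain ⟨b, hb, hbN, rfl⟩ := (PH.mem_Γ B V).1 hσ
    rw [mem_subgroupOf]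
    change (m : G) * (b * m * b⁻¹) ∈ Z₀
    rw [comm_eq h m.2]
    exact comm_mem_Z₀ h hm hb
  · intro σ hσ m
    obtain ⟨b, hb, hbN, rfl⟩ := (PH.mem_Γ B V).1 hσ
    rw [mem_subgroupOf]
    change (m : G) * (b * m * b⁻¹) ∈ V₀
    rw [comm_eq h m.2]
    exact h.nrm m m.2 b hb
  · intro σ hσ m hm h1
    obtain ⟨b, hb, hbN, rfl⟩ := (PH.mem_Γ B V).1 hσ
    rw [mem_subgroupOf] at h1
    change (m : G) * (b * m * b⁻¹) ∈ Z₀ at h1
    rw [comm_eq h m.2] at h1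
    rw [act_eq_one]
    exact cent_of_mem_Z₀ h (h.inj m m.2 hm b hb h1)
  · have h1 : Nat.card (V₀.subgroupOf V) = Nat.card V₀ :=
      Nat.card_congr (subgroupOfEquivOfLe h.V₀_le).toEquiv
    have h2 : Nat.card (Z₀.subgroupOf V) = Nat.card Z₀ :=
      Nat.card_congr (subgroupOfEquivOfLe hZV).toEquiv
    rw [h1, h2]
    exact card_A h hB

end Data

/-! ### Step (3) -/

theorem notMem_V₀_of (h : LD V V₀ Z₀ B V') {v b : G} (hb : b ∈ B)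
    (hz : v * b * v⁻¹ * b⁻¹ ∉ Z₀) : v ∉ V₀ := fun h1 => hz (comm_mem_Z₀ h h1 hb)

/-- **(3)** -/
theorem eq_one_of_three (h : PH P V V₀ Z₀ B V') {b g u e : G} (hb : b ∈ B) (hg : g ∈ P)
    (hu : u ∈ V) (huZ : u ∉ Z₀)
    (hbu : (g * u * g⁻¹) * b * (g * u * g⁻¹)⁻¹ * b⁻¹ = u) (he : e ∈ Z₀)
    (hge : g * e * g⁻¹ = e) : e = 1 := by
  by_contra he1
  have hL := h.ld
  obtain ⟨a₁, ha₁⟩ : ∃ a₁, a₁ = g * u * g⁻¹ := ⟨_, rfl⟩
  have ha₁V : a₁ ∈ V := ha₁ ▸ (mem_normalizer_iff.1 (h.PV hg) u).1 hu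
  rw [← ha₁] at hbu
  have ha₁0 : a₁ ∉ V₀ := notMem_V₀_of hL hb (by rw [hbu]; exact huZ)
  obtain ⟨w, hw, hwb⟩ := h.three a₁ ha₁V ha₁0 b hb
  rw [hbu] at hw
  have hZV : Z₀ ≤ V := hL.Z₀_le.trans hL.V₀_le
  have huw : u = a₁ * w * a₁⁻¹ * w⁻¹ := by
    have h1 : w = (w * b⁻¹) * b := by group
    have h2 := hL.Vcomm a₁ ha₁V _ (hZV hwb)
    have h3 := hL.Vcomm u hu _ (hZV hwb)
    rw [h1]
    generalize w * b⁻¹ = z at h2 h3
    calc u = u * z * z⁻¹ := by group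
      _ = z * u * z⁻¹ := by rw [h3]
      _ = z * (a₁ * b * a₁⁻¹ * b⁻¹) * z⁻¹ := by rw [hbu]
      _ = (z * a₁) * b * a₁⁻¹ * b⁻¹ * z⁻¹ := by group
      _ = (a₁ * z) * b * a₁⁻¹ * b⁻¹ * z⁻¹ := by rw [h2]
      _ = _ := by group
  have hu1 : u ≠ 1 := fun h1 => huZ (h1 ▸ one_mem _)
  have heV : e ∈ V := hZV he
  have hee : e * e = 1 := hL.Vsq e heV
  have ho : orderOf e = 2 := orderOf_eq_prime (by rw [pow_two]; exact hee) he1
  have heC : ∀ v ∈ V, v ∈ centralizer ({e} : Set G) := fun v hv => by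
    rw [mem_centralizer_singleton_iff]; exact hL.Vcomm v hv e heV
  have heC' : ∀ v ∈ V', v ∈ centralizer ({e} : Set G) := fun v hv => by
    rw [mem_centralizer_singleton_iff]
    rw [← hL.inf_eq] at he
    exact hL.V'comm v hv e he.2
  have hgC : g ∈ centralizer ({e} : Set G) := by
    rw [mem_centralizer_singleton_iff]
    calc g * e = g * e * g⁻¹ * g := by group
      _ = e * g := by rw [hge]
  refine killing_centralizer h.hloc (X := zpowers g ⊔ V) (Y := V ⊔ V') (v := u)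
    (mem_sup_right hu) hu1 le_rfl le_rfl ?_ ho ?_ ?_
  · have h1 : a₁ ∈ ncl (zpowers g ⊔ V) u := by
      rw [ha₁]
      exact conj_mem_ncl (mem_sup_left (mem_zpowers g))
    have h2 := commutator_mem_commutator h1 hw
    rw [commutatorElement_def, ← huw] at h2
    exact h2
  · refine sup_le ?_ heC
    rw [zpowers_le]; exact hgC
  · exact sup_le heC heC'

/-! ### The theorem -/

theorem inv_word {K : Type*} [Group K] {t₁ t₂ : K} (hc : t₁ * t₂ = t₂ * t₁) (h1 : t₁ ^ 3 = 1)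
    (h2 : t₂ ^ 3 = 1) (i j : ℕ) : t₁ ^ i * t₂ ^ j * (t₁ ^ (2 * i) * t₂ ^ (2 * j)) = 1 := by
  have hcm : Commute t₁ t₂ := hc
  have h3 : t₂ ^ j * t₁ ^ (2 * i) = t₁ ^ (2 * i) * t₂ ^ j := ((hcm.pow_pow (2 * i) j).symm).eq
  calc t₁ ^ i * t₂ ^ j * (t₁ ^ (2 * i) * t₂ ^ (2 * j))
      = t₁ ^ i * (t₂ ^ j * t₁ ^ (2 * i)) * t₂ ^ (2 * j) := by group
    _ = t₁ ^ i * (t₁ ^ (2 * i) * t₂ ^ j) * t₂ ^ (2 * j) := by rw [h3]
    _ = t₁ ^ (i + 2 * i) * t₂ ^ (j + 2 * j) := by rw [pow_add, pow_add]; group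
    _ = (t₁ ^ 3) ^ i * (t₂ ^ 3) ^ j := by
        rw [← pow_mul, ← pow_mul, show i + 2 * i = 3 * i by ring, show j + 2 * j = 3 * j by ring]
    _ = 1 := by rw [h1, h2, one_pow, one_pow, one_mul]

theorem ph_main [Finite G] (h : PH P V V₀ Z₀ B V') :
    letI := cg h.ld.Vcomm
    ∃ b₁ y₁ b₂ y₂, CaseD4.Two (PH.Γ B V) b₁ y₁ b₂ y₂ ∧ y₁ ∈ PH.Γ P V ∧ y₂ ∈ PH.Γ P V ∧
      CaseD4.cc y₁ = ⊥ ∧
      (∀ g ∈ PH.Γ P V, ∃ i j : ℕ, g * y₁ * g⁻¹ = y₁ ^ i * y₂ ^ j) ∧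
      (∀ g ∈ PH.Γ P V, ∃ i j : ℕ, g * y₂ * g⁻¹ = y₁ ^ i * y₂ ^ j) := by
  have hL := h.ld
  letI := cg hL.Vcomm
  have hd := data hL h.cardB
  have hZV : Z₀ ≤ V := hL.Z₀_le.trans hL.V₀_le
  have hBN := B_le_normalizer hL
  refine CaseD4.main (Γ := PH.Γ P V) hd
    (map_mono (subgroupOf_mono _ h.BP)) (PH.sol_Γ h.solP h.PV) (PH.core_Γ h.PV h.core)
    ?_ ?_ ?_ ?_
  · -- `C_V(P) = 1`
    intro m hm
    have h1 : (m : G) ∈ V ⊓ centralizer (P : Set G) := by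
      refine ⟨m.2, mem_centralizer_iff.2 fun g hg => ?_⟩
      have h2 := congrArg Subtype.val (hm _ ((PH.mem_Γ P V).2 ⟨g, hg, h.PV hg, rfl⟩))
      rw [act_coe] at h2
      calc g * m = g * m * g⁻¹ * g := by group
        _ = m * g := by rw [h2]
    rw [h.CVP, mem_bot] at h1
    exact Subtype.ext h1
  · intro h1
    apply h.Zne
    rw [eq_bot_iff]
    intro z hz
    have h2 : (⟨z, hZV hz⟩ : V) ∈ Z₀.subgroupOf V := hz
    rw [h1, mem_bot] at h2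
    exact mem_bot.2 (congrArg Subtype.val h2)
  · intro h1
    apply hL.ne
    intro b hb
    apply mem_Z₀_of_cent hL hb
    rw [← act_eq_one (hBN hb)]
    have h2 : V.normalizerMonoidHom ⟨b, hBN hb⟩ ∈ PH.Γ B V := (PH.mem_Γ B V).2 ⟨b, hb, hBN hb, rfl⟩
    rw [h1] at h2
    exact mem_bot.1 h2
  · intro σ hσ τ hτ u hu he e heZ hte
    obtain ⟨b, hb, hbN, rfl⟩ := (PH.mem_Γ B V).1 hσ
    obtain ⟨g, hgP, hgN, rfl⟩ := (PH.mem_Γ P V).1 hτ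
    apply Subtype.ext
    refine eq_one_of_three h hb hgP u.2 hu ?_ heZ (congrArg Subtype.val hte)
    have h1 := congrArg Subtype.val he
    have h2 : (g * u * g⁻¹) * (b * (g * u * g⁻¹) * b⁻¹) = (u : G) := h1
    rw [← comm_eq hL ((mem_normalizer_iff.1 hgN u).1 u.2)]
    exact h2

theorem exists_PD [Finite G] (h : PH P V V₀ Z₀ B V') :
    ∃ z b c y₁ y₂, PD P V V₀ Z₀ B z b c y₁ y₂ := by
  have hL := h.ld
  letI := cg hL.Vcomm
  have hd := data hL h.cardB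
  have hZV : Z₀ ≤ V := hL.Z₀_le.trans hL.V₀_le
  have hBN := B_le_normalizer hL
  have hmain := ph_main h
  obtain ⟨σ₁, τ₁, σ₂, τ₂, t, hτ₁, hτ₂, hcc, hn₁, hn₂⟩ := hmain
  obtain ⟨b, hb, hbN, hσ₁⟩ := (PH.mem_Γ B V).1 t.p₁.bA
  obtain ⟨c, hc, hcN, hσ₂⟩ := (PH.mem_Γ B V).1 t.p₂.bA
  obtain ⟨y₁, hy₁, hy₁N, hy₁'⟩ := (PH.mem_Γ P V).1 hτ₁
  obtain ⟨y₂, hy₂, hy₂N, hy₂'⟩ := (PH.mem_Γ P V).1 hτ₂
  have hww : CaseD4.ww τ₁ = ⊤ := t.ww_top hd hcc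
  have hcardZ : Nat.card Z₀ = 2 := by
    have h1 := t.card_Z hd
    rw [hww, inf_top_eq] at h1
    rw [← h1]
    exact (Nat.card_congr (subgroupOfEquivOfLe hZV).toEquiv).symm
  have hcardA : Nat.card (PH.Γ B V) = 4 := t.card_A hd
  have hcardV₀ : Nat.card V₀ = 8 := by rw [card_A hL h.cardB, hcardZ, hcardA]
  obtain ⟨z, hz1, hz⟩ : ∃ z, z ≠ 1 ∧ ∀ g : G, g ∈ Z₀ ↔ g = 1 ∨ g = z := by
    obtain ⟨⟨z, hz⟩, hz1, hzu⟩ := (Nat.card_eq_two_iff' (1 : Z₀)).1 hcardZ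
    refine ⟨z, fun h1 => hz1 (Subtype.ext h1), fun g => ⟨fun hg => ?_, ?_⟩⟩
    · by_cases hg1 : g = 1
      · exact Or.inl hg1
      · exact Or.inr (congrArg Subtype.val (hzu ⟨g, hg⟩ fun h1 => hg1 (congrArg Subtype.val h1)))
    · rintro (rfl | rfl)
      · exact one_mem _
      · exact hz
  have hcc₂ : CaseD4.cc τ₂ = ⊥ := by rw [← t.cc_eq hd]; exact hcc
  -- membership in the centralizer
  have hker : ∀ g ∈ B, ∀ g' ∈ B, ∀ (h1 : g ∈ normalizer (V : Set G))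
      (h2 : g' ∈ normalizer (V : Set G)),
      V.normalizerMonoidHom ⟨g, h1⟩ = V.normalizerMonoidHom ⟨g', h2⟩ → ∃ e ∈ Z₀, g = e * g' := by
    intro g hg g' hg' h1 h2 he
    refine ⟨g * g'⁻¹, mem_Z₀_of_cent hL (B.mul_mem hg (B.inv_mem hg')) ?_, by group⟩
    rw [← act_eq_one (mul_mem h1 (inv_mem h2))]
    have h3 : V.normalizerMonoidHom (⟨g, h1⟩ * ⟨g', h2⟩⁻¹) = 1 := by
      rw [map_mul, map_inv, he, mul_inv_cancel]
    exact h3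
  refine ⟨z, b, c, y₁, y₂, ⟨t.card_M hd hcc, hcardV₀, h.cardB.trans hcardV₀, hz1, hz, hb, hc,
    ?_, hy₁, hy₂, ?_, ?_, ?_, ?_, ?_, ?_, ?_, ?_, ?_, ?_, ?_, ?_, ?_⟩⟩
  · -- `B_eq`
    intro g hg
    have hgN := hBN hg
    have hgA : V.normalizerMonoidHom ⟨g, hgN⟩ ∈ PH.Γ B V := (PH.mem_Γ B V).2 ⟨g, hg, hgN, rfl⟩
    have hsq : ∀ σ ∈ PH.Γ B V, σ ^ 2 = 1 := fun σ hσ => by
      rw [pow_two]; exact hd.Asq σ hσ
    rcases PlaneAct.mem_cases hcardA hsq t.p₁.bA t.p₂.bA t.p₁.b_ne t.p₂.b_ne t.b_ne_b _ hgA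
      with h1 | h1 | h1 | h1
    · exact ⟨g, mem_Z₀_of_cent hL hg ((act_eq_one hgN).1 h1), Or.inl rfl⟩
    · rw [← hσ₁] at h1
      obtain ⟨e, he, he'⟩ := hker g hg b hb _ _ h1
      exact ⟨e, he, Or.inr (Or.inl he')⟩
    · rw [← hσ₂] at h1
      obtain ⟨e, he, he'⟩ := hker g hg c hc _ _ h1
      exact ⟨e, he, Or.inr (Or.inr (Or.inl he'))⟩
    · rw [← hσ₁, ← hσ₂, ← map_mul] at h1
      obtain ⟨e, he, he'⟩ := hker g hg (b * c) (B.mul_mem hb hc) _ (mul_mem hbN hcN) h1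
      exact ⟨e, he, Or.inr (Or.inr (Or.inr he'))⟩
  · -- `fpf₁`
    intro v hv he
    have h1 : (⟨v, hv⟩ : V) ∈ CaseD4.cc τ₁ := by
      rw [CaseD4.mem_cc, ← hy₁']
      exact Subtype.ext he
    rw [hcc, mem_bot] at h1
    exact congrArg Subtype.val h1
  · intro v hv he
    have h1 : (⟨v, hv⟩ : V) ∈ CaseD4.cc τ₂ := by
      rw [CaseD4.mem_cc, ← hy₂']
      exact Subtype.ext he
    rw [hcc₂, mem_bot] at h1
    exact congrArg Subtype.val h1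
  · rw [← act_eq_one (pow_mem hy₁N 3)]
    have h1 : V.normalizerMonoidHom (⟨y₁, hy₁N⟩ ^ 3) = 1 := by
      rw [map_pow, hy₁']; exact t.cube hd
    exact h1
  · rw [← act_eq_one (pow_mem hy₂N 3)]
    have h1 : V.normalizerMonoidHom (⟨y₂, hy₂N⟩ ^ 3) = 1 := by
      rw [map_pow, hy₂']; exact t.symm.cube hd
    exact h1
  · rw [← act_eq_one (mul_mem (mul_mem (mul_mem hy₁N hy₂N) (inv_mem hy₁N)) (inv_mem hy₂N))]
    have h1 : V.normalizerMonoidHom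
        (⟨y₁, hy₁N⟩ * ⟨y₂, hy₂N⟩ * ⟨y₁, hy₁N⟩⁻¹ * ⟨y₂, hy₂N⟩⁻¹) = 1 := by
      rw [map_mul, map_mul, map_mul, map_inv, map_inv, hy₁', hy₂', t.yy]
      group
    exact h1
  · rw [← act_eq_one (mul_mem (mul_mem (mul_mem hbN hy₁N) (inv_mem hbN)) hy₁N)]
    have h1 : V.normalizerMonoidHom
        (⟨b, hbN⟩ * ⟨y₁, hy₁N⟩ * ⟨b, hbN⟩⁻¹ * ⟨y₁, hy₁N⟩) = 1 := by
      rw [map_mul, map_mul, map_mul, map_inv, hy₁', hσ₁, t.p₁.inv]
      group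
    exact h1
  · rw [← act_eq_one (mul_mem (mul_mem (mul_mem hbN hy₂N) (inv_mem hbN)) (inv_mem hy₂N))]
    have h1 : V.normalizerMonoidHom
        (⟨b, hbN⟩ * ⟨y₂, hy₂N⟩ * ⟨b, hbN⟩⁻¹ * ⟨y₂, hy₂N⟩⁻¹) = 1 := by
      rw [map_mul, map_mul, map_mul, map_inv, map_inv, hy₂', hσ₁, t.c₁₂]
      group
    exact h1
  · rw [← act_eq_one (mul_mem (mul_mem (mul_mem hcN hy₁N) (inv_mem hcN)) (inv_mem hy₁N))]
    have h1 : V.normalizerMonoidHom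
        (⟨c, hcN⟩ * ⟨y₁, hy₁N⟩ * ⟨c, hcN⟩⁻¹ * ⟨y₁, hy₁N⟩⁻¹) = 1 := by
      rw [map_mul, map_mul, map_mul, map_inv, map_inv, hy₁', hσ₂, t.c₂₁]
      group
    exact h1
  · rw [← act_eq_one (mul_mem (mul_mem (mul_mem hcN hy₂N) (inv_mem hcN)) hy₂N)]
    have h1 : V.normalizerMonoidHom
        (⟨c, hcN⟩ * ⟨y₂, hy₂N⟩ * ⟨c, hcN⟩⁻¹ * ⟨y₂, hy₂N⟩) = 1 := by
      rw [map_mul, map_mul, map_mul, map_inv, hy₂', hσ₂, t.p₂.inv]
      group
    exact h1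
  · -- `Cb`
    intro v hv hv0 u hu hbu
    have h1 : (⟨u, hu⟩ : V) ∈ CaseD4.fx (CaseD4.ww τ₁) σ₁ := by
      refine ⟨hww ▸ mem_top _, ?_⟩
      rw [← hσ₁]; exact Subtype.ext hbu
    obtain ⟨e, he, -, he' | he'⟩ := (t.p₁.mem_fx_ww_iff hd (a := ⟨v, hv⟩) (hww ▸ mem_top _)
      (fun h2 => hv0 h2)).1 h1
    · left
      have h3 : (e : G) = u := (congrArg Subtype.val he').symm
      rw [← h3]; exact he
    · right
      refine ⟨e, he, ?_⟩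
      have h3 : u = v * (b * v * b⁻¹) * e := by
        rw [← hσ₁] at he'
        exact congrArg Subtype.val he'
      rw [h3, comm_eq hL hv]
  · intro v hv hv0 u hu hbu
    have h1 : (⟨u, hu⟩ : V) ∈ CaseD4.fx (CaseD4.ww τ₂) σ₂ := by
      refine ⟨t.ww_eq hd ▸ hww ▸ mem_top _, ?_⟩
      rw [← hσ₂]; exact Subtype.ext hbu
    obtain ⟨e, he, -, he' | he'⟩ := (t.p₂.mem_fx_ww_iff hd (a := ⟨v, hv⟩)
      (t.ww_eq hd ▸ hww ▸ mem_top _) (fun h2 => hv0 h2)).1 h1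
    · left
      have h3 : (e : G) = u := (congrArg Subtype.val he').symm
      rw [← h3]; exact he
    · right
      refine ⟨e, he, ?_⟩
      have h3 : u = v * (c * v * c⁻¹) * e := by
        rw [← hσ₂] at he'
        exact congrArg Subtype.val he'
      rw [h3, comm_eq hL hv]
  · intro g hg
    have hgN := h.PV hg
    obtain ⟨i, j, hij⟩ := hn₁ _ ((PH.mem_Γ P V).2 ⟨g, hg, hgN, rfl⟩)
    refine ⟨2 * i, 2 * j, ?_⟩
    rw [← act_eq_one (mul_mem (mul_mem (mul_mem hgN hy₁N) (inv_mem hgN))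
      (mul_mem (pow_mem hy₁N _) (pow_mem hy₂N _)))]
    have h1 : V.normalizerMonoidHom
        (⟨g, hgN⟩ * ⟨y₁, hy₁N⟩ * ⟨g, hgN⟩⁻¹ * (⟨y₁, hy₁N⟩ ^ (2 * i) * ⟨y₂, hy₂N⟩ ^ (2 * j))) = 1 := by
      rw [map_mul, map_mul, map_mul, map_mul, map_inv, map_pow, map_pow, hy₁', hy₂', hij]
      exact inv_word t.yy (t.cube hd) (t.symm.cube hd) i j
    exact h1
  · intro g hg
    have hgN := h.PV hg
    obtain ⟨i, j, hij⟩ := hn₂ _ ((PH.mem_Γ P V).2 ⟨g, hg, hgN, rfl⟩)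
    refine ⟨2 * i, 2 * j, ?_⟩
    rw [← act_eq_one (mul_mem (mul_mem (mul_mem hgN hy₂N) (inv_mem hgN))
      (mul_mem (pow_mem hy₁N _) (pow_mem hy₂N _)))]
    have h1 : V.normalizerMonoidHom
        (⟨g, hgN⟩ * ⟨y₂, hy₂N⟩ * ⟨g, hgN⟩⁻¹ * (⟨y₁, hy₁N⟩ ^ (2 * i) * ⟨y₂, hy₂N⟩ ^ (2 * j))) = 1 := by
      rw [map_mul, map_mul, map_mul, map_mul, map_inv, map_pow, map_pow, hy₁', hy₂', hij]
      exact inv_word t.yy (t.cube hd) (t.symm.cube hd) i j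
    exact h1

/-! ### Application -/

section Application

open CaseDBase CaseDHyp

variable {S P₂ : Subgroup G} {a x : G} {r : ℕ}

theorem ctx_PH [Finite G] (h : CaseDDefs.Ctx S P P₂ V) (hX : XD P₂ V V₀ a x r) (hm : x ∈ ll V x) :
    PH P V V₀ (V ⊓ cj V x) (cj V₀ x) (cj V x) := by
  have hH := CaseDExists.ctx_hyp h hX hm
  have hL := CaseDExists.ctx_LD h hX hm
  refine ⟨h.hloc, hL, card_map_of_injective (MulAut.conj x).injective, h.solP, h.PV, ?_, h.core,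
    h.CVP, ?_, ?_⟩
  · refine hH.B_le_sup.trans (sup_le (h.VS.trans h.SP) ?_)
    exact (VModule.o2_le_of_sylow h.S2 h.sylP₂).trans h.SP
  · intro h1
    apply h.Zne
    rw [eq_bot_iff, ← h1]
    intro z hz
    refine ⟨h.ZV hz, mem_cj.2 ?_⟩
    have h2 := mem_centralizer_iff.1 (h.Z₂ hX.xP₂) z hz
    have h3 : x⁻¹ * z * x = z := by
      rw [mul_assoc, h2]; group
    rw [h3]
    exact h.ZV hz
  · intro v hv hv0 b hb
    exact (hH.change hv hv0).exists_ncl hb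

/-- **Steps (3) and (4).** -/
theorem exists_PD_ctx [Finite G] (h : CaseDDefs.Ctx S P P₂ V) (hX : XD P₂ V V₀ a x r) (hm : x ∈ ll V x) :
    ∃ z b c y₁ y₂, PD P V V₀ (V ⊓ cj V x) (cj V₀ x) z b c y₁ y₂ :=
  exists_PD (ctx_PH h hX hm)

end Application

end Cfsg.Agent.MinSimple.CaseDPD
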