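import Mathlib
import Cfsg.Agent.MinSimple.CaseDPD
import Cfsg.Agent.MinSimple.Basic
import Cfsg.Agent.MinSimple.CaseDGlue

/-!
# Case (d) of (E1): the end of (5b)

The group `P` permutes the two four-groups `C_V(y₁ y₂)` and `C_V(y₁ y₂⁻¹)`.  Consequences:

* `cent_eq` : `C_P(V₀) = C_P(V)`;
* `exists_fix` : an element of `P` normalising `V₀` fixes some coset `u Z₀ ≠ Z₀` of `V₀`;
* `false_of_kappa` : no `κ ∈ P₂` normalises `V₀` and acts fixed-point-freely on `V₀ / Z₀`.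
-/

set_option autoImplicit false
set_option linter.style.haveILetI false

namespace Cfsg.Agent.MinSimple.CaseDK

open Subgroup Cfsg Cfsg.Agent.ZN Cfsg.Agent.MinSimple.CaseDDefs Cfsg.Agent.MinSimple.CaseD4

section Abstract

variable {M : Type*} [CommGroup M] {A : Subgroup (MulAut M)} {M₀ Z : Subgroup M}
  {b₁ y₁ b₂ y₂ : MulAut M}

theorem comm_pq (t : Two A b₁ y₁ b₂ y₂) :
    (y₁ * y₂) * (y₁ * y₂⁻¹) = (y₁ * y₂⁻¹) * (y₁ * y₂) := by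
  have h2 := t.yy
  calc (y₁ * y₂) * (y₁ * y₂⁻¹) = y₁ * (y₂ * y₁) * y₂⁻¹ := by group
    _ = y₁ * (y₁ * y₂) * y₂⁻¹ := by rw [h2]
    _ = y₁ * y₂⁻¹ * (y₂ * y₁) := by group
    _ = _ := by rw [h2]

/-- Elements normalising `⟨y₁, y₂⟩` permute `C(y₁ y₂)`, `C(y₁ y₂⁻¹)`. -/
theorem perm [Finite M] (h : Data A M₀ Z) (t : Two A b₁ y₁ b₂ y₂) (hc : cc y₁ = ⊥) {g : MulAut M}
    (h1 : g * y₁ * g⁻¹ ∈ t.E h) (h2 : g * y₂ * g⁻¹ ∈ t.E h) :
    ((∀ m ∈ cc (y₁ * y₂), g m ∈ cc (y₁ * y₂)) ∧ (∀ m ∈ cc (y₁ * y₂⁻¹), g m ∈ cc (y₁ * y₂⁻¹))) ∨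
    ((∀ m ∈ cc (y₁ * y₂), g m ∈ cc (y₁ * y₂⁻¹)) ∧ (∀ m ∈ cc (y₁ * y₂⁻¹), g m ∈ cc (y₁ * y₂))) := by
  obtain ⟨cp, cq⟩ := t.card_pq h hc
  have hgp : g * (y₁ * y₂) * g⁻¹ ∈ t.E h := by
    have h3 : g * (y₁ * y₂) * g⁻¹ = (g * y₁ * g⁻¹) * (g * y₂ * g⁻¹) := by group
    rw [h3]; exact mul_mem h1 h2
  have hgq : g * (y₁ * y₂⁻¹) * g⁻¹ ∈ t.E h := by
    have h3 : g * (y₁ * y₂⁻¹) * g⁻¹ = (g * y₁ * g⁻¹) * (g * y₂ * g⁻¹)⁻¹ := by group
    rw [h3]; exact mul_mem h1 (inv_mem h2)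
  have hne : ∀ e : MulAut M, Nat.card (cc e) = 4 → e ≠ 1 ∧ cc e ≠ ⊥ := by
    intro e he
    constructor
    · rintro rfl
      have h1 : cc (1 : MulAut M) = ⊤ := by
        rw [eq_top_iff]; intro m _; exact mem_cc.2 rfl
      rw [h1, card_top, t.card_M h hc] at he
      omega
    · intro h1
      rw [h1, card_bot] at he
      omega
  have hcardc : ∀ e : MulAut M, Nat.card (cc (g * e * g⁻¹)) = Nat.card (cc e) := by
    intro e
    refine Nat.card_congr ⟨fun m => ⟨g⁻¹ m, ?_⟩, fun m => ⟨g m, (Two.cc_conj g e).2 m.2⟩, ?_, ?_⟩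
    · rw [← Two.cc_conj g e, apply_inv_apply]; exact m.2
    · intro m; exact Subtype.ext (apply_inv_apply g _)
    · intro m; exact Subtype.ext (inv_apply_apply g _)
  have key : ∀ e : MulAut M, g * e * g⁻¹ ∈ t.E h → Nat.card (cc e) = 4 →
      (∀ m ∈ cc e, g m ∈ cc (y₁ * y₂)) ∨ (∀ m ∈ cc e, g m ∈ cc (y₁ * y₂⁻¹)) := by
    intro e he hce
    obtain ⟨hn1, hn2⟩ := hne (g * e * g⁻¹) (by rw [hcardc, hce])
    rcases t.cc_of_mem h hc he hn1 hn2 with h1 | h1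
    · exact Or.inl fun m hm => h1 ((Two.cc_conj g e).2 hm)
    · exact Or.inr fun m hm => h1 ((Two.cc_conj g e).2 hm)
  have hnle : ¬ cc (y₁ * y₂) ≤ cc (y₁ * y₂⁻¹) := by
    intro hle
    apply (hne _ cp).2
    rw [eq_bot_iff]
    intro m hm
    exact mem_bot.2 (t.inter h hc hm (hle hm))
  have hinjp : ∀ X Y K : Subgroup M, Nat.card X = 4 → Nat.card Y = 4 → Nat.card K = 4 →
      (∀ m ∈ X, g m ∈ K) → (∀ m ∈ Y, g m ∈ K) → X ≤ Y := by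
    intro X Y K hX hY hK h1 h2
    have h3 : X.map g.toMonoidHom = K := by
      refine eq_of_le_of_card_ge ?_ ?_
      · rintro _ ⟨x, hx, rfl⟩; exact h1 x hx
      · rw [card_map_of_injective (f := g.toMonoidHom) g.injective, hX, hK]
    have h4 : Y.map g.toMonoidHom = K := by
      refine eq_of_le_of_card_ge ?_ ?_
      · rintro _ ⟨x, hx, rfl⟩; exact h2 x hx
      · rw [card_map_of_injective (f := g.toMonoidHom) g.injective, hY, hK]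
    intro x hx
    have h5 : g x ∈ Y.map g.toMonoidHom := by rw [h4]; exact h1 x hx
    obtain ⟨y, hy, he⟩ := h5
    have : y = x := g.injective he
    rw [← this]; exact hy
  rcases key _ hgp cp with h3 | h3 <;> rcases key _ hgq cq with h4 | h4
  · exact absurd (hinjp _ _ _ cp cq cp h3 h4) hnle
  · exact Or.inl ⟨h3, h4⟩
  · exact Or.inr ⟨h3, h4⟩
  · exact absurd (hinjp _ _ _ cp cq cq h3 h4) hnle

/-- `b₁` swaps `C(y₁ y₂)` and `C(y₁ y₂⁻¹)`. -/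
theorem b_swap (t : Two A b₁ y₁ b₂ y₂) :
    (∀ m ∈ cc (y₁ * y₂), b₁ m ∈ cc (y₁ * y₂⁻¹)) ∧
      (∀ m ∈ cc (y₁ * y₂⁻¹), b₁ m ∈ cc (y₁ * y₂)) := by
  have hc1 : b₁ * (y₁ * y₂) * b₁⁻¹ = (y₁ * y₂⁻¹)⁻¹ := by
    calc b₁ * (y₁ * y₂) * b₁⁻¹ = (b₁ * y₁ * b₁⁻¹) * (b₁ * y₂) * b₁⁻¹ := by group
      _ = y₁⁻¹ * (y₂ * b₁) * b₁⁻¹ := by rw [t.p₁.inv, t.c₁₂]
      _ = y₁⁻¹ * y₂ := by group
      _ = (y₂⁻¹ * y₁)⁻¹ := by group
      _ = (y₁ * y₂⁻¹)⁻¹ := by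
        have hcm : Commute y₁ y₂⁻¹ := Commute.inv_right t.yy
        rw [hcm.eq]
  have hc2 : b₁ * (y₁ * y₂⁻¹) * b₁⁻¹ = (y₁ * y₂)⁻¹ := by
    calc b₁ * (y₁ * y₂⁻¹) * b₁⁻¹ = (b₁ * y₁ * b₁⁻¹) * (b₁ * y₂ * b₁⁻¹)⁻¹ := by group
      _ = y₁⁻¹ * y₂⁻¹ := by rw [t.p₁.inv, t.c₁₂]; group
      _ = (y₂ * y₁)⁻¹ := by group
      _ = (y₁ * y₂)⁻¹ := by rw [t.yy]
  have hcinv : ∀ e : MulAut M, ∀ m, m ∈ cc e⁻¹ ↔ m ∈ cc e := by
    intro e m
    rw [mem_cc, mem_cc]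
    constructor
    · intro h1
      nth_rewrite 1 [← h1]
      exact apply_inv_apply e m
    · intro h1
      nth_rewrite 1 [← h1]
      exact inv_apply_apply e m
  constructor
  · intro m hm
    rw [← hcinv, ← hc1, Two.cc_conj]; exact hm
  · intro m hm
    rw [← hcinv, ← hc2, Two.cc_conj]; exact hm

theorem b_M₀ (h : Data A M₀ Z) {σ : MulAut M} (hσ : σ ∈ A) {m : M} (hm : m ∈ M₀) : σ m ∈ M₀ := by
  have h1 : σ m = m * (m * σ m) := (mul_cancel' h.sq m (σ m)).symm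
  rw [h1]
  exact mul_mem hm (h.Zle (h.M₀Z σ hσ m hm))

/-- `C(y₁ y₂) ≰ M₀` -/
theorem exists_p [Finite M] (h : Data A M₀ Z) (t : Two A b₁ y₁ b₂ y₂) (hc : cc y₁ = ⊥) :
    (∃ v ∈ cc (y₁ * y₂), v ∉ M₀) ∧ ∃ v ∈ cc (y₁ * y₂⁻¹), v ∉ M₀ := by
  obtain ⟨s1, s2⟩ := b_swap t
  have hMne : ¬ ∀ m, m ∈ M₀ := by
    intro h2
    have h3 : M₀ = ⊤ := eq_top_iff.2 fun m _ => h2 m
    have h4 := h.idx
    rw [h3, index_top] at h4
    omega
  constructor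
  · by_contra hcon
    push Not at hcon
    apply hMne
    intro m
    obtain ⟨u, hu, v, hv, e⟩ := t.split' h hc m
    rw [e]
    refine mul_mem (hcon u hu) ?_
    have h1 := b_M₀ h t.p₁.bA (hcon _ (s2 v hv))
    rwa [h.Ainv t.p₁.bA] at h1
  · by_contra hcon
    push Not at hcon
    apply hMne
    intro m
    obtain ⟨u, hu, v, hv, e⟩ := t.split' h hc m
    rw [e]
    refine mul_mem ?_ (hcon v hv)
    have h1 := b_M₀ h t.p₁.bA (hcon _ (s1 u hu))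
    rwa [h.Ainv t.p₁.bA] at h1

/-- `M₀ ∩ C(y₁ y₂) = {1, u}`, `M₀ ∩ C(y₁ y₂⁻¹) = {1, b₁ u}`, `u (b₁ u) ∈ Z`. -/
theorem exists_u [Finite M] (h : Data A M₀ Z) (t : Two A b₁ y₁ b₂ y₂) (hc : cc y₁ = ⊥) :
    ∃ u ∈ M₀, u ≠ 1 ∧ u ∈ cc (y₁ * y₂) ∧ b₁ u ∈ cc (y₁ * y₂⁻¹) ∧ u ∉ Z ∧
      (∀ m ∈ M₀, m ∈ cc (y₁ * y₂) → m = 1 ∨ m = u) ∧
      (∀ m ∈ M₀, m ∈ cc (y₁ * y₂⁻¹) → m = 1 ∨ m = b₁ u) := by
  obtain ⟨cp, cq⟩ := t.card_pq h hc
  obtain ⟨s1, s2⟩ := b_swap t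
  obtain ⟨⟨v, hv, hv0⟩, -⟩ := exists_p h t hc
  have h1 : Nat.card (cc (y₁ * y₂)) = 2 * Nat.card (M₀ ⊓ cc (y₁ * y₂) : Subgroup M) := by
    refine card_two h.sq (a := v) inf_le_right hv (fun h2 => hv0 h2.1) ?_
    intro w hw
    rcases h.mem_or hv0 w with h1 | h1
    · exact Or.inl ⟨h1, hw⟩
    · exact Or.inr ⟨h1, mul_mem hv hw⟩
  rw [cp] at h1
  have h2 : Nat.card (M₀ ⊓ cc (y₁ * y₂) : Subgroup M) = 2 := by omega
  obtain ⟨⟨u, hu⟩, hu1, huu⟩ :=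
    (Nat.card_eq_two_iff' (1 : (M₀ ⊓ cc (y₁ * y₂) : Subgroup M))).1 h2
  have hu1' : u ≠ 1 := fun h3 => hu1 (Subtype.ext h3)
  have hall : ∀ m ∈ M₀, m ∈ cc (y₁ * y₂) → m = 1 ∨ m = u := by
    intro m hm hm'
    by_cases hm1 : m = 1
    · exact Or.inl hm1
    · exact Or.inr (congrArg Subtype.val
        (huu ⟨m, hm, hm'⟩ fun h3 => hm1 (congrArg Subtype.val h3)))
  refine ⟨u, hu.1, hu1', hu.2, s1 u hu.2, ?_, hall, ?_⟩
  · intro huZ
    have h3 := h.Zfix b₁ t.p₁.bA u huZ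
    have h4 := s1 u hu.2
    rw [h3] at h4
    exact hu1' (t.inter h hc hu.2 h4)
  · intro m hm hm'
    rcases hall _ (b_M₀ h t.p₁.bA hm) (s2 m hm') with h3 | h3
    · left
      have h4 := congrArg b₁ h3
      rwa [h.Ainv t.p₁.bA, map_one] at h4
    · right
      have h4 := congrArg b₁ h3
      rwa [h.Ainv t.p₁.bA] at h4

/-- An element of `Γ` centralising `M₀` is trivial. -/
theorem eq_one_of_fix [Finite M] (h : Data A M₀ Z) (t : Two A b₁ y₁ b₂ y₂) (hc : cc y₁ = ⊥)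
    {s : MulAut M} (h1 : s * y₁ * s⁻¹ ∈ t.E h) (h2 : s * y₂ * s⁻¹ ∈ t.E h)
    (hs : ∀ m ∈ M₀, s m = m) : s = 1 := by
  obtain ⟨u, hu, hu1, hup, huq, -, hallp, hallq⟩ := exists_u h t hc
  obtain ⟨⟨v, hv, hv0⟩, ⟨w, hw, hw0⟩⟩ := exists_p h t hc
  have hpres : (∀ m ∈ cc (y₁ * y₂), s m ∈ cc (y₁ * y₂)) ∧
      (∀ m ∈ cc (y₁ * y₂⁻¹), s m ∈ cc (y₁ * y₂⁻¹)) := by
    rcases perm h t hc h1 h2 with h3 | h3
    · exact h3
    · exfalso
      have h4 := h3.1 u hup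
      rw [hs u hu] at h4
      exact hu1 (t.inter h hc hup h4)
  have hvw : v * w ∈ M₀ := (mul_mem_iff_of_index_two h.idx).2 (by simp [hv0, hw0])
  have h3 := hs _ hvw
  rw [map_mul] at h3
  have h4 : s v * v = s w * w := swap h.sq h3
  have h5 : s v * v = 1 := t.inter h hc (mul_mem (hpres.1 v hv) hv)
    (h4 ▸ mul_mem (hpres.2 w hw) hw)
  have h6 : s v = v := (mul_eq_one h.sq).1 h5
  ext m
  rcases h.mem_or hv0 m with h7 | h7
  · exact hs m h7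
  · have h8 := hs _ h7
    rw [map_mul, h6] at h8
    exact mul_left_cancel h8

/-- An element of `Γ` normalising `M₀` fixes a coset `u Z ≠ Z` of `M₀`. -/
theorem exists_coset [Finite M] (h : Data A M₀ Z) (t : Two A b₁ y₁ b₂ y₂) (hc : cc y₁ = ⊥)
    {s : MulAut M} (h1 : s * y₁ * s⁻¹ ∈ t.E h) (h2 : s * y₂ * s⁻¹ ∈ t.E h)
    (hs : ∀ m ∈ M₀, s m ∈ M₀) : ∃ u ∈ M₀, u ∉ Z ∧ u * s u ∈ Z := by
  obtain ⟨u, hu, hu1, hup, huq, huZ, hallp, hallq⟩ := exists_u h t hc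
  refine ⟨u, hu, huZ, ?_⟩
  have hsu : s u ≠ 1 := by simpa using hu1
  rcases perm h t hc h1 h2 with h3 | h3
  · rcases hallp _ (hs u hu) (h3.1 u hup) with h4 | h4
    · exact absurd h4 hsu
    · rw [h4, h.sq]; exact one_mem _
  · rcases hallq _ (hs u hu) (h3.1 u hup) with h4 | h4
    · exact absurd h4 hsu
    · rw [h4]; exact h.M₀Z b₁ t.p₁.bA u hu

/-- `V` is an irreducible `P`-module. -/
theorem irred_abs [Finite M] (h : Data A M₀ Z) (t : Two A b₁ y₁ b₂ y₂) (hc : cc y₁ = ⊥)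
    {X : Subgroup M} (hX : X ≠ ⊥) (hb : ∀ x ∈ X, b₁ x ∈ X) (h1 : ∀ x ∈ X, y₁ x ∈ X)
    (h2 : ∀ x ∈ X, y₂ x ∈ X) : X = ⊤ := by
  obtain ⟨cp, cq⟩ := t.card_pq h hc
  obtain ⟨s1, s2⟩ := b_swap t
  have e2 : ∀ m, y₂⁻¹ m = y₂ (y₂ m) := Two.pow_inv (t.symm.cube h)
  have hp : ∀ x ∈ X, (y₁ * y₂) x ∈ X := fun x hx => h1 _ (h2 x hx)
  have hq : ∀ x ∈ X, (y₁ * y₂⁻¹) x ∈ X := fun x hx => by
    rw [MulAut.mul_apply, e2]; exact h1 _ (h2 _ (h2 x hx))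
  have hcm : ∀ m, (y₁ * y₂) ((y₁ * y₂⁻¹) m) = (y₁ * y₂⁻¹) ((y₁ * y₂) m) := fun m => by
    rw [← MulAut.mul_apply, comm_pq t, MulAut.mul_apply]
  have hqp : ∀ m ∈ cc (y₁ * y₂), (y₁ * y₂⁻¹) m ∈ cc (y₁ * y₂) := fun m hm => by
    rw [mem_cc, hcm, mem_cc.1 hm]
  have hpq : ∀ m ∈ cc (y₁ * y₂⁻¹), (y₁ * y₂) m ∈ cc (y₁ * y₂⁻¹) := fun m hm => by
    rw [mem_cc, ← hcm, mem_cc.1 hm]
  have sq3 : ∀ s : MulAut M, s ^ 3 = 1 → ∀ m, s (s m) = m → s m = m := by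
    intro s hs m hm
    have h1 := CaseD4.eval₃ hs m
    rw [hm] at h1
    exact h1
  have hpowX : ∀ s : MulAut M, (∀ x ∈ X, s x ∈ X) → ∀ k : ℕ, ∀ x ∈ X, (s ^ k) x ∈ X := by
    intro s hs k
    induction k with
    | zero => intro x hx; simpa using hx
    | succ k ih => intro x hx; rw [pow_succ, MulAut.mul_apply]; exact ih _ (hs x hx)
  -- an element of `X` in `C(p)`
  have hfin : ∀ u ∈ X, u ≠ 1 → u ∈ cc (y₁ * y₂) → X = ⊤ := by
    intro u hu hu1 hup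
    have h3 : ∀ m ∈ cc (y₁ * y₂), m ∈ X := by
      intro m hm
      by_cases hm1 : m = 1
      · rw [hm1]; exact one_mem _
      obtain ⟨k, rfl⟩ := orbit_four cp h.sq hqp
        (fun m hm he => t.inter h hc hm (mem_cc.2 (sq3 _ (t.q_cube h) m he))) hup hu1 hm hm1
      exact hpowX _ hq k u hu
    rw [eq_top_iff]
    intro m _
    obtain ⟨v, hv, w, hw, e⟩ := t.split' h hc m
    rw [e]
    refine mul_mem (h3 v hv) ?_
    have h4 := hb _ (h3 _ (s2 w hw))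
    rwa [h.Ainv t.p₁.bA] at h4
  obtain ⟨⟨x, hx⟩, hx1⟩ := ne_bot_iff_exists_ne_one.1 hX
  have hx1' : x ≠ 1 := fun h3 => hx1 (Subtype.ext h3)
  have hnp : nm (y₁ * y₂) x ∈ X := mul_mem (mul_mem hx (hp x hx)) (hp _ (hp x hx))
  have hnq : nm (y₁ * y₂⁻¹) x ∈ X := mul_mem (mul_mem hx (hq x hx)) (hq _ (hq x hx))
  have hnp' : nm (y₁ * y₂) x ∈ cc (y₁ * y₂) := mem_cc.2 (nm_fix (CaseD4.eval₃ (t.p_cube h) x))
  have hnq' : nm (y₁ * y₂⁻¹) x ∈ cc (y₁ * y₂⁻¹) :=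
    mem_cc.2 (nm_fix (CaseD4.eval₃ (t.q_cube h) x))
  by_cases h3 : nm (y₁ * y₂) x = 1
  · have h4 : nm (y₁ * y₂⁻¹) x ≠ 1 := by
      intro h4
      have h5 := t.split h (w := x) (t.ww_top h hc ▸ mem_top x)
      rw [h3, h4, one_mul] at h5
      exact hx1' h5.symm
    exact hfin _ (hb _ hnq) (by simpa using h4) (s2 _ hnq')
  · exact hfin _ hnp h3 hnp'

end Abstract

section Group

universe u

variable {G : Type u} [Group G]

open CaseDPD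

variable {P V V₀ Z₀ B V' : Subgroup G}

/-- `C_P(V₀) = C_P(V)` -/
theorem cent_eq [Finite G] (h : PH P V V₀ Z₀ B V') :
    P ⊓ centralizer (V₀ : Set G) ≤ centralizer (V : Set G) := by
  have hL := h.ld
  letI := cg hL.Vcomm
  have hd := data hL h.cardB
  obtain ⟨b₁, y₁, b₂, y₂, t, hy₁, hy₂, hc, hn₁, hn₂⟩ := ph_main h
  rintro s ⟨hsP, hsc⟩
  have hsN := h.PV hsP
  have hs : V.normalizerMonoidHom ⟨s, hsN⟩ ∈ PH.Γ P V := (PH.mem_Γ P V).2 ⟨s, hsP, hsN, rfl⟩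
  rw [← act_eq_one hsN]
  refine eq_one_of_fix hd t hc (hn₁ _ hs) (hn₂ _ hs) ?_
  intro m hm
  apply Subtype.ext
  rw [act_coe hsN, ← mem_centralizer_iff.1 hsc m hm]
  group

/-- An element of `P` normalising `V₀` fixes a coset `u Z₀ ≠ Z₀` of `V₀`. -/
theorem exists_fix [Finite G] (h : PH P V V₀ Z₀ B V') {k : G} (hk : k ∈ P)
    (hkV : ∀ d ∈ V₀, k * d * k⁻¹ ∈ V₀) : ∃ u ∈ V₀, u ∉ Z₀ ∧ k * u * k⁻¹ * u⁻¹ ∈ Z₀ := by
  have hL := h.ld
  letI := cg hL.Vcomm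
  have hd := data hL h.cardB
  obtain ⟨b₁, y₁, b₂, y₂, t, hy₁, hy₂, hc, hn₁, hn₂⟩ := ph_main h
  have hkN := h.PV hk
  have hs : V.normalizerMonoidHom ⟨k, hkN⟩ ∈ PH.Γ P V := (PH.mem_Γ P V).2 ⟨k, hk, hkN, rfl⟩
  obtain ⟨u, hu, huZ, hku⟩ := exists_coset hd t hc (hn₁ _ hs) (hn₂ _ hs) (fun m hm => hkV m hm)
  refine ⟨u, hu, huZ, ?_⟩
  have h1 : (u : G) * (k * u * k⁻¹) ∈ Z₀ := hku
  have h2 : k * u * k⁻¹ ∈ V := hL.V₀_le (hkV u hu)
  have h3 : k * u * k⁻¹ * (u : G)⁻¹ = (u : G) * (k * u * k⁻¹) := by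
    rw [inv_eq_of_mul_eq_one_left (hL.Vsq u u.2)]
    exact hL.Vcomm _ h2 u u.2
  rw [h3]
  exact h1

/-- `V` is an irreducible `P`-module. -/
theorem irred [Finite G] (h : PH P V V₀ Z₀ B V') {X : Subgroup G} (hXV : X ≤ V) (hX : X ≠ ⊥)
    (hXP : ∀ g ∈ P, ∀ x ∈ X, g * x * g⁻¹ ∈ X) : X = V := by
  have hL := h.ld
  letI := cg hL.Vcomm
  have hd := data hL h.cardB
  obtain ⟨b₁, y₁, b₂, y₂, t, hy₁, hy₂, hc, hn₁, hn₂⟩ := ph_main h
  have h1 : X.subgroupOf V = ⊤ := by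
    refine irred_abs hd t hc ?_ ?_ ?_ ?_
    · intro h2
      apply hX
      rw [subgroupOf_eq_bot] at h2
      rw [eq_bot_iff]
      intro x hx
      exact h2.le_bot ⟨hx, hXV hx⟩
    · obtain ⟨g, hg, hgN, hg'⟩ := (PH.mem_Γ B V).1 t.p₁.bA
      intro x hx
      rw [← hg']
      exact hXP g (h.BP hg) x hx
    · obtain ⟨g, hg, hgN, hg'⟩ := (PH.mem_Γ P V).1 hy₁
      intro x hx
      rw [← hg']
      exact hXP g hg x hx
    · obtain ⟨g, hg, hgN, hg'⟩ := (PH.mem_Γ P V).1 hy₂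
      intro x hx
      rw [← hg']
      exact hXP g hg x hx
  exact le_antisymm hXV (subgroupOf_eq_top.1 h1)

/-! ### The end of (5b) -/

open CaseDBase CaseDHyp in
/-- Steps (3) and (4) in the form used in `CaseDGlue`. -/
theorem pdAll [Finite G] {S P P₂ V : Subgroup G} (h : CaseDDefs.Ctx S P P₂ V) :
    CaseDGlue.PDAll P P₂ V := by
  intro V₀ a x r hX hH
  exact exists_PD_ctx h hX hH.sit.mem

/-- `|V| = 16` -/
theorem card_V [Finite G] {S P P₂ V : Subgroup G} (h : CaseDDefs.Ctx S P P₂ V) :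
    Nat.card V = 16 := by
  obtain ⟨V₀, a, x, r, hX⟩ := CaseDExists.exists_XD h
  exact (CaseDGlue.V₀_eq h (pdAll h) hX).2.1

section Kappa

open CaseDBase CaseDHyp

variable {S P₂ : Subgroup G} {a x : G} {r : ℕ}

theorem V_eq_zl [Finite G] (h : CaseDDefs.Ctx S P P₂ V) : V = zl S P := by
  obtain ⟨V₀, a, x, r, hX⟩ := CaseDExists.exists_XD h
  obtain ⟨q, hq, hq'⟩ := CaseDExists.exists_lift_all h hX
  obtain ⟨h1, h2, h3, h4, h5, h6, h7, h8, h9⟩ := hq' _ rfl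
  have hPH := ctx_PH h h2 h3.sit.mem
  symm
  refine irred hPH (VModule.zl_le h.ZV h.PV) ?_ ?_
  · intro h10
    apply h.Zne
    rw [eq_bot_iff, ← h10]
    exact VModule.zc_le_zl S P
  · intro g hg x hx
    exact (mem_normalizer_iff.1 (VModule.le_normalizer_zl S P hg) x).1 hx

/-- `N_G(C_S(V))` normalises `V`. -/
theorem ctx_H [Finite G] (h : CaseDDefs.Ctx S P P₂ V) (hSyl : ¬ 2 ∣ S.index) :
    CaseDDefs.Ctx S (normalizer ((S ⊓ centralizer (V : Set G) : Subgroup G) : Set G)) P₂ V := by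
  obtain ⟨T, hT⟩ : ∃ T, T = S ⊓ centralizer (V : Set G) := ⟨_, rfl⟩
  rw [← hT]
  have hVT : V ≤ T := by
    rw [hT]
    exact le_inf h.VS fun v hv => mem_centralizer_iff.2 fun w hw => h.Vcomm w hw v hv
  have hTS : T ≤ S := hT ▸ inf_le_left
  have hTne : T ≠ ⊥ := by
    intro h1
    apply h.Zne
    rw [eq_bot_iff, ← h1]
    exact h.ZV.trans hVT
  have hST : S ≤ normalizer (T : Set G) := by
    have h1 : ∀ s ∈ S, ∀ t ∈ T, s * t * s⁻¹ ∈ T := by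
      rw [hT]
      rintro s hs t ⟨ht, htc⟩
      refine ⟨S.mul_mem (S.mul_mem hs ht) (S.inv_mem hs), mem_centralizer_iff.2 fun v hv => ?_⟩
      have h2 : s⁻¹ * v * s ∈ V := by
        have := (mem_normalizer_iff.1 (h.PV (h.SP (S.inv_mem hs))) v).1 hv
        rwa [inv_inv] at this
      have h3 := mem_centralizer_iff.1 htc _ h2
      calc v * (s * t * s⁻¹) = s * ((s⁻¹ * v * s) * t) * s⁻¹ := by group
        _ = s * (t * (s⁻¹ * v * s)) * s⁻¹ := by rw [h3]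
        _ = s * t * s⁻¹ * v := by group
    exact le_normalizer_of h1
  obtain ⟨H, hH⟩ : ∃ H, H = normalizer (T : Set G) := ⟨_, rfl⟩
  rw [← hH] at hST ⊢
  have hsylH : ¬ 2 ∣ S.relIndex H := fun h1 => hSyl (h1.trans (relIndex_dvd_index_of_le hST))
  -- the Frattini argument in `P`
  have hPC : P ≤ normalizer (centralizer (V : Set G) : Set G) := by
    refine le_normalizer_of fun g hg c hc => mem_centralizer_iff.2 fun v hv => ?_
    have h2 : g⁻¹ * v * g ∈ V := by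
      have := (mem_normalizer_iff.1 (h.PV (P.inv_mem hg)) v).1 hv
      rwa [inv_inv] at this
    have h3 := mem_centralizer_iff.1 hc _ h2
    calc v * (g * c * g⁻¹) = g * ((g⁻¹ * v * g) * c) * g⁻¹ := by group
      _ = g * (c * (g⁻¹ * v * g)) * g⁻¹ := by rw [h3]
      _ = g * c * g⁻¹ * v := by group
  have hfr : P ≤ centralizer (V : Set G) ⊔ (P ⊓ H) := by
    have h1 := Basic.frattini h.SP h.S2 h.sylP hPC
    rw [hH, hT]
    exact h1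
  have hzT : zc S ≤ zc T := by
    intro z hz
    obtain ⟨h1, h2, h3⟩ := VModule.mem_zc.1 hz
    exact VModule.mem_zc.2 ⟨hVT (h.ZV hz), fun t ht => h2 t (hTS ht), h3⟩
  have hVsT : zl S H ≤ zc T := by
    refine VModule.zl_le hzT ?_
    rw [hH]; exact VModule.normalizer_le_normalizer_zc T
  have hVVs : V ≤ zl S H := by
    have h1 : zl S P ≤ V ⊓ zl S H := by
      refine VModule.zl_le (le_inf h.ZV (VModule.zc_le_zl S H)) (hfr.trans (sup_le ?_ ?_))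
      · refine le_normalizer_of fun c hc v hv => ?_
        have h2 : c * v * c⁻¹ = v := by
          rw [← mem_centralizer_iff.1 hc v hv.1]; group
        rw [h2]; exact hv
      · refine le_normalizer_of ?_
        rintro g ⟨hgP, hgH⟩ v ⟨hv, hv'⟩
        exact ⟨(mem_normalizer_iff.1 (h.PV hgP) v).1 hv,
          (mem_normalizer_iff.1 (VModule.le_normalizer_zl S H hgH) v).1 hv'⟩
    rw [← V_eq_zl h] at h1
    exact h1.trans inf_le_right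
  have hctx : CaseDDefs.Ctx S H P₂ (zl S H) :=
    { hloc := h.hloc
      S2 := h.S2
      SP := hST
      SP₂ := h.SP₂
      sylP := hsylH
      sylP₂ := h.sylP₂
      solP := by
        rw [hH]
        exact h.hloc T (h.S2.to_le hTS) hTne
      solP₂ := h.solP₂
      Zne := h.Zne
      VS := hVsT.trans ((VModule.zc_le T).trans hTS)
      ZV := VModule.zc_le_zl S H
      PV := VModule.le_normalizer_zl S H
      Vcomm := fun v hv w hw => VModule.zc_comm T v (hVsT hv) w (hVsT hw)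
      Vsq := fun v hv => by
        rw [← pow_two]; exact VModule.zc_sq T v (hVsT hv)
      core := fun N hN hHN hpow => Basic.le_centralizer_zl_of_pow hST h.S2 hsylH hN hHN hpow
      CVP := by
        rw [eq_bot_iff]
        rintro e ⟨he, hec⟩
        have h1 : e ∈ zc S := by
          refine VModule.mem_zc.2 ⟨hTS (VModule.zc_le T (hVsT he)), fun s hs => ?_,
            VModule.zc_sq T e (hVsT he)⟩
          exact mem_centralizer_iff.1 hec s (hST hs)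
        have h2 : e ∈ V ⊓ centralizer (P : Set G) := by
          refine ⟨h.ZV h1, ?_⟩
          have h3 : P ≤ centralizer ({e} : Set G) := by
            refine hfr.trans (sup_le ?_ ?_)
            · intro c hc
              rw [mem_centralizer_singleton_iff]
              exact (mem_centralizer_iff.1 hc e (h.ZV h1)).symm
            · rintro g ⟨-, hg⟩
              rw [mem_centralizer_singleton_iff]
              exact mem_centralizer_iff.1 hec g hg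
          exact mem_centralizer_iff.2 fun g hg => mem_centralizer_singleton_iff.1 (h3 hg)
        rwa [h.CVP] at h2
      Z₂ := h.Z₂
      char := h.char
      Vnle := fun h1 => h.Vnle (hVVs.trans h1) }
  have h16 := card_V h
  have h16' := card_V hctx
  have hVeq : V = zl S H := eq_of_le_of_card_ge hVVs (by rw [h16, h16'])
  rw [← hVeq] at hctx
  exact hctx

/-- **End of (5b).** -/
theorem false_of_kappa [Finite G] (h : CaseDDefs.Ctx S P P₂ V) (hSyl : ¬ 2 ∣ S.index)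
    (hX : XD P₂ V V₀ a x r) (hm : x ∈ ll V x) {κ : G} (hκ : κ ∈ P₂)
    (hκV : ∀ d ∈ V₀, κ * d * κ⁻¹ ∈ V₀)
    (hf : ∀ d ∈ V₀, d ∉ V ⊓ cj V x → κ * d * κ⁻¹ * d⁻¹ ∉ V ⊓ cj V x) : False := by
  have hPH := ctx_PH h hX hm
  have hctx := ctx_H h hSyl
  have hPH' := ctx_PH hctx hX hm
  -- `T = C_S(V) = C_S(V₀)`
  have hTeq : S ⊓ centralizer (V₀ : Set G) = S ⊓ centralizer (V : Set G) := by
    refine le_antisymm (fun s hs => ⟨hs.1, cent_eq hPH ⟨h.SP hs.1, hs.2⟩⟩)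
      (inf_le_inf_left _ (centralizer_le hX.V₀_le))
  -- `S` normalises `V₀`
  have hV₀ : V₀ = V ⊓ o2 P₂ := (CaseDGlue.V₀_eq h (pdAll h) hX).1
  have hSV₀ : S ≤ normalizer (V₀ : Set G) := by
    rw [hV₀]
    refine le_normalizer_of ?_
    rintro s hs v ⟨hv, hv'⟩
    exact ⟨(mem_normalizer_iff.1 (h.PV (h.SP hs)) v).1 hv,
      (mem_normalizer_iff.1 (VModule.le_normalizer_o2 P₂ (h.SP₂ hs)) v).1 hv'⟩
  obtain ⟨X, hXdef⟩ : ∃ X, X = P₂ ⊓ normalizer (V₀ : Set G) := ⟨_, rfl⟩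
  have hSX : S ≤ X := hXdef ▸ le_inf h.SP₂ hSV₀
  have hXP : X ≤ P₂ := hXdef ▸ inf_le_left
  have hsylX : ¬ 2 ∣ S.relIndex X := by
    intro h1
    apply h.sylP₂
    rw [← relIndex_mul_relIndex S X P₂ hSX hXP]
    exact h1.mul_right _
  have hXC : X ≤ normalizer (centralizer (V₀ : Set G) : Set G) := by
    refine le_normalizer_of fun g hg c hc => mem_centralizer_iff.2 fun v hv => ?_
    have hgN : g ∈ normalizer (V₀ : Set G) := (hXdef ▸ hg : g ∈ P₂ ⊓ normalizer (V₀ : Set G)).2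
    have h2 : g⁻¹ * v * g ∈ V₀ := by
      have := (mem_normalizer_iff.1 (inv_mem hgN) v).1 hv
      rwa [inv_inv] at this
    have h3 := mem_centralizer_iff.1 hc _ h2
    calc v * (g * c * g⁻¹) = g * ((g⁻¹ * v * g) * c) * g⁻¹ := by group
      _ = g * (c * (g⁻¹ * v * g)) * g⁻¹ := by rw [h3]
      _ = g * c * g⁻¹ * v := by group
  have hfr := Basic.frattini hSX h.S2 hsylX hXC
  have hκX : κ ∈ X := by
    rw [hXdef]
    refine ⟨hκ, VModule.mem_normalizer_of_map_le ?_⟩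
    rintro _ ⟨d, hd, rfl⟩
    exact hκV d hd
  have h1 := hfr hκX
  rw [← SetLike.mem_coe, coe_mul_of_right_le_normalizer_left _ _ (inf_le_left.trans hXC)] at h1
  obtain ⟨l, hl, k, ⟨hkX, hkN⟩, hlk⟩ := h1
  rw [hTeq] at hkN
  have hkV₀ : ∀ d ∈ V₀, k * d * k⁻¹ ∈ V₀ := by
    intro d hd
    have hkN₀ : k ∈ normalizer (V₀ : Set G) := (hXdef ▸ hkX : k ∈ P₂ ⊓ normalizer (V₀ : Set G)).2
    exact (mem_normalizer_iff.1 hkN₀ d).1 hd
  obtain ⟨u, hu, huZ, hku⟩ := exists_fix hPH' hkN hkV₀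
  apply hf u hu huZ
  have hlk' : l * k = κ := hlk
  have h2 : κ * u * κ⁻¹ = k * u * k⁻¹ := by
    rw [← hlk']
    have h3 := mem_centralizer_iff.1 hl _ (hkV₀ u hu)
    calc l * k * u * (l * k)⁻¹ = l * (k * u * k⁻¹) * l⁻¹ := by group
      _ = (k * u * k⁻¹) * l * l⁻¹ := by rw [← h3]
      _ = k * u * k⁻¹ := by group
  rw [h2]
  exact hku

/-- **End of (5b)**, in terms of `D = V ⊓ o2 P₂` and `Z = zc S`. -/
theorem false_of_kappa' [Finite G] (h : CaseDDefs.Ctx S P P₂ V) (hSyl : ¬ 2 ∣ S.index)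
    {κ : G} (hκ : κ ∈ P₂) (hκV : ∀ d ∈ V ⊓ o2 P₂, κ * d * κ⁻¹ ∈ V ⊓ o2 P₂)
    (hf : ∀ d ∈ V ⊓ o2 P₂, κ * d * κ⁻¹ * d⁻¹ ∈ zc S → d ∈ zc S) : False := by
  obtain ⟨V₀, a, x, r, hX⟩ := CaseDExists.exists_XD h
  obtain ⟨q, hq, hq'⟩ := CaseDExists.exists_lift_all h hX
  obtain ⟨h1, h2, h3, h4, h5, h6, h7, h8, h9⟩ := hq' _ rfl
  have hV₀ : V₀ = V ⊓ o2 P₂ := (CaseDGlue.V₀_eq h (pdAll h) hX).1
  obtain ⟨z, b, c, y₁, y₂, hPD⟩ := pdAll h _ _ _ _ h2 h3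
  have hz : V ⊓ cj V (x * q) = zc S := CaseDGlue.zc_eq h h2.xP₂ hPD
  subst hV₀
  refine false_of_kappa h hSyl h2 h3.sit.mem hκ hκV ?_
  intro d hd hd' h10
  rw [hz] at hd' h10
  exact hd' (hf d hd h10)

end Kappa

end Group

end Cfsg.Agent.MinSimple.CaseDK
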