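import Cfsg.Agent.MinSimple.LemX
import Cfsg.Agent.ZN.ChoiceSit

/-!
# Blocks over the Baumann subgroup of a Sylow 2-subgroup: the point determines the line

`G` is a finite group of characteristic 2 type with solvable 2-locals, `S` a Sylow 2-subgroup of
`G` and `B = bau S`.

* `bau_eq` : `bau T = bau S` for every 2-subgroup `T ≥ bau S` (and `jj_eq`, `zj_eq`,
  `le_normalizer`);
* `loc` : a 2-local over `bau S` is a `LemX.Loc`;
* `vl_eq_of_local` : two blocks over `bau S` with the same point in one 2-local have the same line;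
* `vl_eq_of_pt` : two blocks over `bau S` with the same point and commuting lines have the same
  line;
* `le_normalizer_vl'` : a 2-subgroup `T ≥ bau S` centralizing the point normalizes the line.
-/

set_option autoImplicit false

namespace Cfsg.Agent.MinSimple.SamePt

open Subgroup Cfsg Cfsg.Agent.ZN Cfsg.Agent.MinSimple Cfsg.Agent.MinSimple.PlanePair
open Cfsg.Agent.MinSimple.DBlkApi Cfsg.Agent.MinSimple.LemX

universe u

variable {G : Type u} [Group G] [Finite G]

/-! ### 2-subgroups over `bau S` -/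

theorem key_aux (S : Sylow 2 G) {T : Subgroup G} (hT : IsPGroup 2 T)
    (h : bau (S : Subgroup G) ≤ T) :
    jj T = jj (S : Subgroup G) ∧ bau T = bau (S : Subgroup G) := by
  obtain ⟨S', hS'⟩ := hT.exists_le_sylow
  obtain ⟨g, hg⟩ := MulAction.exists_smul_eq G S S'
  have hg2 : (S' : Subgroup G) = ChoiceBase.cj g (S : Subgroup G) := by
    rw [← hg, Sylow.coe_subgroup_smul]
    rfl
  have h1 : ChoiceBase.key T ≤ ChoiceBase.key (S : Subgroup G) := by
    refine (ChoiceBase.key_mono hS').trans ?_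
    rw [hg2, ChoiceBase.key_cj]
  obtain ⟨-, h2, h3, -⟩ := ChoiceBase.of_key_le h h1
  exact ⟨h2, h3⟩

theorem jj_eq (S : Sylow 2 G) {T : Subgroup G} (hT : IsPGroup 2 T)
    (h : bau (S : Subgroup G) ≤ T) : jj T = jj (S : Subgroup G) := (key_aux S hT h).1

theorem bau_eq (S : Sylow 2 G) {T : Subgroup G} (hT : IsPGroup 2 T)
    (h : bau (S : Subgroup G) ≤ T) : bau T = bau (S : Subgroup G) := (key_aux S hT h).2

theorem zj_eq (S : Sylow 2 G) {T : Subgroup G} (hT : IsPGroup 2 T)
    (h : bau (S : Subgroup G) ≤ T) : zj T = zj (S : Subgroup G) := by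
  rw [← zj_bau T, bau_eq S hT h, zj_bau]

/-- A 2-subgroup containing `bau S` normalizes it. -/
theorem le_normalizer (S : Sylow 2 G) {T : Subgroup G} (hT : IsPGroup 2 T)
    (h : bau (S : Subgroup G) ≤ T) : T ≤ normalizer (bau (S : Subgroup G) : Set G) := by
  rw [← bau_eq S hT h]
  exact Subgroup.le_normalizer.trans (ChoiceBase.normalizer_le_bau T)

variable (hG : IsCharacteristicTwoType G)
  (hL : ∀ N : Subgroup G, IsTwoLocal N → Group.IsSolvable N) (S : Sylow 2 G)

include hG hL in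
/-- The normalizer of a nontrivial 2-subgroup is a `Loc` for each of its Sylow 2-subgroups. -/
theorem loc_normalizer {U T : Subgroup G} (hU : IsPGroup 2 U) (hU1 : U ≠ ⊥)
    (hT : ChoiceSit.Syl T (normalizer (U : Set G))) : Loc (normalizer (U : Set G)) T where
  solv := hL _ ⟨U, hU, hU1, rfl⟩
  char2 := Basic.char2_normalizer hG hU hU1
  two := hT.2.1
  TX := hT.1
  syl := ChoiceSit.syl_not_dvd hT

include hG hL in
/-- A 2-local is a `Loc` for each of its Sylow 2-subgroups. -/
theorem loc {X T : Subgroup G} (hX : IsTwoLocal X) (hT : ChoiceSit.Syl T X) : Loc X T := by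
  obtain ⟨U, hU, hU1, rfl⟩ := hX
  exact loc_normalizer hG hL hU hU1 hT

omit [Finite G] in
theorem vl_le_mod' {X T L : Subgroup G} {k : ℕ} (hX : L ≤ X) (h : IsDBlk (bau T) L k) :
    vl (bau T) L ≤ LemX.mod X T := vl_le_mod hX h

/-- Two blocks over `bau T` inside `X` with the same point have the same line. -/
theorem vl_eq_of_loc {X T L L' : Subgroup G} {k k' : ℕ} {z : G} (hX : Loc X T)
    (hLX : L ≤ X) (hLX' : L' ≤ X) (h : IsDBlk (bau T) L k) (h' : IsDBlk (bau T) L' k')
    (hz : IsPt (bau T) L z) (hz' : IsPt (bau T) L' z) : vl (bau T) L = vl (bau T) L' := by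
  obtain ⟨n, V, hV⟩ := exists_gff hX ⟨L, hLX, k, h⟩
  obtain ⟨i, hi, -, hpi, -⟩ := exists_plane hV hLX h (vl_le_mod hLX h)
  obtain ⟨j, hj, -, hpj, -⟩ := exists_plane hV hLX' h' (vl_le_mod hLX' h')
  have h1 : hV.x i = z := IsPt.unique h hz hpi
  have h2 : hV.x j = z := IsPt.unique h' hz' hpj
  have h3 : i = j := hV.eq_of_mem (hV.xV i) (x := hV.x i)
    (by rw [h1, ← h2]; exact hV.xV j) (hV.x1 i)
  rw [hi, hj, h3]

include hG hL in
/-- Two blocks over `bau S` with the same point and in one 2-local have the same line. -/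
theorem vl_eq_of_local {U L L' : Subgroup G} {k k' : ℕ} {z : G} (hU : IsPGroup 2 U)
    (hU1 : U ≠ ⊥) (hLU : L ≤ normalizer (U : Set G)) (hLU' : L' ≤ normalizer (U : Set G))
    (h : IsDBlk (bau (S : Subgroup G)) L k) (h' : IsDBlk (bau (S : Subgroup G)) L' k')
    (hz : IsPt (bau (S : Subgroup G)) L z) (hz' : IsPt (bau (S : Subgroup G)) L' z) :
    vl (bau (S : Subgroup G)) L = vl (bau (S : Subgroup G)) L' := by
  obtain ⟨T, hT, hBT⟩ := ChoiceSit.exists_syl h.two (h.le.trans hLU)
  have hb : bau T = bau (S : Subgroup G) := bau_eq S hT.2.1 hBT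
  have hX := loc_normalizer hG hL hU hU1 hT
  rw [← hb] at h h' hz hz' ⊢
  exact vl_eq_of_loc hX hLU hLU' h h' hz hz'

include hG hL in
/-- Step (2): two blocks over `bau S` with the same point and commuting lines have the same
line. -/
theorem vl_eq_of_pt {L L' : Subgroup G} {k k' : ℕ} {z : G}
    (h : IsDBlk (bau (S : Subgroup G)) L k) (h' : IsDBlk (bau (S : Subgroup G)) L' k')
    (hz : IsPt (bau (S : Subgroup G)) L z) (hz' : IsPt (bau (S : Subgroup G)) L' z)
    (hc : ∀ v ∈ vl (bau (S : Subgroup G)) L, ∀ w ∈ vl (bau (S : Subgroup G)) L', v * w = w * v) :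
    vl (bau (S : Subgroup G)) L = vl (bau (S : Subgroup G)) L' := by
  by_cases hcore : ∀ N : Subgroup G, N ≤ bau (S : Subgroup G) → L ≤ normalizer (N : Set G) →
      L' ≤ normalizer (N : Set G) → N = ⊥
  · exfalso
    obtain ⟨u, hu, w, hw, huw⟩ := exists_noncommuting h h' hz hz' hcore
    exact huw (hc u hu w hw)
  · push Not at hcore
    obtain ⟨N, hN, hLN, hLN', hN1⟩ := hcore
    exact vl_eq_of_local hG hL S (h.two.to_le hN) hN1 hLN hLN' h h' hz hz'

/-! ### Conjugation -/

omit [Finite G] in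
theorem isPt_conj {B L : Subgroup G} {z : G} (h : IsPt B L z) (g : G) :
    IsPt (B.map (MulAut.conj g).toMonoidHom) (L.map (MulAut.conj g).toMonoidHom)
      (g * z * g⁻¹) := by
  have hf := (MulAut.conj g).injective
  refine ⟨?_, ?_, ?_⟩
  · rw [vl_map _ hf]
    exact ⟨z, h.1, by simp⟩
  · rw [zc_map _ hf]
    exact ⟨z, h.2.1, by simp⟩
  · intro h0
    apply h.2.2
    have : z = g⁻¹ * (g * z * g⁻¹) * g := by group
    rw [this, h0]
    group

/-- all lines of blocks over `bau S` commute -/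
def AllComm (B : Subgroup G) : Prop :=
  ∀ (L L' : Subgroup G) (k k' : ℕ), IsDBlk B L k → IsDBlk B L' k' →
    ∀ v ∈ vl B L, ∀ w ∈ vl B L', v * w = w * v

include hG hL in
/-- Step (3): an element of `N_G(bau S)` centralizing the point of a block over `bau S` normalizes
its line. -/
theorem mem_normalizer_vl (hc : AllComm (bau (S : Subgroup G))) {L : Subgroup G} {k : ℕ}
    {z g : G} (h : IsDBlk (bau (S : Subgroup G)) L k) (hz : IsPt (bau (S : Subgroup G)) L z)
    (hg : g ∈ normalizer (bau (S : Subgroup G) : Set G)) (hgz : g * z * g⁻¹ = z) :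
    g ∈ normalizer (vl (bau (S : Subgroup G)) L : Set G) := by
  set B := bau (S : Subgroup G) with hB
  have hBg : B.map (MulAut.conj g).toMonoidHom = B :=
    ChoiceBase.mem_normalizer_iff_cj.mp hg
  have h' := h.conj g
  have hz' := isPt_conj hz g
  rw [hBg] at h' hz'
  rw [hgz] at hz'
  have h1 : vl B L = vl B (L.map (MulAut.conj g).toMonoidHom) :=
    vl_eq_of_pt hG hL S h h' hz hz' (hc _ _ _ _ h h')
  have h2 : vl B (L.map (MulAut.conj g).toMonoidHom) =
      (vl B L).map (MulAut.conj g).toMonoidHom := by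
    rw [← vl_map _ (MulAut.conj g).injective, hBg]
  rw [ChoiceBase.mem_normalizer_iff_cj]
  exact (h1.trans h2).symm

include hG hL in
/-- Step (3): a 2-subgroup `T ≥ bau S` centralizing the point of a block over `bau S` normalizes
its line. -/
theorem le_normalizer_vl' (hc : AllComm (bau (S : Subgroup G))) {L T : Subgroup G} {k : ℕ}
    {z : G} (h : IsDBlk (bau (S : Subgroup G)) L k) (hz : IsPt (bau (S : Subgroup G)) L z)
    (hT : IsPGroup 2 T) (hBT : bau (S : Subgroup G) ≤ T) (hTz : T ≤ centralizer ({z} : Set G)) :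
    T ≤ normalizer (vl (bau (S : Subgroup G)) L : Set G) := fun t ht =>
  mem_normalizer_vl hG hL S hc h hz (le_normalizer S hT hBT ht) (by
    have := mem_centralizer_singleton_iff.mp (hTz ht)
    rw [this]
    group)

/-! ### The line is contained in `O₂(C_G(z))` -/

/-- the elements of `X ≤ C_G(z)` centralizing `O₂(X)` modulo `⟨z⟩`. -/
def cmod (X : Subgroup G) (z : G) (hX : X ≤ centralizer ({z} : Set G)) (hz : z * z = 1) :
    Subgroup G where
  carrier := {x | x ∈ X ∧ ∀ q ∈ o2 X, x * q * x⁻¹ = q ∨ x * q * x⁻¹ = z * q}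
  one_mem' := ⟨one_mem _, fun q _ => Or.inl (by group)⟩
  mul_mem' := by
    rintro x y ⟨hx, hx'⟩ ⟨hy, hy'⟩
    refine ⟨mul_mem hx hy, fun q hq => ?_⟩
    have hxz : x * z = z * x := (mem_centralizer_singleton_iff.mp (hX hx))
    have e : x * y * q * (x * y)⁻¹ = x * (y * q * y⁻¹) * x⁻¹ := by group
    rcases hy' q hq with h1 | h1 <;> rcases hx' q hq with h2 | h2
    · left; rw [e, h1, h2]
    · right; rw [e, h1, h2]
    · right
      rw [e, h1]
      calc x * (z * q) * x⁻¹ = (x * z) * q * x⁻¹ := by group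
        _ = z * (x * q * x⁻¹) := by rw [hxz]; group
        _ = z * q := by rw [h2]
    · left
      rw [e, h1]
      calc x * (z * q) * x⁻¹ = (x * z) * q * x⁻¹ := by group
        _ = z * (x * q * x⁻¹) := by rw [hxz]; group
        _ = (z * z) * q := by rw [h2]; group
        _ = q := by rw [hz, one_mul]
  inv_mem' := by
    rintro x ⟨hx, hx'⟩
    refine ⟨inv_mem hx, fun q hq => ?_⟩
    have hxz : x * z = z * x := (mem_centralizer_singleton_iff.mp (hX hx))
    rcases hx' q hq with h1 | h1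
    · left
      calc x⁻¹ * q * x⁻¹⁻¹ = x⁻¹ * (x * q * x⁻¹) * x := by rw [h1]; group
        _ = q := by group
    · right
      have h2 : x⁻¹ * (z * q) * x = q := by rw [← h1]; group
      have h3 : x⁻¹ * z = z * x⁻¹ := by
        calc x⁻¹ * z = x⁻¹ * (z * x) * x⁻¹ := by group
          _ = x⁻¹ * (x * z) * x⁻¹ := by rw [hxz]
          _ = z * x⁻¹ := by group
      have h4 : z * (x⁻¹ * q * x) = q := by
        calc z * (x⁻¹ * q * x) = (z * x⁻¹) * q * x := by group
          _ = (x⁻¹ * z) * q * x := by rw [h3]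
          _ = x⁻¹ * (z * q) * x := by group
          _ = q := h2
      calc x⁻¹ * q * x⁻¹⁻¹ = (z * z) * (x⁻¹ * q * x) := by rw [hz]; group
        _ = z * (z * (x⁻¹ * q * x)) := by group
        _ = z * q := by rw [h4]

/-- If `X ≤ C_G(z)` has characteristic 2, then `C_X(O₂(X)/⟨z⟩) ≤ O₂(X)`. -/
theorem cmod_le {X : Subgroup G} {z : G} (hX : X ≤ centralizer ({z} : Set G)) (hz : z * z = 1)
    (hc : X ⊓ centralizer (o2 X : Set G) ≤ o2 X) : cmod X z hX hz ≤ o2 X := by
  have hcomm : ∀ x ∈ X, x * z = z * x := fun x hx => mem_centralizer_singleton_iff.mp (hX hx)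
  refine Cfsg.Agent.ZN.Block.le_o2 ?_ (fun x hx => hx.1) ?_
  · rintro ⟨x, hx, hx'⟩
    have h1 : x * x ∈ o2 X := by
      refine hc ⟨mul_mem hx hx, mem_centralizer_iff.mpr fun q hq => ?_⟩
      have h2 : x * (x * q * x⁻¹) * x⁻¹ = q := by
        rcases hx' q hq with h3 | h3
        · rw [h3, h3]
        · rw [h3]
          calc x * (z * q) * x⁻¹ = (x * z) * q * x⁻¹ := by group
            _ = z * (x * q * x⁻¹) := by rw [hcomm x hx]; group
            _ = (z * z) * q := by rw [h3]; group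
            _ = q := by rw [hz, one_mul]
      calc q * (x * x) = x * (x * q * x⁻¹) * x⁻¹ * (x * x) := by rw [h2]
        _ = x * x * q := by group
    obtain ⟨n, hn⟩ := VModule.o2_isPGroup X ⟨_, h1⟩
    refine ⟨n + 1, Subtype.ext ?_⟩
    have h3 : (x * x) ^ 2 ^ n = 1 := congrArg Subtype.val hn
    change x ^ 2 ^ (n + 1) = 1
    rw [pow_succ, mul_comm, pow_mul, pow_two]
    exact h3
  · intro g hg
    refine VModule.mem_normalizer_of_map_le ?_
    rintro _ ⟨x, ⟨hx, hx'⟩, rfl⟩
    refine ⟨mul_mem (mul_mem hg hx) (inv_mem hg), fun q hq => ?_⟩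
    have hq' : g⁻¹ * q * g ∈ o2 X := Four.conj_mem' (le_normalizer_o2 X hg) hq
    have e : ((MulAut.conj g).toMonoidHom x) * q * ((MulAut.conj g).toMonoidHom x)⁻¹ =
        g * (x * (g⁻¹ * q * g) * x⁻¹) * g⁻¹ := by
      simp only [MulEquiv.toMonoidHom_eq_coe, MonoidHom.coe_coe, MulAut.conj_apply]
      group
    rcases hx' _ hq' with h1 | h1
    · left
      rw [e, h1]; group
    · right
      rw [e, h1]
      calc g * (z * (g⁻¹ * q * g)) * g⁻¹ = (g * z) * g⁻¹ * q := by group
        _ = z * q := by rw [hcomm g hg]; group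

include hG hL in
/-- `V_L ≤ O₂(C_G(z_L))`. -/
theorem vl_le_o2_centralizer (hc : AllComm (bau (S : Subgroup G))) {L : Subgroup G} {k : ℕ}
    {z : G} (h : IsDBlk (bau (S : Subgroup G)) L k) (hz : IsPt (bau (S : Subgroup G)) L z) :
    vl (bau (S : Subgroup G)) L ≤ o2 (centralizer ({z} : Set G)) := by
  have hBz : bau (S : Subgroup G) ≤ centralizer ({z} : Set G) := fun b hb => by
    rw [mem_centralizer_singleton_iff]
    exact hz.comm hb
  obtain ⟨T, hT, hBT⟩ := ChoiceSit.exists_syl h.two hBz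
  have hTn := le_normalizer_vl' hG hL S hc h hz hT.2.1 hBT hT.1
  have hQT : o2 (centralizer ({z} : Set G)) ≤ T :=
    VModule.o2_le_of_sylow hT.2.1 (ChoiceSit.syl_not_dvd hT)
  refine le_trans ?_ (cmod_le le_rfl hz.mul_self (Basic.char2_centralizer hG hz.sq hz.2.2))
  intro v hv
  refine ⟨hBz (vl_le_B h hv), fun q hq => ?_⟩
  have hqz : q * z * q⁻¹ = z := by
    have := mem_centralizer_singleton_iff.mp (hT.1 (hQT hq))
    rw [this]; group
  by_cases hv1 : v = 1
  · left; rw [hv1]; group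
  by_cases hvz : v = z
  · left
    have := mem_centralizer_singleton_iff.mp (hT.1 (hQT hq))
    rw [hvz, ← this]; group
  have hvv : v * v = 1 := by rw [← pow_two]; exact vl_sq h v hv
  have hvi : v⁻¹ = v := inv_eq_of_mul_eq_one_left hvv
  have hvzc : v * z = z * v := Four.comm_of_sq (vl_sq h) hv hz.1
  rcases Four.fix_dichotomy h.card_vl (vl_sq h) hz.1 hv hz.2.2 hv1 (fun h0 => hvz h0.symm)
    (hTn (hQT hq)) hqz with h1 | h1
  · left
    have h2 : q * v = v * q := by
      calc q * v = (q * v * q⁻¹) * q := by group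
        _ = v * q := by rw [h1]
    rw [← h2]; group
  · right
    have h2 : q * v = z * v * q := by
      calc q * v = (q * v * q⁻¹) * q := by group
        _ = z * v * q := by rw [h1]
    have h3 : v * q = z * (q * v) := by
      calc v * q = (z * z) * v * q := by rw [hz.mul_self, one_mul]
        _ = z * (z * v * q) := by group
        _ = z * (q * v) := by rw [h2]
    calc v * q * v⁻¹ = z * (q * v) * v⁻¹ := by rw [h3]
      _ = z * q := by group

omit [Finite G] in
/-- `N_G(V_L) ∩ N_G(B)` centralizes `z_L`. -/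
theorem comm_of_normalizer {B L : Subgroup G} {k : ℕ} {z g : G} (h : IsDBlk B L k)
    (hz : IsPt B L z) (hg : g ∈ normalizer (B : Set G))
    (hgV : g ∈ normalizer (vl B L : Set G)) : g * z * g⁻¹ = z := by
  have h1 : g * z * g⁻¹ ∈ vl B L := Four.conj_mem hgV hz.1
  have h2 : g * z * g⁻¹ ∈ zc B :=
    Four.conj_mem (ChoiceBase.normalizer_le_of_cj (F := zc)
      (fun g T => zc_map _ (MulAut.conj g).injective T) B hg) hz.2.1
  rcases eq_of_mem h hz h1 h2 with h3 | h3
  · exfalso
    apply hz.2.2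
    calc z = g⁻¹ * (g * z * g⁻¹) * g := by group
      _ = 1 := by rw [h3]; group
  · exact h3

include hG hL in
/-- A Sylow 2-subgroup `T ≥ bau S` of `C_G(z_L)` is a Sylow 2-subgroup of `N_G(V_L)`. -/
theorem syl_normalizer_vl (hc : AllComm (bau (S : Subgroup G))) {L T : Subgroup G} {k : ℕ}
    {z : G} (h : IsDBlk (bau (S : Subgroup G)) L k) (hz : IsPt (bau (S : Subgroup G)) L z)
    (hT : ChoiceSit.Syl T (centralizer ({z} : Set G))) (hBT : bau (S : Subgroup G) ≤ T) :
    ChoiceSit.Syl T (normalizer (vl (bau (S : Subgroup G)) L : Set G)) := by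
  refine ⟨le_normalizer_vl' hG hL S hc h hz hT.2.1 hBT hT.1, hT.2.1, fun Q hQ hQ2 hTQ => ?_⟩
  refine hT.2.2 Q (fun q hq => ?_) hQ2 hTQ
  rw [mem_centralizer_singleton_iff]
  have h1 := comm_of_normalizer h hz (le_normalizer S hQ2 (hBT.trans hTQ) hq) (hQ hq)
  exact Four.conj_eq_iff_comm.mp h1

include hG hL in
/-- A Sylow 2-subgroup `T ≥ bau S` of `N_G(V_L)` is a Sylow 2-subgroup of `C_G(z_L)`. -/
theorem syl_centralizer (hc : AllComm (bau (S : Subgroup G))) {L T : Subgroup G} {k : ℕ}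
    {z : G} (h : IsDBlk (bau (S : Subgroup G)) L k) (hz : IsPt (bau (S : Subgroup G)) L z)
    (hT : ChoiceSit.Syl T (normalizer (vl (bau (S : Subgroup G)) L : Set G)))
    (hBT : bau (S : Subgroup G) ≤ T) : ChoiceSit.Syl T (centralizer ({z} : Set G)) := by
  refine ⟨fun q hq => ?_, hT.2.1, fun Q hQ hQ2 hTQ => ?_⟩
  · rw [mem_centralizer_singleton_iff]
    have h1 := comm_of_normalizer h hz (le_normalizer S hT.2.1 hBT hq) (hT.1 hq)
    exact Four.conj_eq_iff_comm.mp h1
  · exact hT.2.2 Q (le_normalizer_vl' hG hL S hc h hz hQ2 (hBT.trans hTQ) hQ) hQ2 hTQ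

end Cfsg.Agent.MinSimple.SamePt
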