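import Cfsg.Agent.MinSimple.ReduceDefs
import Cfsg.Agent.MinSimple.CaseDDefs
import Cfsg.Agent.MinSimple.SamePt

/-!
# Case (Omega): the interface to Theorem D

`ctx`: in case (Omega), if `U ≰ O₂(C_G(z))` then the hypotheses `CaseDDefs.Ctx` of Theorem D hold
for `P = N_G(U)` and `P₂ = C_G(z)`.
-/

set_option autoImplicit false
set_option linter.unusedSectionVars false

namespace Cfsg.Agent.MinSimple.OmegaD

open Subgroup Cfsg Cfsg.Agent.ZN Cfsg.Agent.MinSimple
open Cfsg.Agent.MinSimple.DBlkApi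

universe u

variable {G : Type u} [Group G] [Finite G] {S : Sylow 2 G} {n : ℕ} {V : Fin n → Subgroup G} {x : Fin n → G}
  {U : Subgroup G} {z : G}

theorem V_le (h : Omega S V x U z) (i : Fin n) : V i ≤ U := by
  rw [h.U_eq]; exact le_iSup V i

theorem x_mem (h : Omega S V x U z) (i : Fin n) : x i ∈ V i := by
  obtain ⟨L, k, -, hV, hx, -⟩ := h.blk i
  rw [← hV]; exact hx.1

theorem x_ne (h : Omega S V x U z) (i : Fin n) : x i ≠ 1 := by
  obtain ⟨L, k, -, -, hx, -⟩ := h.blk i
  exact hx.2.2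

theorem isPGroup_U (h : Omega S V x U z) : IsPGroup 2 U := fun a =>
  ⟨1, Subtype.ext (by simpa using h.sq a a.2)⟩

theorem le_S (h : Omega S V x U z) : U ≤ (S : Subgroup G) := by
  rw [h.U_eq]
  refine iSup_le fun i => ?_
  obtain ⟨L, k, hL, hV, -⟩ := h.blk i
  rw [← hV]
  exact (vl_le_B hL).trans (ZN.bau_le _)

theorem mem_zc (h : Omega S V x U z) : z ∈ ZN.zc (S : Subgroup G) := by
  rw [h.zc]; exact mem_zpowers z

theorem z_sq (h : Omega S V x U z) : z ^ 2 = 1 := zc_sq (mem_zc h)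

theorem z_mem (h : Omega S V x U z) : z ∈ U := by
  rw [h.z_eq]
  refine U.list_prod_mem fun a ha => ?_
  rw [List.mem_ofFn] at ha
  obtain ⟨i, rfl⟩ := ha
  exact V_le h i (x_mem h i)

theorem z_ne (h : Omega S V x U z) : z ≠ 1 := by
  rintro rfl
  have h1 : (S : Subgroup G) ≠ ⊥ := by
    intro h0
    have hn : 0 < n := lt_of_lt_of_le (by norm_num) h.two_le
    have h2 := (V_le h ⟨0, hn⟩).trans ((le_S h).trans h0.le)
    have h3 := h.card ⟨0, hn⟩
    rw [le_bot_iff.mp h2, card_bot] at h3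
    omega
  refine Basic.zc_ne_bot S.isPGroup' h1 ?_
  rw [h.zc, zpowers_one_eq_bot]

/-- the product of the `V j`, `j ≠ i` -/
def co (V : Fin n → Subgroup G) (i : Fin n) : Subgroup G := ⨆ j : {j : Fin n // j ≠ i}, V j

theorem co_le (h : Omega S V x U z) (i : Fin n) : co V i ≤ U :=
  iSup_le fun j => V_le h j

theorem notMem_co (h : Omega S V x U z) (i : Fin n) : z ∉ co V i := fun h0 =>
  h.not_le (h.cent_le i z h0 (z_ne h))

theorem U_le (h : Omega S V x U z) (i : Fin n) : U ≤ V i ⊔ co V i := by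
  rw [h.U_eq]
  refine iSup_le fun j => ?_
  by_cases hj : j = i
  · rw [hj]; exact le_sup_left
  · exact le_sup_of_le_right (le_iSup (fun j : {j : Fin n // j ≠ i} => V j) ⟨j, hj⟩)

theorem exists_mul (h : Omega S V x U z) (i : Fin n) {a : G} (ha : a ∈ U) :
    ∃ v ∈ V i, ∃ w ∈ co V i, a = v * w := by
  have h1 : V i ≤ normalizer (co V i : Set G) := by
    intro v hv
    refine VModule.mem_normalizer_of_map_le ?_
    rintro _ ⟨w, hw, rfl⟩
    have : (MulAut.conj v).toMonoidHom w = w := by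
      change v * w * v⁻¹ = w
      rw [h.comm v (V_le h i hv) w (co_le h i hw)]; group
    rw [this]; exact hw
  have h2 : a ∈ ((V i ⊔ co V i : Subgroup G) : Set G) := U_le h i ha
  rw [coe_mul_of_left_le_normalizer_right _ _ h1] at h2
  obtain ⟨v, hv, w, hw, he⟩ := h2
  exact ⟨v, hv, w, hw, he.symm⟩

theorem comm_co {y : G} {i : Fin n} (hy2 : ∀ j, j ≠ i → ∀ v ∈ V j, y * v = v * y) {w : G}
    (hw : w ∈ co V i) : y * w = w * y := by
  have h1 : co V i ≤ centralizer ({y} : Set G) := by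
    refine iSup_le fun j => fun v hv => ?_
    rw [mem_centralizer_singleton_iff]
    exact (hy2 j j.2 v hv).symm
  exact (mem_centralizer_singleton_iff.mp (h1 hw)).symm

/-- the commutator of `y i` with `z` is a nontrivial element of `V i`. -/
theorem exists_comm (h : Omega S V x U z) (i : Fin n) {y : G}
    (hy2 : ∀ j, j ≠ i → ∀ v ∈ V j, y * v = v * y) :
    ∃ v ∈ V i, v ≠ 1 ∧ y * z * y⁻¹ * z⁻¹ = y * v * y⁻¹ * v⁻¹ := by
  obtain ⟨v, hv, w, hw, he⟩ := exists_mul h i (z_mem h)
  refine ⟨v, hv, ?_, ?_⟩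
  · rintro rfl
    rw [one_mul] at he
    exact notMem_co h i (he ▸ hw)
  · have h1 := comm_co hy2 hw
    rw [he]
    calc y * (v * w) * y⁻¹ * (v * w)⁻¹ = y * v * (w * y⁻¹ * w⁻¹) * v⁻¹ := by group
      _ = y * v * y⁻¹ * v⁻¹ := by
        have : w * y⁻¹ * w⁻¹ = y⁻¹ := by
          have h2 : w * y⁻¹ = y⁻¹ * w := by
            calc w * y⁻¹ = y⁻¹ * (y * w) * y⁻¹ := by group
              _ = y⁻¹ * (w * y) * y⁻¹ := by rw [h1]
              _ = y⁻¹ * w := by group
          rw [h2]; group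
        rw [this]

/-- `y i` normalizes `V i`. -/
theorem y_norm (h : Omega S V x U z) (i : Fin n) {y : G}
    (hyU : y ∈ normalizer (U : Set G))
    (hy2 : ∀ j, j ≠ i → ∀ v ∈ V j, y * v = v * y) : y ∈ normalizer (V i : Set G) := by
  obtain ⟨j, hj⟩ := h.perm y hyU i
  have h1 : j = i := by
    by_contra hne
    -- `V j` is centralized by `y`, so `V i = V j`
    have h2 : (V j).map (MulAut.conj y).toMonoidHom = V j := by
      ext v
      constructor
      · rintro ⟨w, hw, rfl⟩
        have : (MulAut.conj y).toMonoidHom w = w := by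
          change y * w * y⁻¹ = w
          rw [hy2 j hne w hw]; group
        rw [this]; exact hw
      · intro hv
        refine ⟨v, hv, ?_⟩
        change y * v * y⁻¹ = v
        rw [hy2 j hne v hv]; group
    have h3 : V i = V j := Subgroup.map_injective (MulAut.conj y).injective (hj.trans h2.symm)
    have h4 := (h.indep i).le_bot
    have h5 : V i ≤ ⨆ j', ⨆ (_ : j' ≠ i), V j' := by
      rw [h3]
      exact le_iSup₂_of_le j hne (by rfl)
    have h6 : V i = ⊥ := le_bot_iff.mp (by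
      have := (h.indep i)
      rw [disjoint_iff] at this
      rw [← this]
      exact le_inf le_rfl h5)
    have h7 := h.card i
    rw [h6, card_bot] at h7
    omega
  rw [h1] at hj
  exact ChoiceBase.mem_normalizer_iff_cj.mpr hj

/-- An `N_G(U)`-invariant subgroup of `U` containing `z` is `U`. -/
theorem eq_of_mem (h : Omega S V x U z) {K : Subgroup G}
    (hK : normalizer (U : Set G) ≤ normalizer (K : Set G)) (hz : z ∈ K) : U ≤ K := by
  have h0 : U = ⨆ i, V i := h.U_eq
  rw [h0]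
  refine iSup_le fun i => ?_
  obtain ⟨y, hyU, hy1, hy2⟩ := h.y i
  obtain ⟨v, hv, hv1, he⟩ := exists_comm h i hy2
  have hyV := y_norm h i hyU hy2
  have hsq : ∀ v ∈ V i, v ^ 2 = 1 := fun v hv => h.sq v (V_le h i hv)
  set u := y * v * y⁻¹ * v⁻¹ with hu
  have huV : u ∈ V i := mul_mem (Four.conj_mem hyV hv) (inv_mem hv)
  have huK : u ∈ K := by
    rw [← he]
    exact mul_mem (Four.conj_mem (hK hyU) hz) (inv_mem hz)
  have hu1 : u ≠ 1 := by
    intro h1
    apply hv1
    refine hy1 v hv ?_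
    calc y * v * y⁻¹ = u * v := by rw [hu]; group
      _ = v := by rw [h1, one_mul]
  have hyu : y * u * y⁻¹ ∈ V i := Four.conj_mem hyV huV
  have hyuK : y * u * y⁻¹ ∈ K := Four.conj_mem (hK hyU) huK
  have hyu1 : y * u * y⁻¹ ≠ 1 := fun h1 => hu1 (conj_eq_one_iff.mp h1)
  have hne : u ≠ y * u * y⁻¹ := fun h1 => hu1 (hy1 u huV h1.symm)
  intro w hw
  rcases Four.four (h.card i) hsq huV hyu hu1 hyu1 hne w hw with rfl | rfl | rfl | rfl
  · exact one_mem _
  · exact huK
  · exact hyuK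
  · exact mul_mem huK hyuK

theorem zl_eq (h : Omega S V x U z) :
    zl (S : Subgroup G) (normalizer (U : Set G)) = U := by
  apply le_antisymm
  · refine zl_le ?_ le_rfl
    rw [h.zc, zpowers_le]
    exact z_mem h
  · exact eq_of_mem h (le_normalizer_zl _ _) ((zc_le_zl : ZN.zc (S : Subgroup G) ≤ zl (S : Subgroup G) (normalizer (U : Set G))) (mem_zc h))

/-- The hypotheses of Theorem D. -/
theorem ctx (hA : Amb G) (h : Omega S V x U z)
    (hn : ¬ U ≤ o2 (centralizer ({z} : Set G))) :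
    CaseDDefs.Ctx (S : Subgroup G) (normalizer (U : Set G)) (centralizer ({z} : Set G)) U := by
  have hU1 : U ≠ ⊥ := fun h0 => z_ne h (by
    have := z_mem h
    rwa [h0, mem_bot] at this)
  have hSz : (S : Subgroup G) ≤ centralizer ({z} : Set G) := fun s hs => by
    rw [mem_centralizer_singleton_iff]
    exact zc_comm (mem_zc h) hs
  have hne : 0 < n := lt_of_lt_of_le (by norm_num) h.two_le
  refine
    { hloc := fun W hW hW1 => hA.solv _ ⟨W, hW, hW1, rfl⟩
      S2 := S.isPGroup'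
      SP := h.S_le
      SP₂ := hSz
      sylP := Basic.not_dvd_relIndex S h.S_le
      sylP₂ := Basic.not_dvd_relIndex S hSz
      solP := hA.solv _ ⟨U, isPGroup_U h, hU1, rfl⟩
      solP₂ := hA.solv _ ⟨zpowers z, Basic.isPGroup_zpowers (z_sq h),
        fun h0 => z_ne h (zpowers_eq_bot.mp h0), (Basic.normalizer_zpowers_eq (z_sq h)).symm⟩
      Zne := ?_
      VS := le_S h
      ZV := ?_
      PV := le_rfl
      Vcomm := h.comm
      Vsq := fun v hv => by rw [← pow_two]; exact h.sq v hv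
      core := ?_
      CVP := ?_
      Z₂ := ?_
      char := Basic.char2_centralizer hA.char2 (z_sq h) (z_ne h)
      Vnle := hn }
  · rw [h.zc]
    exact fun h0 => z_ne h (zpowers_eq_bot.mp h0)
  · rw [h.zc, zpowers_le]; exact z_mem h
  · intro N hN hPN hN2
    have hzl := zl_eq h
    have h1 := Basic.le_centralizer_zl_of_pow h.S_le S.isPGroup'
      (Basic.not_dvd_relIndex S h.S_le) hN hPN (by rw [hzl]; exact hN2)
    rwa [hzl] at h1
  · rw [eq_bot_iff]
    rintro u ⟨huU, hu⟩
    have h1 : u ∈ ZN.zc (S : Subgroup G) := by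
      rw [ZN.mem_zc]
      refine ⟨le_S h huU, fun b hb => ?_, h.sq u huU⟩
      exact mem_centralizer_iff.mp hu b (h.S_le hb)
    rw [h.zc, zpowers_eq (z_sq h)] at h1
    rw [mem_bot]
    refine h1.resolve_right ?_
    rintro rfl
    obtain ⟨y, hyU, hy1, hy2⟩ := h.y ⟨0, hne⟩
    obtain ⟨v, hv, hv1, he⟩ := exists_comm h ⟨0, hne⟩ hy2
    apply hv1
    refine hy1 v hv ?_
    have h2 := mem_centralizer_iff.mp hu y hyU
    have h3 : y * u * y⁻¹ * u⁻¹ = 1 := by rw [h2]; group
    rw [h3] at he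
    calc y * v * y⁻¹ = (y * v * y⁻¹ * v⁻¹) * v := by group
      _ = v := by rw [← he, one_mul]
  · rw [h.zc]
    intro g hg
    rw [mem_centralizer_iff]
    intro a ha
    rcases (zpowers_eq (z_sq h)).mp ha with rfl | rfl
    · simp
    · exact (mem_centralizer_singleton_iff.mp hg).symm

end Cfsg.Agent.MinSimple.OmegaD
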