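import Cfsg.Agent.MinSimple.CaseDEnd
import Cfsg.Agent.MinSimple.CaseDK
import Cfsg.Agent.MinSimple.CaseD.Kappa
import Cfsg.Agent.MinSimple.OmegaD

/-!
# Theorem D

`theoremD`: Theorem D (case (d) of the core theorem): the situation `CaseDDefs.Ctx S P P₂ V`
(`V` is a faithful `P / C_P(V)`-module, `O₂(P / C_P(V)) = 1`, `C_V(P) = 1`, `[Ω₁Z(S), P₂] = 1`) with
`V ≰ O₂(P₂)` is impossible.  `le_o2`: in case (Omega) one has `U ≤ O₂(C_G(z))`.
-/

set_option autoImplicit false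

namespace Cfsg.Agent.MinSimple.CaseDFinal

open Subgroup Cfsg Cfsg.Agent.ZN Cfsg.Agent.MinSimple

universe u

variable {G : Type u} [Group G]

/-- **Theorem D**. -/
theorem theoremD [Finite G] {S P P₂ V : Subgroup G} (h : CaseDDefs.Ctx S P P₂ V)
    (charP : P ⊓ centralizer (o2 P : Set G) ≤ o2 P) (hSyl : ¬ 2 ∣ S.index) : False :=
  CaseDEnd.false_of_five_b h charP fun P₂' R r h' hR hna => by
    obtain ⟨k, hk, -, hkV, hkf⟩ := CaseD.Kappa.exists_kappa h' hR (CaseDEnd.pdAll h') hna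
    exact CaseDK.false_of_kappa' h' hSyl hk hkV hkf

/-- In case (Omega), `U ≤ O₂(C_G(z))`. -/
theorem le_o2 [Finite G] {S : Sylow 2 G} {n : ℕ} {V : Fin n → Subgroup G} {x : Fin n → G}
    {U : Subgroup G} {z : G} (hA : Amb G) (h : Omega S V x U z) :
    U ≤ o2 (centralizer ({z} : Set G)) := by
  by_contra hn
  have hf : Fact (Nat.Prime 2) := ⟨Nat.prime_two⟩
  have hU1 : U ≠ ⊥ := fun h0 => OmegaD.z_ne h (by
    have := OmegaD.z_mem h
    rwa [h0, mem_bot] at this)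
  exact theoremD (OmegaD.ctx hA h hn)
    (Basic.char2_normalizer hA.char2 (OmegaD.isPGroup_U h) hU1) S.not_dvd_index

end Cfsg.Agent.MinSimple.CaseDFinal
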