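import Mathlib

/-!
# Core theorem T, case (Omega): sign characters

`W` an elementary abelian 2-group acting on the abelian section `N / Q`: if `w0 ∈ W` acts nontrivially, there is
`y ∈ N`, `y ∉ Q`, such that every element of `W` centralises or inverts `y` modulo `Q`, and `w0` inverts it.
-/

set_option autoImplicit false

namespace Cfsg.Agent.MinSimple.OmPairSign

open Subgroup

universe u

variable {G : Type u} [Group G]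

/-- `{y ∈ Y | w y w⁻¹ ≡ y mod Q}` -/
def fixQ (Y Q : Subgroup G) (w : G) (hY : ∀ y ∈ Y, ∀ q ∈ Q, y * q * y⁻¹ ∈ Q) : Subgroup G where
  carrier := {y | y ∈ Y ∧ w * y * w⁻¹ * y⁻¹ ∈ Q}
  one_mem' := ⟨one_mem _, by simp⟩
  mul_mem' := by
    rintro a b ⟨ha, ha'⟩ ⟨hb, hb'⟩
    refine ⟨Y.mul_mem ha hb, ?_⟩
    have e : w * (a * b) * w⁻¹ * (a * b)⁻¹ =
        (w * a * w⁻¹ * a⁻¹) * (a * (w * b * w⁻¹ * b⁻¹) * a⁻¹) := by group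
    rw [e]
    exact Q.mul_mem ha' (hY a ha _ hb')
  inv_mem' := by
    rintro a ⟨ha, ha'⟩
    refine ⟨Y.inv_mem ha, ?_⟩
    have e : w * a⁻¹ * w⁻¹ * a⁻¹⁻¹ = a⁻¹ * (w * a * w⁻¹ * a⁻¹)⁻¹ * a⁻¹⁻¹ := by group
    rw [e]
    exact hY _ (Y.inv_mem ha) _ (Q.inv_mem ha')

/-- `{y ∈ Y | w y w⁻¹ ≡ y⁻¹ mod Q}` -/
def invQ (Y Q : Subgroup G) (w : G) (hY : ∀ y ∈ Y, ∀ q ∈ Q, y * q * y⁻¹ ∈ Q)
    (hw : ∀ y ∈ Y, w * y * w⁻¹ ∈ Y) (hab : ∀ a ∈ Y, ∀ b ∈ Y, a * b * a⁻¹ * b⁻¹ ∈ Q) :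
    Subgroup G where
  carrier := {y | y ∈ Y ∧ w * y * w⁻¹ * y ∈ Q}
  one_mem' := ⟨one_mem _, by simp⟩
  mul_mem' := by
    rintro a b ⟨ha, ha'⟩ ⟨hb, hb'⟩
    refine ⟨Y.mul_mem ha hb, ?_⟩
    have e : w * (a * b) * w⁻¹ * (a * b) =
        (w * a * w⁻¹ * a) * (a⁻¹ * (w * b * w⁻¹) * a⁻¹⁻¹ * (w * b * w⁻¹)⁻¹) *
          (w * b * w⁻¹ * b) := by group
    rw [e]
    exact Q.mul_mem (Q.mul_mem ha' (hab _ (Y.inv_mem ha) _ (hw b hb))) hb'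
  inv_mem' := by
    rintro a ⟨ha, ha'⟩
    refine ⟨Y.inv_mem ha, ?_⟩
    have e : w * a⁻¹ * w⁻¹ * a⁻¹ = (a * (w * a * w⁻¹ * a) * a⁻¹)⁻¹ := by group
    rw [e]
    exact Q.inv_mem (hY a ha _ ha')

theorem sign [Finite G] {N Q W : Subgroup G} (hQN : Q ≤ N)
    (hNQ : ∀ y ∈ N, ∀ q ∈ Q, y * q * y⁻¹ ∈ Q)
    (hab : ∀ a ∈ N, ∀ b ∈ N, a * b * a⁻¹ * b⁻¹ ∈ Q)
    (hWN : ∀ w ∈ W, ∀ y ∈ N, w * y * w⁻¹ ∈ N) (hWQ : ∀ w ∈ W, ∀ q ∈ Q, w * q * w⁻¹ ∈ Q)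
    (hcomm : ∀ a ∈ W, ∀ b ∈ W, a * b = b * a) (hsq : ∀ a ∈ W, a * a = 1) {w0 : G} (hw0 : w0 ∈ W)
    (hne : ∃ n ∈ N, w0 * n * w0⁻¹ * n⁻¹ ∉ Q) :
    ∃ y ∈ N, y ∉ Q ∧ (∀ w ∈ W, w * y * w⁻¹ * y⁻¹ ∈ Q ∨ w * y * w⁻¹ * y ∈ Q) ∧
      w0 * y * w0⁻¹ * y ∈ Q := by
  classical
  -- the family of subgroups
  let P : Subgroup G → Prop := fun Y => Q ≤ Y ∧ Y ≤ N ∧ ¬ Y ≤ Q ∧
    (∀ w ∈ W, ∀ y ∈ Y, w * y * w⁻¹ ∈ Y) ∧ ∀ y ∈ Y, w0 * y * w0⁻¹ * y ∈ Q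
  have key : ∃ Y, P Y := by
    refine ⟨invQ N Q w0 hNQ (hWN w0 hw0) hab, ?_, ?_, ?_, ?_, ?_⟩
    · intro q hq
      exact ⟨hQN hq, Q.mul_mem (hWQ w0 hw0 q hq) hq⟩
    · exact fun y hy => hy.1
    · obtain ⟨n, hn, hn'⟩ := hne
      intro hle
      apply hn'
      refine hle ⟨N.mul_mem (hWN w0 hw0 n hn) (N.inv_mem hn), ?_⟩
      have hw : w0⁻¹ = w0 := inv_eq_of_mul_eq_one_left (hsq w0 hw0)
      have e : w0 * (w0 * n * w0⁻¹ * n⁻¹) * w0⁻¹ * (w0 * n * w0⁻¹ * n⁻¹) =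
          (w0 * w0) * n * (w0⁻¹ * n⁻¹ * w0⁻¹) * w0 * n * w0⁻¹ * n⁻¹ := by group
      rw [e, hsq w0 hw0]
      have e2 : 1 * n * (w0⁻¹ * n⁻¹ * w0⁻¹) * w0 * n * w0⁻¹ * n⁻¹ = n * (w0⁻¹ * w0⁻¹) * n⁻¹ := by
        group
      rw [e2, hw, hsq w0 hw0]
      simp
    · rintro w hw y ⟨hy, hy'⟩
      refine ⟨hWN w hw y hy, ?_⟩
      have e : w0 * (w * y * w⁻¹) * w0⁻¹ * (w * y * w⁻¹) =
          (w0 * w) * y * (w0 * w)⁻¹ * w * y * w⁻¹ := by group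
      rw [e, hcomm w0 hw0 w hw]
      have e2 : w * w0 * y * (w * w0)⁻¹ * w * y * w⁻¹ = w * (w0 * y * w0⁻¹ * y) * w⁻¹ := by group
      rw [e2]
      exact hWQ w hw _ hy'
    · exact fun y hy => hy.2
  -- a minimal one
  obtain ⟨Y, hY, hmin⟩ : ∃ Y, P Y ∧ ∀ Y', P Y' → Nat.card Y ≤ Nat.card Y' := by
    obtain ⟨Y, hY⟩ := key
    have hwf := Nat.find_spec (p := fun n => ∃ Y, P Y ∧ Nat.card Y = n) ⟨_, Y, hY, rfl⟩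
    have hm := fun (m : ℕ) => Nat.find_min' (p := fun n => ∃ Y, P Y ∧ Nat.card Y = n)
      ⟨_, Y, hY, rfl⟩ (m := m)
    obtain ⟨Y1, h1, h2⟩ := hwf
    exact ⟨Y1, h1, fun Y' hY' => h2.trans_le (hm _ ⟨Y', hY', rfl⟩)⟩
  obtain ⟨hQY, hYN, hYQ, hWY, hY0⟩ := hY
  have hYQ' : ∀ y ∈ Y, ∀ q ∈ Q, y * q * y⁻¹ ∈ Q := fun y hy => hNQ y (hYN hy)
  obtain ⟨y, hy, hyQ⟩ := SetLike.not_le_iff_exists.mp hYQ
  refine ⟨y, hYN hy, hyQ, fun w hw => ?_, hY0 y hy⟩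
  let C := fixQ Y Q w hYQ'
  by_cases hC : C ≤ Q
  · right
    have hmem : y * (w * y * w⁻¹) ∈ C := by
      refine ⟨Y.mul_mem hy (hWY w hw y hy), ?_⟩
      have hwi : w⁻¹ = w := inv_eq_of_mul_eq_one_left (hsq w hw)
      have e : w * (y * (w * y * w⁻¹)) * w⁻¹ * (y * (w * y * w⁻¹))⁻¹ =
          (w * y * w⁻¹) * (w * w * y * w⁻¹ * w⁻¹) * (w * y * w⁻¹)⁻¹ * y⁻¹ := by group
      rw [e, hsq w hw]
      have e2 : (w * y * w⁻¹) * (1 * y * w⁻¹ * w⁻¹) * (w * y * w⁻¹)⁻¹ * y⁻¹ =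
        (w * y * w⁻¹) * (y * (w⁻¹ * w⁻¹)) * (w * y * w⁻¹)⁻¹ * y⁻¹ := by group
      rw [e2]
      have e3 : w⁻¹ * w⁻¹ = 1 := by rw [hwi, hsq w hw]
      rw [e3, mul_one]
      exact hab _ (hYN (hWY w hw y hy)) _ (hYN hy)
    have h1 := hC hmem
    have e : w * y * w⁻¹ * y = y⁻¹ * (y * (w * y * w⁻¹)) * y⁻¹⁻¹ := by group
    rw [e]
    exact hNQ _ (N.inv_mem (hYN hy)) _ h1
  · left
    have hPC : P C := by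
      refine ⟨?_, fun a ha => hYN ha.1, hC, ?_, fun a ha => hY0 a ha.1⟩
      · intro q hq
        exact ⟨hQY hq, Q.mul_mem (hWQ w hw q hq) (Q.inv_mem hq)⟩
      · rintro w' hw' a ⟨ha, ha'⟩
        refine ⟨hWY w' hw' a ha, ?_⟩
        have e : w * (w' * a * w'⁻¹) * w⁻¹ * (w' * a * w'⁻¹)⁻¹ =
            (w * w') * a * (w * w')⁻¹ * w' * a⁻¹ * w'⁻¹ := by group
        rw [e, hcomm w hw w' hw']
        have e2 : w' * w * a * (w' * w)⁻¹ * w' * a⁻¹ * w'⁻¹ = w' * (w * a * w⁻¹ * a⁻¹) * w'⁻¹ := by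
          group
        rw [e2]
        exact hWQ w' hw' _ ha'
    have h1 := hmin C hPC
    have h2 : C ≤ Y := fun a ha => ha.1
    have h3 : C = Y := Subgroup.eq_of_le_of_card_ge h2 h1
    have h4 : y ∈ C := by rw [h3]; exact hy
    exact h4.2

end Cfsg.Agent.MinSimple.OmPairSign
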