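import Cfsg.Agent.MinSimple.OmLines
import Cfsg.Agent.MinSimple.OmPairSign

/-!
# The case (Omega) is empty: Steps 4 and 5 of row 4061
-/

set_option autoImplicit false
set_option linter.dupNamespace false
set_option linter.unusedSectionVars false

namespace Cfsg.Agent.MinSimple.OmPairB

open Subgroup
open Cfsg.Agent.MinSimple.Geo (cj mem_cj conj_mem_cj cj_cj cj_one cj_inv_cj cj_cj_inv cj_mono cj_le_iff
  cj_le_cj cj_eq_of_mem_normalizer mem_normalizer_iff_cj)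
open Cfsg.Agent.MinSimple.OmPair

universe u

variable {G : Type u} [Group G]

section vert

variable {k : ℕ} {UU VV : Set (Subgroup G)} {F : Set G} {D N Q U0 W : Subgroup G} {z : G} {p : ℕ}

theorem cj_inf (g : G) (A B : Subgroup G) : cj g (A ⊓ B) = cj g A ⊓ cj g B := by
  ext x
  simp only [mem_cj, mem_inf]

theorem card_cj (g : G) (X : Subgroup G) : Nat.card ↥(cj g X) = Nat.card X :=
  Subgroup.card_map_of_injective (MulAut.conj g).injective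

theorem z_comm (h : Vert UU VV F D N Q U0 W z p) {d : G} (hd : d ∈ D) : d * z = z * d :=
  mem_centralizer_singleton_iff.mp (h.D_le hd)

theorem z_conj (h : Vert UU VV F D N Q U0 W z p) {d : G} (hd : d ∈ D) : d * z * d⁻¹ = z := by
  rw [z_comm h hd]; group

theorem W_conj (h : Vert UU VV F D N Q U0 W z p) {d : G} (hd : d ∈ D) {w : G} (hw : w ∈ W) :
    d * w * d⁻¹ ∈ W := by
  have h1 : W ≤ cj d⁻¹ W := by
    refine h.W_le _ fun e he => ?_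
    have h2 := cj_mono (g := d⁻¹) (h.W_ge _ (D.mul_mem hd he))
    rwa [← cj_cj, cj_inv_cj] at h2
  have := h1 hw
  rw [mem_cj] at this
  simpa using this

theorem nb_le_W (h : Vert UU VV F D N Q U0 W z p) {X : Subgroup G} (hX : X ∈ Nb D U0) : X ≤ W := by
  obtain ⟨d, hd, rfl⟩ := hX
  exact h.W_ge d hd

theorem U0_nb : U0 ∈ Nb D U0 := ⟨1, one_mem _, (cj_one U0).symm⟩

theorem nb_conj {X : Subgroup G} (hX : X ∈ Nb D U0) {d : G} (hd : d ∈ D) : cj d X ∈ Nb D U0 := by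
  obtain ⟨e, he, rfl⟩ := hX
  exact ⟨d * e, D.mul_mem hd he, by rw [cj_cj]⟩

theorem nb_UU (hf : Fam k UU VV F) (h : Vert UU VV F D N Q U0 W z p) {X : Subgroup G}
    (hX : X ∈ Nb D U0) : X ∈ UU := by
  obtain ⟨d, hd, rfl⟩ := hX
  exact hf.cjU d U0 h.U0_mem

theorem z_nb (h : Vert UU VV F D N Q U0 W z p) {X : Subgroup G} (hX : X ∈ Nb D U0) : z ∈ X := by
  obtain ⟨d, hd, rfl⟩ := hX
  rw [← z_conj h hd]
  exact conj_mem_cj h.z_mem

theorem W_sq (hf : Fam k UU VV F) (h : Vert UU VV F D N Q U0 W z p) {w : G} (hw : w ∈ W) :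
    w * w = 1 := by
  let K : Subgroup G :=
    { carrier := {a | a ∈ W ∧ a * a = 1}
      one_mem' := ⟨one_mem _, one_mul 1⟩
      mul_mem' := by
        rintro a b ⟨ha, ha'⟩ ⟨hb, hb'⟩
        refine ⟨W.mul_mem ha hb, ?_⟩
        calc a * b * (a * b) = a * (b * a) * b := by group
          _ = (a * a) * (b * b) := by rw [h.W_comm b hb a ha]; group
          _ = 1 := by rw [ha', hb', one_mul]
      inv_mem' := by
        rintro a ⟨ha, ha'⟩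
        refine ⟨W.inv_mem ha, ?_⟩
        rw [← mul_inv_rev, ha', inv_one] }
  have : W ≤ K := by
    refine h.W_le K fun d hd x hx => ⟨h.W_ge d hd hx, ?_⟩
    exact hf.sq _ (hf.cjU d U0 h.U0_mem) x hx
  exact (this hw).2

theorem exists_N (h : Vert UU VV F D N Q U0 W z p) {X : Subgroup G} (hX : X ∈ Nb D U0) :
    ∃ n ∈ N, X = cj n U0 := by
  obtain ⟨d, hd, rfl⟩ := hX
  obtain ⟨n, hn, m, hm, hm', rfl⟩ := h.trans d hd
  refine ⟨n, hn, ?_⟩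
  rw [← cj_cj, cj_eq_of_mem_normalizer hm']

theorem nb_of_N (h : Vert UU VV F D N Q U0 W z p) {n : G} (hn : n ∈ N) : cj n U0 ∈ Nb D U0 :=
  ⟨n, h.N_le hn, rfl⟩

theorem Q_le_D (h : Vert UU VV F D N Q U0 W z p) : Q ≤ D := h.Q_le.trans h.N_le

theorem Q_fix_nb (h : Vert UU VV F D N Q U0 W z p) {X : Subgroup G} (hX : X ∈ Nb D U0) {q : G}
    (hq : q ∈ Q) : cj q X = X := by
  obtain ⟨d, hd, rfl⟩ := hX
  have h1 : d⁻¹ * q * d⁻¹⁻¹ ∈ Q := h.Q_norm _ (D.inv_mem hd) q hq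
  rw [inv_inv] at h1
  have h2 := cj_eq_of_mem_normalizer (h.Q_fix _ h1)
  rw [cj_cj]
  have e : q * d = d * (d⁻¹ * q * d) := by group
  rw [e, ← cj_cj, h2]

theorem eq_iff (h : Vert UU VV F D N Q U0 W z p) {a b : G} (ha : a ∈ N) (hb : b ∈ N) :
    cj a U0 = cj b U0 ↔ a⁻¹ * b ∈ Q := by
  constructor
  · intro e
    refine h.N_fix _ (N.mul_mem (N.inv_mem ha) hb) ?_
    rw [mem_normalizer_iff_cj, ← cj_cj, ← e, cj_inv_cj]
  · intro e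
    have h1 := cj_eq_of_mem_normalizer (h.Q_fix _ e)
    rw [← cj_cj] at h1
    have h2 := congrArg (cj a) h1
    rw [cj_cj_inv] at h2
    exact h2.symm

/-- `p` odd: squares -/
theorem mem_of_sq (h : Vert UU VV F D N Q U0 W z p) {n : G} (hn : n ∈ N) (h2 : n * n ∈ Q) : n ∈ Q := by
  have h1 := h.N_pow n hn
  obtain ⟨m, hm⟩ : Odd p := h.prime.odd_of_ne_two h.odd
  rw [hm, pow_add, pow_mul, pow_one, pow_two] at h1
  have h3 := Q.mul_mem (Q.inv_mem (Q.pow_mem h2 m)) h1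
  have e : ((n * n) ^ m)⁻¹ * ((n * n) ^ m * n) = n := by group
  rwa [e] at h3

/-- commutators with `y ∈ N`: `w y w⁻¹ y⁻¹ ∈ Q` iff `w` fixes `cj y U0` -/
theorem fix_iff (h : Vert UU VV F D N Q U0 W z p) {w y : G} (hw : w ∈ D) (hw' : cj w U0 = U0)
    (hy : y ∈ N) : cj w (cj y U0) = cj y U0 ↔ w * y * w⁻¹ * y⁻¹ ∈ Q := by
  have hw2 : cj w⁻¹ U0 = U0 := by
    have := congrArg (cj w⁻¹) hw'
    rw [cj_inv_cj] at this
    exact this.symm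
  have e : cj w (cj y U0) = cj (w * y * w⁻¹) U0 := by
    rw [cj_cj, ← cj_cj (w * y) w⁻¹ U0, hw2]
  have hn : w * y * w⁻¹ ∈ N := h.N_norm w hw y hy
  rw [e, eq_iff h hn hy]
  constructor
  · intro h1
    have h2 := h.Q_norm _ (h.N_le hn) _ (Q.inv_mem h1)
    have e2 : w * y * w⁻¹ * ((w * y * w⁻¹)⁻¹ * y)⁻¹ * (w * y * w⁻¹)⁻¹ = w * y * w⁻¹ * y⁻¹ := by
      group
    -- `(a⁻¹ b)⁻¹ = b⁻¹ a`
    have e3 : w * y * w⁻¹ * ((w * y * w⁻¹)⁻¹ * y)⁻¹ * (w * y * w⁻¹)⁻¹ =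
        (w * y * w⁻¹) * y⁻¹ := by group
    rwa [e3] at h2
  · intro h1
    have h2 := h.Q_norm _ (h.N_le (N.inv_mem hn)) _ (Q.inv_mem h1)
    have e3 : (w * y * w⁻¹)⁻¹ * (w * y * w⁻¹ * y⁻¹)⁻¹ * (w * y * w⁻¹)⁻¹⁻¹ =
        (w * y * w⁻¹)⁻¹ * y := by group
    rwa [e3] at h2

end vert

/-! ### Step 4 -/

section pair

variable {k : ℕ} {UU VV : Set (Subgroup G)} {F : Set G}
  {D N Q U0 W : Subgroup G} {z : G} {p : ℕ} {D' N' Q' U0' W' : Subgroup G} {z' : G} {p' : ℕ}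

variable [Finite G] (h : Pair k UU VV F D N Q U0 W z p D' N' Q' U0' W' z' p')
include h

theorem W_fix {w : G} (hw : w ∈ W) : cj w U0' = U0' := by
  rw [← mem_normalizer_iff_cj, mem_normalizer_iff]
  intro x
  constructor
  · intro hx
    rw [h.fix w hw x hx]; simpa using hx
  · intro hx
    have h1 := h.fix w⁻¹ (W.inv_mem hw) _ hx
    have e : x = w⁻¹ * (w * x * w⁻¹) * w := by group
    rw [e, h1]; simpa using hx

theorem W_sq' {w : G} (hw : w ∈ W) : w * w = 1 := W_sq h.fam h.v hw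

theorem W_iff {w y : G} (hw : w ∈ W) (hy : y ∈ N') :
    w ∈ normalizer (cj y U0' : Set G) ↔ w * y * w⁻¹ * y⁻¹ ∈ Q' := by
  rw [mem_normalizer_iff_cj]
  exact fix_iff h.v' (h.le hw) (W_fix h hw) hy

theorem exists_eig {Y : Subgroup G} (hQ : Q' ≤ Y) (hN : Y ≤ N')
    (hW : ∀ w ∈ W, ∀ y ∈ Y, w * y * w⁻¹ ∈ Y)
    {w₀ : G} (hw₀ : w₀ ∈ W) (hne : ∃ y ∈ Y, w₀ * y * w₀⁻¹ * y⁻¹ ∉ Q') :
    ∃ y, Eig W N' Q' y ∧ y ∈ Y ∧ w₀ * y * w₀⁻¹ * y ∈ Q' := by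
  obtain ⟨y, hy, hyQ, h1, h2⟩ := OmPairSign.sign (N := Y) (Q := Q') (W := W) hQ
    (fun y hy q hq => h.v'.Q_norm y (h.v'.N_le (hN hy)) q hq)
    (fun a ha b hb => h.v'.N_comm a (hN ha) b (hN hb)) hW
    (fun w hw q hq => h.v'.Q_norm w (h.le hw) q hq) h.v.W_comm (fun a ha => W_sq' h ha) hw₀ hne
  exact ⟨y, ⟨hN hy, hyQ, h1, w₀, hw₀, h2⟩, hy, h2⟩

theorem not_le_Q : ¬ W ≤ Q' := by
  intro hle
  obtain ⟨w, hw, w', hw', hne⟩ := h.ne
  apply hne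
  have h1 : W' ≤ centralizer (W : Set G) := by
    refine h.v'.W_le _ fun d hd => ?_
    have hX : cj d U0' ∈ Nb D' U0' := ⟨d, hd, rfl⟩
    have hn : W ≤ normalizer (cj d U0' : Set G) := fun w hw => by
      rw [mem_normalizer_iff_cj]
      exact Q_fix_nb h.v' hX (hle hw)
    intro x hx
    rw [mem_centralizer_iff]
    exact fun w hw => h.comm_of_normalizer hX hn w hw x hx
  exact mem_centralizer_iff.mp (h1 hw') w hw

/-- an element of `W` outside `Q'` acts nontrivially on `N'/Q'` -/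
theorem exists_ne {w : G} (hw : w ∈ W) (hwQ : w ∉ Q') : ∃ n ∈ N', w * n * w⁻¹ * n⁻¹ ∉ Q' := by
  by_contra hcon
  push Not at hcon
  apply hwQ
  refine mem_of_sq h.v' (h.v'.faith w (h.le hw) hcon) ?_
  rw [W_sq' h hw]
  exact one_mem _

theorem exists_eig_of {w : G} (hw : w ∈ W) (hwQ : w ∉ Q') :
    ∃ y, Eig W N' Q' y ∧ w * y * w⁻¹ * y ∈ Q' := by
  obtain ⟨y, hy, -, h2⟩ := exists_eig h h.v'.Q_le le_rfl
    (fun w hw y hy => h.v'.N_norm w (h.le hw) y hy) hw (exists_ne h hw hwQ)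
  exact ⟨y, hy, h2⟩

theorem exists_eig_any : ∃ y, Eig W N' Q' y := by
  obtain ⟨w, hw, hwQ⟩ := SetLike.not_le_iff_exists.mp (not_le_Q h)
  obtain ⟨y, hy, -⟩ := exists_eig_of h hw hwQ
  exact ⟨y, hy⟩

/-- not both -/
theorem not_both {w y : G} (hy : y ∈ N') (hyQ : y ∉ Q')
    (h1 : w * y * w⁻¹ * y ∈ Q') : w * y * w⁻¹ * y⁻¹ ∉ Q' := by
  intro h2
  apply hyQ
  refine mem_of_sq h.v' hy ?_
  have h3 := Q'.mul_mem (Q'.inv_mem h2) h1
  have e : (w * y * w⁻¹ * y⁻¹)⁻¹ * (w * y * w⁻¹ * y) = y * y := by group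
  rwa [e] at h3

/-- product of two elements inverting `y` centralises `y` -/
theorem mul_inv_inv {a b y : G} (ha : a ∈ W) (hy : y ∈ N')
    (h1 : a * y * a⁻¹ * y ∈ Q') (h2 : b * y * b⁻¹ * y ∈ Q') :
    (a * b) * y * (a * b)⁻¹ * y⁻¹ ∈ Q' := by
  -- `a (b y b⁻¹ y) a⁻¹ ∈ Q'`, `a y⁻¹ a⁻¹ y⁻¹ ∈ Q'`
  have h3 := h.v'.Q_norm a (h.le ha) _ h2
  have h4 := h.v'.Q_norm (y : G) (h.v'.N_le hy) _ h1
  have e : a * b * y * (a * b)⁻¹ * y⁻¹ =
      (a * (b * y * b⁻¹ * y) * a⁻¹) * (y * (a * y * a⁻¹ * y) * y⁻¹)⁻¹ := by group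
  rw [e]
  exact Q'.mul_mem h3 (Q'.inv_mem h4)

theorem index_le_two {y : G} (hy : Eig W N' Q' y) :
    (W ⊓ normalizer (cj y U0' : Set G)).relIndex W ≤ 2 := by
  obtain ⟨hyN, hyQ, hc, a, ha, haQ⟩ := hy
  have h1 : (W ⊓ normalizer (cj y U0' : Set G)).relIndex W ∣ 2 := by
    rw [relIndex_dvd_two_iff]
    refine ⟨a, ha, fun b hb => ?_⟩
    rcases hc b hb with h2 | h2
    · right
      exact ⟨hb, (W_iff h hb hyN).mpr h2⟩
    · left
      exact ⟨W.mul_mem hb ha, (W_iff h (W.mul_mem hb ha) hyN).mpr (mul_inv_inv h hb hyN h2 haQ)⟩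
  exact Nat.le_of_dvd (by norm_num) h1

theorem nb_eig {y : G} (hy : Eig W N' Q' y) : cj y U0' ∈ Nb D' U0' := nb_of_N h.v' hy.1

theorem eig_ne {y : G} (hy : Eig W N' Q' y) : ∃ w ∈ W, ∃ x ∈ cj y U0', w * x ≠ x * w := by
  by_contra hcon
  push Not at hcon
  obtain ⟨hyN, hyQ, hc, a, ha, haQ⟩ := hy
  refine not_both h hyN hyQ haQ ?_
  rw [← W_iff h ha hyN, mem_normalizer_iff]
  intro x
  constructor
  · intro hx
    rw [hcon a ha x hx]; simpa using hx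
  · intro hx
    have h1 := hcon a⁻¹ (W.inv_mem ha) _ hx
    have e : x = a⁻¹ * (a * x * a⁻¹) * a := by group
    rw [e, h1]; simpa using hx

theorem k_eq : k = 2 := by
  by_contra hk
  have h3 : 3 ≤ k := by have := h.fam.two_le; omega
  obtain ⟨y, hy⟩ := exists_eig_any h
  have h4 := h.four_le (nb_eig h hy) (eig_ne h hy)
  have h5 := index_le_two h hy
  have h6 : W ⊓ normalizer (cj y U0' : Set G) ≤ W ⊓ centralizer (cj y U0' : Set G) := by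
    rintro w ⟨hw, hn⟩
    refine ⟨hw, mem_centralizer_iff.mpr ?_⟩
    exact fun x hx => (h.comm_of_three h3 (nb_eig h hy) (eig_ne h hy) hw hn x hx).symm
  have h7 := Subgroup.relIndex_dvd_of_le_left W h6
  have h8 : (W ⊓ normalizer (cj y U0' : Set G)).relIndex W ≠ 0 := by
    unfold Subgroup.relIndex
    exact index_ne_zero_of_finite
  have h9 := Nat.le_of_dvd (Nat.pos_of_ne_zero h8) h7
  omega

theorem eig_index {y : G} (hy : Eig W N' Q' y) :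
    (W ⊓ centralizer (cj y U0' : Set G)).relIndex W = 4 := by
  have h4 := h.four_le (nb_eig h hy) (eig_ne h hy)
  have h5 := index_le_two h hy
  have h6 := h.relIndex_le_two (k_eq h) (nb_eig h hy)
  have h7 : W ⊓ centralizer (cj y U0' : Set G) ≤ W ⊓ normalizer (cj y U0' : Set G) :=
    inf_le_inf_left _ (centralizer_le_normalizer _)
  have h8 := relIndex_mul_relIndex _ _ _ h7 inf_le_left
  have h9 := Nat.mul_le_mul h6 h5
  omega

theorem eig_exists {y : G} (hy : Eig W N' Q' y) :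
    ∃ w ∈ W, w * y * w⁻¹ * y⁻¹ ∈ Q' ∧ w ∈ normalizer (cj y U0' : Set G) ∧
      ∃ x ∈ cj y U0', w * x ≠ x * w := by
  by_contra hcon
  push Not at hcon
  have h4 := eig_index h hy
  have h5 := index_le_two h hy
  have h6 : W ⊓ normalizer (cj y U0' : Set G) ≤ W ⊓ centralizer (cj y U0' : Set G) := by
    rintro w ⟨hw, hn⟩
    refine ⟨hw, mem_centralizer_iff.mpr ?_⟩
    exact fun x hx => (hcon w hw ((W_iff h hw hy.1).mp hn) hn x hx).symm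
  have h7 := Subgroup.relIndex_dvd_of_le_left W h6
  have h8 : (W ⊓ normalizer (cj y U0' : Set G)).relIndex W ≠ 0 := by
    unfold Subgroup.relIndex
    exact index_ne_zero_of_finite
  have h9 := Nat.le_of_dvd (Nat.pos_of_ne_zero h8) h7
  omega

theorem exists_special' : ∃ X ∈ Nb D' U0', (W ⊓ centralizer (X : Set G)).relIndex W = 4 ∧
    ∃ w ∈ W, ∃ x ∈ X, w * x ≠ x * w := by
  obtain ⟨y, hy⟩ := exists_eig_any h
  exact ⟨_, nb_eig h hy, eig_index h hy, eig_ne h hy⟩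

/-! ### Step 5: the lines `E_y` -/

theorem fam2 : Fam 2 UU VV F := (k_eq h) ▸ h.fam

theorem eig_sq {y : G} (hy : Eig W N' Q' y) : Eig W N' Q' (y * y) := by
  obtain ⟨hyN, hyQ, hc, a, ha, haQ⟩ := hy
  have key : ∀ w ∈ W, w * y * w⁻¹ * y ∈ Q' → w * (y * y) * w⁻¹ * (y * y) ∈ Q' := by
    intro w hw h1
    have h2 := h.v'.Q_norm (w * y * w⁻¹) (h.v'.N_le (h.v'.N_norm w (h.le hw) y hyN)) _ h1
    have e : w * (y * y) * w⁻¹ * (y * y) =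
        ((w * y * w⁻¹) * (w * y * w⁻¹ * y) * (w * y * w⁻¹)⁻¹) * (w * y * w⁻¹ * y) := by group
    rw [e]
    exact Q'.mul_mem h2 h1
  refine ⟨N'.mul_mem hyN hyN, fun h1 => hyQ (mem_of_sq h.v' hyN h1), fun w hw => ?_, a, ha,
    key a ha haQ⟩
  rcases hc w hw with h1 | h1
  · left
    have h2 := h.v'.Q_norm y (h.v'.N_le hyN) _ h1
    have e : w * (y * y) * w⁻¹ * (y * y)⁻¹ =
        (w * y * w⁻¹ * y⁻¹) * (y * (w * y * w⁻¹ * y⁻¹) * y⁻¹) := by group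
    rw [e]
    exact Q'.mul_mem h1 h2
  · right
    exact key w hw h1

theorem eig_inv {y : G} (hy : Eig W N' Q' y) : Eig W N' Q' y⁻¹ := by
  obtain ⟨hyN, hyQ, hc, a, ha, haQ⟩ := hy
  have key : ∀ w ∈ W, w * y * w⁻¹ * y ∈ Q' → w * y⁻¹ * w⁻¹ * y⁻¹ ∈ Q' := by
    intro w hw h1
    have h2 := Q'.inv_mem (h.v'.Q_norm y (h.v'.N_le hyN) _ h1)
    have e : w * y⁻¹ * w⁻¹ * y⁻¹ = (y * (w * y * w⁻¹ * y) * y⁻¹)⁻¹ := by group
    rwa [e]
  refine ⟨N'.inv_mem hyN, fun h1 => hyQ ((Subgroup.inv_mem_iff Q').mp h1), fun w hw => ?_, a, ha,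
    key a ha haQ⟩
  rcases hc w hw with h1 | h1
  · left
    have h2 := h.v'.Q_norm y⁻¹ (h.v'.N_le (N'.inv_mem hyN)) _ (Q'.inv_mem h1)
    have e : w * y⁻¹ * w⁻¹ * y⁻¹⁻¹ = y⁻¹ * (w * y * w⁻¹ * y⁻¹)⁻¹ * y⁻¹⁻¹ := by group
    rwa [e]
  · right
    exact key w hw h1

theorem cj_of_inv {a y : G} (ha : a ∈ W) (hy : y ∈ N') (h1 : a * y * a⁻¹ * y ∈ Q') :
    cj a (cj y U0') = cj y⁻¹ U0' := by
  have h2 : cj a⁻¹ U0' = U0' := W_fix h (W.inv_mem ha)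
  have e : cj a (cj y U0') = cj (a * y * a⁻¹) U0' := by
    rw [cj_cj, ← cj_cj (a * y) a⁻¹ U0', h2]
  rw [e, eq_iff h.v' (h.v'.N_norm a (h.le ha) y hy) (N'.inv_mem hy)]
  have h3 := Q'.inv_mem (h.v'.Q_norm y (h.v'.N_le hy) _ h1)
  have e2 : (a * y * a⁻¹)⁻¹ * y⁻¹ = (y * (a * y * a⁻¹ * y) * y⁻¹)⁻¹ := by group
  rwa [e2]

theorem inf_full {a b : G} (ha : a ∈ N') (hb : b ∈ N') (hne : a⁻¹ * b ∉ Q') :
    ∀ e ∈ cj a U0' ⊓ cj b U0', e ≠ 1 → e ∈ F := by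
  intro e he he1
  by_contra heF
  apply hne
  rw [← eq_iff h.v' ha hb]
  exact h.fam.inter _ (h.fam.cjU a _ h.v'.U0_mem) _ (h.fam.cjU b _ h.v'.U0_mem) e he.1 he.2 he1 heF

theorem inf_le_four {a b : G} (ha : a ∈ N') (hb : b ∈ N') (hne : a⁻¹ * b ∉ Q') :
    Nat.card ↥(cj a U0' ⊓ cj b U0') ≤ 4 :=
  (fam2 h).card_le_four (h.fam.cjU a _ h.v'.U0_mem) inf_le_left (inf_full h ha hb hne)

/-- `C_X(W)` is a line of `X = cj y U0'` -/
theorem eig_isLn {y : G} (hy : Eig W N' Q' y) :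
    IsLn F z' (cj y U0') (cj y U0' ⊓ centralizer (W : Set G)) := by
  obtain ⟨w, hw, -, hn, hne⟩ := eig_exists h hy
  exact (h.line (k_eq h) (nb_eig h hy) hw hn hne).1

/-- (I) -/
theorem eig_inf {y : G} (hy : Eig W N' Q' y) :
    cj y U0' ⊓ cj y⁻¹ U0' = cj y U0' ⊓ centralizer (W : Set G) := by
  symm
  have hE := eig_isLn h hy
  obtain ⟨hyN, hyQ, hc, a, ha, haQ⟩ := hy
  have h1 : cj y U0' ⊓ centralizer (W : Set G) ≤ cj y U0' ⊓ cj y⁻¹ U0' := by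
    rintro e ⟨he, he'⟩
    refine ⟨he, ?_⟩
    rw [← cj_of_inv h ha hyN haQ]
    have h2 : a * e * a⁻¹ ∈ cj a (cj y U0') := conj_mem_cj he
    have h3 : a * e = e * a := mem_centralizer_iff.mp he' a ha
    rw [h3] at h2
    simpa using h2
  refine Subgroup.eq_of_le_of_card_ge h1 ?_
  rw [hE.card]
  refine inf_le_four h hyN (N'.inv_mem hyN) fun h2 => hyQ ?_
  have h3 := Q'.inv_mem h2
  have e : (y⁻¹ * y⁻¹)⁻¹ = y * y := by rw [mul_inv_rev, inv_inv]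
  rw [e] at h3
  exact mem_of_sq h.v' hyN h3

/-- (II) -/
theorem eig_inf2 {y : G} (hy : Eig W N' Q' y) :
    U0' ⊓ cj (y * y) U0' = cj (y * y) U0' ⊓ centralizer (W : Set G) := by
  have hE := eig_isLn h (eig_sq h hy)
  have h1 : U0' ⊓ cj (y * y) U0' = cj y (cj y⁻¹ U0' ⊓ cj y U0') := by
    rw [cj_inf, cj_cj, cj_cj, mul_inv_cancel, cj_one]
  have h2 : Nat.card ↥(U0' ⊓ cj (y * y) U0') = 4 := by
    rw [h1, card_cj, inf_comm, eig_inf h hy, (eig_isLn h hy).card]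
  refine Subgroup.eq_of_le_of_card_ge ?_ ?_
  · rintro e ⟨he, he'⟩
    refine ⟨he', mem_centralizer_iff.mpr fun w hw => h.fix w hw e he⟩
  · rw [hE.card, h2]

theorem eig_line {y : G} (hy : Eig W N' Q' y) :
    IsLn F z' U0' (cj y U0' ⊓ centralizer (W : Set G)) ∧
      IsLn F z' (cj y U0') (cj y U0' ⊓ centralizer (W : Set G)) ∧
      cj y (cj y U0' ⊓ centralizer (W : Set G)) = cj y U0' ⊓ centralizer (W : Set G) ∧
      U0' ⊓ cj y U0' = cj y U0' ⊓ centralizer (W : Set G) := by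
  have hE := eig_isLn h hy
  have hEY := eig_isLn h (eig_sq h hy)
  have hyN := hy.1
  set Y := y * y with hY
  set E := cj y U0' ⊓ centralizer (W : Set G) with hEdef
  set EY := cj Y U0' ⊓ centralizer (W : Set G) with hEYdef
  -- (II) for `y` and `y⁻¹`
  have a1 : U0' ⊓ cj Y U0' = EY := eig_inf2 h hy
  have a2 : U0' ⊓ cj Y⁻¹ U0' = cj Y⁻¹ U0' ⊓ centralizer (W : Set G) := by
    have := eig_inf2 h (eig_inv h hy)
    have e : y⁻¹ * y⁻¹ = Y⁻¹ := by rw [hY, mul_inv_rev]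
    rwa [e] at this
  have a3 : cj Y U0' ⊓ cj Y⁻¹ U0' = EY := eig_inf h (eig_sq h hy)
  have a4 : cj Y⁻¹ U0' ⊓ cj Y U0' = cj Y⁻¹ U0' ⊓ centralizer (W : Set G) := by
    have := eig_inf h (eig_inv h (eig_sq h hy))
    rwa [inv_inv] at this
  have a5 : U0' ⊓ cj Y⁻¹ U0' = EY := by rw [a2, ← a4, inf_comm, a3]
  have a6 : cj Y EY = EY := by
    rw [← a5, cj_inf, cj_cj, mul_inv_cancel, cj_one, inf_comm, a1, a5]
  -- (III)
  have a7 : cj y EY = EY := by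
    rw [← mem_normalizer_iff_cj] at a6 ⊢
    obtain ⟨m, hm⟩ : Odd p' := h.v'.prime.odd_of_ne_two h.v'.odd
    have h1 := h.v'.N_pow y hyN
    have h2 : y ^ p' ∈ normalizer (EY : Set G) := by
      rw [mem_normalizer_iff_cj, ← a1, cj_inf, Q_fix_nb h.v' U0_nb h1,
        Q_fix_nb h.v' (nb_of_N h.v' (N'.mul_mem hyN hyN)) h1]
    have e : y = (Y ^ m)⁻¹ * y ^ p' := by
      rw [hm, pow_add, pow_mul, pow_one, pow_two, ← hY]
      group
    rw [e]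
    exact Subgroup.mul_mem _ (Subgroup.inv_mem _ (Subgroup.pow_mem _ a6 m)) h2
  have a8 : EY ≤ U0' := by rw [← a1]; exact inf_le_left
  have a9 : EY ≤ E := by
    refine le_inf ?_ inf_le_right
    rw [← a7]
    exact cj_mono a8
  have a10 : EY = E := Subgroup.eq_of_le_of_card_ge a9 (by rw [hE.card, hEY.card])
  rw [a10] at a7 a8
  refine ⟨⟨a8, hE.card, hE.mem, hE.full⟩, hE, a7, ?_⟩
  symm
  refine Subgroup.eq_of_le_of_card_ge (le_inf a8 inf_le_left) ?_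
  rw [hE.card]
  have := inf_le_four h (one_mem N') hyN (by
    intro h1
    apply hy.2.1
    simpa using h1)
  rwa [cj_one] at this

/-! ### Step 5: the lines of all neighbours -/

omit h in
theorem isLn_cj (hf : Fam k UU VV F) {z : G} {X E : Subgroup G} {d : G} (hd : d * z = z * d)
    (hE : IsLn F z X E) : IsLn F z (cj d X) (cj d E) where
  le := cj_mono hE.le
  card := by rw [card_cj]; exact hE.card
  mem := by
    have e : d * z * d⁻¹ = z := by rw [hd]; group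
    rw [← e]
    exact conj_mem_cj hE.mem
  full := by
    rintro e he he1
    rw [mem_cj] at he
    have h1 := hf.cjF d _ (hE.full _ he (fun h0 => he1 (by
      have : e = d * (d⁻¹ * e * d) * d⁻¹ := by group
      rw [this, h0]; group)))
    have e2 : d * (d⁻¹ * e * d) * d⁻¹ = e := by group
    rwa [e2] at h1

/-- an element of `D'` swaps the lines of `U0'` -/
theorem exists_swap : ∃ t ∈ D', t ∈ normalizer (U0' : Set G) ∧ ∀ E, IsLn F z' U0' E → cj t E ≠ E := by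
  obtain ⟨V, hV, hVU, t, ht, htz, ht1, ht2⟩ := h.v'.t
  refine ⟨t, h.v'.stab t ht htz, ht, fun E hE => ?_⟩
  exact (fam2 h).swap h.v'.U0_mem h.v'.z_F hV hVU ht htz ht1 ht2 hE

/-- the lines of `U0'` are conjugate under `D' ∩ N(U0')` -/
theorem line_trans₀ {E E' : Subgroup G} (hE : IsLn F z' U0' E) (hE' : IsLn F z' U0' E') :
    ∃ t ∈ D', cj t U0' = U0' ∧ cj t E = E' := by
  by_cases hne : E = E'
  · exact ⟨1, one_mem _, cj_one _, by rw [cj_one, hne]⟩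
  · obtain ⟨t, ht, htn, hts⟩ := exists_swap h
    have ht1 := cj_eq_of_mem_normalizer htn
    refine ⟨t, ht, ht1, ?_⟩
    have h1 := isLn_cj h.fam (z_comm h.v' ht) hE
    rw [ht1] at h1
    rcases (fam2 h).line_cases h.v'.U0_mem h.v'.z_F hE hE' hne h1 with h2 | h2
    · exact absurd h2 (hts E hE)
    · exact h2

/-- `D'` is transitive on the flags -/
theorem flag_trans {X X' E E' : Subgroup G} (hX : X ∈ Nb D' U0') (hX' : X' ∈ Nb D' U0')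
    (hE : IsLn F z' X E) (hE' : IsLn F z' X' E') : ∃ d ∈ D', cj d X = X' ∧ cj d E = E' := by
  obtain ⟨a, ha, rfl⟩ := hX
  obtain ⟨b, hb, rfl⟩ := hX'
  have h1 := isLn_cj h.fam (z_comm h.v' (D'.inv_mem ha)) hE
  have h2 := isLn_cj h.fam (z_comm h.v' (D'.inv_mem hb)) hE'
  rw [cj_inv_cj] at h1 h2
  obtain ⟨t, ht, ht1, ht2⟩ := line_trans₀ h h1 h2
  refine ⟨b * t * a⁻¹, D'.mul_mem (D'.mul_mem hb ht) (D'.inv_mem ha), ?_, ?_⟩
  · rw [← cj_cj, cj_inv_cj, ← cj_cj, ht1]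
  · rw [← cj_cj, ← cj_cj, ht2, cj_cj_inv]

/-- `Q'` normalises all lines -/
theorem Q_line {X E : Subgroup G} (hX : X ∈ Nb D' U0') (hE : IsLn F z' X E) {q : G} (hq : q ∈ Q') :
    q ∈ normalizer (E : Set G) := by
  obtain ⟨y, hy⟩ := exists_eig_any h
  obtain ⟨h1, h2, h3, h4⟩ := eig_line h hy
  obtain ⟨d, hd, hdX, hdE⟩ := flag_trans h (nb_eig h hy) hX h2 hE
  have h5 : d⁻¹ * q * d⁻¹⁻¹ ∈ Q' := h.v'.Q_norm _ (D'.inv_mem hd) q hq
  rw [inv_inv] at h5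
  have h6 : cj (d⁻¹ * q * d) (cj y U0' ⊓ centralizer (W : Set G)) =
      cj y U0' ⊓ centralizer (W : Set G) := by
    rw [← h4, cj_inf, Q_fix_nb h.v' U0_nb h5, Q_fix_nb h.v' (nb_eig h hy) h5]
  rw [mem_normalizer_iff_cj, ← hdE]
  have e : q * d = d * (d⁻¹ * q * d) := by group
  rw [cj_cj, e, ← cj_cj, h6]

/-- strong form of `exists_Q_line` -/
theorem exists_Q_line' {X E : Subgroup G} (hX : X ∈ Nb D' U0') (hE : IsLn F z' X E) :
    ∃ q ∈ Q', (∀ x ∈ X, q * x * q⁻¹ * x⁻¹ ∈ E) ∧ ∀ e ∈ E, ∃ x ∈ X, q * x * q⁻¹ * x⁻¹ = e := by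
  obtain ⟨y, hy⟩ := exists_eig_any h
  obtain ⟨h1, h2, h3, h4⟩ := eig_line h hy
  obtain ⟨w, hw, hwQ, hn, hne⟩ := eig_exists h hy
  obtain ⟨-, l1, -, l3⟩ := h.line (k_eq h) (nb_eig h hy) hw hn hne
  -- `q = w (y w⁻¹ y⁻¹)`
  have hq : w * y * w⁻¹ * y⁻¹ ∈ Q' := hwQ
  have hact : ∀ x ∈ cj y U0', (w * y * w⁻¹ * y⁻¹) * x * (w * y * w⁻¹ * y⁻¹)⁻¹ = w * x * w⁻¹ := by
    intro x hx
    rw [mem_cj] at hx
    have h5 := h.fix w⁻¹ (W.inv_mem hw) _ hx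
    have e : (w * y * w⁻¹ * y⁻¹) * x * (w * y * w⁻¹ * y⁻¹)⁻¹ =
        w * y * (w⁻¹ * (y⁻¹ * x * y)) * (w * y⁻¹ * w⁻¹) := by group
    rw [e, h5]
    group
  obtain ⟨d, hd, hdX, hdE⟩ := flag_trans h (nb_eig h hy) hX h2 hE
  set q := w * y * w⁻¹ * y⁻¹ with hqdef
  refine ⟨d * q * d⁻¹, h.v'.Q_norm d hd q hq, ?_, ?_⟩
  · intro x hx
    rw [← hdX, mem_cj] at hx
    rw [← hdE, mem_cj]
    have h6 := l1 _ hx
    rw [← hact _ hx] at h6
    have e : d⁻¹ * (d * q * d⁻¹ * x * (d * q * d⁻¹)⁻¹ * x⁻¹) * d =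
        q * (d⁻¹ * x * d) * q⁻¹ * (d⁻¹ * x * d)⁻¹ := by group
    rw [e]
    exact h6
  · intro e he
    rw [← hdE, mem_cj] at he
    obtain ⟨x, hx, hxe⟩ := l3 _ he
    refine ⟨d * x * d⁻¹, ?_, ?_⟩
    · rw [← hdX]; exact conj_mem_cj hx
    · rw [← hact x hx] at hxe
      have e1 : d * q * d⁻¹ * (d * x * d⁻¹) * (d * q * d⁻¹)⁻¹ * (d * x * d⁻¹)⁻¹ =
          d * (q * x * q⁻¹ * x⁻¹) * d⁻¹ := by group
      rw [e1, hxe]
      group

/-- `Q'` induces `s⁺` and `s⁻` on every neighbour -/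
theorem exists_Q_line {X E : Subgroup G} (hX : X ∈ Nb D' U0') (hE : IsLn F z' X E) :
    ∃ q ∈ Q', (∀ x ∈ X, q * x * q⁻¹ * x⁻¹ ∈ E) ∧ ∃ x ∈ X, q * x ≠ x * q := by
  obtain ⟨q, hq, h1, h2⟩ := exists_Q_line' h hX hE
  refine ⟨q, hq, h1, ?_⟩
  obtain ⟨x, hx, hxz⟩ := h2 z' hE.mem
  refine ⟨x, hx, fun e => ?_⟩
  rw [e] at hxz
  have h3 : z' = 1 := by rw [← hxz]; group
  -- `z' ≠ 1`: a line has order `4`
  have h4 : ¬ E ≤ zpowers z' := by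
    intro hle
    have h5 := Subgroup.card_le_of_le hle
    rw [h3, hE.card] at h5
    simp at h5
  obtain ⟨e', he', hne'⟩ := SetLike.not_le_iff_exists.mp h4
  have hF : z' ∈ F := h.v'.z_F
  -- `1 ∉ F`
  have hf := fam2 h
  obtain ⟨V, -, -, -, -, hfr⟩ := hf.frame U0' h.v'.U0_mem
  have h6 := (hfr z' h.v'.z_mem).mp hF 0
  rw [h3] at h6
  exact h6 (one_mem _)

/-! ### Step 5: `W'1 = [Q', W']` -/

theorem Q_comm_W {q w : G} (hq : q ∈ Q') (hw : w ∈ W') : q * w * q⁻¹ * w⁻¹ ∈ W' :=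
  W'.mul_mem (W_conj h.v' (Q_le_D h.v' hq) hw) (W'.inv_mem hw)

theorem W1_le : ⁅Q', W'⁆ ≤ W' := by
  rw [Subgroup.commutator_le]
  intro q hq w hw
  exact Q_comm_W h hq hw

theorem W1_conj {d : G} (hd : d ∈ D') {x : G} (hx : x ∈ ⁅Q', W'⁆) : d * x * d⁻¹ ∈ ⁅Q', W'⁆ := by
  have h1 : cj d ⁅Q', W'⁆ = ⁅cj d Q', cj d W'⁆ := Subgroup.map_commutator _ _ _
  have h2 : cj d Q' ≤ Q' := by
    rintro _ ⟨q, hq, rfl⟩
    exact h.v'.Q_norm d hd q hq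
  have h3 : cj d W' ≤ W' := by
    rintro _ ⟨w, hw, rfl⟩
    exact W_conj h.v' hd hw
  have h4 : cj d ⁅Q', W'⁆ ≤ ⁅Q', W'⁆ := by
    rw [h1]; exact commutator_mono h2 h3
  exact h4 (conj_mem_cj hx)

theorem z'_sq : z' * z' = 1 := h.fam.sq U0' h.v'.U0_mem z' h.v'.z_mem

/-- the elements `x` of `W'` with `[d, x] ∈ R` -/
def ck {R : Subgroup G} (hR : R ≤ W') (d : G) : Subgroup G where
  carrier := {x | x ∈ W' ∧ d * x * d⁻¹ * x⁻¹ ∈ R}
  one_mem' := ⟨one_mem _, by simp⟩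
  mul_mem' := by
    rintro a b ⟨ha, ha'⟩ ⟨hb, hb'⟩
    refine ⟨W'.mul_mem ha hb, ?_⟩
    have h1 : a * (d * b * d⁻¹ * b⁻¹) = (d * b * d⁻¹ * b⁻¹) * a := h.v'.W_comm _ ha _ (hR hb')
    have e : d * (a * b) * d⁻¹ * (a * b)⁻¹ =
        (d * a * d⁻¹ * a⁻¹) * (a * (d * b * d⁻¹ * b⁻¹)) * a⁻¹ := by group
    rw [e, h1]
    have e2 : (d * a * d⁻¹ * a⁻¹) * ((d * b * d⁻¹ * b⁻¹) * a) * a⁻¹ =
        (d * a * d⁻¹ * a⁻¹) * (d * b * d⁻¹ * b⁻¹) := by group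
    rw [e2]
    exact R.mul_mem ha' hb'
  inv_mem' := by
    rintro a ⟨ha, ha'⟩
    refine ⟨W'.inv_mem ha, ?_⟩
    have h1 : (d * a * d⁻¹ * a⁻¹)⁻¹ * a = a * (d * a * d⁻¹ * a⁻¹)⁻¹ :=
      h.v'.W_comm _ (W'.inv_mem (hR ha')) _ ha
    have e : d * a⁻¹ * d⁻¹ * a⁻¹⁻¹ = a⁻¹ * ((d * a * d⁻¹ * a⁻¹)⁻¹ * a) := by group
    rw [e, h1, inv_mul_cancel_left]
    exact R.inv_mem ha'

theorem zp_le : zpowers z' ≤ W' := by
  rw [zpowers_le]
  exact (nb_le_W h.v' U0_nb) h.v'.z_mem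

/-- `[Q', W'1] ≤ ⟨z'⟩` -/
theorem W1_comm' : ⁅Q', W'⁆ ≤ ⨅ q : Q', ck h (zp_le h) (q : G) := by
  set K : Subgroup G := ⨅ q : Q', ck h (zp_le h) (q : G) with hK
  have hKW : K ≤ W' := by
    refine (iInf_le _ (1 : Q')).trans ?_
    exact fun x hx => hx.1
  have hmem : ∀ x, x ∈ K ↔ ∀ q ∈ Q', x ∈ W' ∧ q * x * q⁻¹ * x⁻¹ ∈ zpowers z' := by
    intro x
    rw [hK, mem_iInf]
    exact ⟨fun h1 q hq => h1 ⟨q, hq⟩, fun h1 q => h1 q q.2⟩
  rw [Subgroup.commutator_le]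
  intro q hq w hw
  have h1 : W' ≤ ck h hKW q := by
    refine h.v'.W_le _ fun d hd => ?_
    have hX : cj d U0' ∈ Nb D' U0' := ⟨d, hd, rfl⟩
    intro x hx
    refine ⟨nb_le_W h.v' hX hx, ?_⟩
    obtain ⟨E₁, E₂, l1, l2, hne, -⟩ := (fam2 h).exists_lines (nb_UU h.fam h.v' hX) (z_nb h.v' hX) h.v'.z_F
    have hact : ∀ s ∈ Q', (∀ x ∈ cj d U0', s * x * s⁻¹ * x⁻¹ ∈ E₁ ⊔ E₂) ∧
        ∀ x ∈ E₁ ⊔ E₂, s * x * s⁻¹ * x⁻¹ = 1 ∨ s * x * s⁻¹ * x⁻¹ = z' := fun s hs =>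
      (fam2 h).comm_mem (nb_UU h.fam h.v' hX) h.v'.z_F l1 l2 hne
        (by rw [mem_normalizer_iff_cj]; exact Q_fix_nb h.v' hX hs) (z_comm h.v' (Q_le_D h.v' hs))
        (Q_line h hX l1 hs)
    have h2 := (hact q hq).1 x hx
    rw [hmem]
    intro s hs
    refine ⟨Q_comm_W h hq (nb_le_W h.v' hX hx), ?_⟩
    rcases (hact s hs).2 _ h2 with h3 | h3
    · rw [h3]; exact one_mem _
    · rw [h3]; exact mem_zpowers z'
  exact (h1 hw).2

theorem W1_comm {q x : G} (hq : q ∈ Q') (hx : x ∈ ⁅Q', W'⁆) :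
    q * x * q⁻¹ * x⁻¹ = 1 ∨ q * x * q⁻¹ * x⁻¹ = z' := by
  have h1 := W1_comm' h hx
  rw [mem_iInf] at h1
  have h2 := (h1 ⟨q, hq⟩).2
  obtain ⟨n, hn⟩ := h2
  have h3 : z' ^ n = 1 ∨ z' ^ n = z' := by
    have hz : z' ^ (2 : ℤ) = 1 := by
      have := z'_sq h
      rw [← pow_two] at this
      exact_mod_cast this
    rcases Int.even_or_odd n with ⟨m, hm⟩ | ⟨m, hm⟩
    · left
      rw [hm, ← two_mul, zpow_mul, hz, one_zpow]
    · right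
      rw [hm, zpow_add, zpow_mul, hz, one_zpow, one_mul, zpow_one]
  change z' ^ n = q * x * q⁻¹ * x⁻¹ at hn
  rw [← hn]
  exact h3

theorem W1_inf {X E₁ E₂ : Subgroup G} (hX : X ∈ Nb D' U0') (h1 : IsLn F z' X E₁) (h2 : IsLn F z' X E₂)
    (hne : E₁ ≠ E₂) : X ⊓ ⁅Q', W'⁆ = E₁ ⊔ E₂ := by
  have hle : E₁ ⊔ E₂ ≤ X ⊓ ⁅Q', W'⁆ := by
    have key : ∀ E, IsLn F z' X E → E ≤ X ⊓ ⁅Q', W'⁆ := by
      intro E hE e he
      refine ⟨hE.le he, ?_⟩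
      obtain ⟨q, hq, -, h3⟩ := exists_Q_line' h hX hE
      obtain ⟨x, hx, hxe⟩ := h3 e he
      rw [← hxe]
      exact commutator_mem_commutator hq (nb_le_W h.v' hX hx)
    exact sup_le (key _ h1) (key _ h2)
  obtain ⟨hc8, -, hprod⟩ := (fam2 h).line_sup (nb_UU h.fam h.v' hX) h.v'.z_F h1 h2 hne
  by_contra hcon
  -- then `X ≤ ⁅Q', W'⁆`
  have hXle : X ≤ ⁅Q', W'⁆ := by
    have : ¬ X ⊓ ⁅Q', W'⁆ ≤ E₁ ⊔ E₂ := fun h3 => hcon (le_antisymm h3 hle)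
    obtain ⟨x, hx, hxn⟩ := SetLike.not_le_iff_exists.mp this
    intro y hy
    by_cases hyE : y ∈ E₁ ⊔ E₂
    · exact (hle hyE).2
    · have h3 := (hle (hprod x hx.1 y hy hxn hyE)).2
      have e : y = x⁻¹ * (x * y) := by group
      rw [e]
      exact Subgroup.mul_mem _ (Subgroup.inv_mem _ hx.2) h3
  have hWle : W' ≤ ⁅Q', W'⁆ := by
    obtain ⟨a, ha, rfl⟩ := hX
    refine h.v'.W_le _ fun d hd => ?_
    intro x hx
    rw [mem_cj] at hx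
    have h3 := hXle (conj_mem_cj (g := a) hx)
    have h4 := W1_conj h (D'.mul_mem hd (D'.inv_mem ha)) h3
    have e : d * a⁻¹ * (a * (d⁻¹ * x * d) * a⁻¹) * (d * a⁻¹)⁻¹ = x := by group
    rwa [e] at h4
  -- `[Q', W'] ≤ ⟨z'⟩`
  have h5 : ⁅Q', W'⁆ ≤ zpowers z' := by
    rw [Subgroup.commutator_le]
    intro q hq w hw
    have h6 := W1_comm h hq (hWle hw)
    rw [commutatorElement_def]
    rcases h6 with h6 | h6
    · rw [h6]; exact one_mem _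
    · rw [h6]; exact mem_zpowers _
  have h6 : E₁ ⊔ E₂ ≤ zpowers z' := (hle.trans inf_le_right).trans h5
  have h7 := Subgroup.card_le_of_le h6
  have h8 : Nat.card (zpowers z') ≤ 2 := by
    rw [Nat.card_zpowers]
    exact orderOf_le_of_pow_eq_one (by norm_num) (by rw [pow_two]; exact z'_sq h)
  omega

end pair

end Cfsg.Agent.MinSimple.OmPairB

/-! ### The API -/

namespace Cfsg.Agent.MinSimple.OmPair

open Subgroup
open Cfsg.Agent.MinSimple.Geo (cj)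

universe u

variable {G : Type u} [Group G] [Finite G] {k : ℕ} {UU VV : Set (Subgroup G)} {F : Set G}
  {D N Q U0 W : Subgroup G} {z : G} {p : ℕ} {D' N' Q' U0' W' : Subgroup G} {z' : G} {p' : ℕ}

variable (h : Pair k UU VV F D N Q U0 W z p D' N' Q' U0' W' z' p')
include h

/-- (SIGN) -/
theorem Pair.exists_eig {Y : Subgroup G} (hQ : Q' ≤ Y) (hN : Y ≤ N') (hW : ∀ w ∈ W, ∀ y ∈ Y, w * y * w⁻¹ ∈ Y)
    {w₀ : G} (hw₀ : w₀ ∈ W) (hne : ∃ y ∈ Y, w₀ * y * w₀⁻¹ * y⁻¹ ∉ Q') :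
    ∃ y, Eig W N' Q' y ∧ y ∈ Y ∧ w₀ * y * w₀⁻¹ * y ∈ Q' := OmPairB.exists_eig h hQ hN hW hw₀ hne

theorem Pair.k_eq : k = 2 := OmPairB.k_eq h

theorem Pair.not_le : ¬ W ≤ Q' := OmPairB.not_le_Q h

/-- an element of `W` outside `Q'` inverts an eigenvector -/
theorem Pair.exists_eig_of {w : G} (hw : w ∈ W) (hwQ : w ∉ Q') :
    ∃ y, Eig W N' Q' y ∧ w * y * w⁻¹ * y ∈ Q' := OmPairB.exists_eig_of h hw hwQ

/-- (4.1) -/
theorem Pair.eig_index {y : G} (hy : Eig W N' Q' y) :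
    (W ⊓ centralizer (cj y U0' : Set G)).relIndex W = 4 := OmPairB.eig_index h hy

/-- (4.1) -/
theorem Pair.eig_exists {y : G} (hy : Eig W N' Q' y) :
    ∃ w ∈ W, w * y * w⁻¹ * y⁻¹ ∈ Q' ∧ w ∈ normalizer (cj y U0' : Set G) ∧ ∃ x ∈ cj y U0', w * x ≠ x * w :=
  OmPairB.eig_exists h hy

theorem Pair.exists_special : ∃ X ∈ Nb D U0, (W' ⊓ centralizer (X : Set G)).relIndex W' = 4 ∧
    ∃ w ∈ W', ∃ x ∈ X, w * x ≠ x * w := OmPairB.exists_special' h.symm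

/-- Step 5: the line `E_y` -/
theorem Pair.eig_line {y : G} (hy : Eig W N' Q' y) :
    IsLn F z' U0' (cj y U0' ⊓ centralizer (W : Set G)) ∧ IsLn F z' (cj y U0') (cj y U0' ⊓ centralizer (W : Set G)) ∧
      cj y (cj y U0' ⊓ centralizer (W : Set G)) = cj y U0' ⊓ centralizer (W : Set G) ∧
      U0' ⊓ cj y U0' = cj y U0' ⊓ centralizer (W : Set G) := OmPairB.eig_line h hy

/-- `Q'` normalises all lines -/
theorem Pair.Q_line {X E : Subgroup G} (hX : X ∈ Nb D' U0') (hE : IsLn F z' X E) {q : G} (hq : q ∈ Q') :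
    q ∈ normalizer (E : Set G) := OmPairB.Q_line h hX hE hq

/-- `Q'` induces `s⁺` and `s⁻` on every neighbour -/
theorem Pair.exists_Q_line {X E : Subgroup G} (hX : X ∈ Nb D' U0') (hE : IsLn F z' X E) :
    ∃ q ∈ Q', (∀ x ∈ X, q * x * q⁻¹ * x⁻¹ ∈ E) ∧ ∃ x ∈ X, q * x ≠ x * q := OmPairB.exists_Q_line h hX hE

/-- `D'` is transitive on the pairs (neighbour, line) -/
theorem Pair.flag_trans {X X' E E' : Subgroup G} (hX : X ∈ Nb D' U0') (hX' : X' ∈ Nb D' U0')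
    (hE : IsLn F z' X E) (hE' : IsLn F z' X' E') : ∃ d ∈ D', cj d X = X' ∧ cj d E = E' :=
  OmPairB.flag_trans h hX hX' hE hE'

/-- an element of `D'` swaps the lines of `U0'` -/
theorem Pair.exists_swap : ∃ t ∈ D', t ∈ normalizer (U0' : Set G) ∧ ∀ E, IsLn F z' U0' E → cj t E ≠ E :=
  OmPairB.exists_swap h

/-- `W'1 = [Q', W']` -/
theorem Pair.W1_le : ⁅Q', W'⁆ ≤ W' := OmPairB.W1_le h

theorem Pair.W1_conj {d : G} (hd : d ∈ D') {x : G} (hx : x ∈ ⁅Q', W'⁆) : d * x * d⁻¹ ∈ ⁅Q', W'⁆ :=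
  OmPairB.W1_conj h hd hx

theorem Pair.W1_inf {X E₁ E₂ : Subgroup G} (hX : X ∈ Nb D' U0') (h1 : IsLn F z' X E₁) (h2 : IsLn F z' X E₂)
    (hne : E₁ ≠ E₂) : X ⊓ ⁅Q', W'⁆ = E₁ ⊔ E₂ := OmPairB.W1_inf h hX h1 h2 hne

theorem Pair.W1_comm {q x : G} (hq : q ∈ Q') (hx : x ∈ ⁅Q', W'⁆) :
    q * x * q⁻¹ * x⁻¹ = 1 ∨ q * x * q⁻¹ * x⁻¹ = z' := OmPairB.W1_comm h hq hx

end Cfsg.Agent.MinSimple.OmPair
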