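import Mathlib
import Cfsg.Agent.MinSimple.OmPairB

/-!
# The case (Omega) is empty, Step 6

Row 4061 of the blackboard (helper12). `E₁, E₂` are the two lines of `U0'`; `rr N' Eᵢ = N' ∩ N(Eᵢ)`.
-/

set_option autoImplicit false
set_option linter.dupNamespace false

namespace Cfsg.Agent.MinSimple.OmPair

open Subgroup
open Cfsg.Agent.ZN.Block (card_mul_relIndex' card_sup_mul_card_inf le_normalizer_of_forall)
open Cfsg.Agent.MinSimple.Geo (cj mem_cj conj_mem_cj cj_cj cj_mono cj_eq_of_mem_normalizer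
  mem_normalizer_iff_cj card_cj cj_one cj_normalizer)

universe u

variable {G : Type u} [Group G]

/-! ### general facts -/

theorem cj_eq_cj_iff {a b : G} {H : Subgroup G} : cj a H = cj b H ↔ a⁻¹ * b ∈ normalizer (H : Set G) := by
  rw [mem_normalizer_iff_cj]
  constructor
  · intro e
    rw [← cj_cj, ← e, cj_cj, inv_mul_cancel, cj_one]
  · intro e
    rw [← cj_cj] at e
    have := congrArg (cj a) e
    rw [cj_cj, mul_inv_cancel, cj_one] at this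
    exact this.symm

theorem card_le_two_mul [Finite G] {K X : Subgroup G} (hKX : K ≤ X)
    (h : ∀ u ∈ X, ∀ u' ∈ X, u ∉ K → u' ∉ K → u * u' ∈ K) : Nat.card X ≤ 2 * Nat.card K := by
  by_cases hall : ∀ u ∈ X, u ∈ K
  · have : X ≤ K := hall
    have := card_le_of_le this
    omega
  · push Not at hall
    obtain ⟨a, ha, haK⟩ := hall
    have h2 : K.relIndex X = 2 := by
      rw [relIndex, index_eq_two_iff]
      refine ⟨⟨a, ha⟩, ?_⟩
      rintro ⟨b, hb⟩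
      simp only [mem_subgroupOf]
      by_cases hbK : b ∈ K
      · refine Or.inr ⟨hbK, fun hba => haK ?_⟩
        have : b * a ∈ K := hba
        have := mul_mem (inv_mem hbK) this
        simpa using this
      · exact Or.inl ⟨h b hb a ha hbK haK, hbK⟩
    have := card_mul_relIndex' hKX
    rw [h2] at this
    omega

theorem isLn_map_cj {F : Set G} {z : G} {X E : Subgroup G} (h : IsLn F z X E) (hF : ∀ g : G, ∀ x ∈ F, g * x * g⁻¹ ∈ F)
    {d : G} (hd : d * z = z * d) : IsLn F z (cj d X) (cj d E) where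
  le := cj_mono h.le
  card := by rw [card_cj]; exact h.card
  mem := by
    have := conj_mem_cj (g := d) h.mem
    rwa [hd, mul_inv_cancel_right] at this
  full := by
    rintro e ⟨x, hx, rfl⟩ he
    refine hF d x (h.full x hx ?_)
    rintro rfl
    exact he (map_one _)

theorem IsLn.two {F : Set G} {z : G} {X E : Subgroup G} (h : IsLn F z X E) [Finite G] (hz2 : z * z = 1)
    (hz1 : z ≠ 1) {a b : G} (ha : a ∈ E) (hb : b ∈ E) (ha1 : a ≠ 1) (haz : a ≠ z)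
    (hb1 : b ≠ 1) (hbz : b ≠ z) : a * b = 1 ∨ a * b = z := by
  have hmem : ∀ x : G, x ∈ zpowers z ↔ x = 1 ∨ x = z := by
    intro x
    constructor
    · rintro ⟨m, rfl⟩
      simp only
      rcases Int.even_or_odd' m with ⟨c, rfl | rfl⟩
      · left
        rw [zpow_mul, zpow_two, hz2, one_zpow]
      · right
        rw [zpow_add, zpow_mul, zpow_two, hz2, one_zpow, one_mul, zpow_one]
    · rintro (rfl | rfl)
      · exact one_mem _
      · exact mem_zpowers _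
  have hle : zpowers z ≤ E := by rw [zpowers_le]; exact h.mem
  have hcard : Nat.card (zpowers z) = 2 := by
    rw [Nat.card_zpowers]
    exact orderOf_eq_prime (by rw [pow_two]; exact hz2) hz1
  have h2 : (zpowers z).relIndex E = 2 := by
    have := card_mul_relIndex' hle
    rw [hcard, h.card] at this
    omega
  have := Cfsg.Agent.ZN.Block.mul_mem_of_relIndex_two h2 ha hb
    (fun e => (hmem a).1 e |>.elim ha1 haz) (fun e => (hmem b).1 e |>.elim hb1 hbz)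
  exact (hmem _).1 this

theorem Fam.one_not_F {k : ℕ} {UU VV : Set (Subgroup G)} {F : Set G} (h : Fam k UU VV F) {X : Subgroup G}
    (hX : X ∈ UU) : (1 : G) ∉ F := by
  obtain ⟨Vf, hVf, hsup, hind, hall, hF⟩ := h.frame X hX
  intro h1
  have := h.two_le
  exact (hF 1 (one_mem _)).1 h1 ⟨0, by omega⟩ (one_mem _)

/-! ### congruences modulo `Q` -/

namespace Vert

variable {UU VV : Set (Subgroup G)} {F : Set G} {D N Q U0 W : Subgroup G} {z : G} {p : ℕ}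
  (h : Vert UU VV F D N Q U0 W z p)
include h

theorem Q_conj {d q : G} (hd : d ∈ D) (hq : q ∈ Q) : d * q * d⁻¹ ∈ Q := h.Q_norm d hd q hq

theorem Q_conj' {d q : G} (hd : d ∈ D) (hq : q ∈ Q) : d⁻¹ * q * d ∈ Q := by
  have := h.Q_norm d⁻¹ (inv_mem hd) q hq
  rwa [inv_inv] at this

theorem fix_mul_right {d n n' : G} (hn : n ∈ D) (h1 : d * n * d⁻¹ * n⁻¹ ∈ Q)
    (h2 : d * n' * d⁻¹ * n'⁻¹ ∈ Q) : d * (n * n') * d⁻¹ * (n * n')⁻¹ ∈ Q := by
  have e : d * (n * n') * d⁻¹ * (n * n')⁻¹ = (d * n * d⁻¹ * n⁻¹) * (n * (d * n' * d⁻¹ * n'⁻¹) * n⁻¹) := by group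
  rw [e]
  exact mul_mem h1 (h.Q_conj hn h2)

theorem fix_inv_right {d n : G} (hn : n ∈ D) (h1 : d * n * d⁻¹ * n⁻¹ ∈ Q) :
    d * n⁻¹ * d⁻¹ * n⁻¹⁻¹ ∈ Q := by
  have e : d * n⁻¹ * d⁻¹ * n⁻¹⁻¹ = n⁻¹ * (d * n * d⁻¹ * n⁻¹)⁻¹ * n := by group
  rw [e]
  exact h.Q_conj' hn (inv_mem h1)

theorem fix_mul_left {d d' n : G} (hd : d ∈ D) (h1 : d * n * d⁻¹ * n⁻¹ ∈ Q)
    (h2 : d' * n * d'⁻¹ * n⁻¹ ∈ Q) : (d * d') * n * (d * d')⁻¹ * n⁻¹ ∈ Q := by
  have e : (d * d') * n * (d * d')⁻¹ * n⁻¹ = (d * (d' * n * d'⁻¹ * n⁻¹) * d⁻¹) * (d * n * d⁻¹ * n⁻¹) := by group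
  rw [e]
  exact mul_mem (h.Q_conj hd h2) h1

theorem fix_Q_left {q n : G} (hq : q ∈ Q) (hn : n ∈ D) : q * n * q⁻¹ * n⁻¹ ∈ Q := by
  have := mul_mem hq (h.Q_conj hn (inv_mem hq))
  simpa [mul_assoc] using this

theorem fix_Q_right {d q : G} (hq : q ∈ Q) (hd : d ∈ D) : d * q * d⁻¹ * q⁻¹ ∈ Q :=
  mul_mem (h.Q_conj hd hq) (inv_mem hq)

/-- `N/Q` has odd order -/
theorem sq_mem {n : G} (hn : n ∈ N) (h2 : n * n ∈ Q) : n ∈ Q := by
  have hp : Odd p := h.prime.odd_of_ne_two h.odd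
  obtain ⟨m, hm⟩ := hp
  have h1 := h.N_pow n hn
  have e : n = ((n * n) ^ m)⁻¹ * n ^ p := by
    rw [hm, pow_succ, pow_mul, pow_two, inv_mul_cancel_left]
  rw [e]
  exact mul_mem (inv_mem (pow_mem h2 m)) h1

/-- two elements inverting `n` modulo `Q` -/
theorem fix_of_inv {u u' n : G} (hu : u ∈ D) (hn : n ∈ D) (h1 : u * n * u⁻¹ * n ∈ Q)
    (h2 : u' * n * u'⁻¹ * n ∈ Q) : (u * u') * n * (u * u')⁻¹ * n⁻¹ ∈ Q := by
  have e : (u * u') * n * (u * u')⁻¹ * n⁻¹ =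
      (u * (u' * n * u'⁻¹ * n) * u⁻¹) * (n * (u * n * u⁻¹ * n)⁻¹ * n⁻¹) := by group
  rw [e]
  exact mul_mem (h.Q_conj hu h2) (h.Q_conj hn (inv_mem h1))

theorem N_le_D {n : G} (hn : n ∈ N) : n ∈ D := h.N_le hn

theorem Q_le_D {q : G} (hq : q ∈ Q) : q ∈ D := h.N_le (h.Q_le hq)

/-- `w ∈ D ∩ N(U0)` fixes `cj n U0` iff it centralises `n` modulo `Q` -/
theorem fix_iff {w n : G} (hw : w ∈ D) (hwU : w ∈ normalizer (U0 : Set G)) (hn : n ∈ N) :
    w ∈ normalizer (cj n U0 : Set G) ↔ w * n * w⁻¹ * n⁻¹ ∈ Q := by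
  have e1 : cj w (cj n U0) = cj (w * n * w⁻¹) U0 := by
    rw [cj_cj]
    conv_rhs => rw [← cj_eq_of_mem_normalizer hwU, cj_cj]
    congr 1
    group
  rw [mem_normalizer_iff_cj, e1, eq_comm, cj_eq_cj_iff]
  constructor
  · intro hm
    have hN : n⁻¹ * (w * n * w⁻¹) ∈ N := mul_mem (inv_mem hn) (h.N_norm w hw n hn)
    have hQ := h.N_fix _ hN hm
    have := h.Q_conj (h.N_le hn) hQ
    have e : n * (n⁻¹ * (w * n * w⁻¹)) * n⁻¹ = w * n * w⁻¹ * n⁻¹ := by group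
    rwa [e] at this
  · intro hQ
    have := h.Q_conj' (h.N_le hn) hQ
    have e : n⁻¹ * (w * n * w⁻¹ * n⁻¹) * n = n⁻¹ * (w * n * w⁻¹) := by group
    rw [e] at this
    exact h.Q_fix _ this

theorem cj_eq_iff {n n' : G} (hn : n ∈ N) (hn' : n' ∈ N) : cj n U0 = cj n' U0 ↔ n⁻¹ * n' ∈ Q := by
  rw [cj_eq_cj_iff]
  exact ⟨fun hm => h.N_fix _ (mul_mem (inv_mem hn) hn') hm, fun hq => h.Q_fix _ hq⟩

theorem Q_normalizes {q d : G} (hq : q ∈ Q) (hd : d ∈ D) : q ∈ normalizer (cj d U0 : Set G) := by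
  rw [mem_normalizer_iff_cj, cj_cj, cj_eq_cj_iff]
  have := h.Q_conj' hd (inv_mem hq)
  have e : (q * d)⁻¹ * d = d⁻¹ * q⁻¹ * d := by group
  rw [e]
  exact h.Q_fix _ this

theorem nb_iff {X : Subgroup G} : X ∈ Nb D U0 ↔ ∃ n ∈ N, X = cj n U0 := by
  constructor
  · rintro ⟨d, hd, rfl⟩
    obtain ⟨n, hn, m, hm, hmU, rfl⟩ := h.trans d hd
    exact ⟨n, hn, by rw [← cj_cj, cj_eq_of_mem_normalizer hmU]⟩
  · rintro ⟨n, hn, rfl⟩
    exact ⟨n, h.N_le hn, rfl⟩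

end Vert

/-- the elements of `N` normalising the line `E` -/
def rr (N E : Subgroup G) : Subgroup G := N ⊓ normalizer (E : Set G)

theorem mem_rr {N E : Subgroup G} {g : G} : g ∈ rr N E ↔ g ∈ N ∧ cj g E = E := by
  rw [rr, mem_inf, mem_normalizer_iff_cj]

/-- the pair together with the two lines of `U0'` -/
structure Sg (UU VV : Set (Subgroup G)) (F : Set G) (D N Q U0 W : Subgroup G) (z : G) (p : ℕ)
    (D' N' Q' U0' W' : Subgroup G) (z' : G) (p' : ℕ) (E₁ E₂ : Subgroup G) : Prop where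
  pair : Pair 2 UU VV F D N Q U0 W z p D' N' Q' U0' W' z' p'
  l1 : IsLn F z' U0' E₁
  l2 : IsLn F z' U0' E₂
  ne : E₁ ≠ E₂

namespace Sg

variable {UU VV : Set (Subgroup G)} {F : Set G}
  {D N Q U0 W : Subgroup G} {z : G} {p : ℕ} {D' N' Q' U0' W' : Subgroup G} {z' : G} {p' : ℕ}
  {E₁ E₂ : Subgroup G}

theorem symm (h : Sg UU VV F D N Q U0 W z p D' N' Q' U0' W' z' p' E₁ E₂) :
    Sg UU VV F D N Q U0 W z p D' N' Q' U0' W' z' p' E₂ E₁ :=
  ⟨h.pair, h.l2, h.l1, h.ne.symm⟩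

variable (h : Sg UU VV F D N Q U0 W z p D' N' Q' U0' W' z' p' E₁ E₂)
include h

omit h in
theorem U0_nb : U0' ∈ Nb D' U0' := ⟨1, one_mem _, (cj_one _).symm⟩

theorem nb {n : G} (hn : n ∈ N') : cj n U0' ∈ Nb D' U0' := ⟨n, h.pair.v'.N_le hn, rfl⟩

theorem z_comm {d : G} (hd : d ∈ D') : d * z' = z' * d := mem_centralizer_singleton_iff.1 (h.pair.v'.D_le hd)

theorem z_sq : z' * z' = 1 := h.pair.fam.sq _ h.pair.v'.U0_mem _ h.pair.v'.z_mem

theorem z_ne : z' ≠ 1 := by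
  rintro e
  exact h.pair.fam.one_not_F h.pair.v'.U0_mem (e ▸ h.pair.v'.z_F)

theorem ln {n : G} (hn : n ∈ N') : IsLn F z' (cj n U0') (cj n E₁) :=
  isLn_map_cj h.l1 h.pair.fam.cjF (h.z_comm (h.pair.v'.N_le hn))

theorem ln_ne (n : G) : cj n E₁ ≠ cj n E₂ := by
  intro e
  have := congrArg (cj n⁻¹) e
  rw [cj_cj, cj_cj, inv_mul_cancel, cj_one, cj_one] at this
  exact h.ne this

theorem Q_le_rr [Finite G] : Q' ≤ rr N' E₁ := fun q hq =>
  mem_inf.2 ⟨h.pair.v'.Q_le hq, h.pair.Q_line U0_nb h.l1 hq⟩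

theorem W_normalizer {w : G} (hw : w ∈ W) : w ∈ normalizer (U0' : Set G) := by
  have : w ∈ centralizer (U0' : Set G) := mem_centralizer_iff.2 fun u hu => (h.pair.fix w hw u hu).symm
  exact centralizer_le_normalizer _ this

theorem W_cj {w : G} (hw : w ∈ W) : cj w E₁ = E₁ := by
  rw [← mem_normalizer_iff_cj]
  have : w ∈ centralizer (E₁ : Set G) :=
    mem_centralizer_iff.2 fun u hu => (h.pair.fix w hw u (h.l1.le hu)).symm
  exact centralizer_le_normalizer _ this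

theorem W_fix_iff {w n : G} (hw : w ∈ W) (hn : n ∈ N') :
    w ∈ normalizer (cj n U0' : Set G) ↔ w * n * w⁻¹ * n⁻¹ ∈ Q' :=
  h.pair.v'.fix_iff (h.pair.le hw) (h.W_normalizer hw) hn

omit h in
/-- the line `cj n E₁` depends only on `n` modulo `rr N' E₁` -/
theorem cj_mul_rr {n r : G} (hr : r ∈ rr N' E₁) : cj (n * r) E₁ = cj n E₁ := by
  rw [← cj_cj, (mem_rr.1 hr).2]

theorem rr_cj [Finite G] {n r : G} (hn : n ∈ N') (hr : r ∈ rr N' E₁) : cj (r * n) E₁ = cj n E₁ := by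
  have h1 : n⁻¹ * r * n⁻¹⁻¹ * r⁻¹ ∈ Q' := h.pair.v'.N_comm n⁻¹ (inv_mem hn) r (mem_rr.1 hr).1
  have h2 : n⁻¹ * r * n ∈ rr N' E₁ := by
    have e : n⁻¹ * r * n = (n⁻¹ * r * n⁻¹⁻¹ * r⁻¹) * r := by group
    rw [e]
    exact mul_mem (h.Q_le_rr h1) hr
  have e : r * n = n * (n⁻¹ * r * n) := by group
  rw [e, cj_mul_rr h2]

/-- an element of both `rr` is in `Q'` -/
theorem rr_inf [Finite G] {n : G} (h1 : n ∈ rr N' E₁) (h2 : n ∈ rr N' E₂) : n ∈ Q' := by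
  have hnD : n ∈ D' := h.pair.v'.N_le (mem_rr.1 h1).1
  have key : ∀ E : Subgroup G, IsLn F z' U0' E → cj n E = E → ∀ e ∈ E, n * n * e = e * (n * n) := by
    intro E hE hnE e he
    by_cases he1 : e = 1
    · rw [he1]; simp
    by_cases hez : e = z'
    · have := h.z_comm hnD
      rw [hez, mul_assoc, this, ← mul_assoc, this, mul_assoc]
    have hc : n * e * n⁻¹ ∈ E := by
      have := conj_mem_cj (g := n) he
      rwa [hnE] at this
    have hc1 : n * e * n⁻¹ ≠ 1 := by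
      intro e'
      rw [mul_inv_eq_one] at e'
      exact he1 (by
        have : n * e = n * 1 := by rw [e', mul_one]
        exact mul_left_cancel this)
    have hcz : n * e * n⁻¹ ≠ z' := by
      intro e'
      have hzz := h.z_comm hnD
      rw [mul_inv_eq_iff_eq_mul, ← hzz] at e'
      exact hez (mul_left_cancel e')
    have hsqE : e * e = 1 := h.pair.fam.sq _ h.pair.v'.U0_mem _ (hE.le he)
    rcases hE.two h.z_sq h.z_ne hc he hc1 hcz he1 hez with e1 | e1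
    · -- n e n⁻¹ = e
      have e2 : n * e * n⁻¹ = e := by
        rw [mul_eq_one_iff_eq_inv] at e1
        rw [e1]
        exact inv_eq_of_mul_eq_one_left hsqE
      rw [mul_inv_eq_iff_eq_mul] at e2
      rw [mul_assoc, e2, ← mul_assoc, e2, mul_assoc]
    · have e2 : n * e * n⁻¹ = z' * e := by
        have : n * e * n⁻¹ = n * e * n⁻¹ * e * e := by rw [mul_assoc (n * e * n⁻¹) e e, hsqE, mul_one]
        rw [this, e1]
      rw [mul_inv_eq_iff_eq_mul] at e2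
      have hzz := h.z_comm hnD
      calc n * n * e = n * (n * e) := by group
        _ = n * (z' * e * n) := by rw [e2]
        _ = (n * z') * (e * n) := by group
        _ = (z' * n) * (e * n) := by rw [hzz]
        _ = z' * (n * e) * n := by group
        _ = z' * (z' * e * n) * n := by rw [e2]
        _ = (z' * z') * e * (n * n) := by group
        _ = e * (n * n) := by rw [h.z_sq, one_mul]
  obtain ⟨-, ⟨u, hu, hu1, huF⟩, -⟩ := h.pair.fam.line_sup h.pair.v'.U0_mem h.pair.v'.z_F h.l1 h.l2 h.ne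
  have hle : E₁ ⊔ E₂ ≤ centralizer ({n * n} : Set G) := by
    refine sup_le (fun e he => ?_) (fun e he => ?_)
    · exact mem_centralizer_singleton_iff.2 (key E₁ h.l1 (mem_rr.1 h1).2 e he).symm
    · exact mem_centralizer_singleton_iff.2 (key E₂ h.l2 (mem_rr.1 h2).2 e he).symm
  have huX : u ∈ U0' := (sup_le h.l1.le h.l2.le) hu
  have hnn : n * n ∈ normalizer (U0' : Set G) := by
    refine h.pair.fam.cent _ h.pair.v'.U0_mem u huX hu1 huF ?_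
    exact mem_centralizer_singleton_iff.2 (mem_centralizer_singleton_iff.1 (hle hu)).symm
  have hnN : n ∈ N' := (mem_rr.1 h1).1
  exact h.pair.v'.sq_mem hnN (h.pair.v'.N_fix _ (mul_mem hnN hnN) hnn)

/-- `D' ∩ N(U0')` permutes the two lines -/
theorem cj_cases [Finite G] {d : G} (hd : d ∈ D') (hdU : d ∈ normalizer (U0' : Set G)) :
    cj d E₁ = E₁ ∨ cj d E₁ = E₂ := by
  have hl : IsLn F z' U0' (cj d E₁) := by
    have := isLn_map_cj h.l1 h.pair.fam.cjF (h.z_comm hd)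
    rwa [cj_eq_of_mem_normalizer hdU] at this
  exact h.pair.fam.line_cases h.pair.v'.U0_mem h.pair.v'.z_F h.l1 h.l2 h.ne hl

theorem conj_rr {d r : G} {E : Subgroup G} (hd : d ∈ D') (hr : r ∈ rr N' E) : d * r * d⁻¹ ∈ rr N' (cj d E) := by
  rw [mem_rr] at hr ⊢
  refine ⟨h.pair.v'.N_norm d hd r hr.1, ?_⟩
  rw [cj_cj]
  have e : d * r * d⁻¹ * d = d * r := by group
  rw [e, ← cj_cj, hr.2]

/-- an eigenvector with a nontrivial character is in `rr N' E₁` or in `rr N' E₂` -/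
theorem eig_cases [Finite G] {y : G} (hy : Eig W N' Q' y) : y ∈ rr N' E₁ ∨ y ∈ rr N' E₂ := by
  obtain ⟨hl, -, hcj, -⟩ := h.pair.eig_line hy
  rcases h.pair.fam.line_cases h.pair.v'.U0_mem h.pair.v'.z_F h.l1 h.l2 h.ne hl with e | e
  · left
    rw [e] at hcj
    exact mem_rr.2 ⟨hy.1, hcj⟩
  · right
    rw [e] at hcj
    exact mem_rr.2 ⟨hy.1, hcj⟩

/-- the line of an eigenvector in `rr N' E₁` is `E₁` -/
theorem eig_E [Finite G] {y : G} (hy : Eig W N' Q' y) (hyE : y ∈ rr N' E₁) :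
    cj y U0' ⊓ centralizer (W : Set G) = E₁ := by
  obtain ⟨hl, -, hcj, -⟩ := h.pair.eig_line hy
  rcases h.pair.fam.line_cases h.pair.v'.U0_mem h.pair.v'.z_F h.l1 h.l2 h.ne hl with e | e
  · exact e
  · rw [e] at hcj
    exact absurd (h.rr_inf hyE (mem_rr.2 ⟨hy.1, hcj⟩)) hy.2.1

theorem eig_not_fix {y : G} (hy : Eig W N' Q' y) : ¬ ∀ w ∈ W, w * y * w⁻¹ * y⁻¹ ∈ Q' := by
  intro hall
  obtain ⟨w, hw, hwy⟩ := hy.2.2.2
  have h1 := hall w hw
  have h2 : (w * y * w⁻¹ * y⁻¹)⁻¹ * (w * y * w⁻¹ * y) ∈ Q' := mul_mem (inv_mem h1) hwy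
  have e : (w * y * w⁻¹ * y⁻¹)⁻¹ * (w * y * w⁻¹ * y) = y * y := by group
  rw [e] at h2
  exact hy.2.1 (h.pair.v'.sq_mem hy.1 h2)

/-- an element of `W` cannot both centralise and invert an eigenvector -/
theorem eig_not_both {y w : G} (hy : y ∈ N') (hyQ : y ∉ Q') (h1 : w * y * w⁻¹ * y⁻¹ ∈ Q')
    (h2 : w * y * w⁻¹ * y ∈ Q') : False := by
  have h3 : (w * y * w⁻¹ * y⁻¹)⁻¹ * (w * y * w⁻¹ * y) ∈ Q' := mul_mem (inv_mem h1) h2
  have e : (w * y * w⁻¹ * y⁻¹)⁻¹ * (w * y * w⁻¹ * y) = y * y := by group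
  rw [e] at h3
  exact hyQ (h.pair.v'.sq_mem hy h3)

theorem exists_Eig [Finite G] : ∃ y, Eig W N' Q' y := by
  obtain ⟨w, hw, hwQ⟩ := SetLike.not_le_iff_exists.1 h.pair.not_le
  have hne : ∃ y ∈ N', w * y * w⁻¹ * y⁻¹ ∉ Q' := by
    by_contra hcon
    push Not at hcon
    have := h.pair.v'.faith w (h.pair.le hw) hcon
    exact hwQ (h.pair.v'.N_fix w this (h.W_normalizer hw))
  obtain ⟨y, hy, -, -⟩ := h.pair.exists_eig h.pair.v'.Q_le le_rfl
    (fun w' hw' n hn => h.pair.v'.N_norm w' (h.pair.le hw') n hn) hw hne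
  exact ⟨y, hy⟩

theorem rr_comm [Finite G] {r s : G} (hr : r ∈ rr N' E₁) (hs : s ∈ rr N' E₂) : r * s * r⁻¹ ∈ rr N' E₂ := by
  have h1 := h.pair.v'.N_comm r (mem_rr.1 hr).1 s (mem_rr.1 hs).1
  have e : r * s * r⁻¹ = (r * s * r⁻¹ * s⁻¹) * s := by group
  rw [e]
  exact mul_mem (h.symm.Q_le_rr h1) hs

/-- `N' = rr N' E₁ * rr N' E₂` -/
theorem exists_mul [Finite G] {n : G} (hn : n ∈ N') : ∃ r₁ ∈ rr N' E₁, ∃ r₂ ∈ rr N' E₂, n = r₁ * r₂ := by
  have hle1 : rr N' E₁ ≤ N' := inf_le_left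
  have hle2 : rr N' E₂ ≤ N' := inf_le_left
  have hirr := h.pair.v'.irr (rr N' E₁ ⊔ rr N' E₂) (h.Q_le_rr.trans le_sup_left) (sup_le hle1 hle2) (by
    intro d hd hdU x hx
    have key : rr N' E₁ ⊔ rr N' E₂ ≤ cj d⁻¹ (rr N' E₁ ⊔ rr N' E₂) := by
      refine sup_le (fun x hx => ?_) (fun x hx => ?_)
      · rw [mem_cj, inv_inv]
        have := h.conj_rr hd hx
        rcases h.cj_cases hd hdU with e | e
        · rw [e] at this; exact (le_sup_left : rr N' E₁ ≤ _) this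
        · rw [e] at this; exact (le_sup_right : rr N' E₂ ≤ _) this
      · rw [mem_cj, inv_inv]
        have := h.conj_rr hd hx
        rcases h.symm.cj_cases hd hdU with e | e
        · rw [e] at this; exact (le_sup_right : rr N' E₂ ≤ _) this
        · rw [e] at this; exact (le_sup_left : rr N' E₁ ≤ _) this
    have := key hx
    rwa [mem_cj, inv_inv] at this)
  rcases hirr with e | e
  · exfalso
    obtain ⟨y, hy⟩ := h.exists_Eig
    rcases h.eig_cases hy with h1 | h1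
    · have : y ∈ rr N' E₁ ⊔ rr N' E₂ := (le_sup_left : rr N' E₁ ≤ _) h1
      rw [e] at this
      exact hy.2.1 this
    · have : y ∈ rr N' E₁ ⊔ rr N' E₂ := (le_sup_right : rr N' E₂ ≤ _) h1
      rw [e] at this
      exact hy.2.1 this
  · have hn' : n ∈ rr N' E₁ ⊔ rr N' E₂ := by rw [e]; exact hn
    have hnorm : rr N' E₁ ≤ normalizer (rr N' E₂ : Set G) :=
      le_normalizer_of_forall fun r hr s hs => h.rr_comm hr hs
    rw [← SetLike.mem_coe, coe_mul_of_left_le_normalizer_right _ _ hnorm, Set.mem_mul] at hn'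
    obtain ⟨r₁, hr₁, r₂, hr₂, e⟩ := hn'
    exact ⟨r₁, hr₁, r₂, hr₂, e.symm⟩

/-- both `rr` are different from `Q'` -/
theorem exists_rr [Finite G] : ∃ g ∈ rr N' E₂, g ∉ Q' := by
  obtain ⟨y, hy⟩ := h.exists_Eig
  rcases h.eig_cases hy with h1 | h1
  · obtain ⟨t, ht, htU, hsw⟩ := h.pair.exists_swap
    have hcj : cj t E₁ = E₂ := (h.cj_cases ht htU).resolve_left (hsw E₁ h.l1)
    refine ⟨t * y * t⁻¹, ?_, fun hQ => hy.2.1 ?_⟩
    · have := h.conj_rr ht h1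
      rwa [hcj] at this
    · have := h.pair.v'.Q_conj' ht hQ
      have e : t⁻¹ * (t * y * t⁻¹) * t = y := by group
      rwa [e] at this
  · exact ⟨y, h1, hy.2.1⟩

/-- (6.1) -/
theorem cent_of [Finite G] {n r₁ r₂ : G} (hr₁ : r₁ ∈ rr N' E₁) (hr₂ : r₂ ∈ rr N' E₂) (hn : n = r₁ * r₂)
    (hE : ∀ w ∈ W, ∀ e ∈ cj n E₁, w * e = e * w) : ∀ w ∈ W, w * r₂ * w⁻¹ * r₂⁻¹ ∈ Q' := by
  have hr₂N : r₂ ∈ N' := (mem_rr.1 hr₂).1
  have e1 : cj n E₁ = cj r₂ E₁ := by rw [hn, h.rr_cj hr₂N hr₁]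
  have e2 : cj r₂ E₂ = E₂ := (mem_rr.1 hr₂).2
  have hX := h.nb hr₂N
  have hXU := (h.pair.nb_mem hX).1
  have hl1 := h.ln hr₂N
  have hl2 := h.symm.ln hr₂N
  obtain ⟨-, ⟨u, hu, hu1, huF⟩, -⟩ := h.pair.fam.line_sup hXU h.pair.v'.z_F hl1 hl2 (h.ln_ne r₂)
  have hcW : cj r₂ E₁ ⊔ cj r₂ E₂ ≤ centralizer (W : Set G) := by
    refine sup_le (fun e he => ?_) (fun e he => ?_)
    · rw [← e1] at he
      exact mem_centralizer_iff.2 fun w hw => hE w hw e he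
    · rw [e2] at he
      exact mem_centralizer_iff.2 fun w hw => h.pair.fix w hw e (h.l2.le he)
  have hall := h.pair.comm_of_nonfull hX ((sup_le hl1.le hl2.le) hu) hu1 huF
    (fun w hw => mem_centralizer_iff.1 (hcW hu) w hw)
  intro w hw
  rw [← h.W_fix_iff hw hr₂N]
  exact centralizer_le_normalizer _ (mem_centralizer_iff.2 fun x hx => (hall w hw x hx).symm)

/-- the line of a neighbour on which `w` acts nontrivially -/
theorem line_cases [Finite G] {n w : G} (hn : n ∈ N') (hw : w ∈ W) (hwn : w * n * w⁻¹ * n⁻¹ ∈ Q')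
    (hne : ∃ x ∈ cj n U0', w * x ≠ x * w) :
    cj n U0' ⊓ centralizer (W : Set G) = cj n E₁ ∨ cj n U0' ⊓ centralizer (W : Set G) = cj n E₂ := by
  have hX := h.nb hn
  obtain ⟨hl, -, -, -⟩ := h.pair.line rfl hX hw ((h.W_fix_iff hw hn).2 hwn) hne
  exact h.pair.fam.line_cases (h.pair.nb_mem hX).1 h.pair.v'.z_F (h.ln hn) (h.symm.ln hn) (h.ln_ne n) hl

/-- (6.3) -/
theorem step [Finite G] {n g w : G} (hn : n ∈ N') (hg : g ∈ rr N' E₂) (hw : w ∈ W)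
    (hwn : w * n * w⁻¹ * n⁻¹ ∈ Q') (hne : ∃ x ∈ cj n U0', w * x ≠ x * w)
    (hE : cj n U0' ⊓ centralizer (W : Set G) = cj n E₁) (hwg : w * g * w⁻¹ * g⁻¹ ∈ Q') :
    (∃ x ∈ cj (n * g) U0', w * x ≠ x * w) ∧ cj (n * g) U0' ⊓ centralizer (W : Set G) = cj (n * g) E₁ ∧
      ∀ w' ∈ W, w' * g * w'⁻¹ * g⁻¹ ∈ Q' := by
  have hgN : g ∈ N' := (mem_rr.1 hg).1
  have hng : n * g ∈ N' := mul_mem hn hgN
  have hwng : w * (n * g) * w⁻¹ * (n * g)⁻¹ ∈ Q' := h.pair.v'.fix_mul_right (h.pair.v'.N_le hn) hwn hwg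
  have e2 : cj (n * g) E₂ = cj n E₂ := cj_mul_rr hg
  have hX := h.nb hn
  -- `w` does not centralise `cj n E₂`
  have hnc : ¬ ∀ e ∈ cj n E₂, w * e = e * w := by
    intro hall
    obtain ⟨-, -, hl3, -⟩ := h.pair.line rfl hX hw ((h.W_fix_iff hw hn).2 hwn) hne
    have hle : cj n E₂ ≤ cj n E₁ := by
      rw [← hE]
      exact fun e he => mem_inf.2 ⟨(h.symm.ln hn).le he, hl3 e ((h.symm.ln hn).le he) (hall e he)⟩
    have := eq_of_le_of_card_ge hle (by rw [card_cj, card_cj, h.l1.card, h.l2.card])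
    exact h.ln_ne n this.symm
  have hne' : ∃ x ∈ cj (n * g) U0', w * x ≠ x * w := by
    by_contra hcon
    push Not at hcon
    refine hnc fun e he => hcon e ?_
    rw [← e2] at he
    exact (h.symm.ln hng).le he
  have hE' : cj (n * g) U0' ⊓ centralizer (W : Set G) = cj (n * g) E₁ := by
    rcases h.line_cases hng hw hwng hne' with e | e
    · exact e
    · exfalso
      apply hnc
      intro x hx
      rw [← e2, ← e] at hx
      exact mem_centralizer_iff.1 (mem_inf.1 hx).2 w hw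
  refine ⟨hne', hE', ?_⟩
  obtain ⟨r₁, hr₁, r₂, hr₂, hnr⟩ := h.exists_mul hn
  have h1 := h.cent_of hr₁ hr₂ hnr (by
    intro w' hw' e he
    rw [← hE] at he
    exact mem_centralizer_iff.1 (mem_inf.1 he).2 w' hw')
  have h2 := h.cent_of hr₁ (mul_mem hr₂ hg) (n := n * g) (by rw [hnr, mul_assoc]) (by
    intro w' hw' e he
    rw [← hE'] at he
    exact mem_centralizer_iff.1 (mem_inf.1 he).2 w' hw')
  intro w' hw'
  have hr₂D : r₂⁻¹ ∈ D' := inv_mem (h.pair.v'.N_le (mem_rr.1 hr₂).1)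
  have h3 := h.pair.v'.fix_inv_right (inv_mem hr₂D |> (inv_inv r₂ ▸ ·)) (h1 w' hw')
  have h4 := h.pair.v'.fix_mul_right hr₂D h3 (h2 w' hw')
  rwa [inv_mul_cancel_left] at h4

/-- the elements of `W` centralising both `y₁` and `y₂` modulo `Q'` centralise `cj y₁ U0'` -/
theorem cent_of_fix [Finite G] {y₁ y₂ : G} (hy₁ : Eig W N' Q' y₁) (hy₁E : y₁ ∈ rr N' E₁)
    (hy₂ : Eig W N' Q' y₂) (hy₂E : y₂ ∈ rr N' E₂) {w : G} (hw : w ∈ W)
    (h1 : w * y₁ * w⁻¹ * y₁⁻¹ ∈ Q') (h2 : w * y₂ * w⁻¹ * y₂⁻¹ ∈ Q') : ∀ x ∈ cj y₁ U0', w * x = x * w := by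
  by_contra hcon
  push Not at hcon
  have hE : cj y₁ U0' ⊓ centralizer (W : Set G) = cj y₁ E₁ := by
    rw [h.eig_E hy₁ hy₁E, (mem_rr.1 hy₁E).2]
  exact h.eig_not_fix hy₂ (h.step hy₁.1 hy₂E hw h1 hcon hE h2).2.2

theorem eig_relIndex [Finite G] {y : G} (hy : Eig W N' Q' y) :
    (W ⊓ normalizer (cj y U0' : Set G)).relIndex W ≤ 2 := by
  have hyD := h.pair.v'.N_le hy.1
  have hcard : Nat.card W ≤ 2 * Nat.card (W ⊓ normalizer (cj y U0' : Set G) : Subgroup G) := by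
    refine card_le_two_mul inf_le_left fun u hu u' hu' huA hu'A => mem_inf.2 ⟨mul_mem hu hu', ?_⟩
    have hinv : ∀ w ∈ W, w ∉ W ⊓ normalizer (cj y U0' : Set G) → w * y * w⁻¹ * y ∈ Q' := by
      intro w hw hwA
      rcases hy.2.2.1 w hw with e | e
      · exact absurd (mem_inf.2 ⟨hw, (h.W_fix_iff hw hy.1).2 e⟩) hwA
      · exact e
    rw [h.W_fix_iff (mul_mem hu hu') hy.1]
    exact h.pair.v'.fix_of_inv (h.pair.le hu) hyD (hinv u hu huA) (hinv u' hu' hu'A)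
  have hmul := card_mul_relIndex' (K := W ⊓ normalizer (cj y U0' : Set G)) (L := W) inf_le_left
  rw [← hmul, mul_comm 2] at hcard
  exact Nat.le_of_mul_le_mul_left hcard Nat.card_pos

theorem fix_of_cent [Finite G] {y₁ y₂ : G} (hy₁ : Eig W N' Q' y₁) (hy₁E : y₁ ∈ rr N' E₁)
    (hy₂ : Eig W N' Q' y₂) (hy₂E : y₂ ∈ rr N' E₂) {w : G} (hw : w ∈ W)
    (hc : ∀ x ∈ cj y₁ U0', w * x = x * w) : w * y₂ * w⁻¹ * y₂⁻¹ ∈ Q' := by
  set A := W ⊓ normalizer (cj y₁ U0' : Set G) with hA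
  set B := W ⊓ normalizer (cj y₂ U0' : Set G) with hB
  set C := W ⊓ centralizer (cj y₁ U0' : Set G) with hC
  have hle : A ⊓ B ≤ C := by
    intro a ha
    obtain ⟨haA, haB⟩ := mem_inf.1 ha
    obtain ⟨haW, haA⟩ := mem_inf.1 haA
    obtain ⟨-, haB⟩ := mem_inf.1 haB
    refine mem_inf.2 ⟨haW, mem_centralizer_iff.2 fun x hx => ?_⟩
    exact (h.cent_of_fix hy₁ hy₁E hy₂ hy₂E haW ((h.W_fix_iff haW hy₁.1).1 haA)
      ((h.W_fix_iff haW hy₂.1).1 haB) x hx).symm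
  have hidx : (A ⊓ B).relIndex W ≤ 4 := by
    have h1 := h.eig_relIndex hy₁
    have h2 := h.eig_relIndex hy₂
    calc (A ⊓ B).relIndex W ≤ A.relIndex W * B.relIndex W := relIndex_inf_le
      _ ≤ 2 * 2 := Nat.mul_le_mul h1 h2
  have hC4 : C.relIndex W = 4 := h.pair.eig_index hy₁
  have hcAB := card_mul_relIndex' (K := A ⊓ B) (L := W) (inf_le_left.trans inf_le_left)
  have hcC := card_mul_relIndex' (K := C) (L := W) inf_le_left
  have heq : A ⊓ B = C := by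
    refine eq_of_le_of_card_ge hle ?_
    by_contra hlt
    push Not at hlt
    have : Nat.card (A ⊓ B : Subgroup G) * (A ⊓ B).relIndex W < Nat.card C * C.relIndex W := by
      rw [hC4]
      calc Nat.card (A ⊓ B : Subgroup G) * (A ⊓ B).relIndex W
          ≤ Nat.card (A ⊓ B : Subgroup G) * 4 := Nat.mul_le_mul_left _ hidx
        _ < Nat.card C * 4 := by omega
    omega
  have hwC : w ∈ C := mem_inf.2 ⟨hw, mem_centralizer_iff.2 fun x hx => (hc x hx).symm⟩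
  rw [← heq] at hwC
  exact (h.W_fix_iff hw hy₂.1).1 (mem_inf.1 (mem_inf.1 hwC).2).2

theorem W_rr {w r : G} (hw : w ∈ W) (hr : r ∈ rr N' E₁) : w * r * w⁻¹ ∈ rr N' E₁ := by
  have := h.conj_rr (h.pair.le hw) hr
  rwa [h.W_cj hw] at this

/-- an element of `W` centralising both `y₁` and `y₂` modulo `Q'` is in `Q'` -/
theorem mem_Q_of_fix [Finite G] {y₁ y₂ : G} (hy₁ : Eig W N' Q' y₁) (hy₁E : y₁ ∈ rr N' E₁)
    (hy₂ : Eig W N' Q' y₂) (hy₂E : y₂ ∈ rr N' E₂) {w : G} (hw : w ∈ W)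
    (h1 : w * y₁ * w⁻¹ * y₁⁻¹ ∈ Q') (h2 : w * y₂ * w⁻¹ * y₂⁻¹ ∈ Q') : w ∈ Q' := by
  by_contra hwQ
  have hc1 := h.cent_of_fix hy₁ hy₁E hy₂ hy₂E hw h1 h2
  have hc2 := h.symm.cent_of_fix hy₂ hy₂E hy₁ hy₁E hw h2 h1
  obtain ⟨n, hn, hwn⟩ : ∃ n ∈ N', w * n * w⁻¹ * n⁻¹ ∉ Q' := by
    by_contra hcon
    push Not at hcon
    have := h.pair.v'.faith w (h.pair.le hw) hcon
    exact hwQ (h.pair.v'.N_fix w this (h.W_normalizer hw))
  obtain ⟨r₁, hr₁, r₂, hr₂, rfl⟩ := h.exists_mul hn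
  by_cases hf : w * r₁ * w⁻¹ * r₁⁻¹ ∈ Q'
  · have hf2 : w * r₂ * w⁻¹ * r₂⁻¹ ∉ Q' := fun hf2 =>
      hwn (h.pair.v'.fix_mul_right (h.pair.v'.N_le (mem_rr.1 hr₁).1) hf hf2)
    obtain ⟨y', hy', hy'E, hinv⟩ := h.pair.exists_eig h.symm.Q_le_rr inf_le_left
      (fun w' hw' y hy => h.symm.W_rr hw' hy) hw ⟨r₂, hr₂, hf2⟩
    have hfix := h.fix_of_cent hy₁ hy₁E hy' hy'E hw hc1
    exact h.eig_not_both hy'.1 hy'.2.1 hfix hinv
  · obtain ⟨y', hy', hy'E, hinv⟩ := h.pair.exists_eig h.Q_le_rr inf_le_left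
      (fun w' hw' y hy => h.W_rr hw' hy) hw ⟨r₁, hr₁, hf⟩
    have hfix := h.symm.fix_of_cent hy₂ hy₂E hy' hy'E hw hc2
    exact h.eig_not_both hy'.1 hy'.2.1 hfix hinv

/-- an element of `W ∩ Q'` centralises `W'` -/
theorem cent_of_mem_Q [Finite G] {y₁ y₂ : G} (hy₁ : Eig W N' Q' y₁) (hy₁E : y₁ ∈ rr N' E₁)
    (hy₂ : Eig W N' Q' y₂) (hy₂E : y₂ ∈ rr N' E₂) {w : G} (hw : w ∈ W) (hwQ : w ∈ Q') :
    ∀ x ∈ W', w * x = x * w := by
  have hle : W' ≤ centralizer ({w} : Set G) := by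
    refine h.pair.v'.W_le _ fun d hd => ?_
    obtain ⟨n, hn, e⟩ := h.pair.v'.nb_iff.1 (⟨d, hd, rfl⟩ : cj d U0' ∈ Nb D' U0')
    rw [e]
    by_contra hcon
    obtain ⟨x, hx, hxw⟩ := SetLike.not_le_iff_exists.1 hcon
    have hne : ∃ x ∈ cj n U0', w * x ≠ x * w :=
      ⟨x, hx, fun e => hxw (mem_centralizer_singleton_iff.2 e.symm)⟩
    have hfix : ∀ m ∈ N', w * m * w⁻¹ * m⁻¹ ∈ Q' := fun m hm =>
      h.pair.v'.fix_Q_left hwQ (h.pair.v'.N_le hm)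
    rcases h.line_cases hn hw (hfix n hn) hne with e | e
    · exact h.eig_not_fix hy₂ (h.step hn hy₂E hw (hfix n hn) hne e (hfix _ hy₂.1)).2.2
    · exact h.eig_not_fix hy₁ (h.symm.step hn hy₁E hw (hfix n hn) hne e (hfix _ hy₁.1)).2.2
  intro x hx
  exact (mem_centralizer_singleton_iff.1 (hle hx)).symm

/-- (6.2) -/
theorem not_both [Finite G] {y₁ y₂ : G} (hy₁ : Eig W N' Q' y₁) (hy₁E : y₁ ∈ rr N' E₁)
    (hy₂ : Eig W N' Q' y₂) (hy₂E : y₂ ∈ rr N' E₂) : False := by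
  have hWW := h.pair.v.W_comm
  have hWW' := h.pair.v'.W_comm
  obtain ⟨b, hb, hb1, hbn, hbne⟩ := h.pair.eig_exists hy₁
  have hb2 : ¬ b * y₂ * b⁻¹ * y₂⁻¹ ∈ Q' := by
    intro hb2
    obtain ⟨x, hx, hne⟩ := hbne
    exact hne (h.cent_of_fix hy₁ hy₁E hy₂ hy₂E hb hb1 hb2 x hx)
  -- the special neighbour of `d`
  obtain ⟨X, hX, hX4, hXne⟩ := h.pair.exists_special
  obtain ⟨V, hV, hVX, Y, hY, V', hV', hVY', a', ha', a, ha, haa⟩ := h.pair.symm.exists_pair hX hXne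
  obtain ⟨hXU, hXW, -⟩ := h.pair.v.nb_mem h.pair.fam hX
  obtain ⟨hYU, hYW, -⟩ := h.pair.nb_mem hY
  have hVW : V ≤ W := hVX.trans hXW
  have hVcent : ∀ v ∈ V, (∀ x ∈ W', v * x = x * v) → v = 1 := by
    intro v hv hall
    by_contra hv1
    have ha'1 : a' ≠ 1 := by
      rintro rfl
      exact haa (by simp)
    exact h.pair.ne_of_ne hX hV hVX hY hV' hVY' ⟨a, ha, a', ha', fun e => haa e.symm⟩ hv ha' hv1 ha'1
      (hall a' (hYW (hVY' ha')))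
  -- `C_W(W') = C_W(X₁)`
  set X₁ := cj y₁ U0' with hX₁
  have hX₁nb : X₁ ∈ Nb D' U0' := h.nb hy₁.1
  obtain ⟨hX₁U, hX₁W, hzX₁⟩ := h.pair.nb_mem hX₁nb
  have hD0 : W ⊓ centralizer (W' : Set G) = W ⊓ centralizer (X₁ : Set G) := by
    refine le_antisymm (inf_le_inf_left _ (centralizer_le hX₁W)) fun c hc => ?_
    obtain ⟨hcW, hcX⟩ := mem_inf.1 hc
    have hc1 : ∀ x ∈ X₁, c * x = x * c := fun x hx => (mem_centralizer_iff.1 hcX x hx).symm
    have hf1 : c * y₁ * c⁻¹ * y₁⁻¹ ∈ Q' := (h.W_fix_iff hcW hy₁.1).1 (centralizer_le_normalizer _ hcX)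
    have hf2 := h.fix_of_cent hy₁ hy₁E hy₂ hy₂E hcW hc1
    have hcQ := h.mem_Q_of_fix hy₁ hy₁E hy₂ hy₂E hcW hf1 hf2
    exact mem_inf.2 ⟨hcW, mem_centralizer_iff.2 fun x hx =>
      (h.cent_of_mem_Q hy₁ hy₁E hy₂ hy₂E hcW hcQ x hx).symm⟩
  set D0 := W ⊓ centralizer (W' : Set G) with hD0def
  have hcW : Nat.card D0 * 4 = Nat.card W := by
    have h1 := card_mul_relIndex' (K := D0) (L := W) inf_le_left
    have h2 : D0.relIndex W = 4 := by rw [hD0]; exact h.pair.eig_index hy₁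
    rwa [h2] at h1
  have hVD : V ⊔ D0 = W := by
    have hn : V ≤ normalizer (D0 : Set G) := le_normalizer_of_forall fun v hv c hc => by
      rw [hWW v (hVW hv) c (mem_inf.1 hc).1, mul_inv_cancel_right]; exact hc
    have h1 := card_sup_mul_card_inf hn
    have h2 : V ⊓ D0 = ⊥ := by
      rw [eq_bot_iff]
      intro v hv
      obtain ⟨hv1, hv2⟩ := mem_inf.1 hv
      rw [mem_bot]
      exact hVcent v hv1 fun x hx => (mem_centralizer_iff.1 (mem_inf.1 hv2).2 x hx).symm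
    rw [h2, Subgroup.card_bot, mul_one, h.pair.fam.card V hV] at h1
    exact eq_of_le_of_card_ge (sup_le hVW inf_le_left) (by omega)
  -- `C_{W'}(W) = C_{W'}(X)`
  have hC : W' ⊓ centralizer (W : Set G) = W' ⊓ centralizer (X : Set G) := by
    refine le_antisymm (inf_le_inf_left _ (centralizer_le hXW)) fun c hc => ?_
    obtain ⟨hcW', hcX⟩ := mem_inf.1 hc
    have hle : W ≤ centralizer ({c} : Set G) := by
      rw [← hVD]
      refine sup_le (fun v hv => ?_) (fun v hv => ?_)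
      · exact mem_centralizer_singleton_iff.2 (mem_centralizer_iff.1 hcX v (hVX hv))
      · exact mem_centralizer_singleton_iff.2 (mem_centralizer_iff.1 (mem_inf.1 hv).2 c hcW').symm
    exact mem_inf.2 ⟨hcW', mem_centralizer_iff.2 fun w hw => mem_centralizer_singleton_iff.1 (hle hw)⟩
  set C := W' ⊓ centralizer (W : Set G) with hCdef
  have hcW' : Nat.card C * 4 = Nat.card W' := by
    have h1 := card_mul_relIndex' (K := C) (L := W') inf_le_left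
    have h2 : C.relIndex W' = 4 := by rw [hC]; exact hX4
    rwa [h2] at h1
  have hn1 : X₁ ≤ normalizer (C : Set G) := le_normalizer_of_forall fun v hv c hc => by
    rw [hWW' v (hX₁W hv) c (mem_inf.1 hc).1, mul_inv_cancel_right]; exact hc
  have hXC : X₁ ⊔ C = W' := by
    have h1 := card_sup_mul_card_inf hn1
    have h2 : X₁ ⊓ C = X₁ ⊓ centralizer (W : Set G) := by
      rw [hCdef, ← inf_assoc, inf_eq_left.2 hX₁W]
    have h3 : Nat.card (X₁ ⊓ centralizer (W : Set G) : Subgroup G) = 4 := (h.pair.eig_line hy₁).2.1.card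
    rw [h2, h3, h.pair.fam.card_eq hX₁U] at h1
    exact eq_of_le_of_card_ge (sup_le hX₁W inf_le_left) (by omega)
  -- `[W', b] ≤ E₁`
  obtain ⟨-, hl2, -, -⟩ := h.pair.line rfl hX₁nb hb hbn hbne
  have hbW : ∀ x ∈ W', b * x * b⁻¹ * x⁻¹ ∈ E₁ := by
    intro x hx
    rw [← hXC, ← SetLike.mem_coe, coe_mul_of_left_le_normalizer_right _ _ hn1, Set.mem_mul] at hx
    obtain ⟨x₁, hx₁, c, hc, rfl⟩ := hx
    have hbc : b * c = c * b := mem_centralizer_iff.1 (mem_inf.1 hc).2 b hb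
    have e : b * (x₁ * c) * b⁻¹ * (x₁ * c)⁻¹ = b * x₁ * b⁻¹ * x₁⁻¹ := by
      calc b * (x₁ * c) * b⁻¹ * (x₁ * c)⁻¹ = b * x₁ * (c * b⁻¹) * c⁻¹ * x₁⁻¹ := by group
        _ = b * x₁ * (b⁻¹ * c) * c⁻¹ * x₁⁻¹ := by
          rw [show c * b⁻¹ = b⁻¹ * c by rw [eq_inv_mul_iff_mul_eq, ← mul_assoc, hbc, mul_inv_cancel_right]]
        _ = b * x₁ * b⁻¹ * x₁⁻¹ := by group
    rw [e, ← h.eig_E hy₁ hy₁E]
    exact hl2 x₁ hx₁
  -- the contradiction on `X₂`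
  set X₂ := cj y₂ U0' with hX₂
  obtain ⟨hX₂U, hX₂W, hzX₂⟩ := h.pair.nb_mem (h.nb hy₂.1)
  have hbX₂ : b ∉ normalizer (X₂ : Set G) := fun e => hb2 ((h.W_fix_iff hb hy₂.1).1 e)
  have hzb : z' ∈ cj b X₂ := by
    have := conj_mem_cj (g := b) hzX₂
    rwa [h.z_comm (h.pair.le hb), mul_inv_cancel_right] at this
  have hK : Nat.card (X₂ ⊓ cj b X₂ : Subgroup G) ≤ 4 := by
    refine h.pair.fam.card_le_four hX₂U inf_le_left fun e he he1 => ?_
    by_contra heF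
    apply hbX₂
    rw [mem_normalizer_iff_cj]
    exact (h.pair.fam.inter X₂ hX₂U (cj b X₂) (h.pair.fam.cjU b X₂ hX₂U) e (mem_inf.1 he).1
      (mem_inf.1 he).2 he1 heF).symm
  have hmemK : ∀ u ∈ X₂, (b * u * b⁻¹ * u⁻¹ = 1 ∨ b * u * b⁻¹ * u⁻¹ = z') → u ∈ X₂ ⊓ cj b X₂ := by
    intro u hu hcase
    have hm := conj_mem_cj (g := b) hu
    refine mem_inf.2 ⟨hu, ?_⟩
    rcases hcase with e | e
    · rw [mul_inv_eq_one] at e
      rwa [e] at hm
    · have e2 : u = (b * u * b⁻¹ * u⁻¹)⁻¹ * (b * u * b⁻¹) := by group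
      rw [e2, e]
      exact mul_mem (inv_mem hzb) hm
  have hcard := card_le_two_mul (K := X₂ ⊓ cj b X₂) (X := X₂) inf_le_left (by
    intro u hu u' hu' huK hu'K
    refine hmemK _ (mul_mem hu hu') ?_
    have e : b * (u * u') * b⁻¹ * (u * u')⁻¹ = (b * u * b⁻¹ * u⁻¹) * (b * u' * b⁻¹ * u'⁻¹) := by
      have hc := hWW' u (hX₂W hu) (b * u' * b⁻¹ * u'⁻¹) (h.pair.comm_mem hb (hX₂W hu')).2
      calc b * (u * u') * b⁻¹ * (u * u')⁻¹ = (b * u * b⁻¹) * ((b * u' * b⁻¹ * u'⁻¹) * u⁻¹) := by group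
        _ = (b * u * b⁻¹) * (u⁻¹ * (b * u' * b⁻¹ * u'⁻¹)) := by
          rw [show (b * u' * b⁻¹ * u'⁻¹) * u⁻¹ = u⁻¹ * (b * u' * b⁻¹ * u'⁻¹) by
            rw [eq_inv_mul_iff_mul_eq, ← mul_assoc, hc, mul_inv_cancel_right]]
        _ = _ := by group
    rw [e]
    refine h.l1.two h.z_sq h.z_ne (hbW u (hX₂W hu)) (hbW u' (hX₂W hu')) ?_ ?_ ?_ ?_
    · exact fun e => huK (hmemK u hu (Or.inl e))
    · exact fun e => huK (hmemK u hu (Or.inr e))
    · exact fun e => hu'K (hmemK u' hu' (Or.inl e))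
    · exact fun e => hu'K (hmemK u' hu' (Or.inr e)))
  rw [h.pair.fam.card_eq hX₂U] at hcard
  omega

/-- if there is an eigenvector in `rr N' E₁` then `W` centralises `rr N' E₂` modulo `Q'` -/
theorem fix_rr [Finite G] {y₁ : G} (hy₁ : Eig W N' Q' y₁) (hy₁E : y₁ ∈ rr N' E₁) :
    ∀ w ∈ W, ∀ g ∈ rr N' E₂, w * g * w⁻¹ * g⁻¹ ∈ Q' := by
  by_contra hcon
  push Not at hcon
  obtain ⟨w, hw, g, hg, hwg⟩ := hcon
  obtain ⟨y₂, hy₂, hy₂E, -⟩ := h.pair.exists_eig h.symm.Q_le_rr inf_le_left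
    (fun w' hw' y hy => h.symm.W_rr hw' hy) hw ⟨g, hg, hwg⟩
  exact h.not_both hy₁ hy₁E hy₂ hy₂E

end Sg

/-- Step 6 -/
theorem Pair.exists_sg [Finite G] {UU VV : Set (Subgroup G)} {F : Set G}
    {D N Q U0 W : Subgroup G} {z : G} {p : ℕ} {D' N' Q' U0' W' : Subgroup G} {z' : G} {p' : ℕ}
    (h : Pair 2 UU VV F D N Q U0 W z p D' N' Q' U0' W' z' p') :
    ∃ E₁ E₂, Sg UU VV F D N Q U0 W z p D' N' Q' U0' W' z' p' E₁ E₂ ∧ (∃ y, Eig W N' Q' y ∧ y ∈ rr N' E₁) ∧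
      ∀ w ∈ W, ∀ g ∈ rr N' E₂, w * g * w⁻¹ * g⁻¹ ∈ Q' := by
  obtain ⟨E₁, E₂, hl1, hl2, hne, -⟩ := h.fam.exists_lines h.v'.U0_mem h.v'.z_mem h.v'.z_F
  have hs : Sg UU VV F D N Q U0 W z p D' N' Q' U0' W' z' p' E₁ E₂ := ⟨h, hl1, hl2, hne⟩
  obtain ⟨y, hy⟩ := hs.exists_Eig
  rcases hs.eig_cases hy with e | e
  · exact ⟨E₁, E₂, hs, ⟨y, hy, e⟩, hs.fix_rr hy e⟩
  · exact ⟨E₂, E₁, hs.symm, ⟨y, hy, e⟩, hs.symm.fix_rr hy e⟩

end Cfsg.Agent.MinSimple.OmPair
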