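import Mathlib
import Cfsg.Agent.MinSimple.OmPairC

/-!
# The case (Omega) is empty: Step 7

Row 4061 of the blackboard (helper12), Step 7, with helper839's simplifications.
-/

set_option autoImplicit false
set_option linter.dupNamespace false
set_option linter.unusedSectionVars false
set_option linter.unusedVariables false

namespace Cfsg.Agent.MinSimple.OmPairD

open Subgroup
open Cfsg.Agent.MinSimple.OmPair
open Cfsg.Agent.MinSimple.Geo (cj mem_cj conj_mem_cj cj_cj cj_mono cj_one cj_inv_cj cj_cj_inv cj_le_iff card_cj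
  mem_normalizer_iff_cj cj_eq_of_mem_normalizer cj_inf)

universe u

variable {G : Type u} [Group G] [Finite G] {UU VV : Set (Subgroup G)} {F : Set G}
  {D N Q U0 W : Subgroup G} {z : G} {p : ℕ} {D' N' Q' U0' W' : Subgroup G} {z' : G} {p' : ℕ}

/-! ### one vertex -/

section Vert

variable (hv : Vert UU VV F D N Q U0 W z p)
include hv

theorem z_comm {d : G} (hd : d ∈ D) : d * z = z * d :=
  mem_centralizer_singleton_iff.1 (hv.D_le hd)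

theorem Q_le_D : Q ≤ D := hv.Q_le.trans hv.N_le

theorem conj_Q_iff {d q : G} (hd : d ∈ D) : d * q * d⁻¹ ∈ Q ↔ q ∈ Q := by
  refine ⟨fun h => ?_, hv.Q_norm d hd q⟩
  have h1 := hv.Q_norm d⁻¹ (inv_mem hd) _ h
  have e : d⁻¹ * (d * q * d⁻¹) * d⁻¹⁻¹ = q := by group
  rwa [e] at h1

theorem comm_mem_W {d w : G} (hd : d ∈ D) (hw : w ∈ W) : d * w * d⁻¹ * w⁻¹ ∈ W :=
  W.mul_mem (hv.conj_W hd hw) (W.inv_mem hw)

/-- `s ↦ [s, w]` for a product -/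
theorem comm_mul {a b w : G} (ha : a ∈ D) (hb : b ∈ D) (hw : w ∈ W) :
    a * b * w * (a * b)⁻¹ * w⁻¹ = a * (b * w * b⁻¹ * w⁻¹) * a⁻¹ * (a * w * a⁻¹ * w⁻¹) := by group

/-- `w ↦ [s, w]` is multiplicative on `W` -/
theorem mul_comm' {a w w' : G} (ha : a ∈ D) (hw : w ∈ W) (hw' : w' ∈ W) :
    a * (w * w') * a⁻¹ * (w * w')⁻¹ = a * w * a⁻¹ * w⁻¹ * (a * w' * a⁻¹ * w'⁻¹) := by
  have h1 := hv.W_comm (a * w' * a⁻¹ * w'⁻¹) (comm_mem_W hv ha hw') w⁻¹ (W.inv_mem hw)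
  calc a * (w * w') * a⁻¹ * (w * w')⁻¹ = a * w * a⁻¹ * ((a * w' * a⁻¹ * w'⁻¹) * w⁻¹) := by group
    _ = a * w * a⁻¹ * (w⁻¹ * (a * w' * a⁻¹ * w'⁻¹)) := by rw [h1]
    _ = _ := by group

theorem W_inv (hf : Fam 2 UU VV F) {w : G} (hw : w ∈ W) : w⁻¹ = w :=
  inv_eq_of_mul_eq_one_left (hv.W_sq hf hw)

/-- an element of odd order modulo `Q` whose square is in `Q` is in `Q` -/
theorem mem_of_sq {n : G} (hn : n ∈ N) (h : n * n ∈ Q) : n ∈ Q := by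
  have hodd : ∃ k : ℕ, p = 2 * k + 1 := hv.prime.odd_of_ne_two hv.odd
  obtain ⟨k, hk⟩ := hodd
  have h1 := hv.N_pow n hn
  rw [hk, pow_succ, pow_mul, pow_two] at h1
  have h2 : (n * n) ^ k ∈ Q := Q.pow_mem h k
  have h3 := Q.mul_mem (Q.inv_mem h2) h1
  rwa [inv_mul_cancel_left] at h3

/-- the neighbours are the `U0 ^ n`, `n ∈ N` -/
theorem exists_n {X : Subgroup G} (hX : X ∈ Nb D U0) : ∃ n ∈ N, X = cj n U0 := by
  obtain ⟨d, hd, rfl⟩ := hX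
  obtain ⟨n, hn, m, -, hm', rfl⟩ := hv.trans d hd
  refine ⟨n, hn, ?_⟩
  rw [← cj_cj, cj_eq_of_mem_normalizer hm']

theorem nb {d : G} (hd : d ∈ D) : cj d U0 ∈ Nb D U0 := ⟨d, hd, rfl⟩

/-- a line, moved by an element of `D` -/
theorem ln_conj (hf : Fam 2 UU VV F) {X E : Subgroup G} (hE : IsLn F z X E) {d : G} (hd : d ∈ D) :
    IsLn F z (cj d X) (cj d E) where
  le := cj_mono hE.le
  card := by rw [card_cj, hE.card]
  mem := by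
    rw [mem_cj, mul_assoc, ← z_comm hv hd, inv_mul_cancel_left]
    exact hE.mem
  full := by
    intro e he he1
    have h1 : d⁻¹ * e * d ∈ E := mem_cj.1 he
    have h2 : d⁻¹ * e * d ≠ 1 := by
      intro h3
      apply he1
      calc e = d * (d⁻¹ * e * d) * d⁻¹ := by group
        _ = 1 := by rw [h3]; group
    have h3 := hf.cjF d _ (hE.full _ h1 h2)
    have e1 : d * (d⁻¹ * e * d) * d⁻¹ = e := by group
    rwa [e1] at h3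

end Vert

/-! ### the pair -/

section Pair

variable (h : Pair 2 UU VV F D N Q U0 W z p D' N' Q' U0' W' z' p')
include h

theorem Q_cj {E : Subgroup G} (hE : IsLn F z' U0' E) {q : G} (hq : q ∈ Q') : cj q E = E :=
  cj_eq_of_mem_normalizer (h.Q_line ⟨1, one_mem _, (cj_one _).symm⟩ hE hq)

theorem cj_line_eq {E : Subgroup G} (hE : IsLn F z' U0' E) {n m : G} (hnm : n⁻¹ * m ∈ Q') :
    cj n E = cj m E := by
  have e : m = n * (n⁻¹ * m) := by group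
  rw [e, ← cj_cj, Q_cj h hE hnm]

theorem cj_U_eq {n m : G} (hnm : n⁻¹ * m ∈ Q') : cj n U0' = cj m U0' := by
  have e : m = n * (n⁻¹ * m) := by group
  rw [e, ← cj_cj, cj_eq_of_mem_normalizer (h.v'.Q_fix _ hnm)]

/-- `w ∈ W` moves the block `n` to the block `w n w⁻¹` -/
theorem cj_W {w n : G} (hw : w ∈ W) : cj w (cj n U0') = cj (w * n * w⁻¹) U0' := by
  have h1 : cj w⁻¹ U0' = U0' := by
    rw [← mem_normalizer_iff_cj]
    exact centralizer_le_normalizer _ (mem_centralizer_iff.2 fun u hu => (h.fix w⁻¹ (inv_mem hw) u hu).symm)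
  rw [cj_cj, ← cj_cj (w * n) w⁻¹, h1]

theorem W_fix_iff {w n : G} (hw : w ∈ W) (hn : n ∈ N') :
    w ∈ normalizer ((cj n U0' : Subgroup G) : Set G) ↔ w * n * w⁻¹ * n⁻¹ ∈ Q' := by
  rw [mem_normalizer_iff_cj, cj_W h hw]
  have hnD := h.v'.N_le hn
  have hwn : w * n * w⁻¹ ∈ N' := h.v'.N_norm w (h.le hw) n hn
  have e1 : w * n * w⁻¹ * n⁻¹ = n * (n⁻¹ * (w * n * w⁻¹)) * n⁻¹ := by group
  rw [e1, conj_Q_iff h.v' hnD]
  constructor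
  · intro e
    apply h.v'.N_fix _ (mul_mem (inv_mem hn) hwn)
    rw [mem_normalizer_iff_cj, ← cj_cj, e, cj_inv_cj]
  · intro e
    exact (cj_U_eq h e).symm

/-! ### Step 6, in the form used here -/

theorem sgn_ne {E₁ E₂ : Subgroup G} (h1 : IsLn F z' U0' E₁) (h2 : IsLn F z' U0' E₂) (hne : E₁ ≠ E₂) :
    ∃ g ∈ N', g ∈ normalizer (E₂ : Set G) ∧ g ∉ Q' := by
  have hs : Sg UU VV F D N Q U0 W z p D' N' Q' U0' W' z' p' E₁ E₂ := ⟨h, h1, h2, hne⟩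
  obtain ⟨g, hg, hgQ⟩ := hs.exists_rr
  exact ⟨g, (mem_inf.1 hg).1, (mem_inf.1 hg).2, hgQ⟩

theorem sgn_63 {E₁ E₂ : Subgroup G} (h1 : IsLn F z' U0' E₁) (h2 : IsLn F z' U0' E₂) (hne : E₁ ≠ E₂)
    {w n g : G} (hw : w ∈ W) (hn : n ∈ N') (hwn : w ∈ normalizer (cj n U0' : Set G))
    (hwne : ∃ x ∈ cj n U0', w * x ≠ x * w) (hc : ∀ w' ∈ W, ∀ x ∈ cj n E₁, w' * x = x * w')
    (hg : g ∈ N') (hg2 : g ∈ normalizer (E₂ : Set G)) (hwg : w * g * w⁻¹ * g⁻¹ ∈ Q') :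
    (∃ x ∈ cj (g * n) U0', w * x ≠ x * w) ∧
      cj (g * n) U0' ⊓ centralizer (W : Set G) = cj (g * n) E₁ ∧
      ∀ w' ∈ W, w' * g * w'⁻¹ * g⁻¹ ∈ Q' := by
  have hs : Sg UU VV F D N Q U0 W z p D' N' Q' U0' W' z' p' E₁ E₂ := ⟨h, h1, h2, hne⟩
  have hwn' : w * n * w⁻¹ * n⁻¹ ∈ Q' := (hs.W_fix_iff hw hn).1 hwn
  have hE : cj n U0' ⊓ centralizer (W : Set G) = cj n E₁ := by
    rcases hs.line_cases hn hw hwn' hwne with e | e
    · exact e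
    · exfalso
      have hle : cj n E₁ ≤ cj n E₂ := by
        rw [← e]
        exact fun x hx => mem_inf.2 ⟨(hs.ln hn).le hx, mem_centralizer_iff.2 fun w' hw' => hc w' hw' x hx⟩
      have := eq_of_le_of_card_ge hle (by rw [card_cj, card_cj, h1.card, h2.card])
      exact hs.ln_ne n this
  obtain ⟨ha, hb, hc'⟩ := hs.step hn (mem_inf.2 ⟨hg, hg2⟩) hw hwn' hwne hE hwg
  have e0 : (n * g)⁻¹ * (g * n) ∈ Q' := by
    have h3 := h.v'.N_comm g⁻¹ (inv_mem hg) n⁻¹ (inv_mem hn)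
    have e : (n * g)⁻¹ * (g * n) = g⁻¹ * n⁻¹ * g⁻¹⁻¹ * n⁻¹⁻¹ := by group
    rw [e]; exact h3
  rw [cj_U_eq h e0] at ha hb
  rw [cj_line_eq h h1 e0] at hb
  exact ⟨ha, hb, hc'⟩

/-- an eigenvector is not centralised by `W` -/
theorem eig_not {y : G} (hy : Eig W N' Q' y) : ∃ w ∈ W, w * y * w⁻¹ * y⁻¹ ∉ Q' := by
  obtain ⟨hyN, hyQ, -, w, hw, hwy⟩ := hy
  refine ⟨w, hw, fun h1 => hyQ (mem_of_sq h.v' hyN ?_)⟩
  have e : y * y = (w * y * w⁻¹ * y⁻¹)⁻¹ * (w * y * w⁻¹ * y) := by group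
  rw [e]
  exact mul_mem (inv_mem h1) hwy

end Pair

/-! ### Step 7 -/

section Seven

variable (h : Pair 2 UU VV F D N Q U0 W z p D' N' Q' U0' W' z' p')
include h

/-- an element `v` of `V₁^μ`, `μ` special -/
theorem exists_v : ∃ v ∈ W, (W' ⊓ centralizer ({v} : Set G)).relIndex W' = 4 ∧
    ∃ w ∈ W', v * w ≠ w * v := by
  obtain ⟨X, hX, hi, w, hw, hne⟩ := h.exists_special
  have hX' := h.v.nb_mem h.fam hX
  obtain ⟨V, hV, hVX, v, hv, hne'⟩ := h.fam.exists_V hX'.1 hne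
  have hv1 : v ≠ 1 := by
    rintro rfl
    apply hne'
    rw [mul_one, one_mul]
  have h1 : W' ⊓ centralizer ({v} : Set G) = W' ⊓ centralizer (X : Set G) := by
    apply le_antisymm
    · rintro x ⟨hx, hxv⟩
      refine ⟨hx, mem_centralizer_iff.2 fun u hu => ?_⟩
      exact (h.symm.comm_of_comm hX ⟨w, hw, hne⟩ (hVX hv) hv1 (h.fam.not_F hX'.1 hV hVX hv) hx
        (mem_centralizer_singleton_iff.1 hxv) u hu).symm
    · rintro x ⟨hx, hxX⟩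
      refine ⟨hx, mem_centralizer_singleton_iff.2 ?_⟩
      exact (mem_centralizer_iff.1 hxX v (hVX hv)).symm
  refine ⟨v, hX'.2.1 (hVX hv), by rw [h1, hi], w, hw, fun e => hne' e.symm⟩

omit h in
/-- the commutators with an element normalising the abelian group `W` -/
theorem exists_range (hv' : Vert UU VV F D N Q U0 W z p) {v : G} (hv : v ∈ D) :
    ∃ I : Subgroup G, (∀ x, x ∈ I ↔ ∃ w ∈ W, v * w * v⁻¹ * w⁻¹ = x) ∧ I ≤ W ∧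
      Nat.card I = (W ⊓ centralizer ({v} : Set G)).relIndex W := by
  let φ : W →* G := {
    toFun := fun w => v * w * v⁻¹ * (w : G)⁻¹
    map_one' := by simp
    map_mul' := fun a b => by
      exact mul_comm' hv' hv a.2 b.2 }
  refine ⟨φ.range, ?_, ?_, ?_⟩
  · intro x
    constructor
    · rintro ⟨w, rfl⟩; exact ⟨w, w.2, rfl⟩
    · rintro ⟨w, hw, rfl⟩; exact ⟨⟨w, hw⟩, rfl⟩
  · rintro _ ⟨w, rfl⟩
    exact comm_mem_W hv' hv w.2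
  · rw [← Subgroup.index_ker]
    rw [relIndex]
    congr 1
    ext w
    rw [MonoidHom.mem_ker, mem_subgroupOf, mem_inf, mem_centralizer_singleton_iff]
    change v * w * v⁻¹ * (w : G)⁻¹ = 1 ↔ _
    rw [mul_inv_eq_one, mul_inv_eq_iff_eq_mul]
    exact ⟨fun e => ⟨w.2, e.symm⟩, fun e => e.2.symm⟩


theorem comm_Q_mem {q w : G} (hq : q ∈ Q') (hw : w ∈ W') : q * w * q⁻¹ * w⁻¹ ∈ ⁅Q', W'⁆ :=
  commutator_mem_commutator hq hw

theorem W1_conj_iff {d x : G} (hd : d ∈ D') : d * x * d⁻¹ ∈ ⁅Q', W'⁆ ↔ x ∈ ⁅Q', W'⁆ := by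
  refine ⟨fun h1 => ?_, fun h1 => h.W1_conj hd h1⟩
  have h2 := h.W1_conj (inv_mem hd) h1
  have e : d⁻¹ * (d * x * d⁻¹) * d⁻¹⁻¹ = x := by group
  rwa [e] at h2

theorem K_W1 {g m : G} (hg : g ∈ D') (hm : m ∈ ⁅Q', W'⁆) : g * m * g⁻¹ * m⁻¹ ∈ ⁅Q', W'⁆ :=
  mul_mem (h.W1_conj hg hm) (inv_mem hm)

theorem K_mul {g m m' : G} (hg : g ∈ D') (hm : m ∈ W') (hm' : m' ∈ W')
    (h1 : g * m * g⁻¹ * m⁻¹ ∈ ⁅Q', W'⁆) (h2 : g * m' * g⁻¹ * m'⁻¹ ∈ ⁅Q', W'⁆) :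
    g * (m * m') * g⁻¹ * (m * m')⁻¹ ∈ ⁅Q', W'⁆ := by
  rw [mul_comm' h.v' hg hm hm']
  exact mul_mem h1 h2

theorem K_conj {g n m : G} (hg : g ∈ D') (hn : n ∈ D') (hgn : g⁻¹ * n⁻¹ * g * n ∈ Q') (hm : m ∈ W')
    (h1 : g * m * g⁻¹ * m⁻¹ ∈ ⁅Q', W'⁆) :
    g * (n * m * n⁻¹) * g⁻¹ * (n * m * n⁻¹)⁻¹ ∈ ⁅Q', W'⁆ := by
  have e : g * (n * m * n⁻¹) * g⁻¹ * (n * m * n⁻¹)⁻¹ =
      n * (g * ((g⁻¹ * n⁻¹ * g * n) * m * (g⁻¹ * n⁻¹ * g * n)⁻¹ * m⁻¹) * g⁻¹ * (g * m * g⁻¹ * m⁻¹)) * n⁻¹ := by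
    group
  rw [e]
  exact h.W1_conj hn (mul_mem (h.W1_conj hg (comm_Q_mem h hgn hm)) h1)

/-- `v` moves some element of `W'1` -/
theorem exists_moved {v : G} (hv : v ∈ W) (hne : ∃ w ∈ W', v * w ≠ w * v) :
    ∃ u ∈ ⁅Q', W'⁆, u ∈ W' ∧ v * u ≠ u * v := by
  obtain ⟨w, hw, hne⟩ := hne
  obtain ⟨X, hX, V, hV, hVX, a, ha, hav⟩ := h.v'.exists_V h.fam (g := v) ⟨w, hw, fun e => hne e.symm⟩
  have hX' := h.nb_mem hX
  obtain ⟨E, E', hE, hE', hEE, -⟩ := h.fam.exists_lines hX'.1 hX'.2.2 h.v'.z_F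
  obtain ⟨-, ⟨u, hu, hu1, huF⟩, -⟩ := h.fam.line_sup hX'.1 h.v'.z_F hE hE' hEE
  have h1 : u ∈ X ⊓ ⁅Q', W'⁆ := by rw [h.W1_inf hX hE hE' hEE]; exact hu
  refine ⟨u, h1.2, hX'.2.1 h1.1, fun e => hav ?_⟩
  exact (h.comm_of_comm hX ⟨v, hv, a, hVX ha, fun e => hav e.symm⟩ h1.1 hu1 huF hv e a (hVX ha)).symm

/-- `g` fixes `[W', v]` modulo `W'1` -/
theorem K_v {v g : G} (hv : v ∈ W) (hi : (W' ⊓ centralizer ({v} : Set G)).relIndex W' = 4)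
    (hne : ∃ w ∈ W', v * w ≠ w * v) (hg : g ∈ D') (hvg : v * g * v⁻¹ * g⁻¹ ∈ Q') {w : G} (hw : w ∈ W') :
    g * (v * w * v⁻¹ * w⁻¹) * g⁻¹ * (v * w * v⁻¹ * w⁻¹)⁻¹ ∈ ⁅Q', W'⁆ := by
  have hvD : v ∈ D' := h.le hv
  obtain ⟨I, hI, hIW, hcI⟩ := exists_range h.v' hvD
  rw [hi] at hcI
  obtain ⟨u, hu1, huW, huv⟩ := exists_moved h hv hne
  set m₁ := v * u * v⁻¹ * u⁻¹ with hm₁
  have hm₁I : m₁ ∈ I := (hI _).2 ⟨u, huW, rfl⟩
  have hm₁W : m₁ ∈ ⁅Q', W'⁆ := mul_mem (h.W1_conj hvD hu1) (inv_mem hu1)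
  have hm₁1 : m₁ ≠ 1 := by
    intro e
    apply huv
    rw [hm₁, mul_inv_eq_one, mul_inv_eq_iff_eq_mul] at e
    exact e
  set K := I ⊓ ⁅Q', W'⁆ with hK
  have hcK : 2 ≤ Nat.card K := by
    have h1 : K ≠ ⊥ := by
      intro e
      have h2 : m₁ ∈ K := ⟨hm₁I, hm₁W⟩
      rw [e, mem_bot] at h2
      exact hm₁1 h2
    exact (Subgroup.one_lt_card_iff_ne_bot K).2 h1
  have hcard := Cfsg.Agent.ZN.Block.card_mul_relIndex' (K := K) (L := I) inf_le_left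
  rw [hcI] at hcard
  by_cases hwW : v * w * v⁻¹ * w⁻¹ ∈ ⁅Q', W'⁆
  · exact K_W1 h hg hwW
  set m := v * w * v⁻¹ * w⁻¹ with hm
  have hmI : m ∈ I := (hI _).2 ⟨w, hw, rfl⟩
  have hmW' : m ∈ W' := hIW hmI
  have hr : K.relIndex I = 2 := by
    have h1 : K.relIndex I ≠ 1 := by
      rw [Ne, relIndex_eq_one]
      intro e
      exact hwW (e hmI).2
    have h2 : K.relIndex I ≠ 0 := by
      intro e; rw [e] at hcard; omega
    have h3 : K.relIndex I ≤ 2 := by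
      by_contra hcon
      have h4 : 3 ≤ K.relIndex I := by omega
      have h5 := Nat.mul_le_mul hcK h4
      omega
    omega
  -- the conjugate by `g`
  set w' := g * w * g⁻¹ with hw'
  have hw'W : w' ∈ W' := h.v'.conj_W hg hw
  set q := g * v * g⁻¹ * v⁻¹ with hq
  have hqQ : q ∈ Q' := by
    have e : q = (v * g * v⁻¹ * g⁻¹)⁻¹ * 1 * 1 := by rw [hq]; group
    have e2 : g * v * g⁻¹ * v⁻¹ = (v * g * v⁻¹ * g⁻¹)⁻¹ := by group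
    rw [hq, e2]
    exact inv_mem hvg
  have e1 : g * m * g⁻¹ = (q * (v * w' * v⁻¹) * q⁻¹ * (v * w' * v⁻¹)⁻¹) * (v * w' * v⁻¹ * w'⁻¹) := by
    rw [hm, hq, hw']; group
  have h1 : q * (v * w' * v⁻¹) * q⁻¹ * (v * w' * v⁻¹)⁻¹ ∈ ⁅Q', W'⁆ :=
    comm_Q_mem h hqQ (h.v'.conj_W hvD hw'W)
  set b := v * w' * v⁻¹ * w'⁻¹ with hb
  have hbI : b ∈ I := (hI _).2 ⟨w', hw'W, rfl⟩
  have hbW : b ∉ ⁅Q', W'⁆ := by
    intro h2
    apply hwW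
    rw [← W1_conj_iff h hg, e1]
    exact mul_mem h1 h2
  have h3 : b * m ∈ K := Cfsg.Agent.ZN.Block.mul_mem_of_relIndex_two hr hbI hmI
    (fun h' => hbW h'.2) (fun h' => hwW h'.2)
  have hm2 : m⁻¹ = m := W_inv h.v' h.fam hmW'
  rw [e1, mul_assoc, hm2]
  exact mul_mem h1 h3.2

/-- `g` fixes `[W', y⁻²]` modulo `W'1` -/
theorem K_y {v g y : G} (hv : v ∈ W) (hi : (W' ⊓ centralizer ({v} : Set G)).relIndex W' = 4)
    (hne : ∃ w ∈ W', v * w ≠ w * v) (hg : g ∈ N') (hvg : v * g * v⁻¹ * g⁻¹ ∈ Q') (hy : y ∈ N')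
    (hvy : v * y * v⁻¹ * y ∈ Q') {w : G} (hw : w ∈ W') :
    g * (y⁻¹ * y⁻¹ * w * (y⁻¹ * y⁻¹)⁻¹ * w⁻¹) * g⁻¹ * (y⁻¹ * y⁻¹ * w * (y⁻¹ * y⁻¹)⁻¹ * w⁻¹)⁻¹ ∈ ⁅Q', W'⁆ := by
  have hvD : v ∈ D' := h.le hv
  have hgD : g ∈ D' := h.v'.N_le hg
  have hyD : y ∈ D' := h.v'.N_le hy
  have hvv : v * v = 1 := h.v.W_sq h.fam hv
  have hvi : v⁻¹ = v := inv_eq_of_mul_eq_one_left hvv
  -- the conjugate `v' = y v y⁻¹`
  have hv'D : y * v * y⁻¹ ∈ D' := mul_mem (mul_mem hyD hvD) (inv_mem hyD)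
  have hB : ∀ w ∈ W', g * (y * v * y⁻¹ * w * (y * v * y⁻¹)⁻¹ * w⁻¹) * g⁻¹ *
      (y * v * y⁻¹ * w * (y * v * y⁻¹)⁻¹ * w⁻¹)⁻¹ ∈ ⁅Q', W'⁆ := by
    intro w hw
    have hw' : y⁻¹ * w * y⁻¹⁻¹ ∈ W' := h.v'.conj_W (inv_mem hyD) hw
    have h1 := K_v h hv hi hne hgD hvg hw'
    have h2 : g⁻¹ * y⁻¹ * g * y ∈ Q' := by
      have := h.v'.N_comm g⁻¹ (inv_mem hg) y⁻¹ (inv_mem hy)
      rwa [inv_inv, inv_inv] at this
    have h3 := K_conj h hgD hyD h2 (comm_mem_W h.v' hvD hw') h1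
    have e : y * (v * (y⁻¹ * w * y⁻¹⁻¹) * v⁻¹ * (y⁻¹ * w * y⁻¹⁻¹)⁻¹) * y⁻¹ =
      y * v * y⁻¹ * w * (y * v * y⁻¹)⁻¹ * w⁻¹ := by group
    rwa [e] at h3
  -- `y⁻² = q⁻¹ v v'`
  set q := v * y * v⁻¹ * y with hq
  have e0 : y⁻¹ * y⁻¹ = q⁻¹ * (v * (y * v * y⁻¹)) := by
    rw [hq]
    calc y⁻¹ * y⁻¹ = y⁻¹ * v * (v⁻¹ * v) * v⁻¹ * y⁻¹ := by group
      _ = y⁻¹ * v * y⁻¹ * (v⁻¹ * v) * y * v⁻¹ * y⁻¹ := by group
      _ = y⁻¹ * v * y⁻¹ * (v⁻¹ * v) * y * v * y⁻¹ := by rw [hvi]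
      _ = _ := by group
  set v' := y * v * y⁻¹ with hv'
  have hvv'D : v * v' ∈ D' := mul_mem hvD hv'D
  have hqD : q⁻¹ ∈ D' := Q_le_D h.v' (inv_mem hvy)
  have e1 : y⁻¹ * y⁻¹ * w * (y⁻¹ * y⁻¹)⁻¹ * w⁻¹ =
      (q⁻¹ * (v * v' * w * (v * v')⁻¹) * q⁻¹⁻¹ * (v * v' * w * (v * v')⁻¹)⁻¹) *
        ((v * (v' * w * v'⁻¹ * w⁻¹) * v⁻¹ * (v' * w * v'⁻¹ * w⁻¹)⁻¹) * (v' * w * v'⁻¹ * w⁻¹) *
          (v * w * v⁻¹ * w⁻¹)) := by
    rw [e0]; group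
  have m1 : v * v' * w * (v * v')⁻¹ ∈ W' := h.v'.conj_W hvv'D hw
  have m2 : v' * w * v'⁻¹ * w⁻¹ ∈ W' := comm_mem_W h.v' hv'D hw
  have m3 : v * w * v⁻¹ * w⁻¹ ∈ W' := comm_mem_W h.v' hvD hw
  have m4 : v * (v' * w * v'⁻¹ * w⁻¹) * v⁻¹ * (v' * w * v'⁻¹ * w⁻¹)⁻¹ ∈ W' := comm_mem_W h.v' hvD m2
  have m5 : q⁻¹ * (v * v' * w * (v * v')⁻¹) * q⁻¹⁻¹ * (v * v' * w * (v * v')⁻¹)⁻¹ ∈ W' :=
    comm_mem_W h.v' hqD m1
  rw [e1]
  refine K_mul h hgD m5 (mul_mem (mul_mem m4 m2) m3) (K_W1 h hgD (comm_Q_mem h (inv_mem hvy) m1)) ?_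
  refine K_mul h hgD (mul_mem m4 m2) m3 ?_ (K_v h hv hi hne hgD hvg hw)
  exact K_mul h hgD m4 m2 (K_v h hv hi hne hgD hvg m2) (hB w hw)


/-! #### the action of single elements on a block -/

omit h in
/-- `s` has commutator group `E` on `X` -/
def Typ (s : G) (X E : Subgroup G) : Prop :=
  (∀ x ∈ X, s * x * s⁻¹ * x⁻¹ ∈ E) ∧ ∀ e ∈ E, ∃ x ∈ X, s * x * s⁻¹ * x⁻¹ = e

omit h in
def Tri (s : G) (X : Subgroup G) : Prop := ∀ x ∈ X, s * x = x * s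

omit h in
theorem Tri.conj {s y : G} {X : Subgroup G} (hs : Tri s X) : Tri (y * s * y⁻¹) (cj y X) := by
  intro x hx
  have h1 := hs _ (mem_cj.1 hx)
  calc y * s * y⁻¹ * x = y * (s * (y⁻¹ * x * y)) * y⁻¹ := by group
    _ = y * (y⁻¹ * x * y * s) * y⁻¹ := by rw [h1]
    _ = _ := by group

omit h in
theorem Typ.conj {s y : G} {X E : Subgroup G} (hs : Typ s X E) : Typ (y * s * y⁻¹) (cj y X) (cj y E) := by
  constructor
  · intro x hx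
    have h1 := hs.1 _ (mem_cj.1 hx)
    rw [mem_cj]
    have e : y⁻¹ * (y * s * y⁻¹ * x * (y * s * y⁻¹)⁻¹ * x⁻¹) * y =
      s * (y⁻¹ * x * y) * s⁻¹ * (y⁻¹ * x * y)⁻¹ := by group
    rw [e]; exact h1
  · intro e he
    obtain ⟨x, hx, hxe⟩ := hs.2 _ (mem_cj.1 he)
    refine ⟨y * x * y⁻¹, conj_mem_cj hx, ?_⟩
    calc y * s * y⁻¹ * (y * x * y⁻¹) * (y * s * y⁻¹)⁻¹ * (y * x * y⁻¹)⁻¹ = y * (s * x * s⁻¹ * x⁻¹) * y⁻¹ := by group
      _ = y * (y⁻¹ * e * y) * y⁻¹ := by rw [hxe]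
      _ = e := by group

omit h in
theorem Typ.not_tri {s : G} {X E : Subgroup G} (hs : Typ s X E) (hE : Nat.card E = 4) : ¬ Tri s X := by
  intro ht
  have h1 : E = ⊥ := by
    rw [eq_bot_iff]
    intro e he
    obtain ⟨x, hx, rfl⟩ := hs.2 e he
    rw [mem_bot, ht x hx, mul_inv_cancel_right, mul_inv_cancel]
  rw [h1, Subgroup.card_bot] at hE
  omega

/-- if `w ∈ W` normalises and moves the block `n`, and centralises modulo `Q'` the eigenvector `y ∈ R⁺`, its line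
is the plus line -/
theorem plus {E₁ E₂ : Subgroup G} (h1 : IsLn F z' U0' E₁) (h2 : IsLn F z' U0' E₂) (hne : E₁ ≠ E₂)
    {y : G} (hy : Eig W N' Q' y) (hyE : y ∈ normalizer (E₁ : Set G)) {w n : G} (hw : w ∈ W) (hn : n ∈ N')
    (hwy : w * y * w⁻¹ * y⁻¹ ∈ Q') (hwn : w * n * w⁻¹ * n⁻¹ ∈ Q') (ht : ¬ Tri w (cj n U0')) :
    cj n U0' ⊓ centralizer (W : Set G) = cj n E₁ ∧ Typ w (cj n U0') (cj n E₁) := by
  have hX : cj n U0' ∈ Nb D' U0' := nb h.v' (h.v'.N_le hn)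
  have hwX : w ∈ normalizer ((cj n U0' : Subgroup G) : Set G) := (W_fix_iff h hw hn).2 hwn
  have ht' : ∃ x ∈ cj n U0', w * x ≠ x * w := by
    unfold Tri at ht
    push Not at ht
    exact ht
  obtain ⟨l1, l2, l3, l4⟩ := h.line rfl hX hw hwX ht'
  have e1 := ln_conj h.v' h.fam h1 (h.v'.N_le hn)
  have e2 := ln_conj h.v' h.fam h2 (h.v'.N_le hn)
  have hne' : cj n E₁ ≠ cj n E₂ := by
    intro e
    apply hne
    have := congrArg (cj n⁻¹) e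
    rwa [cj_inv_cj, cj_inv_cj] at this
  rcases h.fam.line_cases (h.nb_mem hX).1 h.v'.z_F e1 e2 hne' l1 with e | e
  · rw [e] at l2 l4
    exact ⟨e, l2, l4⟩
  · exfalso
    obtain ⟨w', hw', hne''⟩ := eig_not h hy
    apply hne''
    refine (sgn_63 h h2 h1 hne.symm hw hn hwX ht' ?_ hy.1 hyE hwy).2.2 w' hw'
    intro w' hw' x hx
    rw [← e] at hx
    exact mem_centralizer_iff.1 hx.2 w' hw'

/-- passing from the block `n` to the block `g n`, `g ∈ R⁻` -/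
theorem tri_iff {E₁ E₂ : Subgroup G} (h1 : IsLn F z' U0' E₁) (h2 : IsLn F z' U0' E₂) (hne : E₁ ≠ E₂)
    {y : G} (hy : Eig W N' Q' y) (hyE : y ∈ normalizer (E₁ : Set G)) {w n g : G} (hw : w ∈ W) (hn : n ∈ N')
    (hwy : w * y * w⁻¹ * y⁻¹ ∈ Q') (hwn : w * n * w⁻¹ * n⁻¹ ∈ Q') (hg : g ∈ N')
    (hgE : g ∈ normalizer (E₂ : Set G)) (hwg : w * g * w⁻¹ * g⁻¹ ∈ Q') :
    Tri w (cj (g * n) U0') → Tri w (cj n U0') := by
  intro ht
  by_contra hcon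
  have hp := plus h h1 h2 hne hy hyE hw hn hwy hwn hcon
  have hwX : w ∈ normalizer ((cj n U0' : Subgroup G) : Set G) := (W_fix_iff h hw hn).2 hwn
  obtain ⟨⟨x, hx, hxne⟩, -, -⟩ := sgn_63 h h1 h2 hne hw hn hwX (by
    unfold Tri at hcon
    push Not at hcon
    exact hcon) (by
      intro w' hw' x hx
      rw [← hp.1] at hx
      exact mem_centralizer_iff.1 hx.2 w' hw') hg hgE hwg
  exact hxne (ht x hx)


/-- the action of `q = w⁻¹ w^y` on the block `n` -/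
theorem q_act {E₁ E₂ : Subgroup G} (h1 : IsLn F z' U0' E₁) (h2 : IsLn F z' U0' E₂) (hne : E₁ ≠ E₂)
    {y : G} (hy : Eig W N' Q' y) (hyE : y ∈ normalizer (E₁ : Set G)) {w n m : G} (hw : w ∈ W) (hn : n ∈ N')
    (hm : m ∈ N') (hmn : (y * m)⁻¹ * n ∈ Q')
    (hwy : w * y * w⁻¹ * y⁻¹ ∈ Q') (hwn : w * n * w⁻¹ * n⁻¹ ∈ Q') (hwm : w * m * w⁻¹ * m⁻¹ ∈ Q') :
    ((Tri w (cj n U0') ↔ Tri w (cj m U0')) → Tri (w⁻¹ * (y * w * y⁻¹)) (cj n U0')) ∧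
      (¬ (Tri w (cj n U0') ↔ Tri w (cj m U0')) → Typ (w⁻¹ * (y * w * y⁻¹)) (cj n U0') (cj n E₁)) := by
  have hww : w * w = 1 := h.v.W_sq h.fam hw
  have hwi : w⁻¹ = w := inv_eq_of_mul_eq_one_left hww
  have hX : cj n U0' ∈ Nb D' U0' := nb h.v' (h.v'.N_le hn)
  have hXU := (h.nb_mem hX).1
  have hwX : w ∈ normalizer ((cj n U0' : Subgroup G) : Set G) := (W_fix_iff h hw hn).2 hwn
  have hwm' : w ∈ normalizer ((cj m U0' : Subgroup G) : Set G) := (W_fix_iff h hw hm).2 hwm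
  have eU : cj y (cj m U0') = cj n U0' := by rw [cj_cj]; exact cj_U_eq h hmn
  have eE : cj y (cj m E₁) = cj n E₁ := by rw [cj_cj]; exact cj_line_eq h h1 hmn
  have hsX : y * w * y⁻¹ ∈ normalizer ((cj n U0' : Subgroup G) : Set G) := by
    rw [mem_normalizer_iff_cj, ← eU, cj_cj, show y * w * y⁻¹ * y = y * w by group, ← cj_cj,
      mem_normalizer_iff_cj.1 hwm']
  -- the action of `w ^ y`
  have hs1 : Tri w (cj m U0') → Tri (y * w * y⁻¹) (cj n U0') := fun ht => by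
    rw [← eU]; exact ht.conj
  have hs2 : ¬ Tri w (cj m U0') → Typ (y * w * y⁻¹) (cj n U0') (cj n E₁) := fun ht => by
    rw [← eU, ← eE]; exact (plus h h1 h2 hne hy hyE hw hm hwy hwm ht).2.conj
  have hw2 : ¬ Tri w (cj n U0') → Typ w (cj n U0') (cj n E₁) := fun ht =>
    (plus h h1 h2 hne hy hyE hw hn hwy hwn ht).2
  have hconj : ∀ x ∈ cj n U0', y * w * y⁻¹ * x * (y * w * y⁻¹)⁻¹ ∈ cj n U0' := by
    intro x hx
    have h3 := conj_mem_cj (g := y * w * y⁻¹) hx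
    rwa [mem_normalizer_iff_cj.1 hsX] at h3
  have hconjw : ∀ x ∈ cj n U0', w * x * w⁻¹ ∈ cj n U0' := by
    intro x hx
    have h3 := conj_mem_cj (g := w) hx
    rwa [mem_normalizer_iff_cj.1 hwX] at h3
  have hln := ln_conj h.v' h.fam h1 (h.v'.N_le hn)
  by_cases hA : Tri w (cj n U0')
  · -- `w` trivial: `q` acts as `w ^ y`
    have hq : ∀ x ∈ cj n U0', w⁻¹ * (y * w * y⁻¹) * x * (w⁻¹ * (y * w * y⁻¹))⁻¹ =
        y * w * y⁻¹ * x * (y * w * y⁻¹)⁻¹ := by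
      intro x hx
      have h3 := hA _ (hconj x hx)
      have e : w⁻¹ * (y * w * y⁻¹) * x * (w⁻¹ * (y * w * y⁻¹))⁻¹ =
        w⁻¹ * ((y * w * y⁻¹ * x * (y * w * y⁻¹)⁻¹) * w) := by group
      rw [e, ← h3, inv_mul_cancel_left]
    refine ⟨fun hiff => ?_, fun hiff => ?_⟩
    · have h3 := hs1 (hiff.1 hA)
      intro x hx
      have h4 := hq x hx
      rw [h3 x hx, mul_inv_cancel_right, mul_inv_eq_iff_eq_mul] at h4
      exact h4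
    · have hB : ¬ Tri w (cj m U0') := fun hB => hiff ⟨fun _ => hB, fun _ => hA⟩
      obtain ⟨h3, h4⟩ := hs2 hB
      constructor
      · intro x hx
        rw [hq x hx]; exact h3 x hx
      · intro e he
        obtain ⟨x, hx, hxe⟩ := h4 e he
        exact ⟨x, hx, by rw [hq x hx]; exact hxe⟩
  · by_cases hB : Tri w (cj m U0')
    · -- `w ^ y` trivial: `q` acts as `w`
      have h3 := hs1 hB
      have hq : ∀ x ∈ cj n U0', w⁻¹ * (y * w * y⁻¹) * x * (w⁻¹ * (y * w * y⁻¹))⁻¹ = w * x * w⁻¹ := by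
        intro x hx
        have e : w⁻¹ * (y * w * y⁻¹) * x * (w⁻¹ * (y * w * y⁻¹))⁻¹ =
          w⁻¹ * ((y * w * y⁻¹ * x) * (y * w * y⁻¹)⁻¹) * w := by group
        rw [e, h3 x hx, mul_inv_cancel_right, hwi]
      refine ⟨fun hiff => absurd (hiff.2 hB) hA, fun _ => ?_⟩
      obtain ⟨h4, h5⟩ := hw2 hA
      constructor
      · intro x hx
        rw [hq x hx]; exact h4 x hx
      · intro e he
        obtain ⟨x, hx, hxe⟩ := h5 e he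
        exact ⟨x, hx, by rw [hq x hx]; exact hxe⟩
    · refine ⟨fun _ => ?_, fun hiff => absurd ⟨fun h' => absurd h' hA, fun h' => absurd h' hB⟩ hiff⟩
      have h3 := hs2 hB
      have h4 := hw2 hA
      have n3 := h3.not_tri hln.card
      have n4 := hA
      unfold Tri at n3 n4
      push Not at n3 n4
      have h5 := h.fam.unique_act hXU hln hwX hsX h4.1 h3.1 n4 n3
      intro x hx
      have h6 := h5 x hx
      have e : w⁻¹ * (y * w * y⁻¹) * x = w⁻¹ * (y * w * y⁻¹ * x * (y * w * y⁻¹)⁻¹) * (y * w * y⁻¹) := by group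
      rw [e, ← h6]
      group

/-- `q ∈ Q'` nontrivial on a block: `[q, u] ∉ ⟨z'⟩` for `u` outside `W'1` -/
theorem typ_not {q n u L : G} {E : Subgroup G} (hq : q ∈ Q') {X : Subgroup G} (hX : X ∈ Nb D' U0')
    (ht : Typ q X E) (hE : IsLn F z' X E) (hu : u ∈ X) (huW : u ∉ ⁅Q', W'⁆) :
    q * u * q⁻¹ * u⁻¹ ≠ 1 ∧ q * u * q⁻¹ * u⁻¹ ≠ z' := by
  have hX' := h.nb_mem hX
  have hzz : z' * z' = 1 := h.fam.sq _ hX'.1 _ hX'.2.2
  have hqD : q ∈ D' := Q_le_D h.v' hq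
  obtain ⟨e, he, he1, hez⟩ := hE.exists_mem
  obtain ⟨x, hx, hxe⟩ := ht.2 e he
  obtain ⟨A, B, hA, hB, hAB, -⟩ := h.fam.exists_lines hX'.1 hX'.2.2 h.v'.z_F
  have hinf := h.W1_inf hX hA hB hAB
  obtain ⟨-, -, hmul⟩ := h.fam.line_sup hX'.1 h.v'.z_F hA hB hAB
  have hxW : x ∉ A ⊔ B := by
    intro h1
    rw [← hinf] at h1
    rcases h.W1_comm hq h1.2 with h2 | h2
    · exact he1 (hxe ▸ h2)
    · exact hez (hxe ▸ h2)
  have huW' : u ∉ A ⊔ B := by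
    intro h1
    rw [← hinf] at h1
    exact huW h1.2
  have h3 := hmul x hx u hu hxW huW'
  rw [← hinf] at h3
  have h4 := h.W1_comm hq h3.2
  rw [mul_comm' h.v' hqD (hX'.2.1 hx) (hX'.2.1 hu), hxe] at h4
  constructor
  · intro h5
    rw [h5, mul_one] at h4
    exact h4.elim he1 hez
  · intro h5
    rw [h5] at h4
    rcases h4 with h4 | h4
    · apply hez
      calc e = e * z' * z' := by rw [mul_assoc, hzz, mul_one]
        _ = z' := by rw [h4, one_mul]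
    · apply he1
      calc e = e * z' * z' := by rw [mul_assoc, hzz, mul_one]
        _ = 1 := by rw [h4, hzz]

/-- `E₁ ∩ E₁^g = ⟨z'⟩` for `g ∈ R⁻ - Q'` -/
theorem not_mem_both {E₁ E₂ : Subgroup G} (h1 : IsLn F z' U0' E₁) (h2 : IsLn F z' U0' E₂) (hne : E₁ ≠ E₂)
    {g e : G} (hg : g ∈ N') (hgE : g ∈ normalizer (E₂ : Set G)) (hgQ : g ∉ Q') (he : e ∈ E₁)
    (he' : e ∈ cj g E₁) (he1 : e ≠ 1) (hez : e ≠ z') : False := by
  have hU : U0' ∈ UU := h.v'.U0_mem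
  set R := U0' ⊓ cj g U0' with hR
  have hER : E₂ ≤ R := by
    refine le_inf h2.le ?_
    rw [← mem_normalizer_iff_cj.1 hgE]
    exact cj_mono h2.le
  have heR : e ∈ R := ⟨h1.le he, cj_mono h1.le he'⟩
  have hall : ∀ r ∈ R, r ≠ 1 → r ∈ F := by
    intro r hr hr1
    by_contra hrF
    apply hgQ
    apply h.v'.N_fix g hg
    rw [mem_normalizer_iff_cj]
    exact (h.fam.inter _ hU _ (h.fam.cjU g _ hU) r hr.1 hr.2 hr1 hrF).symm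
  have hc := h.fam.card_le_four hU (inf_le_left : R ≤ U0') hall
  have hEq : E₂ = R := Subgroup.eq_of_le_of_card_ge hER (by rw [h2.card]; exact hc)
  have heE : e ∈ E₂ := by rw [hEq]; exact heR
  rcases h.fam.line_inf hU h.v'.z_F h1 h2 hne he heE with h3 | h3
  · exact he1 h3
  · exact hez h3

/-- the final contradiction -/
theorem fin {E₁ E₂ : Subgroup G} (h1 : IsLn F z' U0' E₁) (h2 : IsLn F z' U0' E₂) (hne : E₁ ≠ E₂)
    {g a b q ua ub : G} (hg : g ∈ N') (hgE : g ∈ normalizer (E₂ : Set G)) (hgQ : g ∉ Q') (hq : q ∈ Q')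
    (ha : a ∈ N') (hb : b ∈ N') (haE : a ∈ normalizer (E₁ : Set G))
    (hta : Typ q (cj a U0') (cj a E₁)) (htga : Typ q (cj (g * a) U0') (cj (g * a) E₁))
    (htb : Tri q (cj b U0')) (htgb : Tri q (cj (g * b) U0'))
    (hua : ua ∈ cj a U0') (huaW : ua ∉ ⁅Q', W'⁆) (hub : ub ∈ cj b U0')
    (hfix : g * (ua * ub) * g⁻¹ * (ua * ub)⁻¹ ∈ ⁅Q', W'⁆) : False := by
  have hgD := h.v'.N_le hg
  have haD := h.v'.N_le ha
  have hbD := h.v'.N_le hb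
  have hqD : q ∈ D' := Q_le_D h.v' hq
  have hXa : cj a U0' ∈ Nb D' U0' := nb h.v' haD
  have hXb : cj b U0' ∈ Nb D' U0' := nb h.v' hbD
  have huaW' : ua ∈ W' := (h.nb_mem hXa).2.1 hua
  have hubW' : ub ∈ W' := (h.nb_mem hXb).2.1 hub
  have hzz : z' * z' = 1 := h.fam.sq _ h.v'.U0_mem _ h.v'.z_mem
  have hua2 : ua⁻¹ = ua := W_inv h.v' h.fam huaW'
  have hub2 : ub⁻¹ = ub := W_inv h.v' h.fam hubW'
  have mga : g * ua * g⁻¹ ∈ W' := h.v'.conj_W hgD huaW'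
  have mgb : g * ub * g⁻¹ ∈ W' := h.v'.conj_W hgD hubW'
  -- the product
  have e1 : g * (ua * ub) * g⁻¹ * (ua * ub)⁻¹ = (g * ua * g⁻¹ * ua) * (g * ub * g⁻¹ * ub) := by
    have hc := h.v'.W_comm (g * ub * g⁻¹ * ub) (W'.mul_mem mgb hubW') ua huaW'
    calc g * (ua * ub) * g⁻¹ * (ua * ub)⁻¹ = g * ua * g⁻¹ * (g * ub * g⁻¹ * ub⁻¹ * ua⁻¹) := by group
      _ = g * ua * g⁻¹ * (g * ub * g⁻¹ * ub * ua) := by rw [hua2, hub2]
      _ = g * ua * g⁻¹ * (ua * (g * ub * g⁻¹ * ub)) := by rw [hc]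
      _ = _ := by group
  rw [e1] at hfix
  have h3 := h.W1_comm hq hfix
  rw [mul_comm' h.v' hqD (W'.mul_mem mga huaW') (W'.mul_mem mgb hubW'),
    mul_comm' h.v' hqD mga huaW', mul_comm' h.v' hqD mgb hubW'] at h3
  -- the trivial factors
  have t1 : q * ub * q⁻¹ * ub⁻¹ = 1 := by
    rw [htb ub hub, mul_inv_cancel_right, mul_inv_cancel]
  have t2 : q * (g * ub * g⁻¹) * q⁻¹ * (g * ub * g⁻¹)⁻¹ = 1 := by
    have h4 : g * ub * g⁻¹ ∈ cj (g * b) U0' := by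
      rw [← cj_cj]; exact conj_mem_cj hub
    rw [htgb _ h4, mul_inv_cancel_right, mul_inv_cancel]
  rw [t1, t2, mul_one, mul_one] at h3
  set e := q * ua * q⁻¹ * ua⁻¹ with he
  set f := q * (g * ua * g⁻¹) * q⁻¹ * (g * ua * g⁻¹)⁻¹ with hf
  have hln := ln_conj h.v' h.fam h1 haD
  obtain ⟨n1, n2⟩ := typ_not (n := q) (L := q) h hq hXa hta hln hua huaW
  have heE : e ∈ cj a E₁ := hta.1 ua hua
  rw [mem_normalizer_iff_cj.1 haE] at heE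
  have h4 : g * ua * g⁻¹ ∈ cj (g * a) U0' := by
    rw [← cj_cj]; exact conj_mem_cj hua
  have hfE : f ∈ cj (g * a) E₁ := htga.1 _ h4
  have eE : cj (g * a) E₁ = cj g E₁ := by rw [← cj_cj, mem_normalizer_iff_cj.1 haE]
  rw [eE] at hfE
  have hzg : z' ∈ cj g E₁ := (ln_conj h.v' h.fam h1 hgD).mem
  have hee : e ∈ cj g E₁ := by
    have e2 : e = f⁻¹ * (f * e) := by group
    rw [e2]
    refine (cj g E₁).mul_mem ((cj g E₁).inv_mem hfE) ?_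
    rcases h3 with h3 | h3
    · rw [h3]; exact one_mem _
    · rw [h3]; exact hzg
  exact not_mem_both h h1 h2 hne hg hgE hgQ heE hee n1 n2


/-- all eigenvectors are in `R⁺` -/
theorem eig_plus {E₁ E₂ : Subgroup G} (h1 : IsLn F z' U0' E₁) (h2 : IsLn F z' U0' E₂) (hne : E₁ ≠ E₂)
    (hR : ∀ n ∈ N', n ∈ normalizer (E₂ : Set G) → ∀ w ∈ W, w * n * w⁻¹ * n⁻¹ ∈ Q')
    {y : G} (hy : Eig W N' Q' y) : y ∈ normalizer (E₁ : Set G) := by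
  obtain ⟨hl, -, hcj, -⟩ := h.eig_line hy
  rcases h.fam.line_cases h.v'.U0_mem h.v'.z_F h1 h2 hne hl with e | e
  · rw [e] at hcj
    rw [mem_normalizer_iff_cj]; exact hcj
  · exfalso
    rw [e] at hcj
    obtain ⟨w, hw, hne'⟩ := eig_not h hy
    exact hne' (hR y hy.1 (mem_normalizer_iff_cj.2 hcj) w hw)

/-- (7.1) -/
theorem not_mem_Q {E₁ E₂ : Subgroup G} (h1 : IsLn F z' U0' E₁) (h2 : IsLn F z' U0' E₂) (hne : E₁ ≠ E₂)
    (hR : ∀ n ∈ N', n ∈ normalizer (E₂ : Set G) → ∀ w ∈ W, w * n * w⁻¹ * n⁻¹ ∈ Q')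
    {v : G} (hv : v ∈ W) (hi : (W' ⊓ centralizer ({v} : Set G)).relIndex W' = 4)
    (hvne : ∃ w ∈ W', v * w ≠ w * v) : v ∉ Q' := by
  intro hvQ
  obtain ⟨w₀, hw₀, hw₀Q⟩ := SetLike.not_le_iff_exists.1 h.not_le
  obtain ⟨y, hy, -⟩ := h.exists_eig_of hw₀ hw₀Q
  have hyE := eig_plus h h1 h2 hne hR hy
  have hvD : v ∈ D' := h.le hv
  have hfix : ∀ n ∈ N', v * n * v⁻¹ * n⁻¹ ∈ Q' := by
    intro n hn
    have e : v * n * v⁻¹ * n⁻¹ = v * (n * v⁻¹ * n⁻¹) := by group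
    rw [e]
    exact mul_mem hvQ (h.v'.Q_norm n (h.v'.N_le hn) _ (inv_mem hvQ))
  obtain ⟨w, hw, hvne⟩ := hvne
  obtain ⟨X, hX, V, hV, hVX, a, ha, hav⟩ := h.v'.exists_V h.fam (g := v) ⟨w, hw, fun e => hvne e.symm⟩
  obtain ⟨n, hn, rfl⟩ := exists_n h.v' hX
  have ht : ¬ Tri v (cj n U0') := fun ht => hav (ht a (hVX ha)).symm
  obtain ⟨p1, p2⟩ := plus h h1 h2 hne hy hyE hv hn (hfix y hy.1) (hfix n hn) ht
  obtain ⟨g, hg, hgE, hgQ⟩ := sgn_ne h h1 h2 hne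
  have hgn : g * n ∈ N' := mul_mem hg hn
  have ht' : ¬ Tri v (cj (g * n) U0') := fun ht' =>
    ht (tri_iff h h1 h2 hne hy hyE hv hn (hfix y hy.1) (hfix n hn) hg hgE (hfix g hg) ht')
  obtain ⟨p3, p4⟩ := plus h h1 h2 hne hy hyE hv hgn (hfix y hy.1) (hfix _ hgn) ht'
  obtain ⟨I, hI, -, hcI⟩ := exists_range h.v' hvD
  rw [hi] at hcI
  have key : ∀ m ∈ N', Typ v (cj m U0') (cj m E₁) → cj m E₁ = I := by
    intro m hm ht
    apply Subgroup.eq_of_le_of_card_ge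
    · intro e he
      obtain ⟨x, hx, hxe⟩ := ht.2 e he
      exact (hI e).2 ⟨x, (h.nb_mem (nb h.v' (h.v'.N_le hm))).2.1 hx, hxe⟩
    · rw [hcI, card_cj, h1.card]
  have e1 : cj n E₁ = cj (g * n) E₁ := by rw [key n hn p2, key _ hgn p4]
  have e2 : cj (g * n) E₁ = cj (n * g) E₁ := by
    apply cj_line_eq h h1
    have h3 := h.v'.N_comm n⁻¹ (inv_mem hn) g⁻¹ (inv_mem hg)
    have e : (g * n)⁻¹ * (n * g) = n⁻¹ * g⁻¹ * n⁻¹⁻¹ * g⁻¹⁻¹ := by group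
    rw [e]; exact h3
  have e3 : E₁ = cj g E₁ := by
    rw [e2, ← cj_cj] at e1
    have := congrArg (cj n⁻¹) e1
    rwa [cj_inv_cj, cj_inv_cj] at this
  obtain ⟨e, he, he1, hez⟩ := h1.exists_mem
  exact not_mem_both h h1 h2 hne hg hgE hgQ he (e3 ▸ he) he1 hez

/-- Step 7 -/
theorem false_of_sign {E₁ E₂ : Subgroup G} (h1 : IsLn F z' U0' E₁) (h2 : IsLn F z' U0' E₂) (hne : E₁ ≠ E₂)
    (hR : ∀ n ∈ N', n ∈ normalizer (E₂ : Set G) → ∀ w ∈ W, w * n * w⁻¹ * n⁻¹ ∈ Q') : False := by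
  obtain ⟨v, hv, hi, hvne⟩ := exists_v h
  have hvQ := not_mem_Q h h1 h2 hne hR hv hi hvne
  obtain ⟨y, hy, hvy⟩ := h.exists_eig_of hv hvQ
  have hyE := eig_plus h h1 h2 hne hR hy
  obtain ⟨g, hg, hgE, hgQ⟩ := sgn_ne h h1 h2 hne
  have hyN : y ∈ N' := hy.1
  have hyD := h.v'.N_le hyN
  have hgD := h.v'.N_le hg
  have hvD := h.le hv
  have hiN : y⁻¹ ∈ N' := inv_mem hyN
  have hiiN : y⁻¹ * y⁻¹ ∈ N' := mul_mem hiN hiN
  have hiiD : y⁻¹ * y⁻¹ ∈ D' := h.v'.N_le hiiN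
  -- `y⁻²` is an eigenvector
  have hiiQ : y⁻¹ * y⁻¹ ∉ Q' := fun h3 => hy.2.1 (by
    have := inv_mem (mem_of_sq h.v' hiN h3)
    rwa [inv_inv] at this)
  have cent_mul : ∀ {w a b : G}, a ∈ D' → w * a * w⁻¹ * a⁻¹ ∈ Q' → w * b * w⁻¹ * b⁻¹ ∈ Q' →
      w * (a * b) * w⁻¹ * (a * b)⁻¹ ∈ Q' := by
    intro w a b ha h3 h4
    have e : w * (a * b) * w⁻¹ * (a * b)⁻¹ = (w * a * w⁻¹ * a⁻¹) * (a * (w * b * w⁻¹ * b⁻¹) * a⁻¹) := by group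
    rw [e]
    exact mul_mem h3 (h.v'.Q_norm a ha _ h4)
  have cent_inv : ∀ {w a : G}, a ∈ D' → w * a * w⁻¹ * a⁻¹ ∈ Q' → w * a⁻¹ * w⁻¹ * a⁻¹⁻¹ ∈ Q' := by
    intro w a ha h3
    have e : w * a⁻¹ * w⁻¹ * a⁻¹⁻¹ = a⁻¹ * (w * a * w⁻¹ * a⁻¹)⁻¹ * a⁻¹⁻¹ := by group
    rw [e]
    exact h.v'.Q_norm _ (inv_mem ha) _ (inv_mem h3)
  have inv_mul' : ∀ {w : G}, w ∈ D' → w * y * w⁻¹ * y ∈ Q' → w * (y⁻¹ * y⁻¹) * w⁻¹ * (y⁻¹ * y⁻¹) ∈ Q' := by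
    intro w hw h3
    have e : w * (y⁻¹ * y⁻¹) * w⁻¹ * (y⁻¹ * y⁻¹) =
      (y * (w * y * w⁻¹ * y)⁻¹ * y⁻¹) * ((y * y) * (w * y * w⁻¹ * y)⁻¹ * (y * y)⁻¹) := by group
    rw [e]
    exact mul_mem (h.v'.Q_norm y hyD _ (inv_mem h3)) (h.v'.Q_norm _ (mul_mem hyD hyD) _ (inv_mem h3))
  have hyy : Eig W N' Q' (y⁻¹ * y⁻¹) := by
    refine ⟨hiiN, hiiQ, fun w hw => ?_, v, hv, inv_mul' hvD hvy⟩
    rcases hy.2.2.1 w hw with h3 | h3
    · exact Or.inl (cent_mul (inv_mem hyD) (cent_inv hyD h3) (cent_inv hyD h3))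
    · exact Or.inr (inv_mul' (h.le hw) h3)
  obtain ⟨w, hw, hwyy, hwnorm, hwne⟩ := h.eig_exists hyy
  have hwD := h.le hw
  -- `w` centralises `y` modulo `Q'`
  have hwy : w * y * w⁻¹ * y⁻¹ ∈ Q' := by
    rcases hy.2.2.1 w hw with h3 | h3
    · exact h3
    · exfalso
      have h4 := inv_mul' hwD h3
      apply hiiQ
      apply mem_of_sq h.v' hiiN
      have e : y⁻¹ * y⁻¹ * (y⁻¹ * y⁻¹) = (w * (y⁻¹ * y⁻¹) * w⁻¹ * (y⁻¹ * y⁻¹)⁻¹)⁻¹ *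
        (w * (y⁻¹ * y⁻¹) * w⁻¹ * (y⁻¹ * y⁻¹)) := by group
      rw [e]
      exact mul_mem (inv_mem hwyy) h4
  have hwi : w * y⁻¹ * w⁻¹ * y⁻¹⁻¹ ∈ Q' := cent_inv hyD hwy
  have hwg : w * g * w⁻¹ * g⁻¹ ∈ Q' := hR g hg hgE w hw
  have hw1 : w * 1 * w⁻¹ * (1 : G)⁻¹ ∈ Q' := by
    have e : w * 1 * w⁻¹ * (1 : G)⁻¹ = 1 := by group
    rw [e]; exact one_mem _
  have hgyN : g * y ∈ N' := mul_mem hg hyN
  have hgiN : g * y⁻¹ ∈ N' := mul_mem hg hiN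
  have hgiiN : g * (y⁻¹ * y⁻¹) ∈ N' := mul_mem hg hiiN
  have hwgy := cent_mul hgD hwg hwy
  have hwgi := cent_mul hgD hwg hwi
  have hwgii := cent_mul hgD hwg hwyy
  -- the element `q`
  have hqQ : w⁻¹ * (y * w * y⁻¹) ∈ Q' := by
    have e : w⁻¹ * (y * w * y⁻¹) = w⁻¹ * (w * y * w⁻¹ * y⁻¹)⁻¹ * w⁻¹⁻¹ := by group
    rw [e]
    exact h.v'.Q_norm _ (inv_mem hwD) _ (inv_mem hwy)
  -- the trivial action on the blocks
  have s1 : Tri w (cj 1 U0') := by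
    rw [cj_one]
    exact h.fix w hw
  have sii : ¬ Tri w (cj (y⁻¹ * y⁻¹) U0') := by
    obtain ⟨x, hx, hne'⟩ := hwne
    exact fun ht => hne' (ht x hx)
  have sg : ∀ n ∈ N', w * n * w⁻¹ * n⁻¹ ∈ Q' → (Tri w (cj (g * n) U0') ↔ Tri w (cj n U0')) := by
    intro n hn hwn
    refine ⟨tri_iff h h1 h2 hne hy hyE hw hn hwy hwn hg hgE hwg, fun ht => ?_⟩
    refine tri_iff h h1 h2 hne hy hyE hw (mul_mem hg hn) hwy (cent_mul hgD hwg hwn) (inv_mem hg) (inv_mem hgE)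
      (cent_inv hgD hwg) ?_
    rwa [inv_mul_cancel_left]
  have hvw : v * w * v⁻¹ = w := by
    rw [h.v.W_comm v hv w hw, mul_inv_cancel_right]
  have sy1 : Tri w (cj y U0') → Tri w (cj y⁻¹ U0') := by
    intro ht
    have h3 := ht.conj (y := v)
    rw [hvw, cj_W h hv] at h3
    have e : cj (v * y * v⁻¹) U0' = cj y⁻¹ U0' := by
      apply cj_U_eq h
      have e1 : (v * y * v⁻¹)⁻¹ * y⁻¹ = (y * (v * y * v⁻¹ * y) * y⁻¹)⁻¹ := by group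
      rw [e1]
      exact inv_mem (h.v'.Q_norm y hyD _ hvy)
    rwa [e] at h3
  have sy2 : Tri w (cj y⁻¹ U0') → Tri w (cj y U0') := by
    intro ht
    have h3 := ht.conj (y := v)
    rw [hvw, cj_W h hv] at h3
    have e : cj (v * y⁻¹ * v⁻¹) U0' = cj y U0' := by
      apply cj_U_eq h
      have e1 : (v * y⁻¹ * v⁻¹)⁻¹ * y = v * y * v⁻¹ * y := by group
      rw [e1]
      exact hvy
    rwa [e] at h3
  -- the action of `q` on the four blocks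
  have qy := q_act h h1 h2 hne hy hyE (n := y) (m := 1) hw hyN (one_mem _)
    (by rw [mul_one, inv_mul_cancel]; exact one_mem _) hwy hwy hw1
  have qi := q_act h h1 h2 hne hy hyE (n := y⁻¹) (m := y⁻¹ * y⁻¹) hw hiN hiiN
    (by rw [mul_inv_cancel_left, inv_mul_cancel]; exact one_mem _) hwy hwi hwyy
  have qgy := q_act h h1 h2 hne hy hyE (n := g * y) (m := g) hw hgyN hg (by
    have h3 := h.v'.N_comm g⁻¹ (inv_mem hg) y⁻¹ (inv_mem hyN)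
    have e : (y * g)⁻¹ * (g * y) = g⁻¹ * y⁻¹ * g⁻¹⁻¹ * y⁻¹⁻¹ := by group
    rw [e]; exact h3) hwy hwgy hwg
  have qgi := q_act h h1 h2 hne hy hyE (n := g * y⁻¹) (m := g * (y⁻¹ * y⁻¹)) hw hgiN hgiiN (by
    have h3 := h.v'.N_comm g⁻¹ (inv_mem hg) y⁻¹ (inv_mem hyN)
    have e : (y * (g * (y⁻¹ * y⁻¹)))⁻¹ * (g * y⁻¹) =
      (y * y) * (g⁻¹ * y⁻¹ * g⁻¹⁻¹ * y⁻¹⁻¹) * (y * y)⁻¹ := by
      simp only [mul_inv_rev, inv_inv, mul_assoc, mul_inv_cancel_left]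
    rw [e]
    exact h.v'.Q_norm _ (mul_mem hyD hyD) _ h3) hwy hwgi hwgii
  have sgy := sg y hyN hwy
  have sgi := sg y⁻¹ hiN hwi
  have sgii := sg _ hiiN hwyy
  have sg1 : Tri w (cj g U0') := by
    have := (sg 1 (one_mem _) hw1).2 s1
    rwa [mul_one] at this
  -- the elements
  have hU := h.v'.U0_mem
  obtain ⟨u, hu, huW⟩ : ∃ u ∈ U0', u ∉ ⁅Q', W'⁆ := by
    by_contra hcon
    push Not at hcon
    have h3 := h.W1_inf (X := U0') ⟨1, one_mem _, (cj_one _).symm⟩ h1 h2 hne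
    rw [inf_eq_left.2 hcon] at h3
    have h4 := (h.fam.line_sup hU h.v'.z_F h1 h2 hne).1
    rw [← h3, h.fam.card_eq hU] at h4
    omega
  set ua := y * u * y⁻¹ with hua
  set ub := y⁻¹ * y⁻¹ * ua * (y⁻¹ * y⁻¹)⁻¹ with hub
  have huaX : ua ∈ cj y U0' := conj_mem_cj hu
  have hubX : ub ∈ cj y⁻¹ U0' := by
    have h3 := conj_mem_cj (g := y⁻¹ * y⁻¹) huaX
    rw [cj_cj, inv_mul_cancel_right] at h3
    exact h3
  have huaW : ua ∉ ⁅Q', W'⁆ := by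
    rw [hua, W1_conj_iff h hyD]; exact huW
  have hubW : ub ∉ ⁅Q', W'⁆ := by
    rw [hub, W1_conj_iff h hiiD]; exact huaW
  have hua' : ua ∈ W' := (h.nb_mem (nb h.v' hyD)).2.1 huaX
  have hub' : ub ∈ W' := (h.nb_mem (nb h.v' (inv_mem hyD))).2.1 hubX
  have hua2 : ua⁻¹ = ua := W_inv h.v' h.fam hua'
  have hfix := K_y h hv hi hvne hg (hR g hg hgE v hv) hyN hvy hua'
  have efix : y⁻¹ * y⁻¹ * ua * (y⁻¹ * y⁻¹)⁻¹ * ua⁻¹ = ub * ua := by rw [hua2]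
  rw [efix] at hfix
  have hiE : y⁻¹ ∈ normalizer (E₁ : Set G) := inv_mem hyE
  by_cases hs : Tri w (cj y U0')
  · -- `q` is nontrivial on `y⁻¹`
    have a1 := qy.1 ⟨fun _ => s1, fun _ => hs⟩
    have a2 := qi.2 (fun e => sii (e.1 (sy1 hs)))
    have a3 := qgy.1 ⟨fun _ => sg1, fun _ => sgy.2 hs⟩
    have a4 := qgi.2 (fun e => sii (sgii.1 (e.1 (sgi.2 (sy1 hs)))))
    exact fin h h1 h2 hne hg hgE hgQ hqQ hiN hyN hiE a2 a4 a1 a3 hubX hubW huaX hfix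
  · have hsi : ¬ Tri w (cj y⁻¹ U0') := fun h3 => hs (sy2 h3)
    have a1 := qy.2 (fun e => hs (e.2 s1))
    have a2 := qi.1 ⟨fun h3 => absurd h3 hsi, fun h3 => absurd h3 sii⟩
    have a3 := qgy.2 (fun e => hs (sgy.1 (e.2 sg1)))
    have a4 := qgi.1 ⟨fun h3 => absurd (sgi.1 h3) hsi, fun h3 => absurd (sgii.1 h3) sii⟩
    rw [h.v'.W_comm ub hub' ua hua'] at hfix
    exact fin h h1 h2 hne hg hgE hgQ hqQ hyN hiN hyE a1 a3 a2 a4 huaX huaW hubX hfix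

end Seven

/-- **There is no pair.** -/
theorem false_of_pair {k : ℕ} (h : Pair k UU VV F D N Q U0 W z p D' N' Q' U0' W' z' p') : False := by
  obtain rfl : k = 2 := h.k_eq
  obtain ⟨E₁, E₂, hs, -, hR⟩ := h.exists_sg
  exact false_of_sign h hs.l1 hs.l2 hs.ne fun n hn hn2 w hw => hR w hw n (mem_inf.2 ⟨hn, hn2⟩)

end Cfsg.Agent.MinSimple.OmPairD
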