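import Mathlib
import Cfsg.Agent.MinSimple.Geo

/-!
# The case (Omega) is empty: the contract between the two halves of the proof

Row 4061 of the blackboard (helper12). `UU` = the conjugates of `U`, `VV` = the conjugates of the `V i`,
`F` = the conjugates of `z` (the "full" elements of the members of `UU`).

* `Fam k UU VV F`: the conjugation invariant facts (O0), (O1);
* `Vert UU VV F D N Q U0 W z p`: a vertex `d` with its group `D = G_d` (a conjugate of `C1`),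
  `Q = Q_d`, `N / Q` the socle of `D / Q` (an elementary abelian `p`-group, `p` odd), a neighbour `U0` of `d`,
  `W = ⟨U0 ^ D⟩`, `z` the central involution (Step 1);
* `Pair`: the noncommuting pair `W, W'` (Step 2).
-/

set_option autoImplicit false
set_option linter.dupNamespace false

namespace Cfsg.Agent.MinSimple.OmPair

open Subgroup
open Cfsg.Agent.MinSimple.Geo (cj)

universe u

variable {G : Type u} [Group G]

/-- (O0), (O1) of row 4061, in conjugation invariant form. `V` in `frame` is the list of the members of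
`VV` in `X`; the elements of `F` in `X` are those all of whose components are nontrivial. -/
structure Fam (k : ℕ) (UU VV : Set (Subgroup G)) (F : Set G) : Prop where
  two_le : 2 ≤ k
  cjU : ∀ g : G, ∀ X ∈ UU, cj g X ∈ UU
  cjV : ∀ g : G, ∀ V ∈ VV, cj g V ∈ VV
  cjF : ∀ g : G, ∀ x ∈ F, g * x * g⁻¹ ∈ F
  comm : ∀ X ∈ UU, ∀ a ∈ X, ∀ b ∈ X, a * b = b * a
  sq : ∀ X ∈ UU, ∀ a ∈ X, a * a = 1
  card : ∀ V ∈ VV, Nat.card V = 4
  frame : ∀ X ∈ UU, ∃ V : Fin k → Subgroup G, (∀ i, V i ∈ VV) ∧ X = ⨆ i, V i ∧ iSupIndep V ∧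
    (∀ Y ∈ VV, Y ≤ X → ∃ i, Y = V i) ∧ ∀ u ∈ X, u ∈ F ↔ ∀ i, u ∉ ⨆ j : {j : Fin k // j ≠ i}, V j
  cent : ∀ X ∈ UU, ∀ u ∈ X, u ≠ 1 → u ∉ F → centralizer ({u} : Set G) ≤ normalizer (X : Set G)
  inter : ∀ X ∈ UU, ∀ Y ∈ UU, ∀ u ∈ X, u ∈ Y → u ≠ 1 → u ∉ F → X = Y

/-- a vertex `d` of the second kind, with its group `D`, and a neighbour `U0` (Step 1) -/
structure Vert (UU VV : Set (Subgroup G)) (F : Set G) (D N Q U0 W : Subgroup G) (z : G) (p : ℕ) : Prop where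
  U0_mem : U0 ∈ UU
  z_mem : z ∈ U0
  z_F : z ∈ F
  D_le : D ≤ centralizer ({z} : Set G)
  stab : ∀ g ∈ normalizer (U0 : Set G), g * z = z * g → g ∈ D
  /-- an element inducing a transvection on `V ≤ U0`, trivial on the other members of `VV` in `U0` -/
  t : ∃ V ∈ VV, V ≤ U0 ∧ ∃ t ∈ normalizer (U0 : Set G), t * z = z * t ∧ (∃ v ∈ V, t * v ≠ v * t) ∧
    ∀ V' ∈ VV, V' ≤ U0 → V' ≠ V → ∀ v ∈ V', t * v = v * t
  W_ge : ∀ d ∈ D, cj d U0 ≤ W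
  W_le : ∀ X : Subgroup G, (∀ d ∈ D, cj d U0 ≤ X) → W ≤ X
  W_comm : ∀ a ∈ W, ∀ b ∈ W, a * b = b * a
  N_le : N ≤ D
  Q_le : Q ≤ N
  N_norm : ∀ d ∈ D, ∀ n ∈ N, d * n * d⁻¹ ∈ N
  Q_norm : ∀ d ∈ D, ∀ q ∈ Q, d * q * d⁻¹ ∈ Q
  prime : p.Prime
  odd : p ≠ 2
  N_comm : ∀ a ∈ N, ∀ b ∈ N, a * b * a⁻¹ * b⁻¹ ∈ Q
  N_pow : ∀ a ∈ N, a ^ p ∈ Q
  ne : Q ≠ N
  Q_fix : ∀ q ∈ Q, q ∈ normalizer (U0 : Set G)
  N_fix : ∀ n ∈ N, n ∈ normalizer (U0 : Set G) → n ∈ Q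
  trans : ∀ d ∈ D, ∃ n ∈ N, ∃ m ∈ D, m ∈ normalizer (U0 : Set G) ∧ d = n * m
  faith : ∀ d ∈ D, (∀ n ∈ N, d * n * d⁻¹ * n⁻¹ ∈ Q) → d ∈ N
  irr : ∀ X : Subgroup G, Q ≤ X → X ≤ N →
    (∀ d ∈ D, d ∈ normalizer (U0 : Set G) → ∀ x ∈ X, d * x * d⁻¹ ∈ X) → X = Q ∨ X = N

/-- the noncommuting pair (Step 2) -/
structure Pair (k : ℕ) (UU VV : Set (Subgroup G)) (F : Set G)
    (D N Q U0 W : Subgroup G) (z : G) (p : ℕ)
    (D' N' Q' U0' W' : Subgroup G) (z' : G) (p' : ℕ) : Prop where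
  fam : Fam k UU VV F
  v : Vert UU VV F D N Q U0 W z p
  v' : Vert UU VV F D' N' Q' U0' W' z' p'
  le : W ≤ D'
  le' : W' ≤ D
  fix : ∀ w ∈ W, ∀ u ∈ U0', w * u = u * w
  fix' : ∀ w ∈ W', ∀ u ∈ U0, w * u = u * w
  ne : ∃ w ∈ W, ∃ w' ∈ W', w * w' ≠ w' * w

/-- the neighbours of the vertex `d`: the members of `Δ` -/
def Nb (D U0 : Subgroup G) : Set (Subgroup G) := {X | ∃ d ∈ D, X = cj d U0}

/-- a line of `X` (relative to the central involution `z`) -/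
structure IsLn (F : Set G) (z : G) (X E : Subgroup G) : Prop where
  le : E ≤ X
  card : Nat.card E = 4
  mem : z ∈ E
  full : ∀ e ∈ E, e ≠ 1 → e ∈ F

/-- a common eigenvector of `W` on `N/Q`, with a nontrivial character -/
def Eig (W N Q : Subgroup G) (y : G) : Prop :=
  y ∈ N ∧ y ∉ Q ∧ (∀ w ∈ W, w * y * w⁻¹ * y⁻¹ ∈ Q ∨ w * y * w⁻¹ * y ∈ Q) ∧ ∃ w ∈ W, w * y * w⁻¹ * y ∈ Q

theorem Pair.symm {k : ℕ} {UU VV : Set (Subgroup G)} {F : Set G}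
    {D N Q U0 W : Subgroup G} {z : G} {p : ℕ} {D' N' Q' U0' W' : Subgroup G} {z' : G} {p' : ℕ}
    (h : Pair k UU VV F D N Q U0 W z p D' N' Q' U0' W' z' p') :
    Pair k UU VV F D' N' Q' U0' W' z' p' D N Q U0 W z p where
  fam := h.fam
  v := h.v'
  v' := h.v
  le := h.le'
  le' := h.le
  fix := h.fix'
  fix' := h.fix
  ne := by
    obtain ⟨w, hw, w', hw', hne⟩ := h.ne
    exact ⟨w', hw', w, hw, fun e => hne e.symm⟩

end Cfsg.Agent.MinSimple.OmPair
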