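import Cfsg.Agent.MinSimple.CoreMain
import Cfsg.Agent.MinSimple.Omega.Final
import Cfsg.Agent.MinSimple.OddThreeM

/-!
# Core theorem T: final assembly

On top of `CoreMain`: (Omega) does not occur (`omegaStmt`), and the case (Empty) in the form in which
it is proved: `EmptyMaxStmt` ((Empty) leads to (E1) with `T = S` and `C_G(z)` maximal among the
2-locals in the sense of `OddThreeM.Max1`) and `OddMaxStmt` ((E1)(b) with `Max1` is the final
configuration).
-/

set_option autoImplicit false

namespace Cfsg.Agent.MinSimple.CoreFinal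

open Subgroup Cfsg Cfsg.Agent.ZN Cfsg.Agent.MinSimple Cfsg.Agent.MinSimple.CoreMain
open Cfsg.Agent.MinSimple.Geo (ws)

universe u

/-- (Omega) does not occur. -/
theorem omegaStmt (G : Type u) [Group G] : OmegaStmt G := by
  intro h S n V x U z hO
  have := h.finite
  exact Omega.Final.false_of_omega h.amb hO

/-- (Empty), with the maximality of `C_G(z)` -/
def EmptyMaxStmt (G : Type u) [Group G] : Prop :=
  Core G → ∀ S : Sylow 2 G, NotUnique (S : Subgroup G) → EmptyTI.IsEmpty (S : Subgroup G) →
    ∃ (V : Subgroup G) (z : G), Geo.Geo (S : Subgroup G) V z ∧ OddThreeM.Max1 z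

/-- (E1)(b), with the maximality of `C_G(z)` -/
def OddMaxStmt (G : Type u) [Group G] : Prop :=
  Core G → ∀ (T V : Subgroup G) (z : G), Geo.Geo T V z → OddThreeM.Max1 z →
    (∀ a ∈ ws V z, ∀ b ∈ ws V z, a * b = b * a) → ∃ z p : G, Classification.TitsFin.FinHyp z p

variable {G : Type u} [Group G]

/-- **Core theorem T** -/
theorem exists_finHyp (h : Core G) (hO : OddFFStmt G) (hE : EmptyMaxStmt G)
    (hOE : OddMaxStmt G) : ∃ z p : G, Classification.TitsFin.FinHyp z p := by
  have := h.finite
  have hfact : Fact (Nat.Prime 2) := ⟨Nat.prime_two⟩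
  obtain ⟨S⟩ : Nonempty (Sylow 2 G) := inferInstance
  rcases h.reduce S with ⟨T, V, z, hg, hff⟩ | ⟨k, V, x, U, z, ho⟩ | he
  · by_cases hab : ∀ a ∈ ws V z, ∀ b ∈ ws V z, a * b = b * a
    · exact hO h T V z hg hff hab
    · push Not at hab
      exact absurd { toGeo := hg, nonab := hab } h.not_bTwo
  · exact absurd ho (omegaStmt G h S k V x U z)
  · obtain ⟨V, z, hg, hm⟩ := hE h S (h.notUnique S) he
    by_cases hab : ∀ a ∈ ws V z, ∀ b ∈ ws V z, a * b = b * a
    · exact hOE h S V z hg hm hab
    · push Not at hab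
      exact absurd { toGeo := hg, nonab := hab } h.not_bTwo

/-- **Theorem T2**. -/
theorem card_eq (h : Core G) (hO : OddFFStmt G) (hE : EmptyMaxStmt G) (hOE : OddMaxStmt G) :
    Nat.card G = 17971200 := by
  have := h.finite
  obtain ⟨z, p, hf⟩ := exists_finHyp h hO hE hOE
  exact Classification.TitsFin.Final.card_eq hf h.charTwo

/-- There is an elementary abelian subgroup of order 32 (for S0517). -/
theorem exists_elementary (h : Core G) (hO : OddFFStmt G) (hE : EmptyMaxStmt G)
    (hOE : OddMaxStmt G) : ∃ V : Subgroup G, Nat.card V = 32 ∧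
    (∀ u ∈ V, u * u = 1) ∧ ∀ u ∈ V, ∀ v ∈ V, u * v = v * u := by
  have := h.finite
  obtain ⟨z, p, hf⟩ := exists_finHyp h hO hE hOE
  exact Classification.TitsFin.Final.exists_elementary hf

/-- **Theorem T1**. -/
theorem exists_stronglyEmbedded [Finite G] (hG : IsMinimalSimple G)
    (hc : IsCharacteristicTwoType G) (h3 : ¬ PRankLE 2 2 G) (hO : OddFFStmt G)
    (hE : EmptyMaxStmt G) (hOE : OddMaxStmt G) : ∃ H : Subgroup G, IsStronglyEmbedded H := by
  by_contra hcon
  push Not at hcon
  have h := core_of_minimal hG hc h3 hcon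
  obtain ⟨z, p, hf⟩ := exists_finHyp h hO hE hOE
  exact Classification.TitsFin.Final.not_minimalSimple hf hc hG

end Cfsg.Agent.MinSimple.CoreFinal
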