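import Cfsg.Agent.MinSimple.EmptyE.XPlug
import Cfsg.Agent.MinSimple.EmptyE.XFalse
import Cfsg.Agent.MinSimple.CoreFinal

/-!
# The case (Empty): Theorem E

`main` : in the setting `ESit S` there are a four-group `V` and `z` with `Geo S V z` and `Max1 z`;
`emptyMaxStmt`, `emptyStmt` : the contract of the final assembly of core theorem T.
-/

set_option autoImplicit false

namespace Cfsg.Agent.MinSimple.EmptyMain

open Subgroup Cfsg Cfsg.Agent.ZN Cfsg.Agent.MinSimple
open Cfsg.Agent.MinSimple.EmptyE Cfsg.Agent.MinSimple.EmptyE.Closed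

universe u

/-- **Theorem E.** -/
theorem main {G : Type u} [Group G] [Finite G] {S : Sylow 2 G} (h : ESit S) :
    ∃ (V : Subgroup G) (z : G), Geo.Geo (S : Subgroup G) V z ∧ OddThreeM.Max1 z :=
  XPlug.main_of h fun _ _ hX => XFalse.false_of_x h hX

/-- (Empty) leads to (E1) with `T = S` and `C_G(z)` maximal. -/
theorem emptyMaxStmt (G : Type u) [Group G] : CoreFinal.EmptyMaxStmt G := by
  intro h S hnu hE
  have := h.finite
  exact main { char2 := h.charTwo, solv := h.solv, nu := hnu, empty := hE }

theorem emptyStmt (G : Type u) [Group G] : CoreMain.EmptyStmt G := by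
  intro h S hnu hE
  obtain ⟨V, z, hg, -⟩ := emptyMaxStmt G h S hnu hE
  exact ⟨V, z, hg⟩

end Cfsg.Agent.MinSimple.EmptyMain
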