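import Cfsg.Agent.ZN.Defs
import Cfsg.Agent.ZN.Map

/-!
# Dihedral blocks

`IsDBlk B L k`: the generalisation of `ZN.IsBlk` in which `L / O₂(L)` is dihedral of order `2 · 3 ^ k`
(instead of `S₃`).  With `Q = O₂(L)`, `Z = zl B L = ⟨Ω₁(Z(B))^L⟩`, `R = rl B L = C_{Ω₁Z(B)}(L)`,
`V = vl B L = [Z, L]`: `Z = R × V` is elementary abelian, `|V| = 4`, `|Ω₁(Z(B)) : R| = 2`,
`C_B(Z) = C_B(V) = Q` has index `2` in `B`, `C_L(Q) ≤ Q`, `J(Q) ≤ J(B) ≰ Q`.
-/

set_option autoImplicit false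

namespace Cfsg.Agent.MinSimple

open Subgroup Cfsg
open Cfsg.Agent.ZN

universe u v

variable {K : Type v} {G : Type u} [Group K] [Group G]

/-- `L` is a block over its Sylow 2-subgroup `B`, `L / O₂(L)` dihedral of order `2 · 3 ^ k`. -/
structure IsDBlk (B L : Subgroup G) (k : ℕ) : Prop where
  le : B ≤ L
  two : IsPGroup 2 B
  pos : 1 ≤ k
  index : B.relIndex L = 3 ^ k
  o2_le : o2 L ≤ B
  o2_index : (o2 L).relIndex B = 2
  self_cent : L ⊓ centralizer (o2 L : Set G) ≤ o2 L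
  zl_comm : ∀ x ∈ zl B L, ∀ y ∈ zl B L, x * y = y * x
  zl_sq : ∀ x ∈ zl B L, x ^ 2 = 1
  /-- `C_B(⟨Ω₁(Z(B))^L⟩) = O₂(L)` -/
  cent_zl : B ⊓ centralizer (zl B L : Set G) = o2 L
  /-- `C_B([Ω₁(Z(B))^L, L]) = O₂(L)` -/
  cent_vl : B ⊓ centralizer (vl B L : Set G) = o2 L
  rl_index : (rl B L).relIndex (zc B) = 2
  card_vl : Nat.card (vl B L) = 4
  sup_eq : rl B L ⊔ vl B L = zl B L
  disj : rl B L ⊓ vl B L = ⊥
  jj_o2_le : jj (o2 L) ≤ jj B
  not_jj_le : ¬ jj B ≤ o2 L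
  /-- a 3-element `y` of `L` inverted modulo `O₂(L)` by the elements of `B` outside `O₂(L)`, inducing an
  automorphism of order `3` on `V`, with `L = ⟨y⟩B` -/
  dih : ∃ y ∈ L, y ^ 3 ^ k = 1 ∧ (∀ b ∈ B, b ∉ o2 L → b * y * b⁻¹ * y ∈ o2 L) ∧
    (∀ g ∈ L, ∃ n : ℕ, ∃ b ∈ B, g = y ^ n * b) ∧
    (∀ v ∈ vl B L, y * v * y⁻¹ = v → v = 1) ∧
    ∀ v ∈ vl B L, y ^ 3 * v * (y ^ 3)⁻¹ = v

theorem IsDBlk.map {B L : Subgroup K} {k : ℕ} (h : IsDBlk B L k) (f : K →* G)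
    (hf : Function.Injective f) : IsDBlk (B.map f) (L.map f) k where
  le := Subgroup.map_mono h.le
  two := h.two.map f
  pos := h.pos
  index := by rw [relIndex_map_map_of_injective _ _ hf, h.index]
  o2_le := by rw [o2_map f hf]; exact Subgroup.map_mono h.o2_le
  o2_index := by rw [o2_map f hf, relIndex_map_map_of_injective _ _ hf, h.o2_index]
  self_cent := by
    rw [o2_map f hf, centralizer_map_inf f hf]
    exact Subgroup.map_mono h.self_cent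
  zl_comm := by
    rw [zl_map f hf]
    rintro _ ⟨x, hx, rfl⟩ _ ⟨y, hy, rfl⟩
    rw [← map_mul, ← map_mul, h.zl_comm x hx y hy]
  zl_sq := by
    rw [zl_map f hf]
    rintro _ ⟨x, hx, rfl⟩
    rw [← map_pow, h.zl_sq x hx, map_one]
  cent_zl := by rw [zl_map f hf, o2_map f hf, centralizer_map_inf f hf, h.cent_zl]
  cent_vl := by rw [vl_map f hf, o2_map f hf, centralizer_map_inf f hf, h.cent_vl]
  rl_index := by rw [zc_map f hf, rl_map f hf, relIndex_map_map_of_injective _ _ hf, h.rl_index]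
  card_vl := by rw [vl_map f hf, card_map_of_injective hf, h.card_vl]
  sup_eq := by rw [vl_map f hf, zl_map f hf, rl_map f hf, ← Subgroup.map_sup, h.sup_eq]
  disj := by rw [vl_map f hf, rl_map f hf, ← Subgroup.map_inf _ _ _ hf, h.disj, Subgroup.map_bot]
  jj_o2_le := by rw [o2_map f hf, jj_map f hf, jj_map f hf]; exact Subgroup.map_mono h.jj_o2_le
  not_jj_le := by
    rw [o2_map f hf, jj_map f hf, Subgroup.map_le_map_iff_of_injective hf]
    exact h.not_jj_le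
  dih := by
    obtain ⟨y, hy, h0, h1, h2, h3, h4⟩ := h.dih
    refine ⟨f y, ⟨y, hy, rfl⟩, ?_, ?_, ?_, ?_, ?_⟩
    · rw [← map_pow, h0, map_one]
    · rw [o2_map f hf]
      rintro _ ⟨b, hb, rfl⟩ hb'
      refine ⟨_, h1 b hb (fun h => hb' ⟨b, h, rfl⟩), by simp only [map_mul, map_inv]⟩
    · rintro _ ⟨g, hg, rfl⟩
      obtain ⟨n, b, hb, rfl⟩ := h2 g hg
      exact ⟨n, f b, ⟨b, hb, rfl⟩, by rw [map_mul, map_pow]⟩
    · rw [vl_map f hf]
      rintro _ ⟨v, hv, rfl⟩ hfix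
      rw [← map_inv, ← map_mul, ← map_mul] at hfix
      rw [h3 v hv (hf hfix), map_one]
    · rw [vl_map f hf]
      rintro _ ⟨v, hv, rfl⟩
      rw [← map_pow, ← map_inv, ← map_mul, ← map_mul, h4 v hv]

theorem IsDBlk.conj {B L : Subgroup G} {k : ℕ} (h : IsDBlk B L k) (g : G) :
    IsDBlk (B.map (MulAut.conj g).toMonoidHom) (L.map (MulAut.conj g).toMonoidHom) k :=
  h.map _ (MulAut.conj g).injective

end Cfsg.Agent.MinSimple
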