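import Cfsg.Agent.MinSimple.FFX
import Cfsg.Agent.MinSimple.DBlkDefs
import Cfsg.Agent.Lib.CoprimeCommutator

/-!
# Existence of dihedral blocks over the Baumann subgroup

`K` finite, `T` a Sylow 2-subgroup, `Baumann.FF0 T W V`.  For every `i` there is a dihedral block `L`
over `B = bau T` with `vl B L = V i` (`exists_isDBlk`).
-/

set_option autoImplicit false
set_option linter.unusedSectionVars false
set_option linter.unusedVariables false

namespace Cfsg.Agent.MinSimple.FFBlock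

open Subgroup Cfsg
open Cfsg.Agent.ZN
open Cfsg.Agent.PLocal
open Cfsg.Agent.PLocal.ThompsonJ
open Cfsg.Agent.MinSimple.PlaneAct
open Cfsg.Agent.MinSimple.FFX
open Cfsg.Agent.ZN.Baumann (FF0 L0Data0)
open scoped commutatorElement Pointwise

universe u

variable {K : Type u} [Group K]

/-! ### General lemmas -/

theorem mem_sup_of_le_normalizer {H N : Subgroup K} (hn : H ≤ normalizer (N : Set K)) {x : K}
    (hx : x ∈ H ⊔ N) : ∃ a ∈ H, ∃ b ∈ N, x = a * b := by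
  have h1 : x ∈ ((H ⊔ N : Subgroup K) : Set K) := hx
  rw [coe_mul_of_left_le_normalizer_right H N hn] at h1
  obtain ⟨a, ha, b, hb, hab⟩ := h1
  exact ⟨a, ha, b, hb, hab.symm⟩

theorem mem_normalizer_of_forall [Finite K] {N : Subgroup K} {x : K}
    (h : ∀ n ∈ N, x * n * x⁻¹ ∈ N) : x ∈ normalizer (N : Set K) :=
  mem_normalizer_fintype h

theorem conj_mem {N : Subgroup K} {x n : K} (hx : x ∈ normalizer (N : Set K)) (hn : n ∈ N) :
    x * n * x⁻¹ ∈ N := (mem_normalizer_iff.1 hx n).1 hn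

theorem inv_conj_mem {N : Subgroup K} {x n : K} (hx : x ∈ normalizer (N : Set K)) (hn : n ∈ N) :
    x⁻¹ * n * x ∈ N := by
  have := conj_mem (inv_mem hx) hn
  rwa [inv_inv] at this

/-- `|H⟨e⟩ : H| = 2` for a commuting involution `e ∉ H`. -/
theorem relIndex_eq_two {H Z : Subgroup K} {e : K} (heZ : e ∈ Z) (he : e ∉ H)
    (hdec : ∀ z ∈ Z, z ∈ H ∨ z * e ∈ H) : H.relIndex Z = 2 := by
  change (H.subgroupOf Z).index = 2
  rw [index_eq_two_iff]
  refine ⟨⟨e, heZ⟩, fun b => ?_⟩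
  rw [mem_subgroupOf, mem_subgroupOf]
  change Xor ((b : K) * e ∈ H) ((b : K) ∈ H)
  rcases hdec b b.2 with h1 | h1
  · right
    refine ⟨h1, fun h2 => he ?_⟩
    have := mul_mem (inv_mem h1) h2
    rwa [inv_mul_cancel_left] at this
  · left
    refine ⟨h1, fun h2 => he ?_⟩
    have := mul_mem (inv_mem h2) h1
    rwa [inv_mul_cancel_left] at this

/-- `J(K)` is contained in every normal subgroup containing `J(T)`, `T` a Sylow 2-subgroup. -/
theorem thompson_le [Finite K] {T L₀ : Subgroup K} (hT : IsPGroup 2 T) (hTi : ¬ 2 ∣ T.index)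
    (hn : L₀.Normal) (hJ : jj T ≤ L₀) : thompsonSubgroup 2 K ≤ L₀ := by
  have hp : Fact (Nat.Prime 2) := ⟨Nat.prime_two⟩
  refine thompsonSubgroup_le fun A hA => ?_
  obtain ⟨S, hS⟩ := (isPGroup_of_isElementaryAbelian hA.1).exists_le_sylow
  obtain ⟨g, hg⟩ := MulAction.exists_smul_eq K S (hT.toSylow hTi)
  have h1 : A.map (MulAut.conj g).toMonoidHom ≤ T := by
    rintro _ ⟨x, hx, rfl⟩
    have h2 : g * x * g⁻¹ ∈ ((g • S : Sylow 2 K) : Subgroup K) := by
      rw [Sylow.coe_subgroup_smul]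
      exact Subgroup.smul_mem_pointwise_smul x (MulAut.conj g) (S : Subgroup K) (hS hx)
    rw [hg] at h2
    exact h2
  have h3 : A.map (MulAut.conj g).toMonoidHom ∈ maxElementaryAbelianSubgroups 2 K :=
    map_max_equiv 2 (MulAut.conj g) hA
  have h4 : IsMaxIn T (A.map (MulAut.conj g).toMonoidHom) :=
    ⟨h1, h3.1, fun B _ hB => h3.2 B hB⟩
  have h5 := h4.le_jj.trans hJ
  intro a ha
  have h6 : g * a * g⁻¹ ∈ L₀ := h5 ⟨a, ha, rfl⟩
  have h7 := hn.conj_mem _ h6 g⁻¹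
  have h8 : g⁻¹ * (g * a * g⁻¹) * g⁻¹⁻¹ = a := by group
  rwa [h8] at h7

/-! ### The block -/

section Block

variable {T W L₀ Z₁ : Subgroup K} {ι : Type} {V : ι → Subgroup K} {i : ι} {t y : K}

/-- The data used for the construction of the block. -/
structure BHyp (T W L₀ Z₁ : Subgroup K) (V : ι → Subgroup K) (i : ι) (t y : K) : Prop where
  ff : FF0 T W V
  l0 : L0Data0 T (bau T) L₀ Z₁ V
  ht : t ∈ jj T
  htne : ∃ v ∈ V i, t * v * t⁻¹ ≠ v
  httriv : ∀ j, j ≠ i → ∀ v ∈ V j, t * v * t⁻¹ = v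
  yd : YData T V i t y

/-- The block. -/
def blk (T : Subgroup K) (y : K) : Subgroup K := bau T ⊔ zpowers y

theorem bau_le_blk (T : Subgroup K) (y : K) : bau T ≤ blk T y := le_sup_left

theorem mem_blk (T : Subgroup K) (y : K) : y ∈ blk T y := mem_sup_right (mem_zpowers y)

variable [Finite K]

theorem BHyp.J_le (h : BHyp T W L₀ Z₁ V i t y) : thompsonSubgroup 2 K ≤ L₀ :=
  thompson_le h.ff.two h.ff.sylow h.l0.normal ((jj_le_bau T).trans h.l0.le)

theorem BHyp.blk_le (h : BHyp T W L₀ Z₁ V i t y) : blk T y ≤ L₀ :=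
  sup_le h.l0.le (zpowers_le.2 (h.J_le h.yd.mem))

theorem BHyp.nrm (h : BHyp T W L₀ Z₁ V i t y) (j : ι) :
    blk T y ≤ normalizer (V j : Set K) := h.blk_le.trans (h.l0.nrm j)

theorem BHyp.Z₁_comm (h : BHyp T W L₀ Z₁ V i t y) {l z : K} (hl : l ∈ blk T y) (hz : z ∈ Z₁) :
    l * z = z * l := (mem_centralizer_iff.1 (h.l0.cent hz)) l (h.blk_le hl)

/-- the fixed element `e` of `V i` in `Ω₁(Z(B))` -/
theorem BHyp.exists_e (h : BHyp T W L₀ Z₁ V i t y) (j : ι) :
    ∃ e ∈ V j ⊓ zc (bau T), e ≠ 1 ∧ ∀ z ∈ V j ⊓ zc (bau T), z = 1 ∨ z = e := by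
  have h1 := h.l0.cardx j
  obtain ⟨e, he⟩ : ∃ e : ↥(V j ⊓ zc (bau T)), e ≠ 1 := by
    have : Nontrivial ↥(V j ⊓ zc (bau T)) := by
      rw [← Finite.one_lt_card_iff_nontrivial, h1]; norm_num
    exact exists_ne 1
  refine ⟨e, e.2, fun h2 => he (Subtype.ext h2), fun z hz => ?_⟩
  by_contra hcon
  push Not at hcon
  let f : Fin 3 → ↥(V j ⊓ zc (bau T)) := ![1, e, ⟨z, hz⟩]
  have hinj : Function.Injective f := by
    intro a b hab
    have he' : (e : K) ≠ 1 := fun h2 => he (Subtype.ext h2)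
    have hab' := congrArg Subtype.val hab
    fin_cases a <;> fin_cases b <;> simp [f] at hab' ⊢
    · exact he' hab'.symm
    · exact hcon.1 hab'.symm
    · exact he hab'
    · exact hcon.2 hab'.symm
    · exact hcon.1 hab'
    · exact hcon.2 hab'
  have := Nat.card_le_card_of_injective f hinj
  rw [h1, Nat.card_eq_fintype_card, Fintype.card_fin] at this
  omega

/-- Elements of `Ω₁(Z(B))`: `z` or `z e` is centralized by the block. -/
theorem BHyp.zc_cases (h : BHyp T W L₀ Z₁ V i t y) {e : K} (he : e ∈ V i ⊓ zc (bau T))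
    (he' : ∀ z ∈ V i ⊓ zc (bau T), z = 1 ∨ z = e) {z : K} (hz : z ∈ zc (bau T)) :
    z ∈ rl (bau T) (blk T y) ∨ z * e ∈ rl (bau T) (blk T y) := by
  have hee : e * e = 1 := by rw [← pow_two]; exact h.ff.V_sq i e he.1
  -- the subgroup of elements `z` with this property
  have hecomm : ∀ z ∈ zc (bau T), z * e = e * z := fun z hz => zc_comm he.2 (zc_le _ hz)
  let S : Subgroup K :=
    { carrier := {z | z ∈ zc (bau T) ∧ (z ∈ rl (bau T) (blk T y) ∨ z * e ∈ rl (bau T) (blk T y))}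
      one_mem' := ⟨one_mem _, Or.inl (one_mem _)⟩
      mul_mem' := by
        rintro a b ⟨ha, ha'⟩ ⟨hb, hb'⟩
        refine ⟨mul_mem ha hb, ?_⟩
        have hbe : b * e = e * b := hecomm b hb
        rcases ha' with ha' | ha' <;> rcases hb' with hb' | hb'
        · exact Or.inl (mul_mem ha' hb')
        · right
          rw [mul_assoc]; exact mul_mem ha' hb'
        · right
          have : a * b * e = a * e * b := by rw [mul_assoc, hbe, ← mul_assoc]
          rw [this]; exact mul_mem ha' hb'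
        · left
          have : a * b = a * e * (b * e) := by
            rw [hbe]
            calc a * b = a * (e * e) * b := by rw [hee, mul_one]
              _ = a * e * (e * b) := by group
          rw [this]; exact mul_mem ha' hb'
      inv_mem' := by
        rintro a ⟨ha, ha'⟩
        refine ⟨inv_mem ha, ?_⟩
        rcases ha' with ha' | ha'
        · exact Or.inl (inv_mem ha')
        · right
          have h1 := inv_mem ha'
          have : (a * e)⁻¹ = a⁻¹ * e := by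
            rw [mul_inv_rev, inv_eq_of_mul_eq_one_right hee]
            exact (hecomm _ (inv_mem ha)).symm
          rwa [this] at h1 }
  have h1 : zc (bau T) ≤ S := by
    have hzc : zc (bau T) = Z₁ ⊔ ⨆ j, (V j ⊓ zc (bau T)) := h.l0.zcB
    conv_lhs => rw [hzc]
    have hZ1 : Z₁ ≤ zc (bau T) := by rw [hzc]; exact le_sup_left
    refine sup_le (fun z hz => ⟨hZ1 hz, Or.inl (mem_inf.2 ⟨hZ1 hz, ?_⟩)⟩)
      (iSup_le fun j z hz => ⟨hz.2, ?_⟩)
    · exact centralizer_le h.blk_le (h.l0.cent hz)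
    · by_cases hj : j = i
      · subst hj
        rcases he' z hz with rfl | rfl
        · exact Or.inl (one_mem _)
        · right
          rw [hee]; exact one_mem _
      · left
        refine mem_inf.2 ⟨hz.2, ?_⟩
        have h2 : blk T y ≤ centralizer ({z} : Set K) := by
          refine sup_le (fun b hb => ?_) (zpowers_le.2 ?_)
          · rw [mem_centralizer_singleton_iff]
            exact (zc_comm hz.2 hb).symm ▸ rfl
          · rw [mem_centralizer_singleton_iff]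
            exact (conj_eq_iff.1 (h.yd.triv j hj z hz.1)).symm ▸ rfl
        rw [mem_centralizer_iff]
        intro l hl
        have := mem_centralizer_singleton_iff.1 (h2 hl)
        exact this.symm ▸ rfl
  exact (h1 hz).2

theorem BHyp.fix (h : BHyp T W L₀ Z₁ V i t y) {v : K} (hv : v ∈ V i)
    (hc : y * v = v * y) : v = 1 := h.yd.fix v hv (conj_eq_iff.2 hc)

theorem BHyp.rl_inf (h : BHyp T W L₀ Z₁ V i t y) : rl (bau T) (blk T y) ⊓ V i = ⊥ := by
  rw [eq_bot_iff]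
  rintro v ⟨⟨-, hv1⟩, hv2⟩
  exact mem_bot.2 (h.fix hv2 ((mem_centralizer_iff.1 hv1) y (mem_blk T y)))

theorem BHyp.rl_index (h : BHyp T W L₀ Z₁ V i t y) :
    (rl (bau T) (blk T y)).relIndex (zc (bau T)) = 2 := by
  obtain ⟨e, he, he1, he'⟩ := h.exists_e i
  refine relIndex_eq_two he.2 (fun h1 => he1 ?_) fun z hz => h.zc_cases he he' hz
  exact mem_bot.1 (h.rl_inf ▸ (mem_inf.2 ⟨h1, he.1⟩))

theorem BHyp.rl_comm (h : BHyp T W L₀ Z₁ V i t y) {r l : K}
    (hr : r ∈ rl (bau T) (blk T y)) (hl : l ∈ blk T y) : l * r = r * l :=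
  (mem_centralizer_iff.1 hr.2) l hl

theorem BHyp.V_le_bau (h : BHyp T W L₀ Z₁ V i t y) (j : ι) : V j ≤ bau T :=
  (h.ff.V_le j).trans h.ff.W_le_bau

theorem BHyp.zc_le_sup (h : BHyp T W L₀ Z₁ V i t y) :
    zc (bau T) ≤ rl (bau T) (blk T y) ⊔ V i := by
  obtain ⟨e, he, he1, he'⟩ := h.exists_e i
  have hee : e * e = 1 := by rw [← pow_two]; exact h.ff.V_sq i e he.1
  intro z hz
  rcases h.zc_cases he he' hz with h1 | h1
  · exact mem_sup_left h1
  · have h2 := mul_mem (mem_sup_left (T := V i) h1) (mem_sup_right (S := rl (bau T) (blk T y)) he.1)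
    rwa [mul_assoc, hee, mul_one] at h2

theorem BHyp.blk_le_normalizer_sup (h : BHyp T W L₀ Z₁ V i t y) :
    blk T y ≤ normalizer ((rl (bau T) (blk T y) ⊔ V i : Subgroup K) : Set K) := by
  intro l hl
  refine mem_normalizer_of_map_conj_eq ?_
  rw [Subgroup.map_sup, map_conj_eq_of_mem_normalizer (h.nrm i hl)]
  congr 1
  refine map_conj_eq_of_mem_normalizer ?_
  rw [mem_normalizer_iff]
  intro r
  constructor
  · intro hr
    rw [h.rl_comm hr hl]; simpa using hr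
  · intro hr
    have h1 := h.rl_comm hr (inv_mem hl)
    have h2 : r = l * r * l⁻¹ := by
      calc r = l⁻¹ * (l * r * l⁻¹) * l := by group
        _ = l * r * l⁻¹ := by rw [h1]; group
    rw [h2]; exact hr

theorem BHyp.zl_eq (h : BHyp T W L₀ Z₁ V i t y) :
    zl (bau T) (blk T y) = rl (bau T) (blk T y) ⊔ V i := by
  apply le_antisymm
  · exact zl_le h.zc_le_sup h.blk_le_normalizer_sup
  · refine sup_le (rl_le_zl _ _) ?_
    obtain ⟨e, he, he1, -⟩ := h.exists_e i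
    have h1 : e ∈ zl (bau T) (blk T y) := zc_le_zl he.2
    have h2 : y * e * y⁻¹ ∈ zl (bau T) (blk T y) :=
      conj_mem (le_normalizer_zl _ _ (mem_blk T y)) h1
    have h3 : y * e * y⁻¹ ∈ V i := conj_mem (h.nrm i (mem_blk T y)) he.1
    have h4 : y * e * y⁻¹ ≠ 1 := by
      intro h5
      apply he1
      calc e = y⁻¹ * (y * e * y⁻¹) * y := by group
        _ = 1 := by rw [h5]; group
    have h5 : e ≠ y * e * y⁻¹ := fun h6 => he1 (h.yd.fix e he.1 h6.symm)
    intro v hv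
    rcases mem_cases (h.ff.card i) (h.ff.V_sq i) he.1 h3 he1 h4 h5 v hv with rfl | rfl | rfl | rfl
    · exact one_mem _
    · exact h1
    · exact h2
    · exact mul_mem h1 h2

theorem BHyp.rl_V_comm (h : BHyp T W L₀ Z₁ V i t y) {r v : K}
    (hr : r ∈ rl (bau T) (blk T y)) (hv : v ∈ V i) : r * v = v * r :=
  (h.rl_comm hr (bau_le_blk T y (h.V_le_bau i hv))).symm

theorem BHyp.vl_eq (h : BHyp T W L₀ Z₁ V i t y) : vl (bau T) (blk T y) = V i := by
  apply le_antisymm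
  · rw [vl, h.zl_eq, commutator_le]
    intro z hz l hl
    obtain ⟨r, hr, v, hv, rfl⟩ := Support.mem_sup_of_commute
      (fun r hr v hv => h.rl_V_comm hr hv) hz
    have h1 : r * l = l * r := (h.rl_comm hr hl).symm
    have h2 : l * v⁻¹ * l⁻¹ ∈ V i := conj_mem (h.nrm i hl) (inv_mem hv)
    have h3 : ⁅r * v, l⁆ = r * (v * (l * v⁻¹ * l⁻¹)) * (l * r⁻¹ * l⁻¹) := by
      rw [commutatorElement_def]; group
    have h4 : l * r⁻¹ * l⁻¹ = r⁻¹ := by
      have := h.rl_comm (inv_mem hr) hl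
      rw [this]; group
    have h5 : v * (l * v⁻¹ * l⁻¹) ∈ V i := mul_mem hv h2
    rw [h3, h4, h.rl_V_comm hr h5, mul_inv_cancel_right]
    exact h5
  · obtain ⟨e, he, he1, -⟩ := h.exists_e i
    have h0 : y ∈ normalizer (V i : Set K) := h.nrm i (mem_blk T y)
    have hyinv : y * e⁻¹ * y⁻¹ ∈ V i := conj_mem h0 (inv_mem he.1)
    have h1 : e * (y * e⁻¹ * y⁻¹) ∈ vl (bau T) (blk T y) := by
      have : e * (y * e⁻¹ * y⁻¹) = ⁅e, y⁆ := by rw [commutatorElement_def]; group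
      rw [this, vl]
      exact commutator_mem_commutator (zc_le_zl he.2) (mem_blk T y)
    have h2 : e * (y * e⁻¹ * y⁻¹) ∈ V i := mul_mem he.1 hyinv
    have h3 : e * (y * e⁻¹ * y⁻¹) ≠ 1 := by
      intro h4
      apply he1
      apply h.yd.fix e he.1
      have h5 : e = (y * e⁻¹ * y⁻¹)⁻¹ := eq_inv_of_mul_eq_one_left h4
      rw [mul_inv_rev, mul_inv_rev, inv_inv, inv_inv, ← mul_assoc] at h5
      exact h5.symm
    obtain ⟨w, hw⟩ : ∃ w, w = e * (y * e⁻¹ * y⁻¹) := ⟨_, rfl⟩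
    rw [← hw] at h1 h2 h3
    have h4 : y * w * y⁻¹ ∈ vl (bau T) (blk T y) :=
      conj_mem (le_normalizer_vl _ _ (mem_blk T y)) h1
    have h5 : y * w * y⁻¹ ∈ V i := conj_mem h0 h2
    have h6 : y * w * y⁻¹ ≠ 1 := by
      intro h7
      apply h3
      calc w = y⁻¹ * (y * w * y⁻¹) * y := by group
        _ = 1 := by rw [h7]; group
    have h7 : w ≠ y * w * y⁻¹ := fun h8 => h3 (h.yd.fix w h2 h8.symm)
    intro v hv
    rcases mem_cases (h.ff.card i) (h.ff.V_sq i) h2 h5 h3 h6 h7 v hv with rfl | rfl | rfl | rfl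
    · exact one_mem _
    · exact h1
    · exact h4
    · exact mul_mem h1 h4

/-- `D = C_B(V i)`. -/
theorem BHyp.inf_Q_le (h : BHyp T W L₀ Z₁ V i t y) {g : K} (hg : g ∈ L₀)
    (hq : g ∈ pCore 2 K) : g ∈ bau T ⊓ centralizer (V i : Set K) := by
  refine ⟨h.l0.inf_Q ⟨hg, hq⟩, ?_⟩
  exact centralizer_le (h.ff.V_le i) (h.ff.Wcent hq)

theorem BHyp.D_normal (h : BHyp T W L₀ Z₁ V i t y) :
    blk T y ≤ normalizer ((bau T ⊓ centralizer (V i : Set K) : Subgroup K) : Set K) := by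
  have hcen : ∀ l ∈ blk T y, ∀ d ∈ centralizer (V i : Set K),
      l * d * l⁻¹ ∈ centralizer (V i : Set K) := by
    intro l hl d hd
    rw [mem_centralizer_iff'] at hd ⊢
    intro v hv
    have h1 := hd _ (inv_conj_mem (h.nrm i hl) hv)
    calc l * d * l⁻¹ * v * (l * d * l⁻¹)⁻¹ = l * (d * (l⁻¹ * v * l) * d⁻¹) * l⁻¹ := by group
      _ = v := by rw [h1]; group
  refine sup_le (fun b hb => mem_normalizer_of_forall fun d hd => ?_)
    (zpowers_le.2 (mem_normalizer_of_forall fun d hd => ?_))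
  · exact mem_inf.2 ⟨mul_mem (mul_mem hb (mem_inf.1 hd).1) (inv_mem hb),
      hcen b (bau_le_blk T y hb) d (mem_inf.1 hd).2⟩
  · replace hd := mem_inf.1 hd
    refine mem_inf.2 ⟨?_, hcen y (mem_blk T y) d hd.2⟩
    obtain ⟨a, ha, q, hq, hd'⟩ := mem_sup_of_le_normalizer
      (H := jj T) (N := pCore 2 K) (by
        have : (pCore 2 K).Normal := Lib.Cores.pCore_normal 2
        exact le_normalizer_of_normal) (h.l0.B_le hd.1)
    have hqc : q ∈ centralizer (V i : Set K) := centralizer_le (h.ff.V_le i) (h.ff.Wcent hq)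
    have hac : a ∈ centralizer (V i : Set K) := by
      have : a = d * q⁻¹ := by rw [hd']; group
      rw [this]; exact mul_mem hd.2 (inv_mem hqc)
    have h1 := h.yd.cent a ha hac
    have hQn : (pCore 2 K).Normal := Lib.Cores.pCore_normal 2
    have h2 : y * d * y⁻¹ * d⁻¹ ∈ pCore 2 K := by
      have h3 : y * d * y⁻¹ * d⁻¹ =
          (a * y * a⁻¹ * y⁻¹)⁻¹ * (a * (y * q * y⁻¹ * q⁻¹) * a⁻¹) := by
        rw [hd']; group
      rw [h3]
      exact mul_mem (inv_mem h1) (hQn.conj_mem _ (mul_mem (hQn.conj_mem q hq y) (inv_mem hq)) a)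
    have h3 : y * d * y⁻¹ * d⁻¹ ∈ L₀ := by
      have hyL := h.blk_le (mem_blk T y)
      have hdL := h.l0.le hd.1
      exact mul_mem (mul_mem (mul_mem hyL hdL) (inv_mem hyL)) (inv_mem hdL)
    have h4 := (mem_inf.1 (h.inf_Q_le h3 h2)).1
    have h5 := mul_mem h4 hd.1
    rwa [inv_mul_cancel_right] at h5

theorem BHyp.t_mem (h : BHyp T W L₀ Z₁ V i t y) : t ∈ bau T := jj_le_bau T h.ht

theorem BHyp.t_not (h : BHyp T W L₀ Z₁ V i t y) :
    t ∉ bau T ⊓ centralizer (V i : Set K) := by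
  intro h1
  obtain ⟨v, hv, hne⟩ := h.htne
  exact hne (mem_centralizer_iff'.1 (mem_inf.1 h1).2 v hv)

theorem BHyp.two (h : BHyp T W L₀ Z₁ V i t y) : IsPGroup 2 (bau T) :=
  isPGroup_bau h.ff.two

/-- `|B : D| = 2`. -/
theorem BHyp.D_index (h : BHyp T W L₀ Z₁ V i t y) :
    (bau T ⊓ centralizer (V i : Set K)).relIndex (bau T) = 2 := by
  rw [inf_relIndex_left]
  rcases Plane.relIndex_le_two (h.ff.card i) ((bau_le_blk T y).trans (h.nrm i)) h.two with h1 | h1
  · exact absurd (mem_inf.2 ⟨h.t_mem, relIndex_eq_one.1 h1 h.t_mem⟩) h.t_not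
  · exact h1

theorem BHyp.mem_D_or (h : BHyp T W L₀ Z₁ V i t y) {b : K} (hb : b ∈ bau T)
    (hbD : b ∉ bau T ⊓ centralizer (V i : Set K)) :
    ∃ δ ∈ bau T ⊓ centralizer (V i : Set K), b = δ * t := by
  obtain ⟨D, hD⟩ : ∃ D, D = bau T ⊓ centralizer (V i : Set K) := ⟨_, rfl⟩
  have h1 : (D.subgroupOf (bau T)).index = 2 := hD ▸ h.D_index
  have ht := h.t_not
  rw [← hD] at hbD ht ⊢
  have h2 := (mul_mem_iff_of_index_two h1 (a := ⟨b, hb⟩) (b := ⟨t, h.t_mem⟩⁻¹)).2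
    ⟨fun h3 => absurd h3 (fun h4 => hbD (mem_subgroupOf.1 h4)),
      fun h3 => absurd (inv_mem_iff.1 h3) (fun h4 => ht (mem_subgroupOf.1 h4))⟩
  refine ⟨b * t⁻¹, mem_subgroupOf.1 h2, by group⟩

theorem BHyp.dih (h : BHyp T W L₀ Z₁ V i t y) {b : K} (hb : b ∈ bau T)
    (hbD : b ∉ bau T ⊓ centralizer (V i : Set K)) :
    b * y * b⁻¹ * y ∈ bau T ⊓ centralizer (V i : Set K) := by
  obtain ⟨δ, hδ, rfl⟩ := h.mem_D_or hb hbD
  have hη : t * y * t⁻¹ * y ∈ bau T ⊓ centralizer (V i : Set K) := by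
    refine h.inf_Q_le ?_ h.yd.inv
    have hyL := h.blk_le (mem_blk T y)
    have htL := h.l0.le h.t_mem
    exact mul_mem (mul_mem (mul_mem htL hyL) (inv_mem htL)) hyL
  have h1 : y⁻¹ * δ⁻¹ * y ∈ bau T ⊓ centralizer (V i : Set K) :=
    inv_conj_mem (h.D_normal (mem_blk T y)) (inv_mem hδ)
  have h2 : δ * t * y * (δ * t)⁻¹ * y = δ * (t * y * t⁻¹ * y) * (y⁻¹ * δ⁻¹ * y) := by group
  rw [h2]
  exact mul_mem (mul_mem hδ hη) h1

theorem BHyp.exists_pow (h : BHyp T W L₀ Z₁ V i t y) {g : K} (hg : g ∈ blk T y) :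
    ∃ n : ℕ, ∃ b ∈ bau T, g = y ^ n * b := by
  obtain ⟨D, hD⟩ : ∃ D, D = bau T ⊓ centralizer (V i : Set K) := ⟨_, rfl⟩
  have hDB : D ≤ bau T := hD ▸ inf_le_left
  have hn : blk T y ≤ normalizer (D : Set K) := hD ▸ h.D_normal
  have hyD : zpowers y ≤ normalizer (D : Set K) := (le_sup_right.trans hn)
  have hBN : bau T ≤ normalizer ((zpowers y ⊔ D : Subgroup K) : Set K) := by
    intro b hb
    refine mem_normalizer_of_forall fun n hn' => ?_
    have key : zpowers y ⊔ D ≤ (zpowers y ⊔ D).comap (MulAut.conj b).toMonoidHom := by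
      refine sup_le (zpowers_le.2 ?_) (fun d hd => ?_)
      · change b * y * b⁻¹ ∈ zpowers y ⊔ D
        by_cases hbD : b ∈ D
        · exact mul_mem (mul_mem (mem_sup_right hbD) (mem_sup_left (mem_zpowers y)))
            (inv_mem (mem_sup_right hbD))
        · have h1 := h.dih hb (hD ▸ hbD)
          rw [← hD] at h1
          have h2 := mul_mem (mem_sup_right (S := zpowers y) h1)
            (inv_mem (mem_sup_left (T := D) (mem_zpowers y)))
          rwa [mul_inv_cancel_right] at h2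
      · exact mem_sup_right (conj_mem (hn (bau_le_blk T y hb)) hd)
    exact key hn'
  have hgm : g ∈ (zpowers y ⊔ D) ⊔ bau T := by
    have h1 : blk T y ≤ (zpowers y ⊔ D) ⊔ bau T :=
      sup_le le_sup_right (le_sup_left.trans le_sup_left)
    exact h1 hg
  have h1 : g ∈ (((zpowers y ⊔ D) ⊔ bau T : Subgroup K) : Set K) := hgm
  rw [coe_mul_of_right_le_normalizer_left (zpowers y ⊔ D) (bau T) hBN] at h1
  obtain ⟨n, hn', b, hb, hnb⟩ := h1
  obtain ⟨a, ha, d, hd, rfl⟩ := mem_sup_of_le_normalizer hyD hn'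
  obtain ⟨k, hk⟩ := Submonoid.mem_powers_iff _ _ |>.1 (mem_powers_iff_mem_zpowers.2 ha)
  refine ⟨k, d * b, mul_mem (hDB hd) hb, ?_⟩
  rw [hk, ← mul_assoc]
  exact hnb.symm

theorem BHyp.y_ne (h : BHyp T W L₀ Z₁ V i t y) : y ≠ 1 := by
  rintro rfl
  obtain ⟨e, he, he1, -⟩ := h.exists_e i
  exact he1 (h.yd.fix e he.1 (by group))

theorem BHyp.order (h : BHyp T W L₀ Z₁ V i t y) : ∃ k, 1 ≤ k ∧ orderOf y = 3 ^ k := by
  obtain ⟨m, hm⟩ := h.yd.pow
  obtain ⟨k, -, hk⟩ := (Nat.dvd_prime_pow Nat.prime_three).1 (orderOf_dvd_of_pow_eq_one hm)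
  refine ⟨k, ?_, hk⟩
  rcases Nat.eq_zero_or_pos k with h1 | h1
  · exact absurd (orderOf_eq_one_iff.1 (by rw [hk, h1, pow_zero])) h.y_ne
  · exact h1

/-- a power of `y` in a 2-subgroup is trivial -/
theorem BHyp.eq_one (h : BHyp T W L₀ Z₁ V i t y) {P : Subgroup K} (hP : IsPGroup 2 P) {g : K}
    (hg : g ∈ P) (hgy : g ∈ zpowers y) : g = 1 := by
  obtain ⟨k, -, hk⟩ := h.order
  obtain ⟨a, ha⟩ := hP ⟨g, hg⟩
  have ha' : g ^ 2 ^ a = 1 := congrArg Subtype.val ha
  have h1 : orderOf g ∣ 2 ^ a := orderOf_dvd_of_pow_eq_one ha'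
  have h2 : orderOf g ∣ 3 ^ k := by
    rw [← hk, ← Nat.card_zpowers y]
    exact Subgroup.orderOf_dvd_natCard _ hgy
  have h3 : orderOf g ∣ 1 := by
    have h4 : Nat.Coprime (2 ^ a) (3 ^ k) := Nat.Coprime.pow _ _ (by norm_num)
    exact h4 ▸ Nat.dvd_gcd h1 h2
  exact orderOf_eq_one_iff.1 (Nat.dvd_one.1 h3)

theorem BHyp.index (h : BHyp T W L₀ Z₁ V i t y) : (bau T).relIndex (blk T y) = orderOf y := by
  have h1 : Disjoint ((zpowers y).subgroupOf (blk T y)) ((bau T).subgroupOf (blk T y)) := by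
    rw [disjoint_iff, eq_bot_iff]
    rintro ⟨g, hg⟩ hg'
    obtain ⟨h2, h3⟩ := mem_inf.1 hg'
    exact mem_bot.2 (Subtype.ext (h.eq_one h.two (mem_subgroupOf.1 h3) (mem_subgroupOf.1 h2)))
  have h2 : (((zpowers y).subgroupOf (blk T y) : Subgroup (blk T y)) : Set (blk T y)) *
      (((bau T).subgroupOf (blk T y) : Subgroup (blk T y)) : Set (blk T y)) = Set.univ := by
    rw [Set.eq_univ_iff_forall]
    rintro ⟨g, hg⟩
    obtain ⟨n, b, hb, rfl⟩ := h.exists_pow hg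
    refine ⟨⟨y ^ n, pow_mem (mem_blk T y) n⟩, ?_, ⟨b, bau_le_blk T y hb⟩, ?_, rfl⟩
    · exact mem_subgroupOf.2 (pow_mem (mem_zpowers y) n)
    · exact mem_subgroupOf.2 hb
  have h3 := (isComplement'_of_disjoint_and_mul_eq_univ h1 h2).index_eq_card
  change ((bau T).subgroupOf (blk T y)).index = orderOf y
  rw [h3, ← Nat.card_zpowers]
  exact Nat.card_congr (subgroupOfEquivOfLe le_sup_right).toEquiv

/-- `O₂(L) = C_B(V i)`. -/
theorem BHyp.o2_eq (h : BHyp T W L₀ Z₁ V i t y) :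
    o2 (blk T y) = bau T ⊓ centralizer (V i : Set K) := by
  obtain ⟨k, hk1, hk⟩ := h.order
  have h0 : bau T ⊓ centralizer (V i : Set K) ≤ o2 (blk T y) :=
    le_o2 (inf_le_left.trans (bau_le_blk T y)) (h.two.to_le inf_le_left) h.D_normal
  have h1 : o2 (blk T y) ≤ bau T := by
    refine o2_le_of_sylow (bau_le_blk T y) h.two ?_
    rw [h.index, hk]
    intro h2
    have := Nat.prime_two.dvd_of_dvd_pow h2
    norm_num at this
  refine le_antisymm (fun b hb => ?_) h0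
  by_contra hbD
  have h2 := h0 (h.dih (h1 hb) hbD)
  have hyN := le_normalizer_o2 (blk T y) (mem_blk T y)
  have h3 : y * b⁻¹ * y⁻¹ ∈ o2 (blk T y) := conj_mem hyN (inv_mem hb)
  have h4 : y ^ 2 ∈ o2 (blk T y) := by
    have h5 := mul_mem (inv_mem (mul_mem hb h3)) h2
    have h6 : (b * (y * b⁻¹ * y⁻¹))⁻¹ * (b * y * b⁻¹ * y) = y ^ 2 := by
      rw [pow_two]; group
    rwa [h6] at h5
  have h5 : y ^ 2 = 1 := h.eq_one (isPGroup_o2 _) h4 (pow_mem (mem_zpowers y) 2)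
  have h6 : orderOf y ∣ 2 := orderOf_dvd_of_pow_eq_one h5
  rw [hk] at h6
  have h7 : 3 ∣ 2 := (dvd_pow_self 3 (by omega)).trans h6
  norm_num at h7

/-- `C_L(O₂(L)) ≤ O₂(L)`. -/
theorem BHyp.self_cent (h : BHyp T W L₀ Z₁ V i t y) :
    blk T y ⊓ centralizer (o2 (blk T y) : Set K) ≤ o2 (blk T y) := by
  have hQn : (pCore 2 K).Normal := Lib.Cores.pCore_normal 2
  refine le_o2 inf_le_left ?_ ?_
  · -- a 2-group
    rintro ⟨g, hg⟩
    obtain ⟨hgL, hgC⟩ := mem_inf.1 hg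
    obtain ⟨a, m, hm, ho⟩ := Nat.exists_eq_two_pow_mul_odd (n := orderOf g) (orderOf_pos g).ne'
    have hu : orderOf (g ^ 2 ^ a) = m := by
      rw [orderOf_pow, ho, Nat.gcd_eq_right (dvd_mul_right _ _),
        Nat.mul_div_cancel_left _ (by positivity)]
    have hcop : (Nat.card (zpowers (g ^ 2 ^ a))).Coprime (Nat.card (pCore 2 K)) := by
      rw [Nat.card_zpowers, hu]
      obtain ⟨n, hn⟩ := IsPGroup.iff_card.1 (Lib.Cores.pCore_isPGroup (G := K) 2)
      rw [hn]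
      exact Nat.Coprime.pow_right _ hm.coprime_two_right
    have hgL₀ : g ^ 2 ^ a ∈ L₀ := pow_mem (h.blk_le hgL) _
    have hgC' : g ^ 2 ^ a ∈ centralizer (o2 (blk T y) : Set K) := pow_mem hgC _
    have h1 : zpowers (g ^ 2 ^ a) ≤ centralizer (pCore 2 K : Set K) := by
      refine Lib.CoprimeCommutator.le_centralizer_of_commutator_le _ _
        (bau T ⊓ centralizer (V i : Set K)) (by
          rw [normalizer_eq_top_iff.2 hQn]; exact le_top) hcop ?_ ?_
      · rw [commutator_le]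
        intro q hq x hx
        have hxL₀ : x ∈ L₀ := (zpowers_le.2 hgL₀) hx
        refine h.inf_Q_le ?_ ?_
        · rw [commutatorElement_def]
          have := mul_mem (h.l0.normal.conj_mem x hxL₀ q) (inv_mem hxL₀)
          exact this
        · rw [commutatorElement_def]
          have := mul_mem hq (hQn.conj_mem _ (inv_mem hq) x)
          have h2 : q * x * q⁻¹ * x⁻¹ = q * (x * q⁻¹ * x⁻¹) := by group
          rw [h2]; exact this
      · rw [← h.o2_eq, zpowers_le]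
        exact hgC'
    have h2 : g ^ 2 ^ a ∈ pCore 2 K := h.ff.cQ (h1 (mem_zpowers _))
    obtain ⟨c, hc⟩ := (Lib.Cores.pCore_isPGroup (G := K) 2) ⟨_, h2⟩
    refine ⟨a + c, Subtype.ext ?_⟩
    change g ^ 2 ^ (a + c) = 1
    rw [pow_add, pow_mul]
    exact congrArg Subtype.val hc
  · intro l hl
    refine mem_normalizer_of_forall fun g hg => ?_
    obtain ⟨hgL, hgC⟩ := mem_inf.1 hg
    refine mem_inf.2 ⟨mul_mem (mul_mem hl hgL) (inv_mem hl), ?_⟩
    rw [mem_centralizer_iff'] at hgC ⊢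
    intro v hv
    have h1 := hgC _ (inv_conj_mem (le_normalizer_o2 _ hl) hv)
    calc l * g * l⁻¹ * v * (l * g * l⁻¹)⁻¹ = l * (g * (l⁻¹ * v * l) * g⁻¹) * l⁻¹ := by group
      _ = v := by rw [h1]; group

theorem BHyp.zc_le_Y (h : BHyp T W L₀ Z₁ V i t y) : zc (bau T) ≤ Z₁ ⊔ ⨆ j, V j := by
  have hzc : zc (bau T) = Z₁ ⊔ ⨆ j, (V j ⊓ zc (bau T)) := h.l0.zcB
  rw [hzc]
  exact sup_le_sup le_rfl (iSup_mono fun j => inf_le_left)

theorem BHyp.zl_le_Y (h : BHyp T W L₀ Z₁ V i t y) :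
    zl (bau T) (blk T y) ≤ Z₁ ⊔ ⨆ j, V j := by
  rw [h.zl_eq]
  exact sup_le (inf_le_left.trans h.zc_le_Y) ((le_iSup V i).trans le_sup_right)

theorem BHyp.cent_zl (h : BHyp T W L₀ Z₁ V i t y) :
    bau T ⊓ centralizer (zl (bau T) (blk T y) : Set K) = o2 (blk T y) := by
  rw [h.o2_eq, h.zl_eq]
  apply le_antisymm
  · exact inf_le_inf_left _ (centralizer_le (SetLike.coe_subset_coe.2 le_sup_right))
  · intro b hb
    obtain ⟨h1, h2⟩ := mem_inf.1 hb
    refine mem_inf.2 ⟨h1, ?_⟩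
    rw [mem_centralizer_iff] at h2 ⊢
    intro z hz
    obtain ⟨r, hr, v, hv, rfl⟩ := Support.mem_sup_of_commute
      (fun r hr v hv => h.rl_V_comm hr hv) hz
    have h3 : r * b = b * r := (h.rl_comm hr (bau_le_blk T y h1)).symm
    rw [mul_assoc, h2 v hv, ← mul_assoc, h3, mul_assoc]

theorem BHyp.jj_le (h : BHyp T W L₀ Z₁ V i t y) : jj (o2 (blk T y)) ≤ jj (bau T) := by
  obtain ⟨A, hA, hAQ⟩ := h.ff.maxQ
  have hAT : A ≤ T := hAQ.trans h.ff.Q_le
  have h1 : IsMaxIn T A := ⟨hAT, hA.1, fun B _ hB => hA.2 B hB⟩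
  have h2 : A ≤ bau T := h1.le_jj.trans (jj_le_bau T)
  have h3 : A ≤ o2 (blk T y) := by
    rw [h.o2_eq]
    exact le_inf h2 ((hAQ.trans h.ff.Wcent).trans (centralizer_le (h.ff.V_le i)))
  refine jj_le_jj_of_isMaxIn (h1.mono h2 (bau_le T)) h3 ?_
  rw [h.o2_eq]; exact inf_le_left

/-- The block. -/
theorem BHyp.isDBlk (h : BHyp T W L₀ Z₁ V i t y) :
    ∃ k, IsDBlk (bau T) (blk T y) k ∧ orderOf y = 3 ^ k := by
  obtain ⟨k, hk1, hk⟩ := h.order
  refine ⟨k, ?_, hk⟩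
  exact
    { le := bau_le_blk T y
      two := h.two
      pos := hk1
      index := by rw [h.index, hk]
      o2_le := by rw [h.o2_eq]; exact inf_le_left
      o2_index := by rw [h.o2_eq]; exact h.D_index
      self_cent := h.self_cent
      zl_comm := fun a ha b hb => h.l0.Ycomm a (h.zl_le_Y ha) b (h.zl_le_Y hb)
      zl_sq := fun a ha => h.l0.Ysq a (h.zl_le_Y ha)
      cent_zl := h.cent_zl
      cent_vl := by rw [h.vl_eq, h.o2_eq]
      rl_index := h.rl_index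
      card_vl := by rw [h.vl_eq]; exact h.ff.card i
      sup_eq := by rw [h.vl_eq, h.zl_eq]
      disj := by rw [h.vl_eq]; exact h.rl_inf
      jj_o2_le := h.jj_le
      not_jj_le := fun h1 => h.t_not (by
        rw [← h.o2_eq]
        refine h1 ?_
        rw [jj_bau]; exact h.ht)
      dih := by
        refine ⟨y, mem_blk T y, by rw [← hk, pow_orderOf_eq_one], ?_, ?_, ?_, ?_⟩
        · rw [h.o2_eq]
          exact fun b hb hbD => h.dih hb hbD
        · exact fun g hg => h.exists_pow hg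
        · rw [h.vl_eq]; exact h.yd.fix
        · rw [h.vl_eq]; exact h.yd.cube }

end Block

/-- **Existence of the block for `V i`.** -/
theorem exists_bHyp [Finite K] {T W : Subgroup K} {ι : Type} [Finite ι] {V : ι → Subgroup K}
    (h : FF0 T W V) : ∃ L₀ Z₁ : Subgroup K, L0Data0 T (bau T) L₀ Z₁ V ∧
      ∀ i, ∃ t y, BHyp T W L₀ Z₁ V i t y := by
  obtain ⟨L₀, Z₁, h0⟩ := Baumann.exists_l0Data0 h
  refine ⟨L₀, Z₁, h0, fun i => ?_⟩
  obtain ⟨t, ht, htne, httriv⟩ := h.t i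
  have httriv' : ∀ j, j ≠ i → ∀ v ∈ V j, t * v * t⁻¹ = v := fun j hj v hv =>
    conj_eq_iff.2 (httriv j hj v hv)
  obtain ⟨y, hy⟩ := exists_y h i ht htne httriv'
  exact ⟨t, y, h, h0, ht, htne, httriv', hy⟩

/-- **Existence of dihedral blocks.** -/
theorem exists_isDBlk [Finite K] {T W : Subgroup K} {ι : Type} [Finite ι] {V : ι → Subgroup K}
    (h : FF0 T W V) (i : ι) : ∃ (L : Subgroup K) (k : ℕ) (y : K), IsDBlk (bau T) L k ∧
      L = bau T ⊔ zpowers y ∧ vl (bau T) L = V i ∧ zl (bau T) L = rl (bau T) L ⊔ V i ∧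
      o2 L = bau T ⊓ centralizer (V i : Set K) ∧ orderOf y = 3 ^ k ∧
      y ∈ thompsonSubgroup 2 K ∧ (∀ v ∈ V i, y * v * y⁻¹ = v → v = 1) ∧
      (∀ v ∈ V i, y ^ 3 * v * (y ^ 3)⁻¹ = v) ∧ (∀ j, j ≠ i → ∀ v ∈ V j, y * v * y⁻¹ = v) ∧
      L ≤ normalClosure (bau T : Set K) ∧ (∀ j, L ≤ normalizer (V j : Set K)) := by
  obtain ⟨L₀, Z₁, -, h1⟩ := exists_bHyp h
  obtain ⟨t, y, hh⟩ := h1 i
  obtain ⟨k, hk, ho⟩ := hh.isDBlk
  exact ⟨blk T y, k, y, hk, rfl, hh.vl_eq, hh.zl_eq, hh.o2_eq, ho, hh.yd.mem, hh.yd.fix,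
    hh.yd.cube, hh.yd.triv, hh.l0.eq ▸ hh.blk_le, hh.nrm⟩

end Cfsg.Agent.MinSimple.FFBlock
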