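import Cfsg.Agent.MinSimple.DBlkNot
import Cfsg.Agent.MinSimple.FFBlock

/-!
# Core theorem T, part C1: existence of a dihedral block over `B(T)` not contained in `M`

`exists_dblk`: `X` a solvable group of characteristic 2, `T` a Sylow 2-subgroup of `X`, `M ≥ T` a
subgroup (of the ambient group `G`) containing `C_X(Ω₁(Z(T)))` and `N_X(B(T))` but not `X`: there is a
block `L ≤ N_X(T ∩ C_X(W))` over `B(T)` not contained in `M`.
-/

set_option autoImplicit false

namespace Cfsg.Agent.MinSimple.DBlkExist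

open Subgroup Cfsg Cfsg.Agent.ZN
open Cfsg.Agent.PLocal.ThompsonJ
open Cfsg.Agent.PLocal.FFCoprime (omegaJoin omegaJoin_def)
open Cfsg.Agent.MinSimple.DBlkReduce Cfsg.Agent.MinSimple.DBlkNot

universe u

variable {G : Type u} [Group G]

/-- **Existence of a block not contained in `M`.** -/
theorem exists_dblk [Finite G] {X T M : Subgroup G} (hs : Group.IsSolvable ↥X)
    (hc : X ⊓ centralizer (o2 X : Set G) ≤ o2 X) (hT : IsPGroup 2 T) (hTX : T ≤ X)
    (hTs : ¬ 2 ∣ T.relIndex X) (hZ : X ⊓ centralizer (zc T : Set G) ≤ M)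
    (hB : X ⊓ normalizer (bau T : Set G) ≤ M) (hX : ¬ X ≤ M) :
    ∃ (L : Subgroup G) (k : ℕ), IsDBlk (bau T) L k ∧ L ≤ rd X T ∧ L ≤ X ∧ ¬ L ≤ M := by
  have hJ := inf_normalizer_jj_le hT hTX hTs hZ hB
  have h00 := exists_ff1_rd hs hc hT hTX hTs hZ hJ hX
  set N := rd X T with hN
  obtain ⟨n, V, h1⟩ := h00
  have hNs : Group.IsSolvable ↥N :=
    Group.isSolvable_of_isSolvable_injective (inclusion_injective (rd_le X T))
  have h0 := FFX.ff0_of_ff1 hNs h1
  have hinj : Function.Injective N.subtype := N.subtype_injective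
  have hTN : T ≤ N := le_rd hTX
  have hTT : (T.subgroupOf N).map N.subtype = T := by
    rw [subgroupOf_map_subtype, inf_eq_left.2 hTN]
  have hNN : (⊤ : Subgroup ↥N).map N.subtype = N := by
    rw [← MonoidHom.range_eq_map, Subgroup.range_subtype]
  choose L k y hL hLy _ _ _ _ hyJ hfix hcube htriv _ _ using FFBlock.exists_isDBlk h0
  -- `M ∩ N`
  have hzl : (omegaJoin 2 ↥N).map N.subtype = zl T X := by
    rw [omegaJoin_eq h0.two h0.sylow, ← zl_map N.subtype hinj, hTT, hNN, hN, zl_rd hT hTX hTs]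
  have hW : centralizer (omegaJoin 2 ↥N : Set ↥N) ≤ M.subgroupOf N := by
    have h2 := centralizer_map_inf N.subtype hinj ⊤ (omegaJoin 2 ↥N)
    rw [hNN, hzl, top_inf_eq] at h2
    intro x hx
    rw [mem_subgroupOf]
    refine inf_centralizer_zl_le hZ ((inf_le_inf_right _ (rd_le X T)) ?_)
    rw [← hN, h2]
    exact ⟨x, hx, rfl⟩
  have hJ' : normalizer (jj (T.subgroupOf N) : Set ↥N) ≤ M.subgroupOf N := by
    have h2 := normalizer_map_inf N.subtype hinj ⊤ (jj (T.subgroupOf N))
    rw [hNN, ← jj_map N.subtype hinj, hTT, top_inf_eq] at h2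
    intro x hx
    rw [mem_subgroupOf]
    refine hJ ((inf_le_inf_right _ (rd_le X T)) ?_)
    rw [← hN, h2]
    exact ⟨x, hx, rfl⟩
  have hMne : M.subgroupOf N ≠ ⊤ := fun h => by
    rw [subgroupOf_eq_top] at h
    exact not_rd_le hT hTX hTs hZ hX h
  obtain ⟨i, hi⟩ := exists_not_mem h0 hW hJ' hMne y hyJ hfix hcube htriv
  refine ⟨(L i).map N.subtype, k i, ?_, map_subtype_le _,
    (map_subtype_le _).trans (rd_le X T), fun hcon => hi ?_⟩
  · have h3 := (hL i).map N.subtype hinj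
    rwa [← bau_map N.subtype hinj, hTT] at h3
  · rw [mem_subgroupOf]
    refine hcon ⟨y i, ?_, rfl⟩
    rw [hLy i]
    exact mem_sup_right (mem_zpowers _)

end Cfsg.Agent.MinSimple.DBlkExist
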