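import Cfsg.Agent.ZN.FFData

/-!
# Core theorem T, part C1: S0617 in a general solvable group of characteristic 2

The proof is helper361's (`Cfsg.Agent.ZN.FFData.exists_ff1`), without the hypothesis `C_T(W) = O₂(K)`.
-/

set_option autoImplicit false

namespace Cfsg.Agent.MinSimple

open Subgroup Cfsg Cfsg.Agent.ZN

universe u

/-- Consequences of the structure theorem S0617 for a finite solvable group `K` with
`C_K(O₂(K)) ≤ O₂(K)`, Sylow 2-subgroup `T` and `W = ⟨Ω₁(Z(T))^K⟩`, when `J(K)` does not centralize `W`;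
`J = thompsonSubgroup 2 K` is the normal subgroup of `K` generated by all elementary abelian
2-subgroups of maximal order. -/
structure FF0 {K : Type u} [Group K] (T W : Subgroup K) {ι : Type} (V : ι → Subgroup K) : Prop where
  two : IsPGroup 2 T
  sylow : ¬ 2 ∣ T.index
  nonempty : Nonempty ι
  Wn : W.Normal
  Wcomm : ∀ x ∈ W, ∀ y ∈ W, x * y = y * x
  Wsq : ∀ x ∈ W, x ^ 2 = 1
  cQ : centralizer (pCore 2 K : Set K) ≤ pCore 2 K
  WQ : W ≤ pCore 2 K
  Wcent : pCore 2 K ≤ centralizer (W : Set K)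
  card : ∀ i, Nat.card (V i) = 4
  indep : iSupIndep (fun o : Option ι =>
    o.elim (W ⊓ centralizer (thompsonSubgroup 2 K : Set K)) V)
  sup : (W ⊓ centralizer (thompsonSubgroup 2 K : Set K)) ⊔ (⨆ i, V i) = W
  perm : ∀ (g : K) (i : ι), ∃ j, (V i).map (MulAut.conj g).toMonoidHom = V j
  nrm : ∀ i, thompsonSubgroup 2 K ≤ normalizer ((V i : Subgroup K) : Set K)
  d : ∀ i, ∃ d ∈ thompsonSubgroup 2 K, (∃ v ∈ V i, d * v * d⁻¹ ≠ v) ∧
    (∀ v ∈ V i, d ^ 3 * v * (d ^ 3)⁻¹ = v) ∧ ∀ j, j ≠ i → ∀ v ∈ V j, d * v = v * d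
  t : ∀ i, ∃ t ∈ jj T, (∃ v ∈ V i, t * v * t⁻¹ ≠ v) ∧ ∀ j, j ≠ i → ∀ v ∈ V j, t * v = v * t
  hO : pCore 2 (K ⧸ centralizer (W : Set K)) = ⊥

namespace FFGen

open Cfsg.Agent.PLocal
open Cfsg.Agent.PLocal.ThompsonJ
open Cfsg.Agent.PLocal.FFCoprime (omegaJoin omegaJoin_def)

/-- The data of the structure theorem S0617, for a solvable group without further hypotheses. -/
theorem exists_ff0 {K : Type u} [Group K] [Finite K] (hs : Group.IsSolvable K)
    (hc : centralizer (pCore 2 K : Set K) ≤ pCore 2 K) (T : Subgroup K)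
    (hT : IsPGroup 2 T) (hTi : ¬ 2 ∣ T.index)
    (hnJ : ¬ thompsonSubgroup 2 K ≤ centralizer (omegaJoin 2 K : Set K)) :
    ∃ (n : ℕ) (V : Fin n → Subgroup K), FF0 T (omegaJoin 2 K) V := by
  classical
  have hch : (omegaJoin 2 K).Characteristic := FFCoprime.omegaJoin_characteristic 2 K
  have Wn : (omegaJoin 2 K).Normal := inferInstance
  have hOq := FFData.pCore_quotient_eq_bot hc
  obtain ⟨-, hWe, -⟩ := S0601.result (p := 2) hc
  change IsElementaryAbelian 2 (omegaJoin 2 K) at hWe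
  have hWe' := isElementaryAbelian_iff.1 hWe
  set W := omegaJoin 2 K with hW
  set J := thompsonSubgroup 2 K with hJdef
  obtain ⟨Γ, hΓ, hfin, f, j, hcomp, hker, hdisj⟩ := FFBridge.exists_data W Wn
  have hsep : IsPSolvable 2 K := Lib.PSolvable.IsPSolvable_of_solvable 2
  obtain ⟨b1, b2, b3, b4, b5⟩ := FFBridge.bridge hsep (FFBasic.pPrimeCore_eq_bot hc) W rfl f j
    hcomp (fun k hk => (hker k).2 hk)
  set H := J.map f with hH
  have hHne : H ≠ ⊥ := by
    intro h
    apply hnJ
    intro k hk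
    rw [← hker]
    have : f k ∈ H := ⟨k, hk, rfl⟩
    rw [h] at this
    simpa using this
  have hfam := FFTransport.fffam j.range H b1 b2 b3 b4 b5 hHne
  set 𝓔 := FFTransport.comps 2 j.range H with h𝓔
  have hEfin : Finite 𝓔 := inferInstance
  let e : Fin (Nat.card 𝓔) ≃ 𝓔 := (Finite.equivFin 𝓔).symm
  -- the planes
  let V' : 𝓔 → Subgroup W := fun E => (⁅j.range, (E : Subgroup Γ)⁆).comap j
  have hV'j : ∀ E : 𝓔, (V' E).map j = ⁅j.range, (E : Subgroup Γ)⁆ := by
    intro E
    rw [Subgroup.map_comap_eq, inf_eq_right]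
    exact hfam.comm_le E.2
  let V₀ : 𝓔 → Subgroup K := fun E => (V' E).map W.subtype
  have hmemV : ∀ (E : 𝓔) (w : W), (w : K) ∈ V₀ E ↔ j w ∈ ⁅j.range, (E : Subgroup Γ)⁆ := by
    intro E w
    constructor
    · rintro ⟨w', hw', h⟩
      have : w' = w := Subtype.ext h
      rw [← this]; exact hw'
    · intro h
      exact ⟨w, h, rfl⟩
  have hVW : ∀ E, V₀ E ≤ W := fun E => Subgroup.map_subtype_le _
  have hcardV : ∀ E, Nat.card (V₀ E) = 4 := by
    intro E
    have h1 : Nat.card (V₀ E) = Nat.card (V' E) :=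
      card_map_injective _ W.subtype_injective
    have h2 : Nat.card ((V' E).map j) = Nat.card (V' E) := card_map_injective _ hcomp.inj
    rw [h1, ← h2, hV'j, hfam.cardE E E.2]; norm_num
  -- the action
  have hconjV : ∀ (g : K) (E E' : 𝓔), (E : Subgroup Γ).map (MulAut.conj (f g)).toMonoidHom = E' →
      (V₀ E).map (MulAut.conj g).toMonoidHom = V₀ E' := by
    intro g E E' hE
    apply Subgroup.eq_of_le_of_card_ge
    · rintro _ ⟨x, hx, rfl⟩
      obtain ⟨w, hw, rfl⟩ := hx
      have hw' : g * (w : K) * g⁻¹ ∈ W := Wn.conj_mem _ w.2 g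
      have h1 := hcomp.act g w ⟨_, hw'⟩ rfl
      change g * (w : K) * g⁻¹ ∈ V₀ E'
      refine (hmemV E' ⟨_, hw'⟩).2 ?_
      rw [← h1, ← hE]
      have h2 : (⁅j.range, (E : Subgroup Γ)⁆).map (MulAut.conj (f g)).toMonoidHom =
          ⁅j.range, (E : Subgroup Γ).map (MulAut.conj (f g)).toMonoidHom⁆ := by
        rw [Subgroup.map_commutator]
        congr 1
        exact Subgroup.mem_normalizer_iff_map_conj_eq.1
          ((FFBridge.bridge_aux hc W rfl f j hcomp (fun k hk => (hker k).2 hk)).2.2.2.1 ⟨g, rfl⟩)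
      rw [← h2]
      exact ⟨j w, hw, rfl⟩
    · rw [hcardV, card_map_injective _ (MulAut.conj g).injective, hcardV]
  have hfgN : ∀ g : K, f g ∈ normalizer (j.range : Set Γ) := fun g =>
    (FFBridge.bridge_aux hc W rfl f j hcomp (fun k hk => (hker k).2 hk)).2.2.2.1 ⟨g, rfl⟩
  have hJn : J.Normal := haveI := thompsonSubgroup_characteristic 2 K; inferInstance
  have hfgH : ∀ g : K, f g ∈ normalizer (H : Set Γ) := by
    intro g
    rw [mem_normalizer_iff_map_conj_eq]
    apply Subgroup.eq_of_le_of_card_ge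
    · rintro _ ⟨_, ⟨k, hk, rfl⟩, rfl⟩
      refine ⟨g * k * g⁻¹, hJn.conj_mem _ hk g, ?_⟩
      rw [map_mul, map_mul, map_inv]; rfl
    · exact (card_map_injective _ (MulAut.conj (f g)).injective).ge
  have hperm : ∀ (g : K) (E : 𝓔), ∃ E' : 𝓔, (V₀ E).map (MulAut.conj g).toMonoidHom = V₀ E' := by
    intro g E
    exact ⟨⟨_, FFTransport.map_conj_mem_comps (hfgN g) (hfgH g) E.2⟩, hconjV g E _ rfl⟩
  have hnrm : ∀ E : 𝓔, J ≤ normalizer ((V₀ E : Subgroup K) : Set K) := by
    intro E k hk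
    rw [mem_normalizer_iff_map_conj_eq]
    refine hconjV k E E ?_
    exact mem_normalizer_iff_map_conj_eq.1 (hfam.nrmE E E.2 ⟨k, hk, rfl⟩)
  -- independence and join
  let C₀' : Subgroup W := (W ⊓ centralizer (J : Set K)).subgroupOf W
  have hC₀j : C₀'.map j = j.range ⊓ centralizer (H : Set Γ) := (hcomp.inf_centralizer J).symm
  have hC₀ : C₀'.map W.subtype = W ⊓ centralizer (J : Set K) := by
    rw [Subgroup.subgroupOf_map_subtype, inf_eq_left]
    exact inf_le_left
  have hind : iSupIndep (fun o : Option 𝓔 => o.elim (W ⊓ centralizer (J : Set K)) V₀) := by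
    have h1 : iSupIndep (fun o : Option 𝓔 => (o.elim C₀' V').map j) := by
      have h2 := hfam.indepV
      convert h2 using 2 with o
      cases o with
      | none => exact hC₀j
      | some E => exact hV'j E
    have h3 : iSupIndep (fun o : Option 𝓔 => (o.elim C₀' V').map W.subtype) :=
      (FFData.iSupIndep_map_iff _ W.subtype_injective _).2 ((FFData.iSupIndep_map_iff j hcomp.inj _).1 h1)
    convert h3 using 2 with o
    cases o with
    | none => exact hC₀.symm
    | some E => rfl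
  have hsup : (W ⊓ centralizer (J : Set K)) ⊔ (⨆ E, V₀ E) = W := by
    have h1 : (C₀' ⊔ ⨆ E, V' E).map j = (⊤ : Subgroup W).map j := by
      rw [Subgroup.map_sup, Subgroup.map_iSup, hC₀j, ← MonoidHom.range_eq_map]
      exact (congrArg₂ (· ⊔ ·) rfl (iSup_congr fun E => hV'j E)).trans hfam.supV
    have h2 : C₀' ⊔ ⨆ E, V' E = ⊤ := Subgroup.map_injective hcomp.inj h1
    have h3 := congrArg (Subgroup.map W.subtype) h2
    rw [Subgroup.map_sup, Subgroup.map_iSup, hC₀, ← MonoidHom.range_eq_map,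
      Subgroup.range_subtype] at h3
    exact h3
  have hsup' : (W ⊓ centralizer (J : Set K)) ⊔ (⨆ i, V₀ (e i)) = W :=
    (congrArg₂ (· ⊔ ·) rfl (e.iSup_comp (g := V₀))).trans hsup
  have hes : ∀ E, e (e.symm E) = E := e.apply_symm_apply
  -- the elements `d`
  have hd : ∀ E : 𝓔, ∃ d ∈ J, (∃ v ∈ V₀ E, d * v * d⁻¹ ≠ v) ∧
      (∀ v ∈ V₀ E, d ^ 3 * v * (d ^ 3)⁻¹ = v) ∧ ∀ F, F ≠ E → ∀ v ∈ V₀ F, d * v = v * d := by
    intro E
    obtain ⟨iso⟩ := hfam.iso E E.2
    have hcE : Nat.card (E : Subgroup Γ) = 6 := by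
      rw [Nat.card_congr iso.toEquiv, FFFamily.card_sl_two]
    obtain ⟨x, hx⟩ := exists_prime_orderOf_dvd_card' (G := (E : Subgroup Γ)) 3
      (by rw [hcE]; norm_num)
    obtain ⟨d, hdJ, hdx⟩ : ((x : Γ)) ∈ H := hfam.le E.2 x.2
    have hx1 : (x : Γ) ≠ 1 := by
      intro h
      have : x = 1 := Subtype.ext h
      rw [this, orderOf_one] at hx
      norm_num at hx
    have hx3 : (x : Γ) ^ 3 = 1 := by
      have h1 : x ^ 3 = 1 := by rw [← hx]; exact pow_orderOf_eq_one x
      exact congrArg Subtype.val h1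
    refine ⟨d, hdJ, ?_, ?_, ?_⟩
    · by_contra hcon
      push Not at hcon
      apply hx1
      refine hfam.faithfulE E.2 x.2 fun v hv => ?_
      obtain ⟨w, rfl⟩ := hfam.comm_le E.2 hv
      have h1 := hcon w ((hmemV E w).2 hv)
      have h2 : Commute (f d) (j w) := by
        rw [hcomp.commute_iff]
        change d * (w : K) = w * d
        calc d * (w : K) = (d * w * d⁻¹) * d := by group
          _ = w * d := by rw [h1]
      rw [← hdx]; exact h2
    · intro v hv
      have h1 : d ^ 3 ∈ centralizer (W : Set K) := by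
        rw [← hker, map_pow, hdx, hx3]
      have h2 := (mem_centralizer_iff.1 h1) v (hVW E hv)
      rw [← h2]; group
    · intro F hF v hv
      obtain ⟨w, hw, rfl⟩ := hv
      have h1 := hfam.commuteV F.2 E.2 (fun h => hF (Subtype.ext h)) hw x.2
      rw [← hdx] at h1
      exact ((hcomp.commute_iff d w).1 h1.symm)
  -- the elements `t`
  have ht : ∀ E : 𝓔, ∃ t ∈ jj T, (∃ v ∈ V₀ E, t * v * t⁻¹ ≠ v) ∧
      ∀ F, F ≠ E → ∀ v ∈ V₀ F, t * v = v * t := by
    intro E
    obtain ⟨d, hdJ, ⟨v, hv, hdv⟩, -, -⟩ := hd E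
    -- some maximal elementary abelian subgroup moves `V₀ E`
    have h1 : ∃ A ∈ maxElementaryAbelianSubgroups 2 K, ∃ a ∈ A, ∃ v ∈ V₀ E, a * v * a⁻¹ ≠ v := by
      by_contra hcon
      push Not at hcon
      have h2 : J ≤ centralizer (V₀ E : Set K) := by
        refine thompsonSubgroup_le fun A hA a ha => ?_
        rw [mem_centralizer_iff]
        intro v hv
        have := hcon A hA a ha v hv
        calc v * a = (a * v * a⁻¹) * a := by rw [this]
          _ = a * v := by group
      have h3 := (mem_centralizer_iff.1 (h2 hdJ)) v hv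
      apply hdv
      rw [← h3]; group
    obtain ⟨A, hA, a, ha, v, hv, hav⟩ := h1
    obtain ⟨S, hS⟩ := FFBasic.exists_sylow hT hTi
    obtain ⟨P, hP⟩ := ThompsonFrattini.exists_sylow_subgroupOf S J
    have hAJ : A ≤ J := le_thompsonSubgroup hA
    have hA2 : IsPGroup 2 (A.subgroupOf J) :=
      (isPGroup_of_isElementaryAbelian hA.1).comap_of_injective J.subtype J.subtype_injective
    obtain ⟨P', hP'⟩ := hA2.exists_le_sylow
    obtain ⟨g, hg⟩ := MulAction.exists_smul_eq J P' P
    set A' : Subgroup K := A.map (MulAut.conj (g : K)).toMonoidHom with hA'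
    have hA'max : A' ∈ maxElementaryAbelianSubgroups 2 K := by
      refine mem_max_of_card_eq hA (isElementaryAbelian_map hA.1 _) ?_
      rw [card_map_injective _ (MulAut.conj (g : K)).injective]
    have hA'T : A' ≤ T := by
      rintro _ ⟨x, hx, rfl⟩
      have h2 : (⟨x, hAJ hx⟩ : J) ∈ (P' : Subgroup J) := hP' hx
      have h3 : g * ⟨x, hAJ hx⟩ * g⁻¹ ∈ (P : Subgroup J) := by
        rw [← hg, Sylow.coe_subgroup_smul]
        exact Subgroup.smul_mem_pointwise_smul _ (MulAut.conj g) _ h2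
      rw [hP, hS] at h3
      exact h3
    have hA'J : A' ≤ J := le_thompsonSubgroup hA'max
    have hgn : (g : K) ∈ normalizer ((V₀ E : Subgroup K) : Set K) := hnrm E g.2
    have hsingle := Support.exists_single (W := W) (A := A') (C₀ := W ⊓ centralizer (J : Set K))
      (V := fun i => V₀ (e i)) hWe hWe'.1 (fun i => hcardV (e i))
      (by
        have h5 := FFData.iSupIndep_option_comp e hind
        exact h5.comp (f := some) (Option.some_injective _))
      hsup' (fun i => hA'J.trans (hnrm (e i)))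
      (inf_le_right.trans (centralizer_le hA'J)) hA'max (e.symm E) ?_
    · obtain ⟨t, ht, ht1, ht2⟩ := hsingle
      refine ⟨t, ?_, ?_, ?_⟩
      · have h6 : A' ≤ jj T := by
          unfold jj
          rw [thompsonSubgroupOf_eq_sSup hA'max hA'T]
          exact le_sSup ⟨hA'max, hA'T⟩
        exact h6 ht
      · rw [hes] at ht1; exact ht1
      · intro F hF v hv
        refine ht2 (e.symm F) (fun h => hF (e.symm.injective h)) v ?_
        rw [hes]; exact hv
    · refine ⟨(g : K) * a * (g : K)⁻¹, ⟨a, ha, rfl⟩, (g : K) * v * (g : K)⁻¹, ?_, ?_⟩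
      · rw [hes]; exact Support.mem_normalizer_conj hgn hv
      · intro h
        apply hav
        have h7 : (g : K) * (a * v * a⁻¹) * (g : K)⁻¹ = (g : K) * v * (g : K)⁻¹ := by
          rw [← h]; group
        have h8 := congrArg (fun z => (g : K)⁻¹ * z * (g : K)) h7
        simpa [mul_assoc] using h8
  -- nonempty
  have hne : Nonempty 𝓔 := by
    by_contra hcon
    rw [not_nonempty_iff] at hcon
    apply hHne
    rw [← hfam.sup, iSup_of_empty]
  refine ⟨Nat.card 𝓔, fun i => V₀ (e i), ?_⟩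
  exact {
    two := hT
    sylow := hTi
    nonempty := ⟨e.symm hne.some⟩
    Wn := Wn
    Wcomm := hWe'.1
    Wsq := hWe'.2
    cQ := hc
    WQ := FFBasic.omegaJoin_le hc
    Wcent := FFBasic.pCore_le_centralizer
    card := fun i => hcardV (e i)
    indep := FFData.iSupIndep_option_comp e hind
    sup := hsup'
    perm := fun g i => by
      obtain ⟨E', hE'⟩ := hperm g (e i)
      exact ⟨e.symm E', by rw [hes]; exact hE'⟩
    nrm := fun i => hnrm (e i)
    d := fun i => by
      obtain ⟨d, h1, h2, h3, h4⟩ := hd (e i)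
      exact ⟨d, h1, h2, h3, fun j hj => h4 (e j) (fun h => hj (e.injective h))⟩
    t := fun i => by
      obtain ⟨t, h1, h2, h3⟩ := ht (e i)
      exact ⟨t, h1, h2, fun j hj => h3 (e j) (fun h => hj (e.injective h))⟩
    hO := hOq }

end FFGen

end Cfsg.Agent.MinSimple
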