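import Mathlib.GroupTheory.Sylow
import Mathlib.Tactic

/-!
# Pushing up for 2-groups: the graph argument in word form

`T` has index at most two in the group `A`, `B` is normal in `A`, `L` is a "block" over `B`
(`L/Q` is dihedral of order twice a power of three, `V` is an elementary abelian normal subgroup
of `L`, `Q` is the centraliser of `V` in `B`, and `[V, B] = ⟨z⟩` has order two).  If no nontrivial
subgroup of `B` is normalised by `L` and by `A`, then `V` does not commute with some `A`-conjugate.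

(Proof: bb P21 row 1789 of helper522.)
-/

set_option autoImplicit false

namespace Cfsg.Agent.MinSimple.PushUp

variable {G : Type*} [Group G]

/-- The hypotheses of the pushing up theorem.  `V ^ t` means `t V t⁻¹`. -/
structure Data (A T L B Q V Z : Subgroup G) (z : G) : Prop where
  TA : T ≤ A
  idx : ∀ a ∈ A, ∀ b ∈ A, a ∉ T → b ∉ T → a⁻¹ * b ∈ T
  BT : B ≤ T
  BL : B ≤ L
  QB : Q ≤ B
  VQ : V ≤ Q
  ZV : Z ≤ V
  AnB : ∀ a ∈ A, ∀ b ∈ B, a * b * a⁻¹ ∈ B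
  AnZ : ∀ a ∈ A, ∀ b ∈ Z, a * b * a⁻¹ ∈ Z
  LnQ : ∀ l ∈ L, ∀ q ∈ Q, l * q * l⁻¹ ∈ Q
  LnV : ∀ l ∈ L, ∀ v ∈ V, l * v * l⁻¹ ∈ V
  BcZ : ∀ b ∈ B, ∀ y ∈ Z, b * y = y * b
  Vsq : ∀ v ∈ V, v * v = 1
  QcV : ∀ b ∈ B, (∀ v ∈ V, b * v = v * b) → b ∈ Q
  VcQ : ∀ q ∈ Q, ∀ v ∈ V, q * v = v * q
  zZ : z ∈ Z
  z1 : z ≠ 1
  comm : ∀ v ∈ V, ∀ b ∈ B, v * b ≠ b * v → v * b * v⁻¹ * b⁻¹ = z
  ncomm : ∀ v ∈ V, v ∉ Z → ∀ b ∈ B, b ∉ Q → v * b ≠ b * v
  gen : ∀ u ∈ B, u ∉ Q → ∀ l ∈ L, l * z * l⁻¹ ≠ z →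
    ∀ H : Subgroup G, u ∈ H → (∀ b ∈ B, l * b * l⁻¹ ∈ H) → L ≤ H
  moves : ∃ l ∈ L, l * z * l⁻¹ ≠ z
  zfix : ∀ l ∈ L, l * z * l⁻¹ ∈ Z → l * z * l⁻¹ = z
  dihed : ∀ g ∈ B, g ∉ Q → ∀ k ∈ L, ∃ l ∈ L, ∃ b ∈ B, l⁻¹ * g * l = k * b
  side : ∀ t ∈ T, ∀ l ∈ L, ∀ v ∈ V,
    l * (t * v * t⁻¹) * l⁻¹ ∈ V ⊔ V.map (MulAut.conj t).toMonoidHom
  indep : ∀ t ∈ T, t * z * t⁻¹ = z → ∀ v ∈ V, t * v * t⁻¹ ∈ V
  core : ∀ R : Subgroup G, R ≤ B → (∀ l ∈ L, ∀ r ∈ R, l * r * l⁻¹ ∈ R) →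
    (∀ a ∈ A, ∀ r ∈ R, a * r * a⁻¹ ∈ R) → R = ⊥

/-! ### Conjugation -/

/-- conjugation -/
def cj (g x : G) : G := g * x * g⁻¹

theorem cj_mul (g h x : G) : cj (g * h) x = cj g (cj h x) := by
  simp [cj, mul_assoc]

theorem cj_prod (g x y : G) : cj g (x * y) = cj g x * cj g y := by
  simp [cj, mul_assoc]

theorem cj_inv (g x : G) : cj g x⁻¹ = (cj g x)⁻¹ := by
  simp [cj, mul_assoc]

theorem cj_one (x : G) : cj 1 x = x := by simp [cj]

theorem cj_inv_cj (g x : G) : cj g⁻¹ (cj g x) = x := by simp [cj, mul_assoc]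

theorem cj_cj_inv (g x : G) : cj g (cj g⁻¹ x) = x := by simp [cj, mul_assoc]

theorem cj_cj (g x y : G) : cj (cj g x) y = cj g (cj x (cj g⁻¹ y)) := by
  simp [cj, mul_assoc]

theorem cj_inj {g x y : G} (h : cj g x = cj g y) : x = y := by
  have := congrArg (cj g⁻¹) h
  rwa [cj_inv_cj, cj_inv_cj] at this

theorem cj_comm {g x y : G} : cj g x * cj g y = cj g y * cj g x ↔ x * y = y * x := by
  rw [← cj_prod, ← cj_prod]
  exact ⟨fun h => cj_inj h, fun h => by rw [h]⟩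

theorem cj_eq_self {g x : G} : cj g x = x ↔ g * x = x * g := by
  simp only [cj]
  exact mul_inv_eq_iff_eq_mul

/-! ### Words -/

/-- The words `A (L A)^n`. -/
def W (A L : Subgroup G) : ℕ → Set G
  | 0 => A
  | n + 1 => {x | ∃ w ∈ W A L n, ∃ l ∈ L, ∃ a ∈ A, x = w * l * a}

section words

variable {A L : Subgroup G}

theorem W_mul_right {n : ℕ} {w a : G} (hw : w ∈ W A L n) (ha : a ∈ A) : w * a ∈ W A L n := by
  cases n with
  | zero => exact A.mul_mem hw ha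
  | succ n =>
    obtain ⟨w', hw', l, hl, a', ha', rfl⟩ := hw
    exact ⟨w', hw', l, hl, a' * a, A.mul_mem ha' ha, by simp [mul_assoc]⟩

theorem W_mul_left {n : ℕ} {w a : G} (hw : w ∈ W A L n) (ha : a ∈ A) : a * w ∈ W A L n := by
  induction n generalizing w with
  | zero => exact A.mul_mem ha hw
  | succ n ih =>
    obtain ⟨w', hw', l, hl, a', ha', rfl⟩ := hw
    exact ⟨a * w', ih hw', l, hl, a', ha', by simp [mul_assoc]⟩

theorem W_cons {n : ℕ} {w l a : G} (hw : w ∈ W A L n) (hl : l ∈ L) (ha : a ∈ A) :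
    a * l * w ∈ W A L (n + 1) := by
  induction n generalizing w with
  | zero => exact ⟨a, ha, l, hl, w, hw, rfl⟩
  | succ n ih =>
    obtain ⟨w', hw', l', hl', a', ha', rfl⟩ := hw
    exact ⟨a * l * w', ih hw', l', hl', a', ha', by simp [mul_assoc]⟩

theorem W_inv {n : ℕ} {w : G} (hw : w ∈ W A L n) : w⁻¹ ∈ W A L n := by
  induction n generalizing w with
  | zero => exact A.inv_mem hw
  | succ n ih =>
    obtain ⟨w', hw', l, hl, a, ha, rfl⟩ := hw
    have := W_cons (ih hw') (L.inv_mem hl) (A.inv_mem ha)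
    simpa [mul_assoc] using this

theorem W_pow {j : ℕ} {u : G} (hu : u ∈ W A L j) {l t : G} (hl : l ∈ L) (ht : t ∈ A) (k : ℕ) :
    ((l * t)⁻¹) ^ k * u ∈ W A L (k + j) := by
  induction k with
  | zero => simpa using hu
  | succ k ih =>
    have := W_cons ih (L.inv_mem hl) (A.inv_mem ht)
    rw [show k + 1 + j = k + j + 1 by ring]
    have e : (l * t)⁻¹ ^ (k + 1) * u = t⁻¹ * l⁻¹ * ((l * t)⁻¹ ^ k * u) := by
      rw [pow_succ']; simp [mul_assoc]
    rw [e]; exact this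

end words

/-- `V` commutes with its conjugate under `w`. -/
def Com (V : Subgroup G) (w : G) : Prop :=
  ∀ v ∈ V, ∀ u ∈ V, v * cj w u = cj w u * v

theorem Com.inv {V : Subgroup G} {w : G} (h : Com V w) : Com V w⁻¹ := by
  intro v hv u hu
  have := h u hu v hv
  have h2 := (cj_comm (g := w⁻¹)).2 this
  rw [cj_inv_cj] at h2
  exact h2.symm

theorem Com.of_inv {V : Subgroup G} {w : G} (h : Com V w⁻¹) : Com V w := by
  simpa using h.inv

variable {A T L B Q V Z : Subgroup G} {z : G}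

namespace Data

variable (h : Data A T L B Q V Z z)

include h

theorem VB : V ≤ B := h.VQ.trans h.QB

theorem zV : z ∈ V := h.ZV h.zZ

theorem BA : B ≤ A := h.BT.trans h.TA

theorem z_inv : z⁻¹ = z := inv_eq_of_mul_eq_one_left (h.Vsq z h.zV)

theorem cjB {a b : G} (ha : a ∈ A) (hb : b ∈ B) : cj a b ∈ B := h.AnB a ha b hb

theorem cjB_inv {a b : G} (ha : a ∈ A) (hb : cj a b ∈ B) : b ∈ B := by
  have := h.cjB (A.inv_mem ha) hb
  rwa [cj_inv_cj] at this

theorem cjZ {a b : G} (ha : a ∈ A) (hb : b ∈ Z) : cj a b ∈ Z := h.AnZ a ha b hb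

theorem cjQ {l b : G} (hl : l ∈ L) (hb : b ∈ Q) : cj l b ∈ Q := h.LnQ l hl b hb

theorem cjV {l b : G} (hl : l ∈ L) (hb : b ∈ V) : cj l b ∈ V := h.LnV l hl b hb

/-- commutator of `v ∈ V` and `b ∈ B`, conjugation form -/
theorem comm' {v b : G} (hv : v ∈ V) (hb : b ∈ B) : cj v b = b ∨ cj v b = z * b := by
  by_cases hc : v * b = b * v
  · left; exact cj_eq_self.2 hc
  · right
    have := h.comm v hv b hb hc
    simp only [cj]
    rw [← this]; simp [mul_assoc]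

/-- a conjugate of `z` by an element of `L` moving it does not lie in `B ∖ Q`-fixed points -/
theorem notmem {u : G} (hu : u ∈ B) (huQ : u ∉ Q) {l : G} (hl : l ∈ L) (hlz : cj l z ≠ z) :
    cj l⁻¹ u ∉ B := by
  intro hb
  have hL := h.gen u hu huQ l hl hlz (B.map (MulAut.conj l).toMonoidHom)
    (by
      refine ⟨cj l⁻¹ u, hb, ?_⟩
      simp [cj, mul_assoc])
    (by
      intro b hb'
      exact ⟨b, hb', by simp⟩)
  obtain ⟨b, hb', hbe⟩ := hL hl
  have hbe' : cj l b = l := by simpa [cj] using hbe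
  have hbl : b = l := by
    have := congrArg (cj l⁻¹) hbe'
    rw [cj_inv_cj] at this
    rw [this]; simp [cj]
  rw [← hbl] at hlz
  exact hlz (cj_eq_self.2 (h.BcZ b hb' z h.zZ))

omit h in
theorem moved_inv {l : G} (hlz : cj l z ≠ z) : cj l⁻¹ z ≠ z := by
  intro he
  apply hlz
  have := congrArg (cj l) he
  rw [cj_cj_inv] at this
  exact this.symm

/-! ### words of length less than `b` -/

section

variable {n : ℕ} (hc : ∀ m < n, ∀ w ∈ W A L m, Com V w)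

include hc

theorem memB {m : ℕ} (hm : m ≤ n) {w : G} (hw : w ∈ W A L m) {v : G} (hv : v ∈ V) :
    cj w⁻¹ v ∈ B := by
  induction m generalizing w with
  | zero => exact h.cjB (A.inv_mem hw) (h.VB hv)
  | succ m ih =>
    obtain ⟨w', hw', l, hl, a, ha, rfl⟩ := hw
    have h1 := ih (by omega) hw'
    have h2 : cj w'⁻¹ v ∈ Q := by
      apply h.QcV _ h1
      intro u hu
      have := (hc m (by omega) w' hw').inv u hu v hv
      exact this.symm
    have h3 : cj l⁻¹ (cj w'⁻¹ v) ∈ Q := h.cjQ (L.inv_mem hl) h2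
    have h4 : cj a⁻¹ (cj l⁻¹ (cj w'⁻¹ v)) ∈ B := h.cjB (A.inv_mem ha) (h.QB h3)
    have e : (w' * l * a)⁻¹ = a⁻¹ * (l⁻¹ * w'⁻¹) := by simp [mul_assoc]
    rw [e, cj_mul, cj_mul]
    exact h4

theorem memB' {m : ℕ} (hm : m ≤ n) {w : G} (hw : w ∈ W A L m) {v : G} (hv : v ∈ V) :
    cj w v ∈ B := by
  have := h.memB hc hm (W_inv hw) hv
  simpa using this

/-- the commutator of a critical pair -/
theorem crit_z {w : G} (hw : w ∈ W A L n) (hnc : ¬ Com V w) : cj w z = z := by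
  simp only [Com] at hnc
  push Not at hnc
  obtain ⟨v, hv, u, hu, hne⟩ := hnc
  have h1 := h.comm v hv (cj w u) (h.memB' hc le_rfl hw hu) hne
  have hne2 : u * cj w⁻¹ v ≠ cj w⁻¹ v * u := by
    intro he
    apply hne
    have := (cj_comm (g := w)).2 he
    rw [cj_cj_inv] at this
    exact this.symm
  have h2 := h.comm u hu (cj w⁻¹ v) (h.memB hc le_rfl hw hv) hne2
  have h3 := congrArg (cj w) h2
  rw [cj_prod, cj_prod, cj_prod, cj_inv, cj_inv, cj_cj_inv] at h3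
  rw [← h3]
  have h4 : cj w u * v * (cj w u)⁻¹ * v⁻¹ = (v * cj w u * v⁻¹ * (cj w u)⁻¹)⁻¹ := by
    simp [mul_assoc]
  rw [h4, h1, h.z_inv]

/-- in a critical pair there is an element of `V` which acts nontrivially -/
theorem crit_elt {w : G} (hw : w ∈ W A L n) (hnc : ¬ Com V w) :
    ∃ v ∈ V, cj w v ∈ B ∧ cj w v ∉ Q := by
  simp only [Com] at hnc
  push Not at hnc
  obtain ⟨v, hv, u, hu, hne⟩ := hnc
  exact ⟨u, hu, h.memB' hc le_rfl hw hu, fun hq => hne (h.VcQ _ hq v hv).symm⟩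

end

/-! ### The groups generated by conjugates of `V` -/

omit h in
/-- the subgroup generated by the `V^t`, `t ∈ A` with `P t` -/
def RP (A V : Subgroup G) (P : G → Prop) : Subgroup G :=
  Subgroup.closure {x | ∃ t ∈ A, P t ∧ ∃ v ∈ V, x = cj t v}

omit h in
theorem mem_RP {A V : Subgroup G} {P : G → Prop} {t v : G} (ht : t ∈ A) (hP : P t) (hv : v ∈ V) :
    cj t v ∈ RP A V P := Subgroup.subset_closure ⟨t, ht, hP, v, hv, rfl⟩

theorem RP_le (P : G → Prop) : RP A V P ≤ B := by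
  rw [RP, Subgroup.closure_le]
  rintro x ⟨t, ht, -, v, hv, rfl⟩
  exact h.cjB ht (h.VB hv)

omit h in
theorem closure_conj {S : Set G} {R : Subgroup G} {g : G} (hg : ∀ x ∈ S, cj g x ∈ R) :
    ∀ x ∈ Subgroup.closure S, cj g x ∈ R := by
  intro x hx
  have : Subgroup.closure S ≤ R.comap (MulAut.conj g).toMonoidHom := by
    rw [Subgroup.closure_le]
    intro y hy
    have := hg y hy
    simpa [cj] using this
  have := this hx
  simpa [cj] using this

omit h in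
theorem RP_A : ∀ a ∈ A, ∀ r ∈ RP A V (fun _ => True), a * r * a⁻¹ ∈ RP A V (fun _ => True) := by
  intro a ha
  apply closure_conj
  rintro x ⟨t, ht, -, v, hv, rfl⟩
  rw [← cj_mul]
  exact mem_RP (A.mul_mem ha ht) trivial hv

/-- no `L`-invariance for the full family -/
theorem not_full (hL : ∀ l ∈ L, ∀ r ∈ RP A V (fun _ => True), l * r * l⁻¹ ∈ RP A V (fun _ => True)) :
    False := by
  have h1 := h.core _ (h.RP_le _) hL RP_A
  have h2 : z ∈ RP A V (fun _ => True) := by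
    have := mem_RP (A := A) (V := V) (P := fun _ => True) A.one_mem trivial h.zV
    rwa [cj_one] at this
  rw [h1] at h2
  exact h.z1 (by simpa using h2)

section

variable {n : ℕ} (hc : ∀ m < n, ∀ w ∈ W A L m, Com V w)

include hc

/-- the key normalisation argument -/
theorem norm_core (P : G → Prop) (hP : P 1) {w : G} (hw : w ∈ W A L n) (hnc : ¬ Com V w)
    {l₀ : G} (hl₀ : l₀ ∈ L) (hm : cj l₀ z ≠ z)
    (hall : ∀ t ∈ A, P t → ∀ v ∈ V, cj w⁻¹ (cj l₀ (cj t v)) ∈ B) :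
    ∀ l ∈ L, ∀ r ∈ RP A V P, l * r * l⁻¹ ∈ RP A V P := by
  obtain ⟨v₁, hv₁, huB, huQ⟩ := h.crit_elt hc hw hnc
  have hz := h.crit_z hc hw hnc
  set u := cj w v₁ with hu
  have hVR : V ≤ RP A V P := by
    intro v hv
    have := mem_RP (A := A) (V := V) (P := P) A.one_mem hP hv
    rwa [cj_one] at this
  have huu : u * u = 1 := by
    rw [hu, ← cj_prod, h.Vsq _ hv₁]; simp [cj]
  -- `u` normalises the conjugate
  have hu1 : ∀ x ∈ RP A V P, cj (cj l₀⁻¹ u) x ∈ RP A V P := by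
    apply closure_conj
    rintro x ⟨t, ht, hPt, v, hv, rfl⟩
    have h1 := hall t ht hPt v hv
    have h2 := h.comm' hv₁ h1
    have key : cj u (cj l₀ (cj t v)) = cj l₀ (cj t v) ∨
        cj u (cj l₀ (cj t v)) = z * cj l₀ (cj t v) := by
      rw [hu, cj_cj]
      rcases h2 with h2 | h2
      · left
        rw [h2, cj_cj_inv]
      · right
        rw [h2, cj_prod, cj_cj_inv, hz]
    have e : cj (cj l₀⁻¹ u) (cj t v) = cj l₀⁻¹ (cj u (cj l₀ (cj t v))) := by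
      simp [cj, mul_assoc]
    rw [e]
    rcases key with key | key
    · rw [key, cj_inv_cj]; exact mem_RP ht hPt hv
    · rw [key, cj_prod, cj_inv_cj]
      exact (RP A V P).mul_mem (hVR (h.cjV (L.inv_mem hl₀) h.zV)) (mem_RP ht hPt hv)
  have hB1 : ∀ b ∈ B, ∀ x ∈ RP A V P, cj b x ∈ RP A V P := by
    intro b hb
    apply closure_conj
    rintro x ⟨t, ht, hPt, v, hv, rfl⟩
    have hb' : cj t⁻¹ b ∈ B := h.cjB (A.inv_mem ht) hb
    have e : cj b (cj t v) = cj t (cj (cj t⁻¹ b) v) := by simp [cj, mul_assoc]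
    rw [e]
    exact mem_RP ht hPt (h.cjV (h.BL hb') hv)
  -- the subgroup of elements of `G` whose `l₀`-conjugate normalises
  let N : Subgroup G :=
    { carrier := {g | (∀ x ∈ RP A V P, cj (cj l₀⁻¹ g) x ∈ RP A V P) ∧
        (∀ x ∈ RP A V P, cj (cj l₀⁻¹ g)⁻¹ x ∈ RP A V P)}
      one_mem' := by
        constructor
        · intro x hx; simpa [cj] using hx
        · intro x hx; simpa [cj] using hx
      mul_mem' := by
        rintro a b ⟨ha1, ha2⟩ ⟨hb1, hb2⟩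
        constructor
        · intro x hx
          rw [cj_prod, cj_mul]
          exact ha1 _ (hb1 x hx)
        · intro x hx
          rw [cj_prod, mul_inv_rev, cj_mul]
          exact hb2 _ (ha2 x hx)
      inv_mem' := by
        rintro a ⟨ha1, ha2⟩
        constructor
        · intro x hx
          rw [cj_inv]; exact ha2 x hx
        · intro x hx
          rw [cj_inv, inv_inv]; exact ha1 x hx }
  have hLN : L ≤ N := by
    apply h.gen u huB huQ l₀ hl₀ hm N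
    · refine ⟨hu1, ?_⟩
      have : (cj l₀⁻¹ u)⁻¹ = cj l₀⁻¹ u := by
        rw [← cj_inv]
        congr 1
        exact inv_eq_of_mul_eq_one_left huu
      rw [this]; exact hu1
    · intro b hb
      have e : cj l₀⁻¹ (l₀ * b * l₀⁻¹) = b := cj_inv_cj l₀ b
      refine ⟨?_, ?_⟩
      · intro x hx
        rw [e]; exact hB1 b hb x hx
      · intro x hx
        rw [e]; exact hB1 b⁻¹ (B.inv_mem hb) x hx
  intro l hl r hr
  have h5 := (hLN (show cj l₀ l ∈ L from L.mul_mem (L.mul_mem hl₀ hl) (L.inv_mem hl₀))).1 r hr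
  rw [cj_inv_cj] at h5
  exact h5

/-- an active element exists -/
theorem exists_active {w : G} (hw : w ∈ W A L n) (hnc : ¬ Com V w)
    {l₀ : G} (hl₀ : l₀ ∈ L) (hm : cj l₀ z ≠ z) :
    ∃ t ∈ A, ∃ v ∈ V, cj w⁻¹ (cj l₀ (cj t v)) ∉ B := by
  by_contra hcon
  push Not at hcon
  exact h.not_full (h.norm_core hc (fun _ => True) trivial hw hnc hl₀ hm
    (fun t ht _ v hv => hcon t ht v hv))

theorem active_crit {m : ℕ} (hmn : m + 1 = n) {w₁ l a : G} (hw₁ : w₁ ∈ W A L m) (hl : l ∈ L)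
    (ha : a ∈ A) {l₀ : G} (hl₀ : l₀ ∈ L) {t v : G} (ht : t ∈ A) (hv : v ∈ V)
    (hact : cj (w₁ * l * a)⁻¹ (cj l₀ (cj t v)) ∉ B) :
    ¬ Com V ((l₀ * t)⁻¹ * w₁) := by
  intro hcom
  apply hact
  have hmem : (l₀ * t)⁻¹ * w₁ ∈ W A L n := by
    have := W_cons hw₁ (L.inv_mem hl₀) (A.inv_mem ht)
    rw [hmn] at this
    simpa [mul_assoc] using this
  have h1 := h.memB hc le_rfl hmem hv
  have h2 : cj ((l₀ * t)⁻¹ * w₁)⁻¹ v ∈ Q := by
    apply h.QcV _ h1
    intro u hu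
    exact (hcom.inv u hu v hv).symm
  have h3 := h.cjQ (L.inv_mem hl) h2
  have h4 := h.cjB (A.inv_mem ha) (h.QB h3)
  have e : cj (w₁ * l * a)⁻¹ (cj l₀ (cj t v)) = cj a⁻¹ (cj l⁻¹ (cj ((l₀ * t)⁻¹ * w₁)⁻¹ v)) := by
    simp [cj, mul_assoc]
  rw [e]
  exact h4

theorem active_notT {w : G} (hw : w ∈ W A L n) {l₀ : G} (hl₀ : l₀ ∈ L) {t v : G} (ht : t ∈ A)
    (hv : v ∈ V) (hact : cj w⁻¹ (cj l₀ (cj t v)) ∉ B) : t ∉ T := by
  intro htT
  apply hact
  have h1 := h.side t htT l₀ hl₀ v hv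
  have h2 : V ⊔ V.map (MulAut.conj t).toMonoidHom ≤ B.comap (MulAut.conj w⁻¹).toMonoidHom := by
    apply sup_le
    · intro y hy
      have := h.memB hc le_rfl hw hy
      simpa [cj] using this
    · rintro _ ⟨y, hy, rfl⟩
      have := h.memB hc le_rfl (W_mul_left hw (A.inv_mem ht)) hy
      simpa [cj, mul_assoc] using this
  have h3 := h2 h1
  simpa [cj, mul_assoc] using h3

theorem active_cent (hn : 0 < n) {m : ℕ} (hmn : m + 1 = n) {w₁ l a : G} (hw₁ : w₁ ∈ W A L m)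
    (hl : l ∈ L) (ha : a ∈ A) (hnc : ¬ Com V (w₁ * l * a)) {l₀ : G} (hl₀ : l₀ ∈ L)
    (hm : cj l₀ z ≠ z) {t v : G} (ht : t ∈ A) (hv : v ∈ V)
    (hact : cj (w₁ * l * a)⁻¹ (cj l₀ (cj t v)) ∉ B) :
    cj w₁ z = cj t z ∧ ∀ l' ∈ L, cj l' (cj t z) = cj t z := by
  have hw : w₁ * l * a ∈ W A L n := by rw [← hmn]; exact ⟨w₁, hw₁, l, hl, a, ha, rfl⟩
  have hcr := h.active_crit hc hmn hw₁ hl ha hl₀ ht hv hact
  have hmem : (l₀ * t)⁻¹ * w₁ ∈ W A L n := by
    have := W_cons hw₁ (L.inv_mem hl₀) (A.inv_mem ht)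
    rw [hmn] at this
    simpa [mul_assoc] using this
  have hz := h.crit_z hc hmem hcr
  have hz' : cj w₁ z = cj l₀ (cj t z) := by
    have := congrArg (cj (l₀ * t)) hz
    rw [cj_mul _ w₁ z, cj_cj_inv, cj_mul] at this
    exact this
  obtain ⟨v₁, hv₁, huB, huQ⟩ := h.crit_elt hc hw hnc
  have hLc : L ≤ Subgroup.centralizer {cj l₀ (cj t z)} := by
    apply h.gen _ huB huQ l₀ hl₀ hm
    · rw [Subgroup.mem_centralizer_iff]
      intro y hy
      rw [Set.mem_singleton_iff] at hy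
      rw [hy, ← hz']
      have e : cj (w₁ * l * a) v₁ = cj w₁ (cj l (cj a v₁)) := by rw [cj_mul, cj_mul]
      rw [e, cj_comm]
      have h1 := hc 0 hn a ha (cj l⁻¹ z) (h.cjV (L.inv_mem hl) h.zV) v₁ hv₁
      have h2 := (cj_comm (g := l)).2 h1
      rw [cj_cj_inv] at h2
      exact h2
    · intro b hb
      rw [Subgroup.mem_centralizer_iff]
      intro y hy
      rw [Set.mem_singleton_iff] at hy
      rw [hy]
      have : cj t z ∈ Z := h.cjZ ht h.zZ
      exact (cj_comm (g := l₀)).2 (h.BcZ b hb _ this).symm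
  have hcent : ∀ l' ∈ L, cj l' (cj l₀ (cj t z)) = cj l₀ (cj t z) := by
    intro l' hl'
    rw [cj_eq_self]
    have := Subgroup.mem_centralizer_iff.1 (hLc hl') _ rfl
    exact this.symm
  have h6 : cj l₀ (cj t z) = cj t z := by
    have := hcent l₀⁻¹ (L.inv_mem hl₀)
    rw [cj_inv_cj] at this
    exact this.symm
  rw [h6] at hcent
  exact ⟨by rw [hz', h6], hcent⟩

end

omit h in
/-- `τ` is a mate. -/
structure Mate (A T L V : Subgroup G) (z τ : G) : Prop where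
  mem : τ ∈ A
  notMem : τ ∉ T
  cent : ∀ l ∈ L, cj l (cj τ z) = cj τ z
  norm : ∀ l ∈ L, ∀ r ∈ RP A V (fun t => t ∈ T ∨ cj t z ≠ cj τ z),
    l * r * l⁻¹ ∈ RP A V (fun t => t ∈ T ∨ cj t z ≠ cj τ z)

theorem mate_z {τ τ' : G} (hτ : Mate A T L V z τ) (hτ' : Mate A T L V z τ') :
    cj τ z = cj τ' z := by
  by_contra hne
  have hsup : RP A V (fun _ => True) ≤ RP A V (fun t => t ∈ T ∨ cj t z ≠ cj τ z) ⊔
      RP A V (fun t => t ∈ T ∨ cj t z ≠ cj τ' z) := by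
    rw [RP, Subgroup.closure_le]
    rintro x ⟨t, ht, -, v, hv, rfl⟩
    by_cases h1 : t ∈ T ∨ cj t z ≠ cj τ z
    · exact (le_sup_left : RP A V (fun t => t ∈ T ∨ cj t z ≠ cj τ z) ≤ _) (mem_RP ht h1 hv)
    · have h2 : cj t z ≠ cj τ' z := by
        push Not at h1
        rw [h1.2]; exact hne
      exact (le_sup_right : RP A V (fun t => t ∈ T ∨ cj t z ≠ cj τ' z) ≤ _)
        (mem_RP ht (Or.inr h2) hv)
  have hle : ∀ P : G → Prop, RP A V P ≤ RP A V (fun _ => True) := by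
    intro P
    rw [RP, Subgroup.closure_le]
    rintro x ⟨t, ht, -, v, hv, rfl⟩
    exact mem_RP ht trivial hv
  have heq : RP A V (fun _ => True) = RP A V (fun t => t ∈ T ∨ cj t z ≠ cj τ z) ⊔
      RP A V (fun t => t ∈ T ∨ cj t z ≠ cj τ' z) :=
    le_antisymm hsup (sup_le (hle _) (hle _))
  apply h.not_full
  intro l hl r hr
  have hcl : RP A V (fun _ => True) ≤
      (RP A V (fun _ => True)).comap (MulAut.conj l).toMonoidHom := by
    nth_rewrite 1 [heq]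
    apply sup_le
    · intro y hy
      have := hle _ (hτ.norm l hl y hy)
      simpa using this
    · intro y hy
      have := hle _ (hτ'.norm l hl y hy)
      simpa using this
  have := hcl hr
  simpa using this

/-- mates define the same class -/
theorem mate_V {τ τ' : G} (hτ : Mate A T L V z τ) (hτ' : Mate A T L V z τ') {v : G} (hv : v ∈ V) :
    cj (τ⁻¹ * τ') v ∈ V := by
  have h1 := h.mate_z hτ hτ'
  have h2 : cj (τ⁻¹ * τ') z = z := by
    rw [cj_mul, ← h1, cj_inv_cj]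
  exact h.indep _ (h.idx τ hτ.mem τ' hτ'.mem hτ.notMem hτ'.notMem) h2 v hv

section

variable {n : ℕ} (hc : ∀ m < n, ∀ w ∈ W A L m, Com V w)

include hc

theorem active_mate (hn : 0 < n) {m : ℕ} (hmn : m + 1 = n) {w₁ l a : G} (hw₁ : w₁ ∈ W A L m)
    (hl : l ∈ L) (ha : a ∈ A) (hnc : ¬ Com V (w₁ * l * a)) {l₀ : G} (hl₀ : l₀ ∈ L)
    (hm : cj l₀ z ≠ z) {t v : G} (ht : t ∈ A) (hv : v ∈ V)
    (hact : cj (w₁ * l * a)⁻¹ (cj l₀ (cj t v)) ∉ B) : Mate A T L V z t := by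
  have hw : w₁ * l * a ∈ W A L n := by rw [← hmn]; exact ⟨w₁, hw₁, l, hl, a, ha, rfl⟩
  obtain ⟨hz1, hz2⟩ := h.active_cent hc hn hmn hw₁ hl ha hnc hl₀ hm ht hv hact
  refine ⟨ht, h.active_notT hc hw hl₀ ht hv hact, hz2, ?_⟩
  apply h.norm_core hc _ (Or.inl T.one_mem) hw hnc hl₀ hm
  intro t' ht' hP v' hv'
  by_contra hact'
  obtain ⟨hz1', -⟩ := h.active_cent hc hn hmn hw₁ hl ha hnc hl₀ hm ht' hv' hact'
  rcases hP with hP | hP
  · exact h.active_notT hc hw hl₀ ht' hv' hact' hP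
  · exact hP (by rw [← hz1', hz1])

theorem exists_mate (hn : 0 < n) {w : G} (hw : w ∈ W A L n) (hnc : ¬ Com V w) :
    ∃ τ, Mate A T L V z τ := by
  obtain ⟨m, rfl⟩ : ∃ m, n = m + 1 := ⟨n - 1, by omega⟩
  obtain ⟨l₀, hl₀, hm⟩ := h.moves
  obtain ⟨t, ht, v, hv, hact⟩ := h.exists_active hc hw hnc hl₀ hm
  obtain ⟨w₁, hw₁, l, hl, a, ha, rfl⟩ := hw
  exact ⟨t, h.active_mate hc hn rfl hw₁ hl ha hnc hl₀ hm ht hv hact⟩

/-- left extension of a critical pair by a mate -/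
theorem extend (hn : 0 < n) {m : ℕ} (hmn : m + 1 = n) {τ : G} (hτ : Mate A T L V z τ) {w₁ l a : G}
    (hw₁ : w₁ ∈ W A L m) (hl : l ∈ L) (ha : a ∈ A) (hnc : ¬ Com V (w₁ * l * a)) {l₀ : G}
    (hl₀ : l₀ ∈ L) (hm : cj l₀ z ≠ z) : ¬ Com V ((l₀ * τ)⁻¹ * w₁) := by
  have hw : w₁ * l * a ∈ W A L n := by rw [← hmn]; exact ⟨w₁, hw₁, l, hl, a, ha, rfl⟩
  obtain ⟨t, ht, v, hv, hact⟩ := h.exists_active hc hw hnc hl₀ hm
  have hmt := h.active_mate hc hn hmn hw₁ hl ha hnc hl₀ hm ht hv hact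
  have hcr := h.active_crit hc hmn hw₁ hl ha hl₀ ht hv hact
  intro hcom
  apply hcr
  intro x hx y hy
  have h1 := hcom (cj (τ⁻¹ * t) x) (h.mate_V hτ hmt hx) y hy
  have h2 := (cj_comm (g := (τ⁻¹ * t)⁻¹)).2 h1
  rw [cj_inv_cj, ← cj_mul] at h2
  have e : (τ⁻¹ * t)⁻¹ * ((l₀ * τ)⁻¹ * w₁) = (l₀ * t)⁻¹ * w₁ := by simp [mul_assoc]
  rw [e] at h2
  exact h2

theorem iterate (hn : 0 < n) {τ : G} (hτ : Mate A T L V z τ) {w : G} (hw : w ∈ W A L n)
    (hnc : ¬ Com V w) {l₀ : G} (hl₀ : l₀ ∈ L) (hm : cj l₀ z ≠ z) (k : ℕ) :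
    ∀ j, k + j = n → ∃ u ∈ W A L j, ¬ Com V (((l₀ * τ)⁻¹) ^ k * u) := by
  induction k with
  | zero =>
    intro j hj
    obtain rfl : j = n := by omega
    exact ⟨w, hw, by simpa using hnc⟩
  | succ k ih =>
    intro j hj
    obtain ⟨u, hu, hcu⟩ := ih (j + 1) (by omega)
    obtain ⟨u₁, hu₁, l, hl, a, ha, rfl⟩ := hu
    refine ⟨u₁, hu₁, ?_⟩
    have h1 : (l₀ * τ)⁻¹ ^ k * u₁ ∈ W A L (k + j) := W_pow hu₁ hl₀ hτ.mem k
    have h2 := h.extend hc hn (m := k + j) (by omega) hτ h1 hl ha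
      (by simpa [mul_assoc] using hcu) hl₀ hm
    rw [pow_succ', mul_assoc]
    exact h2

/-- all words `τ (l₀ τ)^n` are critical -/
theorem crit_pow (hn : 0 < n) {τ : G} (hτ : Mate A T L V z τ) {w : G} (hw : w ∈ W A L n)
    (hnc : ¬ Com V w) {l₀ : G} (hl₀ : l₀ ∈ L) (hm : cj l₀ z ≠ z) :
    ¬ Com V (τ * (l₀ * τ) ^ n) := by
  obtain ⟨a, ha, hca⟩ := h.iterate hc hn hτ hw hnc hl₀ hm n 0 rfl
  obtain ⟨m, rfl⟩ : ∃ m, n = m + 1 := ⟨n - 1, by omega⟩
  have h1 : (l₀ * τ)⁻¹ ^ m * τ⁻¹ ∈ W A L (m + 0) :=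
    W_pow (show τ⁻¹ ∈ W A L 0 from A.inv_mem hτ.mem) hl₀ hτ.mem m
  have h2 := h.extend hc hn (m := m) rfl hτ h1 (L.inv_mem hl₀) ha
    (by
      rw [pow_succ] at hca
      simpa [mul_assoc] using hca) hl₀ hm
  intro hcom
  apply h2
  have := hcom.inv
  have e : (τ * (l₀ * τ) ^ (m + 1))⁻¹ = (l₀ * τ)⁻¹ * ((l₀ * τ)⁻¹ ^ m * τ⁻¹) := by
    rw [mul_inv_rev, ← inv_pow, pow_succ']
    simp [mul_assoc]
  rwa [e] at this

omit h hc in
theorem pow_mem_W {l₀ τ : G} (hl₀ : l₀ ∈ L) (hτ : τ ∈ A) (m : ℕ) : τ * (l₀ * τ) ^ m ∈ W A L m := by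
  have := W_pow (L := L) (show τ⁻¹ ∈ W A L 0 from A.inv_mem hτ) hl₀ hτ m
  have h2 := W_inv this
  have e : ((l₀ * τ)⁻¹ ^ m * τ⁻¹)⁻¹ = τ * (l₀ * τ) ^ m := by
    rw [mul_inv_rev, inv_inv, inv_pow, inv_inv]
  rwa [e] at h2

/-- the mate relation is symmetric -/
theorem mate_inv (hn : 0 < n) {τ : G} (hτ : Mate A T L V z τ) {w : G} (hw : w ∈ W A L n)
    (hnc : ¬ Com V w) : Mate A T L V z τ⁻¹ := by
  obtain ⟨l₀, hl₀, hm⟩ := h.moves
  have hcr := h.crit_pow hc hn hτ hw hnc hl₀ hm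
  obtain ⟨m, rfl⟩ : ∃ m, n = m + 1 := ⟨n - 1, by omega⟩
  have hw₁ : τ * (l₀ * τ) ^ m ∈ W A L m := pow_mem_W hl₀ hτ.mem m
  have e1 : τ * (l₀ * τ) ^ (m + 1) = τ * (l₀ * τ) ^ m * l₀ * τ := by
    rw [pow_succ]; simp [mul_assoc]
  have hwn : τ * (l₀ * τ) ^ (m + 1) ∈ W A L (m + 1) := pow_mem_W hl₀ hτ.mem (m + 1)
  obtain ⟨v, hv, hvB, hvQ⟩ := h.crit_elt hc (W_inv hwn) (fun hcom => hcr hcom.of_inv)
  have hnm := h.notmem hvB hvQ hl₀ hm
  rw [e1] at hcr
  refine h.active_mate hc hn rfl hw₁ hl₀ hτ.mem hcr (L.inv_mem hl₀)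
    (moved_inv hm) (A.inv_mem hτ.mem) hv ?_
  intro hB
  apply hnm
  have e2 : cj τ⁻¹ (cj l₀⁻¹ (cj (τ * (l₀ * τ) ^ (m + 1))⁻¹ v)) ∈ B := by
    have e3 : cj (τ * (l₀ * τ) ^ m * l₀ * τ)⁻¹ (cj l₀⁻¹ (cj τ⁻¹ v)) =
        cj τ⁻¹ (cj l₀⁻¹ (cj (τ * (l₀ * τ) ^ (m + 1))⁻¹ v)) := by
      rw [pow_succ']
      simp only [← cj_mul]
      congr 1
      simp [mul_assoc]
    rw [← e3]; exact hB
  have e4 := h.cjB hτ.mem e2
  rwa [cj_cj_inv] at e4

/-- `z` is fixed by the translation to the power `n - 1` and two steps of the translation move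
`z` to the conjugate by `l₀`. -/
theorem z_facts (hn : 0 < n) {τ : G} (hτ : Mate A T L V z τ) {w : G} (hw : w ∈ W A L n)
    (hnc : ¬ Com V w) {l₀ : G} (hl₀ : l₀ ∈ L) (hm : cj l₀ z ≠ z) :
    cj (l₀ * τ) z = cj τ z ∧ cj τ (cj τ z) = z ∧ cj ((l₀ * τ) ^ n) z = cj (l₀ * τ) z := by
  have h1 : cj (l₀ * τ) z = cj τ z := by rw [cj_mul]; exact hτ.cent l₀ hl₀
  have hi := h.mate_inv hc hn hτ hw hnc
  have h2 : cj τ z = cj τ⁻¹ z := h.mate_z hτ hi
  have h3 : cj τ (cj τ z) = z := by rw [h2, cj_cj_inv]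
  have hcr := h.crit_pow hc hn hτ hw hnc hl₀ hm
  have h4 := h.crit_z hc (pow_mem_W hl₀ hτ.mem n) hcr
  refine ⟨h1, h3, ?_⟩
  rw [h1, h2]
  have := congrArg (cj τ⁻¹) h4
  rw [cj_mul, cj_inv_cj] at this
  exact this

/-- `b ≥ 3` is impossible. -/
theorem not_two_le (hn : 2 ≤ n) {w : G} (hw : w ∈ W A L n) (hnc : ¬ Com V w) : False := by
  obtain ⟨τ, hτ⟩ := h.exists_mate hc (by omega) hw hnc
  obtain ⟨l₀, hl₀, hm⟩ := h.moves
  have hm' : cj l₀ z ≠ z := hm
  obtain ⟨h1, h2, h3⟩ := h.z_facts hc (by omega) hτ hw hnc hl₀ hm'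
  have hcr := h.crit_pow hc (by omega) hτ hw hnc hl₀ hm'
  obtain ⟨v, hv, huB, huQ⟩ := h.crit_elt hc (pow_mem_W hl₀ hτ.mem n) hcr
  obtain ⟨m, rfl⟩ : ∃ m, n = m + 1 := ⟨n - 1, by omega⟩
  -- period
  have hper : cj ((l₀ * τ) ^ m) z = z := by
    have : cj (l₀ * τ) (cj ((l₀ * τ) ^ m) z) = cj (l₀ * τ) z := by
      rw [← cj_mul, ← pow_succ']; exact h3
    exact cj_inj this
  -- the commuting pair at distance two
  have hcom2 : Com V (τ * (l₀ * τ) ^ 1) := hc 1 (by omega) _ (pow_mem_W hl₀ hτ.mem 1)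
  have hz' : cj l₀⁻¹ z ∈ V := h.cjV (L.inv_mem hl₀) h.zV
  have hz'' : cj l₀⁻¹ z ∉ Z := by
    intro hmem
    exact moved_inv hm' (h.zfix l₀⁻¹ (L.inv_mem hl₀) hmem)
  have hne := h.ncomm _ hz' hz'' _ huB huQ
  apply hne
  -- rewrite in terms of powers
  have h5 := hcom2 _ hz' v hv
  have h6 := (cj_comm (g := (l₀ * τ) ^ m)).2 ((cj_comm (g := l₀)).2 h5)
  rw [cj_cj_inv, hper] at h6
  have e : cj ((l₀ * τ) ^ m) (cj l₀ (cj (τ * (l₀ * τ) ^ 1) v)) =
      cj l₀ (cj (τ * (l₀ * τ) ^ (m + 1)) v) := by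
    simp only [← cj_mul]
    congr 1
    rw [pow_one, show l₀ * (τ * (l₀ * τ)) = (l₀ * τ) ^ 2 by simp [pow_succ, mul_assoc],
      show l₀ * (τ * (l₀ * τ) ^ (m + 1)) = (l₀ * τ) * (l₀ * τ) ^ (m + 1) by simp [mul_assoc],
      ← pow_add, ← pow_succ']
  rw [e] at h6
  have h7 := (cj_comm (g := l₀⁻¹)).2 h6
  rw [cj_inv_cj] at h7
  exact h7

end

/-- the product of two elements of `V` outside `Z` lies in `Z` -/
theorem two_cosets {v v' b : G} (hv : v ∈ V) (hv' : v' ∈ V) (hvZ : v ∉ Z) (hvZ' : v' ∉ Z)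
    (hb : b ∈ B) (hbQ : b ∉ Q) : v * v' ∈ Z := by
  by_contra hn
  apply h.ncomm (v * v') (V.mul_mem hv hv') hn b hb hbQ
  have h1 := h.comm v hv b hb (h.ncomm v hv hvZ b hb hbQ)
  have h2 := h.comm v' hv' b hb (h.ncomm v' hv' hvZ' b hb hbQ)
  have e1 : v * b = z * (b * v) := by
    rw [← h1]; simp [mul_assoc]
  have e2 : v' * b = z * (b * v') := by
    rw [← h2]; simp [mul_assoc]
  have e3 : v * z = z * v := (h.VcQ z (h.VQ h.zV) v hv).symm
  calc v * v' * b = v * (v' * b) := by rw [mul_assoc]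
    _ = v * (z * (b * v')) := by rw [e2]
    _ = (v * z) * (b * v') := by rw [mul_assoc]
    _ = z * v * (b * v') := by rw [e3]
    _ = z * (v * b) * v' := by simp [mul_assoc]
    _ = z * (z * (b * v)) * v' := by rw [e1]
    _ = (z * z) * (b * v * v') := by simp [mul_assoc]
    _ = b * (v * v') := by rw [h.Vsq z h.zV, one_mul, mul_assoc]

theorem comm'' {v b : G} (hv : v ∈ V) (hb : b ∈ B) : cj b v = v ∨ cj b v = z * v := by
  rcases h.comm' hv hb with h1 | h1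
  · left
    rw [cj_eq_self] at h1 ⊢
    exact h1.symm
  · right
    have hzb : b * z = z * b := h.BcZ b hb z h.zZ
    have hzv : z * v = v * z := h.VcQ z (h.VQ h.zV) v hv
    simp only [cj] at h1 ⊢
    have h2 : v * b = z * b * v := by rw [← h1]; simp [mul_assoc]
    have h3 : b * v = z * v * b := by
      calc b * v = (z * z) * (b * v) := by rw [h.Vsq z h.zV, one_mul]
        _ = z * (z * b * v) := by simp [mul_assoc]
        _ = z * (v * b) := by rw [h2]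
        _ = z * v * b := by rw [mul_assoc]
    rw [h3]; simp [mul_assoc]

omit h in
/-- the computation in the group generated by `X, x, y` -/
theorem calc_sq {X x y c d : G} (hX : X * X = 1) (hx : x * x = 1) (hy : y * y = 1)
    (hd : d * d = 1) (hc : c * c = 1) (hdX : d * X = X * d) (hdx : d * x = x * d)
    (hcX : c * X = X * c) (hcx : c * x = x * c) (h1 : X * y = d * (y * X)) (h2 : x * X = c * (X * x))
    (h3 : x * y = c * (y * x)) : (X * x * y) * (X * x * y) = d := by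
  have h1' : y * X = d * (X * y) := by
    rw [h1, ← mul_assoc, hd, one_mul]
  have h3' : y * x = c * (x * y) := by
    rw [h3, ← mul_assoc, hc, one_mul]
  calc (X * x * y) * (X * x * y) = X * x * (y * X) * x * y := by simp [mul_assoc]
    _ = X * x * (d * (X * y)) * x * y := by rw [h1']
    _ = (X * (x * d)) * X * (y * x) * y := by simp [mul_assoc]
    _ = (X * (d * x)) * X * (c * (x * y)) * y := by rw [h3', hdx]
    _ = (X * d) * (x * X) * (c * x) * (y * y) := by simp [mul_assoc]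
    _ = (d * X) * (c * (X * x)) * (c * x) * 1 := by rw [h2, hy, ← hdX]
    _ = d * (X * c) * (X * (x * c) * x) := by simp [mul_assoc]
    _ = d * (c * X) * (X * (c * x) * x) := by rw [hcX, hcx]
    _ = d * c * (X * X) * c * (x * x) := by
        rw [show d * (c * X) * (X * (c * x) * x) = d * c * (X * (X * c)) * (x * x) by
          simp [mul_assoc], ← hcX, show X * (c * X) = X * c * X by simp [mul_assoc], ← hcX]
        rw [show d * c * (c * X * X) * (x * x) = d * c * c * (X * X) * (x * x) by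
          simp [mul_assoc], hX]
        simp [mul_assoc]
    _ = d := by rw [hX, hx]; simp [mul_assoc, hc]

section

variable (hc : ∀ m < 1, ∀ w ∈ W A L m, Com V w)

include hc

/-- `b = 2` is impossible. -/
theorem not_one {w : G} (hw : w ∈ W A L 1) (hnc : ¬ Com V w) : False := by
  obtain ⟨τ, hτ⟩ := h.exists_mate hc one_pos hw hnc
  obtain ⟨l₀, hl₀, hm⟩ := h.moves
  have hm' : cj l₀ z ≠ z := hm
  have hi := h.mate_inv hc one_pos hτ hw hnc
  obtain ⟨-, hττ, -⟩ := h.z_facts hc one_pos hτ hw hnc hl₀ hm'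
  have hA : ∀ a ∈ A, Com V a := fun a ha => hc 0 one_pos a ha
  set ζ := cj τ z with hζ
  have hζL : ∀ l ∈ L, cj l ζ = ζ := hτ.cent
  have hζZ : ζ ∈ Z := h.cjZ hτ.mem h.zZ
  have hζ1 : ζ ≠ 1 := by
    intro he
    apply h.z1
    apply cj_inj (g := τ)
    rw [← hζ, he]; simp [cj]
  have hζz : ζ ≠ z := by
    intro he
    apply hm'
    have := hζL l₀ hl₀
    rwa [he] at this
  have hζζ : ζ * ζ = 1 := h.Vsq _ (h.ZV hζZ)
  have hζc : ∀ l ∈ L, l * ζ = ζ * l := fun l hl => cj_eq_self.1 (hζL l hl)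
  -- the element `g`
  have hcr := h.crit_pow hc one_pos hτ hw hnc hl₀ hm'
  rw [pow_one] at hcr
  have hmem1 : τ * (l₀ * τ) ∈ W A L 1 := by
    have := pow_mem_W hl₀ hτ.mem 1
    rwa [pow_one] at this
  have hw0 := W_inv hmem1
  have hcr0 : ¬ Com V (τ * (l₀ * τ))⁻¹ := fun hcom => hcr hcom.of_inv
  have hz0 := h.crit_z hc hw0 hcr0
  obtain ⟨v₁, hv₁, hgB, hgQ⟩ := h.crit_elt hc hw0 hcr0
  set g := cj (τ * (l₀ * τ))⁻¹ v₁ with hg
  have hgg : g * g = 1 := by rw [hg, ← cj_prod, h.Vsq _ hv₁]; simp [cj]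
  -- `V` to the power `τ` equals `V` to the power `τ⁻¹`
  have hV1 : ∀ v ∈ V, cj τ (cj τ v) ∈ V := by
    intro v hv
    have := h.mate_V hi hτ hv
    rwa [inv_inv, cj_mul] at this
  have hV2 : ∀ v ∈ V, cj τ⁻¹ (cj τ⁻¹ v) ∈ V := by
    intro v hv
    have := h.mate_V hτ hi hv
    rwa [cj_mul] at this
  have hgc : ∀ v ∈ V, g * cj τ v = cj τ v * g := by
    intro v hv
    have e1 : cj τ v = cj τ⁻¹ (cj τ (cj τ v)) := by rw [cj_inv_cj]
    have e2 : g = cj τ⁻¹ (cj l₀⁻¹ (cj τ⁻¹ v₁)) := by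
      rw [hg, ← cj_mul, ← cj_mul]; congr 1; simp [mul_assoc]
    rw [e1, e2, cj_comm]
    have h1 := hA τ⁻¹ (A.inv_mem hτ.mem) (cj l₀ (cj τ (cj τ v))) (h.cjV hl₀ (hV1 v hv)) v₁ hv₁
    have h2 := (cj_comm (g := l₀⁻¹)).2 h1
    rw [cj_inv_cj] at h2
    exact h2.symm
  -- the element `x`
  have hx₀V : cj l₀ z ∈ V := h.cjV hl₀ h.zV
  have hx₀Z : cj l₀ z ∉ Z := fun hmem => hm' (h.zfix l₀ hl₀ hmem)
  set x₀ := cj l₀ z with hx₀
  have hx₀2 : x₀ * x₀ = 1 := h.Vsq _ hx₀V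
  set x := cj τ x₀ with hx
  have hxx : x * x = 1 := by rw [hx, ← cj_prod, hx₀2]; simp [cj]
  have hxB : x ∈ B := h.cjB hτ.mem (h.VB hx₀V)
  have hxQ : x ∈ Q := by
    apply h.QcV _ hxB
    intro v hv
    exact (hA τ hτ.mem v hv x₀ hx₀V).symm
  -- elements of `V` outside `Z` are products
  have hdec : ∀ v ∈ V, v ∉ Z → ∃ c ∈ Z, v = c * x₀ := by
    intro v hv hvZ
    refine ⟨v * x₀, h.two_cosets hv hx₀V hvZ hx₀Z hgB hgQ, ?_⟩
    rw [mul_assoc, hx₀2, mul_one]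
  -- elements of `L`-conjugates of `x` commute with `V`
  have hxl : ∀ l ∈ L, ∀ v ∈ V, cj l x * v = v * cj l x := by
    intro l hl v hv
    exact h.VcQ _ (h.cjQ hl hxQ) v hv
  -- `x` does not commute with `x ^ l₀`
  have hnx : x * cj l₀ x ≠ cj l₀ x * x := by
    intro hcomm
    apply hcr
    intro p hp q hq
    have goal' : cj τ⁻¹ p * cj l₀ (cj τ q) = cj l₀ (cj τ q) * cj τ⁻¹ p := by
      by_cases hpZ : p ∈ Z
      · have h1 : cj τ⁻¹ p ∈ V := h.ZV (h.cjZ (A.inv_mem hτ.mem) hpZ)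
        have h2 := hA τ hτ.mem (cj l₀⁻¹ (cj τ⁻¹ p)) (h.cjV (L.inv_mem hl₀) h1) q hq
        have h3 := (cj_comm (g := l₀)).2 h2
        rwa [cj_cj_inv] at h3
      by_cases hqZ : q ∈ Z
      · have h1 : cj τ q ∈ V := h.ZV (h.cjZ hτ.mem hqZ)
        have h2 := hA τ⁻¹ (A.inv_mem hτ.mem) (cj l₀ (cj τ q)) (h.cjV hl₀ h1) p hp
        exact h2.symm
      have hp2 : cj τ⁻¹ (cj τ⁻¹ p) ∈ V := hV2 p hp
      have hp2Z : cj τ⁻¹ (cj τ⁻¹ p) ∉ Z := by
        intro hmem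
        apply hpZ
        have := h.cjZ hτ.mem (h.cjZ hτ.mem hmem)
        rwa [cj_cj_inv, cj_cj_inv] at this
      obtain ⟨c, hcZ, hce⟩ := hdec _ hp2 hp2Z
      obtain ⟨c', hcZ', hce'⟩ := hdec q hq hqZ
      have e1 : cj τ⁻¹ p = cj τ c * x := by
        rw [hx, ← cj_prod, ← hce, cj_cj_inv]
      have e2 : cj l₀ (cj τ q) = cj l₀ (cj τ c') * cj l₀ x := by
        rw [hx, ← cj_prod, ← cj_prod, ← hce']
      have hc1 : cj τ c ∈ V := h.ZV (h.cjZ hτ.mem hcZ)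
      have hc2 : cj l₀ (cj τ c') ∈ V := h.cjV hl₀ (h.ZV (h.cjZ hτ.mem hcZ'))
      have k1 : cj τ c * cj l₀ (cj τ c') = cj l₀ (cj τ c') * cj τ c :=
        h.VcQ _ (h.VQ hc1) _ hc2
      have k2 : x * cj l₀ (cj τ c') = cj l₀ (cj τ c') * x := h.VcQ _ hxQ _ hc2
      have k3 : cj l₀ x * cj τ c = cj τ c * cj l₀ x := hxl l₀ hl₀ _ hc1
      rw [e1, e2]
      have c1 : Commute (cj τ c * x) (cj l₀ (cj τ c') * cj l₀ x) := by
        apply Commute.mul_left
        · exact Commute.mul_right k1 k3.symm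
        · exact Commute.mul_right k2 hcomm
      exact c1
    have := (cj_comm (g := τ)).2 goal'
    rw [cj_cj_inv] at this
    rw [cj_mul, cj_mul]
    exact this
  -- its commutator is `ζ`
  have hxcomm : x * cj l₀ x = ζ * (cj l₀ x * x) := by
    have hb' : cj τ⁻¹ (cj l₀ x) ∈ B := h.cjB (A.inv_mem hτ.mem) (h.QB (h.cjQ hl₀ hxQ))
    rcases h.comm' hx₀V hb' with h1 | h1
    · exfalso
      apply hnx
      have h2 := cj_eq_self.1 h1
      have h3 := (cj_comm (g := τ)).2 h2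
      rw [cj_cj_inv] at h3
      exact h3
    · have h2 := congrArg (cj τ) h1
      rw [cj_prod, cj_cj_inv, ← hζ] at h2
      have h3 : cj τ (cj x₀ (cj τ⁻¹ (cj l₀ x))) = cj x (cj l₀ x) := by
        rw [hx]; simp [cj, mul_assoc]
      rw [h3] at h2
      have h4 : x * cj l₀ x = cj x (cj l₀ x) * x := by simp [cj, mul_assoc]
      rw [h4, h2, mul_assoc]
  -- choose `l`
  obtain ⟨l, hl, β, hβ, he⟩ := h.dihed g hgB hgQ l₀ hl₀
  set X := cj l x with hX
  set y := cj g X with hy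
  have hXX : X * X = 1 := by rw [hX, ← cj_prod, hxx]; simp [cj]
  have hyy : y * y = 1 := by rw [hy, ← cj_prod, hXX]; simp [cj]
  have hgL : g ∈ L := h.BL hgB
  have hXQ : X ∈ Q := h.cjQ hl hxQ
  have hyQ : y ∈ Q := h.cjQ hgL hXQ
  -- commutators with `x`
  have hxcom : ∀ q ∈ B, x * q = q * x ∨ x * q = ζ * (q * x) := by
    intro q hq
    have hb' : cj τ⁻¹ q ∈ B := h.cjB (A.inv_mem hτ.mem) hq
    rcases h.comm' hx₀V hb' with h1 | h1
    · left
      have h2 := cj_eq_self.1 h1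
      have h3 := (cj_comm (g := τ)).2 h2
      rw [cj_cj_inv] at h3
      exact h3
    · right
      have h2 := congrArg (cj τ) h1
      rw [cj_prod, cj_cj_inv, ← hζ] at h2
      have h3 : cj τ (cj x₀ (cj τ⁻¹ q)) = cj x q := by
        rw [hx]; simp [cj, mul_assoc]
      rw [h3] at h2
      have h4 : x * q = cj x q * x := by simp [cj, mul_assoc]
      rw [h4, h2, mul_assoc]
  have hgx : cj g x = x := cj_eq_self.2 (hgc x₀ hx₀V)
  have hgζ : cj g ζ = ζ := hζL g hgL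
  -- `[X, y] = ζ`
  have hXy : X * y = ζ * (y * X) := by
    have e1 : y = cj l (cj l₀ (cj β x)) := by
      have e0 : ∀ u : G, cj g (cj l u) = cj l (cj (l⁻¹ * g * l) u) := by
        intro u; simp [cj, mul_assoc]
      rw [hy, hX, e0, he, cj_mul]
    have hβx : cj β x = x ∨ cj β x = ζ * x := by
      rcases hxcom β hβ with h1 | h1
      · left; exact cj_eq_self.2 h1.symm
      · right
        have h2 : ζ * (x * β) = β * x := by rw [h1, ← mul_assoc, hζζ, one_mul]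
        simp only [cj]
        rw [← h2]; simp [mul_assoc]
    have h5 : x * cj l₀ (cj β x) = ζ * (cj l₀ (cj β x) * x) := by
      rcases hβx with h1 | h1
      · rw [h1]; exact hxcomm
      · rw [h1, cj_prod, hζL l₀ hl₀]
        calc x * (ζ * cj l₀ x) = (x * ζ) * cj l₀ x := by rw [mul_assoc]
          _ = (ζ * x) * cj l₀ x := by rw [hζc x (h.BL hxB)]
          _ = ζ * (x * cj l₀ x) := by rw [mul_assoc]
          _ = ζ * (ζ * (cj l₀ x * x)) := by rw [hxcomm]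
          _ = ζ * (ζ * cj l₀ x * x) := by simp [mul_assoc]
    have h6 := congrArg (cj l) h5
    rw [cj_prod, cj_prod, cj_prod, hζL l hl, ← e1, ← hX] at h6
    exact h6
  have hζX : ζ * X = X * ζ := (hζc X (h.BL (h.QB hXQ))).symm
  have hζx : ζ * x = x * ζ := (hζc x (h.BL hxB)).symm
  have hζy : ζ * y = y * ζ := (hζc y (h.BL (h.QB hyQ))).symm
  -- square of `e`
  have hcases : ∃ c : G, c * c = 1 ∧ c * X = X * c ∧ c * x = x * c ∧ c * y = y * c ∧
      x * X = c * (X * x) ∧ x * y = c * (y * x) := by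
    rcases hxcom X (h.QB hXQ) with h1 | h1
    · refine ⟨1, by simp, by simp, by simp, by simp, by simpa using h1, ?_⟩
      have := (cj_comm (g := g)).2 h1
      rw [hgx, ← hy] at this
      simpa using this
    · refine ⟨ζ, hζζ, hζX, hζx, hζy, h1, ?_⟩
      have := congrArg (cj g) h1
      rw [cj_prod, cj_prod, cj_prod, hgx, hgζ, ← hy] at this
      exact this
  obtain ⟨c, hcc, hcX, hcx, hcy, hxX, hxy⟩ := hcases
  have hesq := calc_sq hXX hxx hyy hζζ hcc hζX hζx hcX hcx hXy hxX hxy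
  set e := X * x * y with he'
  have heB : e ∈ B := B.mul_mem (B.mul_mem (h.QB hXQ) hxB) (h.QB hyQ)
  have hXinv : X⁻¹ = X := inv_eq_of_mul_eq_one_left hXX
  have hxinv : x⁻¹ = x := inv_eq_of_mul_eq_one_left hxx
  have hyinv : y⁻¹ = y := inv_eq_of_mul_eq_one_left hyy
  have hge : cj g e = e⁻¹ := by
    have hgy : cj g y = X := by
      rw [hy, ← cj_mul, hgg, cj_one]
    rw [he', cj_prod, cj_prod, hgx, ← hy, hgy]
    rw [mul_inv_rev, mul_inv_rev, hXinv, hxinv, hyinv, mul_assoc]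
  -- `e` commutes with `x`
  have hex : e * x = x * e := by
    have hyx : y * x = c * (x * y) := by rw [hxy, ← mul_assoc, hcc, one_mul]
    calc e * x = X * x * (y * x) := by rw [he']; simp [mul_assoc]
      _ = X * x * (c * (x * y)) := by rw [hyx]
      _ = X * (x * c) * x * y := by simp [mul_assoc]
      _ = X * (c * x) * x * y := by rw [hcx]
      _ = (X * c) * x * x * y := by simp [mul_assoc]
      _ = (c * X) * x * x * y := by rw [hcX]
      _ = c * (X * x) * x * y := by simp [mul_assoc]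
      _ = x * X * x * y := by rw [hxX]
      _ = x * e := by rw [he']; simp [mul_assoc]
  have heV : ∀ v ∈ V, e * cj τ v = cj τ v * e := by
    intro v hv
    by_cases hvZ : v ∈ Z
    · exact h.BcZ e heB _ (h.cjZ hτ.mem hvZ)
    · obtain ⟨c₂, hc₂, rfl⟩ := hdec v hv hvZ
      rw [cj_prod, ← hx]
      have k1 : Commute e (cj τ c₂) := h.BcZ e heB _ (h.cjZ hτ.mem hc₂)
      exact Commute.mul_right k1 hex
  have heQ : cj τ e ∈ Q := by
    apply h.QcV _ (h.cjB hτ.mem heB)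
    intro v hv
    have h1 := heV _ (hV2 v hv)
    rw [cj_cj_inv] at h1
    have h2 := (cj_comm (g := τ)).2 h1
    rwa [cj_cj_inv] at h2
  have hfin : cj (τ * (l₀ * τ)) e ∈ B := by
    rw [cj_mul, cj_mul]
    exact h.cjB hτ.mem (h.QB (h.cjQ hl₀ heQ))
  have heinv : e⁻¹ = ζ * e := by
    apply inv_eq_of_mul_eq_one_left
    rw [mul_assoc, hesq, hζζ]
  have hend : ∀ f : G, cj (τ * (l₀ * τ)) f ∈ B → cj g f = f ∨ cj g f = z * f := by
    intro f hf
    rcases h.comm' hv₁ hf with h1 | h1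
    · left
      have h2 := congrArg (cj (τ * (l₀ * τ))⁻¹) h1
      rw [cj_inv_cj] at h2
      rw [hg, cj_cj, inv_inv]
      exact h2
    · right
      have h2 := congrArg (cj (τ * (l₀ * τ))⁻¹) h1
      rw [cj_prod, cj_inv_cj, hz0] at h2
      rw [hg, cj_cj, inv_inv]
      exact h2
  replace hend := hend e hfin
  rw [hge, heinv] at hend
  rcases hend with h1 | h1
  · exact hζ1 (by simpa using h1)
  · exact hζz (mul_right_cancel h1)

end

/-- **Pushing up**: `V` does not commute with some conjugate under `A`. -/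
theorem exists_noncommuting : ∃ t ∈ A, ∃ v ∈ V, ∃ u ∈ V, v * (t * u * t⁻¹) ≠ (t * u * t⁻¹) * v := by
  classical
  by_contra hcon
  push Not at hcon
  -- some word is critical
  have hex : ∃ n, ∃ w ∈ W A L n, ¬ Com V w := by
    by_contra hall
    push Not at hall
    -- the normal closure
    let R : Subgroup G := Subgroup.closure {x | ∃ n, ∃ w ∈ W A L n, ∃ v ∈ V, x = cj w v}
    have hRB : R ≤ B := by
      rw [Subgroup.closure_le]
      rintro x ⟨n, w, hw, v, hv, rfl⟩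
      exact h.memB' (n := n) (fun m _ w hw => hall m w hw) le_rfl hw hv
    have h1 : R = ⊥ := by
      apply h.core R hRB
      · intro l hl
        apply closure_conj
        rintro x ⟨n, w, hw, v, hv, rfl⟩
        rw [← cj_mul]
        refine Subgroup.subset_closure ⟨n + 1, l * w, ?_, v, hv, rfl⟩
        have := W_cons hw hl A.one_mem
        rwa [one_mul] at this
      · intro a ha
        apply closure_conj
        rintro x ⟨n, w, hw, v, hv, rfl⟩
        rw [← cj_mul]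
        exact Subgroup.subset_closure ⟨n, a * w, W_mul_left hw ha, v, hv, rfl⟩
    have h2 : z ∈ R := by
      refine Subgroup.subset_closure ⟨0, 1, A.one_mem, z, h.zV, ?_⟩
      rw [cj_one]
    rw [h1] at h2
    exact h.z1 (by simpa using h2)
  obtain ⟨w, hw, hnc⟩ := Nat.find_spec hex
  have hmin : ∀ m < Nat.find hex, ∀ w ∈ W A L m, Com V w := by
    intro m hm w hw
    by_contra hcw
    exact Nat.find_min hex hm ⟨w, hw, hcw⟩
  have h0 : Nat.find hex ≠ 0 := by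
    intro h0
    rw [h0] at hw
    exact hnc (fun v hv u hu => hcon w hw v hv u hu)
  rcases Nat.lt_or_ge 1 (Nat.find hex) with h1 | h1
  · exact h.not_two_le hmin h1 hw hnc
  · have h2 : Nat.find hex = 1 := by omega
    rw [h2] at hmin hw
    exact h.not_one hmin hw hnc

/-- if `V` does not commute with `V ^ t`, then `t` centralises `z` -/
theorem noncomm_z {t v u : G} (ht : t ∈ A) (hv : v ∈ V) (hu : u ∈ V)
    (hne : v * (t * u * t⁻¹) ≠ (t * u * t⁻¹) * v) : t * z * t⁻¹ = z := by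
  have hc : ∀ m < 0, ∀ w ∈ W A L m, Com V w := fun m hm => absurd hm (Nat.not_lt_zero m)
  exact h.crit_z hc (show t ∈ W A L 0 from ht) (fun hcom => hne (hcom v hv u hu))

end Data

end Cfsg.Agent.MinSimple.PushUp
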