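import Cfsg.Agent.MinSimple.PlanePair
import Cfsg.Agent.MinSimple.DBlkDefs
import Cfsg.Agent.MinSimple.FFGen
import Cfsg.Agent.MinSimple.PushUp

/-!
# Blocks in a solvable 2-local subgroup

* `gen_aux`, `dihed`: `L / O₂(L)` is dihedral for an `IsDBlk B L k`;
* `exists_gff`: the data `GFF` for a solvable `X ≤ G` of characteristic 2 with a block;
* `pair`: two blocks over `B = bau T` in `X`, both not contained in `M`;
* `exists_data`: the hypotheses of the pushing up theorem.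
-/

set_option autoImplicit false
set_option linter.unusedSectionVars false

namespace Cfsg.Agent.MinSimple.PlaneData

open Subgroup Cfsg
open Cfsg.Agent.ZN
open Cfsg.Agent.MinSimple.PlanePair
open Cfsg.Agent.PLocal.FFCoprime (omegaJoin omegaJoin_def)

universe u

variable {G : Type u} [Group G]

/-! ### The dihedral structure of a block -/

section dih

variable {B L : Subgroup G} {k : ℕ}

theorem conj_pow {Q : Subgroup G} {b y : G} (hn : ∀ q ∈ Q, y⁻¹ * q * y ∈ Q)
    (h : b * y * b⁻¹ * y ∈ Q) (n : ℕ) : b * y ^ n * b⁻¹ * y ^ n ∈ Q := by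
  have hn' : ∀ n : ℕ, ∀ q ∈ Q, (y ^ n)⁻¹ * q * y ^ n ∈ Q := by
    intro n
    induction n with
    | zero => intro q hq; simpa using hq
    | succ n ih =>
      intro q hq
      have h1 := hn _ (ih q hq)
      have h2 : (y ^ (n + 1))⁻¹ * q * y ^ (n + 1) = y⁻¹ * ((y ^ n)⁻¹ * q * y ^ n) * y := by
        rw [pow_succ]; group
      rwa [h2]
  induction n with
  | zero => simp
  | succ n ih =>
    have h1 := mul_mem ih (hn' n _ h)
    have h2 : b * y ^ (n + 1) * b⁻¹ * y ^ (n + 1) =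
        b * y ^ n * b⁻¹ * y ^ n * ((y ^ n)⁻¹ * (b * y * b⁻¹ * y) * y ^ n) := by
      rw [pow_succ' y n]
      have h3 : y * y ^ n = y ^ n * y := (pow_succ' y n).symm.trans (pow_succ y n)
      calc b * (y * y ^ n) * b⁻¹ * (y * y ^ n) = b * (y ^ n * y) * b⁻¹ * (y * y ^ n) := by rw [h3]
        _ = _ := by group
    rwa [h2]

/-- `y ^ n b y⁻ⁿ ∈ y²ⁿ Q b` -/
theorem conj_eq {Q : Subgroup G} {b y : G} (hn : ∀ q ∈ Q, y⁻¹ * q * y ∈ Q)
    (h : b * y * b⁻¹ * y ∈ Q) (n : ℕ) :
    ∃ q ∈ Q, y ^ n * b * (y ^ n)⁻¹ = y ^ (2 * n) * q * b := by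
  refine ⟨(b * y ^ n * b⁻¹ * y ^ n)⁻¹, inv_mem (conj_pow hn h n), ?_⟩
  rw [two_mul, pow_add]
  group

theorem exists_pow {y : G} {k m : ℕ} (hy : y ^ 3 ^ k = 1) (hk : 1 ≤ k) (hm : ¬ 3 ∣ m) (n : ℕ) :
    ∃ r : ℕ, y ^ (m * r) = y ^ n := by
  have h3 : 1 < 3 ^ k := Nat.one_lt_pow (by omega) (by norm_num)
  have hc : Nat.Coprime m (3 ^ k) :=
    (Nat.Coprime.pow_left k ((Nat.Prime.coprime_iff_not_dvd Nat.prime_three).2 hm)).symm
  obtain ⟨s, -, hs⟩ := Nat.exists_mul_mod_eq_one_of_coprime hc h3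
  refine ⟨s * n, ?_⟩
  have h1 : y ^ (m * s) = y := by
    rw [pow_eq_pow_mod (m * s) hy, hs, pow_one]
  rw [← mul_assoc, pow_mul, h1]

theorem gen_aux (h : IsDBlk B L k) : ∃ y ∈ L, y ^ 3 ^ k = 1 ∧
    (∀ g ∈ L, ∃ n : ℕ, ∃ b ∈ B, g = y ^ n * b) ∧
    (∀ v ∈ vl B L, y * v * y⁻¹ = v → v = 1) ∧ (∀ v ∈ vl B L, y ^ 3 * v * (y ^ 3)⁻¹ = v) ∧
    (∀ u ∈ B, u ∉ o2 L → ∀ n : ℕ, ¬ 3 ∣ n → ∀ b₀ ∈ B, ∀ H : Subgroup G, u ∈ H →
      (∀ b ∈ B, (y ^ n * b₀) * b * (y ^ n * b₀)⁻¹ ∈ H) → L ≤ H) ∧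
    (∀ g ∈ B, g ∉ o2 L → ∀ l ∈ L, ∃ l' ∈ L, ∃ b ∈ B, l'⁻¹ * g * l' = l * b) := by
  obtain ⟨y, hy, hy1, hinv, hgen, hv, hv3⟩ := h.dih
  have hQn : ∀ l ∈ L, ∀ q ∈ o2 L, l * q * l⁻¹ ∈ o2 L :=
    fun l hl q hq => Four.conj_mem (le_normalizer_o2 L hl) hq
  have hQn' : ∀ l ∈ L, ∀ q ∈ o2 L, l⁻¹ * q * l ∈ o2 L :=
    fun l hl q hq => Four.conj_mem' (le_normalizer_o2 L hl) hq
  refine ⟨y, hy, hy1, hgen, hv, hv3, ?_, ?_⟩
  · intro u hu huQ n hn b₀ hb₀ H huH hH
    have hln : y ^ n * b₀ ∈ L := mul_mem (pow_mem hy n) (h.le hb₀)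
    have hQH : o2 L ≤ H := by
      intro q hq
      have h1 := hH _ (h.o2_le (hQn' _ hln q hq))
      have h2 : y ^ n * b₀ * ((y ^ n * b₀)⁻¹ * q * (y ^ n * b₀)) * (y ^ n * b₀)⁻¹ = q := by group
      rwa [h2] at h1
    have hBH : B ≤ H := by
      intro b hb
      by_cases hbQ : b ∈ o2 L
      · exact hQH hbQ
      · have h1 := Block.mul_mem_of_relIndex_two h.o2_index (inv_mem hu) hb
          (fun h0 => huQ (by simpa using inv_mem h0)) hbQ
        have h2 := mul_mem huH (hQH h1)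
        have h3 : u * (u⁻¹ * b) = b := by group
        rwa [h3] at h2
    have h1 := hH (b₀⁻¹ * u * b₀) (mul_mem (mul_mem (inv_mem hb₀) hu) hb₀)
    have h2 : y ^ n * b₀ * (b₀⁻¹ * u * b₀) * (y ^ n * b₀)⁻¹ = y ^ n * u * (y ^ n)⁻¹ := by group
    rw [h2] at h1
    obtain ⟨q, hq, h3⟩ := conj_eq (hQn' y hy) (hinv u hu huQ) n
    rw [h3] at h1
    have h4 : y ^ (2 * n) ∈ H := by
      have h5 := mul_mem (mul_mem h1 (inv_mem huH)) (inv_mem (hQH hq))
      have h6 : y ^ (2 * n) * q * u * u⁻¹ * q⁻¹ = y ^ (2 * n) := by group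
      rwa [h6] at h5
    have h5 : ¬ 3 ∣ 2 * n := by
      intro h6
      rcases (Nat.Prime.dvd_mul Nat.prime_three).1 h6 with h7 | h7
      · omega
      · exact hn h7
    obtain ⟨r, hr⟩ := exists_pow hy1 h.pos h5 1
    have h6 : y ∈ H := by
      have h7 := pow_mem h4 r
      rw [← pow_mul, hr, pow_one] at h7
      exact h7
    intro g hg
    obtain ⟨n', b, hb, rfl⟩ := hgen g hg
    exact mul_mem (pow_mem h6 _) (hBH hb)
  · intro g hg hgQ l hl
    obtain ⟨n, b, hb, rfl⟩ := hgen l hl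
    obtain ⟨m, hm⟩ := exists_pow hy1 h.pos (m := 2) (by norm_num) n
    obtain ⟨q, hq, h3⟩ := conj_eq (hQn' y hy) (hinv g hg hgQ) m
    refine ⟨(y ^ m)⁻¹, inv_mem (pow_mem hy m), b⁻¹ * (q * g),
      mul_mem (inv_mem hb) (mul_mem (h.o2_le hq) hg), ?_⟩
    rw [inv_inv, h3, hm]
    group

/-- `L` is generated by the conjugates of `B`. -/
theorem gen (h : IsDBlk B L k) : ∀ H : Subgroup G, (∀ l ∈ L, ∀ b ∈ B, l * b * l⁻¹ ∈ H) → L ≤ H := by
  intro H hH
  obtain ⟨y, hy, -, -, -, -, h1, -⟩ := gen_aux h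
  obtain ⟨u, hu, huQ⟩ := Block.exists_not_mem_of_relIndex (K := o2 L) (B := B)
    (by rw [h.o2_index]; norm_num)
  refine h1 u hu huQ 1 (by norm_num) 1 (one_mem _) H ?_ fun b hb => ?_
  · have := hH 1 (one_mem _) u hu
    simpa using this
  · exact hH _ (mul_mem (pow_mem hy 1) (one_mem _)) b hb

theorem not_le_o2 (h : IsDBlk B L k) : ¬ B ≤ o2 L := by
  intro h1
  have h2 := h.o2_index
  rw [relIndex_eq_one.2 h1] at h2
  omega

theorem zl_le_o2 (h : IsDBlk B L k) : zl B L ≤ o2 L := by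
  refine zl_le ?_ (le_normalizer_o2 L)
  intro x hx
  apply h.self_cent
  refine ⟨h.le (zc_le B hx), mem_centralizer_iff.2 fun q hq => ?_⟩
  exact zc_comm hx (h.o2_le hq)

/-- `vl B L ∩ Ω₁(Z(B))` has at most one nontrivial element. -/
theorem eq_of_mem_cap (h : IsDBlk B L k) {x z : G} (hz : z ∈ vl B L) (hzc : z ∈ zc B)
    (hz1 : z ≠ 1) (hx : x ∈ vl B L) (hxc : x ∈ zc B) (hx1 : x ≠ 1) : x = z := by
  by_contra hxz
  apply not_le_o2 h
  intro b hb
  rw [← h.cent_vl]
  refine ⟨hb, Four.cent_of_two h.card_vl (fun v hv => h.zl_sq v (vl_le_zl B L hv)) hx hz hx1 hz1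
    hxz ?_ ?_⟩
  · rw [Four.conj_eq_iff_comm]; exact zc_comm hxc hb
  · rw [Four.conj_eq_iff_comm]; exact zc_comm hzc hb

end dih

/-- a block as in `PlanePair.Blk`. -/
theorem blk_of_isDBlk {X T M L : Subgroup G} {k : ℕ} (h : IsDBlk (bau T) L k) (hLX : L ≤ X)
    (hZ : X ⊓ centralizer (zc T : Set G) ≤ M) (hM : ¬ L ≤ M) : Blk X T M L where
  BL := h.le
  LX := hLX
  QB := h.o2_le
  idx := h.o2_index
  gen := gen h
  card := h.card_vl
  cent := hZ
  notM := hM

/-! ### Existence of the data -/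

theorem exists_gff [Finite G] {X T M L : Subgroup G} (hs : Group.IsSolvable ↥X)
    (hc : centralizer (pCore 2 ↥X : Set ↥X) ≤ pCore 2 ↥X) (hT : IsPGroup 2 T) (hTX : T ≤ X)
    (hTs : ¬ 2 ∣ T.relIndex X) (k : Blk X T M L) :
    ∃ (n : ℕ) (V : Fin n → Subgroup G), GFF X T ((omegaJoin 2 ↥X).map X.subtype)
      ((thompsonSubgroup 2 ↥X).map X.subtype) V := by
  have hinj : Function.Injective X.subtype := X.subtype_injective
  set T' : Subgroup ↥X := T.subgroupOf X with hT'
  have hTT : T'.map X.subtype = T := by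
    rw [hT', subgroupOf_map_subtype, inf_eq_left.2 hTX]
  have hT2 : IsPGroup 2 T' := hT.of_equiv (subgroupOfEquivOfLe hTX).symm
  have hTi : ¬ 2 ∣ T'.index := hTs
  obtain ⟨S, hS⟩ := FFBasic.exists_sylow hT2 hTi
  have hch : (omegaJoin 2 ↥X).Characteristic := PLocal.FFCoprime.omegaJoin_characteristic 2 ↥X
  have hWn : (omegaJoin 2 ↥X).Normal := inferInstance
  have hJn : (thompsonSubgroup 2 ↥X).Normal :=
    haveI := PLocal.ThompsonJ.thompsonSubgroup_characteristic 2 ↥X; inferInstance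
  have hWQ := FFBasic.omegaJoin_le hc
  have hWT' : omegaJoin 2 ↥X ≤ T' := by
    refine hWQ.trans ?_
    rw [← hS]
    exact Lib.Cores.pCore_le_sylow S
  obtain ⟨-, hWe, -⟩ := S0601.result (p := 2) hc
  change IsElementaryAbelian 2 (omegaJoin 2 ↥X) at hWe
  have hWe' := PLocal.ThompsonJ.isElementaryAbelian_iff.1 hWe
  set W : Subgroup G := (omegaJoin 2 ↥X).map X.subtype with hW
  set J : Subgroup G := (thompsonSubgroup 2 ↥X).map X.subtype with hJ
  have hWT : W ≤ T := by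
    rw [← hTT]; exact Subgroup.map_mono hWT'
  have hWn' : X ≤ normalizer (W : Set G) := by
    have h1 := (le_normalizer_map_iff X.subtype hinj ⊤ (omegaJoin 2 ↥X)).2
      (by rw [normalizer_eq_top_iff.2 hWn])
    rwa [← MonoidHom.range_eq_map, Subgroup.range_subtype] at h1
  have hJn' : X ≤ normalizer (J : Set G) := by
    have h1 := (le_normalizer_map_iff X.subtype hinj ⊤ (thompsonSubgroup 2 ↥X)).2
      (by rw [normalizer_eq_top_iff.2 hJn])
    rwa [← MonoidHom.range_eq_map, Subgroup.range_subtype] at h1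
  have hWc : ∀ x ∈ W, ∀ y ∈ W, x * y = y * x := by
    rintro _ ⟨x, hx, rfl⟩ _ ⟨y, hy, rfl⟩
    rw [← map_mul, hWe'.1 x hx y hy, map_mul]
  have hWs : ∀ x ∈ W, x ^ 2 = 1 := by
    rintro _ ⟨x, hx, rfl⟩
    rw [← map_pow, hWe'.2 x hx, map_one]
  have hzW : zc T ≤ W := by
    rw [← hTT, zc_map X.subtype hinj, ← hS]
    exact Subgroup.map_mono (FFBasic.zc_le_omegaJoin S)
  have hjJ : jj T ≤ J := by
    rw [← hTT, jj_map X.subtype hinj]
    obtain ⟨A, hA, hAS⟩ := PLocal.ThompsonJ.exists_max_le_sylow S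
    exact Subgroup.map_mono (PLocal.ThompsonJ.thompsonSubgroupOf_le hA (hS ▸ hAS))
  have hnJ : ¬ thompsonSubgroup 2 ↥X ≤ centralizer (omegaJoin 2 ↥X : Set ↥X) := by
    intro hcon
    have hcon' : J ≤ centralizer (W : Set G) :=
      (le_centralizer_map_iff X.subtype hinj _ _).2 hcon
    have hWz : W ≤ zj T := fun w hw =>
      mem_zj_of_comm (hWT hw) (hWs w hw) fun b hb =>
        ((mem_centralizer_iff.1 (hcon' (hjJ hb))) w hw).symm
    have hL : L ≤ centralizer (W : Set G) := by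
      refine k.gen _ fun l hl b hb => ?_
      rw [Four.mem_cent_iff]
      intro w hw
      have h1 : l⁻¹ * w * l ∈ W := Four.conj_mem' (hWn' (k.LX hl)) hw
      have h3 : b * (l⁻¹ * w * l) * b⁻¹ = l⁻¹ * w * l := by
        rw [Four.conj_eq_iff_comm]
        exact ((mem_centralizer_iff.1 (bau_le_centralizer T hb)) _ (hWz h1)).symm
      calc l * b * l⁻¹ * w * (l * b * l⁻¹)⁻¹ = l * (b * (l⁻¹ * w * l) * b⁻¹) * l⁻¹ := by group
        _ = w := by rw [h3]; group
    exact k.notM ((le_inf k.LX (hL.trans (centralizer_le hzW))).trans k.cent)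
  obtain ⟨n, V', hF⟩ := FFGen.exists_ff0 hs hc T' hT2 hTi hnJ
  have hCJ : W ⊓ centralizer (J : Set G) =
      (omegaJoin 2 ↥X ⊓ centralizer (thompsonSubgroup 2 ↥X : Set ↥X)).map X.subtype :=
    centralizer_map_inf X.subtype hinj _ _
  refine ⟨n, fun i => (V' i).map X.subtype, ?_⟩
  exact
    { two := hT
      TX := hTX
      WT := hWT
      Wn := hWn'
      Wcomm := hWc
      Wsq := hWs
      zcW := hzW
      Jn := hJn'
      jJ := hjJ
      card := fun i => by
        rw [card_map_of_injective hinj]; exact hF.card i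
      indep := by
        have h1 := (FFData.iSupIndep_map_iff X.subtype hinj _).2 hF.indep
        convert h1 using 2 with o
        cases o with
        | none => exact hCJ
        | some i => rfl
      sup := by
        rw [hCJ, ← Subgroup.map_iSup, ← Subgroup.map_sup, hF.sup]
      perm := by
        intro g hg i
        obtain ⟨j, hj⟩ := hF.perm ⟨g, hg⟩ i
        refine ⟨j, ?_⟩
        change _ = (V' j).map X.subtype
        rw [← hj, Subgroup.map_map, Subgroup.map_map]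
        rfl
      nrm := fun i => (le_normalizer_map_iff X.subtype hinj _ _).2 (hF.nrm i)
      t := by
        intro i
        obtain ⟨t, ht, ⟨v, hv, htv⟩, hj⟩ := hF.t i
        refine ⟨(t : G), ?_, ⟨(v : G), ⟨v, hv, rfl⟩, fun h0 => htv (Subtype.ext h0)⟩, ?_⟩
        · rw [← hTT, jj_map X.subtype hinj]
          exact ⟨t, ht, rfl⟩
        · rintro j hj' _ ⟨w, hw, rfl⟩
          exact congrArg Subtype.val (hj j hj' w hw) }

/-! ### Pairs of blocks -/

section pair

variable [Finite G] {X T M L L' W J : Subgroup G} {ι : Type} [Finite ι] {V : ι → Subgroup G}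

theorem pair_aux (h : GFF X T W J V) (k : Blk X T M L) (k' : Blk X T M L') :
    L ≤ normalizer ((vl (bau T) L' : Subgroup G) : Set G) ∧
    L ≤ normalizer ((o2 L ⊓ o2 L' : Subgroup G) : Set G) ∧
    (∀ x ∈ vl (bau T) L, x ∈ vl (bau T) L' → x ≠ 1 →
      vl (bau T) L = vl (bau T) L' ∧ o2 L = o2 L') ∧
    (vl (bau T) L ≠ vl (bau T) L' → ∀ x ∈ vl (bau T) L', x ∈ zj T → ∀ l ∈ L, l * x * l⁻¹ = x) ∧
    (∀ v ∈ vl (bau T) L, ∀ w ∈ vl (bau T) L', v * w = w * v) := by
  obtain ⟨i, h1, h2, h3, h4⟩ := exists_plane h k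
  obtain ⟨j, h1', h2', h3', h4'⟩ := exists_plane h k'
  refine ⟨?_, ?_, ?_, ?_, ?_⟩
  · rw [h1']; exact nV h k j
  · have h5 : o2 L ⊓ o2 L' = o2 L ⊓ centralizer (V j : Set G) := by
      rw [h2', ← inf_assoc, inf_eq_left.2 k.QB]
    rw [h5]
    refine (le_inf (le_normalizer_o2 L) (nV h k j)).trans ?_
    intro g hg
    rw [mem_normalizer_iff]
    intro q
    have hgV : g ∈ normalizer ((centralizer (V j : Set G) : Subgroup G) : Set G) := by
      apply mem_normalizer_of_map_conj_eq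
      have h6 := map_conj_eq_of_mem_normalizer hg.2
      rw [PLocal.FFTransport.map_centralizer, h6]
    rw [mem_inf, mem_inf, mem_normalizer_iff.1 hg.1 q, mem_normalizer_iff.1 hgV q]
  · intro x hx hx' hx1
    rw [h1] at hx
    rw [h1'] at hx'
    have := h.eq_of_mem hx hx' hx1
    subst this
    exact ⟨h1.trans h1'.symm, h2.trans h2'.symm⟩
  · intro hne x hx hxz l hl
    have hij : j ≠ i := by
      rintro rfl
      exact hne (h1.trans h1'.symm)
    rw [h1'] at hx
    rcases h.zj_cap hx hxz with h5 | h5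
    · rw [h5]; group
    · rw [h5]; exact h4 j hij l hl
  · intro v hv w hw
    rw [h1] at hv
    rw [h1'] at hw
    exact h.Wcomm v (h.VW i hv) w (h.VW j hw)

end pair

/-- **Two blocks.** -/
theorem pair [Finite G] {X T M L L' : Subgroup G} (hs : Group.IsSolvable ↥X)
    (hc : centralizer (pCore 2 ↥X : Set ↥X) ≤ pCore 2 ↥X) (hT : IsPGroup 2 T) (hTX : T ≤ X)
    (hTs : ¬ 2 ∣ T.relIndex X) (k : Blk X T M L) (k' : Blk X T M L') :
    L ≤ normalizer ((vl (bau T) L' : Subgroup G) : Set G) ∧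
    L ≤ normalizer ((o2 L ⊓ o2 L' : Subgroup G) : Set G) ∧
    (∀ x ∈ vl (bau T) L, x ∈ vl (bau T) L' → x ≠ 1 →
      vl (bau T) L = vl (bau T) L' ∧ o2 L = o2 L') ∧
    (vl (bau T) L ≠ vl (bau T) L' → ∀ x ∈ vl (bau T) L', x ∈ zj T → ∀ l ∈ L, l * x * l⁻¹ = x) ∧
    (∀ v ∈ vl (bau T) L, ∀ w ∈ vl (bau T) L', v * w = w * v) := by
  obtain ⟨n, V, h⟩ := exists_gff hs hc hT hTX hTs k
  exact pair_aux h k k'

/-! ### The hypotheses of the pushing up theorem -/

/-- **The data of the pushing up theorem for a block.** -/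
theorem exists_data [Finite G] {X T M L A : Subgroup G} {k : ℕ} (hs : Group.IsSolvable ↥X)
    (hc : centralizer (pCore 2 ↥X : Set ↥X) ≤ pCore 2 ↥X) (hT : IsPGroup 2 T) (hTX : T ≤ X)
    (hTs : ¬ 2 ∣ T.relIndex X) (hZ : X ⊓ centralizer (zc T : Set G) ≤ M)
    (d : IsDBlk (bau T) L k) (hLX : L ≤ X) (hM : ¬ L ≤ M)
    (hTA : T ≤ A) (hidx : ∀ a ∈ A, ∀ b ∈ A, a ∉ T → b ∉ T → a⁻¹ * b ∈ T)
    (hA : A ≤ normalizer (bau T : Set G))
    (hcore : ∀ R : Subgroup G, R ≤ bau T → L ≤ normalizer (R : Set G) →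
      A ≤ normalizer (R : Set G) → R = ⊥) :
    ∃ z ∈ vl (bau T) L, z ∈ zj T ∧ z ≠ 1 ∧
      PushUp.Data A T L (bau T) (o2 L) (zl (bau T) L) (zj T) z := by
  have kb := blk_of_isDBlk d hLX hZ hM
  obtain ⟨n, V, h⟩ := exists_gff hs hc hT hTX hTs kb
  obtain ⟨i, h1, h2, h3, h4⟩ := exists_plane h kb
  obtain ⟨y, hy, hy1, hgen, hv, hv3, hg1, hg2⟩ := gen_aux d
  set B := bau T with hB
  set z := h.x i with hz
  have hzc : zc B = zj T := zc_bau T
  have hzV : z ∈ vl B L := by rw [h1]; exact h.xV i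
  have hz1 : z ≠ 1 := h.x1 i
  have hzz : z ∈ zj T := h.xz i
  have hzzc : z ∈ zc B := hzc ▸ hzz
  have hsq : ∀ v ∈ vl B L, v ^ 2 = 1 := fun v hv => d.zl_sq v (vl_le_zl B L hv)
  have hLV : ∀ l ∈ L, ∀ v ∈ zl B L, l * v * l⁻¹ ∈ zl B L :=
    fun l hl v hv => Four.conj_mem (le_normalizer_zl B L hl) hv
  have hfixz : ∀ b ∈ B, b * z * b⁻¹ = z := fun b hb => h.fix_x i hb
  -- decomposition
  have hdec : ∀ v ∈ zl B L, ∃ r ∈ rl B L, ∃ w ∈ vl B L, v = r * w := by
    intro v hv
    rw [← d.sup_eq] at hv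
    exact (BlkFam.mem_sup_of_comm (fun r hr w hw => d.zl_comm r (rl_le_zl B L hr) w
      (vl_le_zl B L hw))).1 hv
  have hrb : ∀ r ∈ rl B L, ∀ b ∈ B, r * b = b * r := fun r hr b hb =>
    (zc_comm (rl_le_zc B L hr) hb).symm
  have hAz : A ≤ normalizer (zj T : Set G) := by
    rw [← hzc]
    exact hA.trans (normalizer_le_normalizer_zc B)
  refine ⟨z, hzV, hzz, hz1, ?_⟩
  exact
    { TA := hTA
      idx := hidx
      BT := bau_le T
      BL := d.le
      QB := d.o2_le
      VQ := zl_le_o2 d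
      ZV := hzc ▸ zc_le_zl
      AnB := fun a ha b hb => Four.conj_mem (hA ha) hb
      AnZ := fun a ha b hb => Four.conj_mem (hAz ha) hb
      LnQ := fun l hl q hq => Four.conj_mem (le_normalizer_o2 L hl) hq
      LnV := hLV
      BcZ := fun b hb y hy => zc_comm (hzc.symm ▸ hy) hb
      Vsq := fun v hv => by rw [← pow_two]; exact d.zl_sq v hv
      QcV := fun b hb hbv => by
        rw [← d.cent_zl]
        exact ⟨hb, mem_centralizer_iff.2 fun v hv => (hbv v hv).symm⟩
      VcQ := fun q hq v hv => by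
        rw [← d.cent_zl] at hq
        exact ((mem_centralizer_iff.1 hq.2) v hv).symm
      zZ := hzz
      z1 := hz1
      comm := by
        intro v hv b hb hvb
        obtain ⟨r, hr, w, hw, rfl⟩ := hdec v hv
        have hbn : b ∈ normalizer ((vl B L : Subgroup G) : Set G) :=
          le_normalizer_vl B L (d.le hb)
        have hwb : ¬ b * w * b⁻¹ = w := by
          intro h0
          apply hvb
          rw [Four.conj_eq_iff_comm] at h0
          calc r * w * b = r * (w * b) := by group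
            _ = r * (b * w) := by rw [h0]
            _ = (r * b) * w := by group
            _ = b * (r * w) := by rw [hrb r hr b hb]; group
        have hw1 : w ≠ 1 := by
          rintro rfl
          apply hwb; group
        have hwz : z ≠ w := by
          rintro h0
          apply hwb
          rw [← h0]; exact hfixz b hb
        have h5 : b * w * b⁻¹ = z * w := by
          rcases Four.fix_dichotomy d.card_vl hsq hzV hw hz1 hw1 hwz hbn (hfixz b hb) with h0 | h0
          · exact absurd h0 hwb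
          · exact h0
        have h6 : b * w⁻¹ * b⁻¹ = w⁻¹ * z⁻¹ := by
          calc b * w⁻¹ * b⁻¹ = (b * w * b⁻¹)⁻¹ := by group
            _ = w⁻¹ * z⁻¹ := by rw [h5]; group
        have hzi : z⁻¹ = z := by
          rw [inv_eq_iff_mul_eq_one, ← pow_two]; exact hsq z hzV
        calc r * w * b * (r * w)⁻¹ * b⁻¹ = r * w * b * w⁻¹ * r⁻¹ * b⁻¹ := by group
          _ = r * w * b * w⁻¹ * (b⁻¹ * r⁻¹) := by
            rw [mul_assoc (r * w * b * w⁻¹), hrb r⁻¹ (inv_mem hr) b⁻¹ (inv_mem hb)]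
          _ = r * w * (b * w⁻¹ * b⁻¹) * r⁻¹ := by group
          _ = r * w * (w⁻¹ * z⁻¹) * r⁻¹ := by rw [h6]
          _ = r * z * r⁻¹ := by rw [hzi]; group
          _ = z := by
            rw [Four.conj_eq_iff_comm]
            exact d.zl_comm r (rl_le_zl B L hr) z (vl_le_zl B L hzV)
      ncomm := by
        intro v hv hvZ b hb hbQ hvb
        obtain ⟨r, hr, w, hw, rfl⟩ := hdec v hv
        have hwb : b * w * b⁻¹ = w := by
          rw [Four.conj_eq_iff_comm]
          have h5 : r * (w * b) = r * (b * w) := by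
            calc r * (w * b) = r * w * b := by group
              _ = b * (r * w) := hvb
              _ = (b * r) * w := by group
              _ = (r * b) * w := by rw [hrb r hr b hb]
              _ = r * (b * w) := by group
          exact (mul_left_cancel h5).symm
        apply hbQ
        rw [← d.cent_vl]
        by_cases hw1 : w = 1
        · exfalso
          apply hvZ
          rw [hw1, mul_one, ← hzc]
          exact rl_le_zc B L hr
        by_cases hwz : z = w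
        · exfalso
          apply hvZ
          rw [← hwz]
          exact mul_mem (hzc ▸ rl_le_zc B L hr) hzz
        exact ⟨hb, Four.cent_of_two d.card_vl hsq hzV hw hz1 hw1 hwz (hfixz b hb) hwb⟩
      gen := by
        intro u hu huQ l hl hlz H huH hH
        obtain ⟨m, b₀, hb₀, rfl⟩ := hgen l hl
        refine hg1 u hu huQ m ?_ b₀ hb₀ H huH hH
        rintro ⟨r, rfl⟩
        apply hlz
        have h5 : ∀ r : ℕ, y ^ (3 * r) * z * (y ^ (3 * r))⁻¹ = z := by
          intro r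
          induction r with
          | zero => simp
          | succ r ih =>
            calc y ^ (3 * (r + 1)) * z * (y ^ (3 * (r + 1)))⁻¹
                = y ^ 3 * (y ^ (3 * r) * z * (y ^ (3 * r))⁻¹) * (y ^ 3)⁻¹ := by
                  rw [show 3 * (r + 1) = 3 + 3 * r by ring, pow_add]; group
              _ = z := by rw [ih, hv3 z hzV]
        calc y ^ (3 * r) * b₀ * z * (y ^ (3 * r) * b₀)⁻¹
            = y ^ (3 * r) * (b₀ * z * b₀⁻¹) * (y ^ (3 * r))⁻¹ := by group
          _ = z := by rw [hfixz b₀ hb₀, h5 r]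
      moves := ⟨y, hy, fun h0 => hz1 (hv z hzV h0)⟩
      zfix := by
        intro l hl hlz
        have h5 : l * z * l⁻¹ ∈ vl B L := Four.conj_mem (le_normalizer_vl B L hl) hzV
        refine eq_of_mem_cap d hzV hzzc hz1 h5 (hzc.symm ▸ hlz) ?_
        intro h0
        apply hz1
        calc z = l⁻¹ * (l * z * l⁻¹) * l := by group
          _ = 1 := by rw [h0]; group
      dihed := hg2
      side := by
        intro t ht l hl v hv
        obtain ⟨r, hr, w, hw, rfl⟩ := hdec v hv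
        have h5 : l * (t * (r * w) * t⁻¹) * l⁻¹ =
            (l * (t * r * t⁻¹) * l⁻¹) * (l * (t * w * t⁻¹) * l⁻¹) := by group
        rw [h5]
        refine mul_mem ((le_sup_left : zl B L ≤ _) ?_)
          ((le_sup_right : (zl B L).map (MulAut.conj t).toMonoidHom ≤ _) ?_)
        · refine hLV l hl _ ?_
          have h6 : t * r * t⁻¹ ∈ zj T :=
            Four.conj_mem (hAz (hTA ht)) (hzc ▸ rl_le_zc B L hr)
          exact (zc_le_zl (B := B) (L := L)) (hzc.symm ▸ h6)
        · obtain ⟨j, hj⟩ := h.perm t (hTX ht) i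
          have h6 : t * w * t⁻¹ ∈ V j := by
            rw [← hj]
            exact ⟨w, h1 ▸ hw, rfl⟩
          have h7 : l * (t * w * t⁻¹) * l⁻¹ ∈ V j := Four.conj_mem (nV h kb j hl) h6
          rw [← hj, ← h1] at h7
          exact Subgroup.map_mono (vl_le_zl B L) h7
      indep := by
        intro t ht htz v hv
        obtain ⟨r, hr, w, hw, rfl⟩ := hdec v hv
        have h5 : t * (r * w) * t⁻¹ = (t * r * t⁻¹) * (t * w * t⁻¹) := by group
        rw [h5]
        refine mul_mem ?_ ?_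
        · have h6 : t * r * t⁻¹ ∈ zj T :=
            Four.conj_mem (hAz (hTA ht)) (hzc ▸ rl_le_zc B L hr)
          exact (zc_le_zl (B := B) (L := L)) (hzc.symm ▸ h6)
        · obtain ⟨j, hj⟩ := h.perm t (hTX ht) i
          have h6 : t * w * t⁻¹ ∈ V j := by
            rw [← hj]
            exact ⟨w, h1 ▸ hw, rfl⟩
          have h7 : z ∈ V j := by
            rw [← hj]
            exact ⟨z, h.xV i, htz⟩
          have h8 := h.eq_of_mem (h.xV i) h7 hz1
          subst h8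
          rw [← h1] at h6
          exact vl_le_zl B L h6
      core := by
        intro R hRB hLR hAR
        exact hcore R hRB (Block.le_normalizer_of_forall hLR) (Block.le_normalizer_of_forall hAR) }

end Cfsg.Agent.MinSimple.PlaneData
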