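import Cfsg.Agent.MinSimple.CaseOne
import Cfsg.Agent.MinSimple.PlaneData
import Cfsg.Agent.MinSimple.DBlkExist

/-!
# Core theorem T, part C1: the block lemma and the end of the case of a unique maximal 2-local subgroup
-/

set_option autoImplicit false

namespace Cfsg.Agent.MinSimple.CaseOneEnd

open Subgroup Cfsg Cfsg.Agent.ZN
open Cfsg.Agent.MinSimple.PlanePair
open Cfsg.Agent.MinSimple.CaseOneCfg (GoodBlk)

universe u

variable {G : Type u} [Group G]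

/-- The two facts on the `T`-conjugates of a block. -/
theorem side_indep [Finite G] {X T M L : Subgroup G} {k : ℕ} (hs : Group.IsSolvable ↥X)
    (hc : centralizer (pCore 2 ↥X : Set ↥X) ≤ pCore 2 ↥X) (hT : IsPGroup 2 T) (hTX : T ≤ X)
    (hTs : ¬ 2 ∣ T.relIndex X) (hZ : X ⊓ centralizer (zc T : Set G) ≤ M)
    (d : IsDBlk (bau T) L k) (hLX : L ≤ X) (hM : ¬ L ≤ M) :
    (∀ t ∈ T, ∀ l ∈ L, ∀ v ∈ zl (bau T) L, l * (t * v * t⁻¹) * l⁻¹ ∈
      zl (bau T) L ⊔ (zl (bau T) L).map (MulAut.conj t).toMonoidHom) ∧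
    (∀ t ∈ T, ∀ z ∈ vl (bau T) L, z ∈ zc (bau T) → z ≠ 1 → t * z * t⁻¹ = z →
      ∀ v ∈ zl (bau T) L, t * v * t⁻¹ ∈ zl (bau T) L) := by
  have kb := PlaneData.blk_of_isDBlk d hLX hZ hM
  obtain ⟨n, V, h⟩ := PlaneData.exists_gff hs hc hT hTX hTs kb
  obtain ⟨i, h1, h2, h3, h4⟩ := exists_plane h kb
  set B := bau T with hB
  have hzc : zc B = zj T := zc_bau T
  have hLV : ∀ l ∈ L, ∀ v ∈ zl B L, l * v * l⁻¹ ∈ zl B L :=
    fun l hl v hv => Four.conj_mem (le_normalizer_zl B L hl) hv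
  -- decomposition
  have hdec : ∀ v ∈ zl B L, ∃ r ∈ rl B L, ∃ w ∈ vl B L, v = r * w := by
    intro v hv
    rw [← d.sup_eq] at hv
    exact (BlkFam.mem_sup_of_comm (fun r hr w hw => d.zl_comm r (rl_le_zl B L hr) w
      (vl_le_zl B L hw))).1 hv
  have hAz : T ≤ normalizer (zj T : Set G) := le_normalizer_zj T
  refine ⟨?_, ?_⟩
  · intro t ht l hl v hv
    obtain ⟨r, hr, w, hw, rfl⟩ := hdec v hv
    have h5 : l * (t * (r * w) * t⁻¹) * l⁻¹ =
        (l * (t * r * t⁻¹) * l⁻¹) * (l * (t * w * t⁻¹) * l⁻¹) := by group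
    rw [h5]
    refine mul_mem ((le_sup_left : zl B L ≤ _) ?_)
      ((le_sup_right : (zl B L).map (MulAut.conj t).toMonoidHom ≤ _) ?_)
    · refine hLV l hl _ ?_
      have h6 : t * r * t⁻¹ ∈ zj T :=
        Four.conj_mem (hAz ht) (hzc ▸ rl_le_zc B L hr)
      exact (zc_le_zl (B := B) (L := L)) (hzc.symm ▸ h6)
    · obtain ⟨j, hj⟩ := h.perm t (hTX ht) i
      have h6 : t * w * t⁻¹ ∈ V j := by
        rw [← hj]
        exact ⟨w, h1 ▸ hw, rfl⟩
      have h7 : l * (t * w * t⁻¹) * l⁻¹ ∈ V j := Four.conj_mem (nV h kb j hl) h6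
      rw [← hj, ← h1] at h7
      exact Subgroup.map_mono (vl_le_zl B L) h7
  · intro t ht z hzV hzz hz1 htz v hv
    obtain ⟨r, hr, w, hw, rfl⟩ := hdec v hv
    have h5 : t * (r * w) * t⁻¹ = (t * r * t⁻¹) * (t * w * t⁻¹) := by group
    rw [h5]
    refine mul_mem ?_ ?_
    · have h6 : t * r * t⁻¹ ∈ zj T :=
        Four.conj_mem (hAz ht) (hzc ▸ rl_le_zc B L hr)
      exact (zc_le_zl (B := B) (L := L)) (hzc.symm ▸ h6)
    · obtain ⟨j, hj⟩ := h.perm t (hTX ht) i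
      have h6 : t * w * t⁻¹ ∈ V j := by
        rw [← hj]
        exact ⟨w, h1 ▸ hw, rfl⟩
      have hzi : z ∈ V i := h1 ▸ hzV
      have h7 : z ∈ V j := by
        rw [← hj]
        exact ⟨z, hzi, htz⟩
      have h8 := h.eq_of_mem hzi h7 hz1
      subst h8
      rw [← h1] at h6
      exact vl_le_zl B L h6

/-- **The block lemma.** -/
theorem exists_goodBlk [Finite G] (X T M : Subgroup G) (hs : Group.IsSolvable ↥X)
    (hc : X ⊓ centralizer (o2 X : Set G) ≤ o2 X) (hT : IsPGroup 2 T) (hTX : T ≤ X)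
    (hTs : ¬ 2 ∣ T.relIndex X) (_ : T ≤ M) (hZ : X ⊓ centralizer (zc T : Set G) ≤ M)
    (hB : X ⊓ normalizer (bau T : Set G) ≤ M) (hX : ¬ X ≤ M) :
    ∃ (L : Subgroup G) (k : ℕ), GoodBlk M T L k := by
  obtain ⟨L, k, d, -, hLX, hLM⟩ := DBlkExist.exists_dblk hs hc hT hTX hTs hZ hB hX
  obtain ⟨h1, h2⟩ := side_indep hs ((Basic.char2_iff X).2 hc) hT hTX hTs hZ d hLX hLM
  exact ⟨L, k, ⟨d, hLM, h1, h2⟩⟩

/-- **C1**: the case of a unique maximal 2-local subgroup. -/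
theorem result [Finite G] (hc : IsCharacteristicTwoType G)
    (hL : ∀ N : Subgroup G, IsTwoLocal N → Group.IsSolvable N) (hO : pCore 2 G = ⊥)
    (hidx : ∀ N : Subgroup G, N.Normal → N.index ≠ 2)
    (hse : ∀ K : Subgroup G, ¬ IsStronglyEmbedded K) (S : Sylow 2 G) {M : Subgroup G}
    (hM : IsTwoLocal M) (hSM : (S : Subgroup G) ≤ M)
    (hall : ∀ X : Subgroup G, IsTwoLocal X → (S : Subgroup G) ≤ X → X ≤ M) : PRankLE 2 2 G :=
  CaseOne.result_of_block hc hL hO hidx hse S hM hSM hall exists_goodBlk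

end Cfsg.Agent.MinSimple.CaseOneEnd
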