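import Cfsg.Agent.MinSimple.Basic
import Cfsg.Agent.Transfer.TausskyTwoGroup

/-!
# Core theorem T, case (d), Step 8

`eq_of_quadratic`: `P` a solvable minimal parabolic over its Sylow 2-subgroup `S` with
`C_{Ω₁Z(S)}(P) = 1`, `V ≤ Z(O₂(P))` normal in `P`; if some `X ≤ S`, `X ≰ O₂(P)`, satisfies
`[O₂(P), X] ≤ V` then `O₂(P) = V`.
-/

set_option autoImplicit false

namespace Cfsg.Agent.MinSimple.CaseD8

open Subgroup Cfsg Cfsg.Agent.ZN Cfsg.Agent.MinSimple.MinParabolic Cfsg.Agent.MinSimple.VModule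

universe u

variable {G : Type u} [Group G]

/-- An element of order prime to the index of a normal subgroup lies in it. -/
theorem mem_of_coprime_index {H : Type*} [Group H] {N : Subgroup H} [N.Normal] {x : H} {n : ℕ}
    (hx : x ^ n = 1) (h : Nat.Coprime n N.index) : x ∈ N := by
  rw [← QuotientGroup.eq_one_iff]
  have h1 : (x : H ⧸ N) ^ n = 1 := by rw [← QuotientGroup.mk_pow, hx, QuotientGroup.mk_one]
  have h2 : (x : H ⧸ N) ^ N.index = 1 := by
    rw [← QuotientGroup.mk_pow, QuotientGroup.eq_one_iff]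
    exact N.pow_index_mem x
  have h3 : orderOf (x : H ⧸ N) = 1 := Nat.eq_one_of_dvd_coprimes h
    (orderOf_dvd_of_pow_eq_one h1) (orderOf_dvd_of_pow_eq_one h2)
  exact orderOf_eq_one_iff.1 h3

/-- A nontrivial subgroup of the 2-group `S` normalized by `S` contains a nontrivial element of
`Ω₁(Z(S))`. -/
theorem exists_mem_zc [Finite G] {S C : Subgroup G} (hS : IsPGroup 2 S) (hCS : C ≤ S)
    (hSC : S ≤ normalizer (C : Set G)) (hC : C ≠ ⊥) : ∃ c ∈ C, c ∈ zc S ∧ c ≠ 1 := by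
  have hf : Fact (Nat.Prime 2) := ⟨Nat.prime_two⟩
  have hn : (C.subgroupOf S).Normal := normal_subgroupOf_of_le_normalizer hSC
  obtain ⟨c, hc, hcc, hc1⟩ := Transfer.TausskyTwoGroup.exists_ne_one_mem_inf_center hS
    (C.subgroupOf S) (by
      intro h
      apply hC
      rw [subgroupOf_eq_bot] at h
      rw [eq_bot_iff]
      intro x hx
      exact h.le_bot ⟨hx, hCS hx⟩)
  obtain ⟨n, hn⟩ := hS c
  have hex : ∃ m : ℕ, c ^ 2 ^ m ≠ 1 ∧ c ^ 2 ^ (m + 1) = 1 := by
    classical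
    have h1 : ∃ k, c ^ 2 ^ k = 1 := ⟨n, hn⟩
    have h2 := Nat.find_spec h1
    have h3 : Nat.find h1 ≠ 0 := by
      intro h0
      rw [h0] at h2
      exact hc1 (by simpa using h2)
    obtain ⟨m, hm⟩ := Nat.exists_eq_succ_of_ne_zero h3
    refine ⟨m, Nat.find_min h1 (by omega), ?_⟩
    rw [hm] at h2
    exact h2
  obtain ⟨m, hm1, hm2⟩ := hex
  have hcc' : c ^ 2 ^ m ∈ center ↥S := pow_mem hcc _
  refine ⟨((c ^ 2 ^ m : ↥S) : G), ?_, ?_, ?_⟩
  · exact mem_subgroupOf.1 (pow_mem hc _)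
  · rw [mem_zc]
    refine ⟨(c ^ 2 ^ m).2, fun b hb => ?_, ?_⟩
    · exact congrArg Subtype.val (mem_center_iff.1 hcc' ⟨b, hb⟩)
    · have : (c ^ 2 ^ m) ^ 2 = 1 := by rw [← pow_mul, ← pow_succ]; exact hm2
      exact congrArg Subtype.val this
  · intro h
    exact hm1 (Subtype.ext h)

/-- **Step 8.** -/
theorem eq_of_quadratic [Finite G] {S P V X : Subgroup G} (hmin : IsMinPar S P)
    (hS : IsPGroup 2 S) (hSP : ¬ 2 ∣ S.relIndex P) (hsol : Group.IsSolvable P)
    (hCZ : zc S ⊓ centralizer (P : Set G) = ⊥) (hVP : P ≤ normalizer (V : Set G))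
    (hVo2 : V ≤ o2 P) (hVc : V ≤ centralizer (o2 P : Set G)) (hXS : X ≤ S) (hXne : ¬ X ≤ o2 P)
    (hQX : ∀ q ∈ o2 P, ∀ x ∈ X, x * q * x⁻¹ * q⁻¹ ∈ V) : o2 P = V := by
  have hf : Fact (Nat.Prime 2) := ⟨Nat.prime_two⟩
  set Q := o2 P with hQ
  have hQP : Q ≤ P := o2_le P
  have hPQ : P ≤ normalizer (Q : Set G) := le_normalizer_o2 P
  have hQS : Q ≤ S := o2_le_of_sylow hS hSP
  have cQ : ∀ g ∈ P, ∀ q ∈ Q, g * q * g⁻¹ ∈ Q := fun g hg q hq =>
    (mem_normalizer_iff.1 (hPQ hg) q).1 hq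
  have cV : ∀ g ∈ P, ∀ v ∈ V, g * v * g⁻¹ ∈ V := fun g hg v hv =>
    (mem_normalizer_iff.1 (hVP hg) v).1 hv
  have cQ' : ∀ g ∈ P, ∀ q ∈ Q, g⁻¹ * q * g ∈ Q := fun g hg q hq => by
    have := cQ g⁻¹ (P.inv_mem hg) q hq
    rwa [inv_inv] at this
  -- the kernel of the action on `Q / V`
  let N : Subgroup G :=
    { carrier := {n | n ∈ P ∧ ∀ q ∈ Q, n * q * n⁻¹ * q⁻¹ ∈ V}
      one_mem' := ⟨P.one_mem, fun q _ => by
        have : (1 : G) * q * 1⁻¹ * q⁻¹ = 1 := by group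
        rw [this]; exact one_mem _⟩
      mul_mem' := by
        rintro m n ⟨hm, hm'⟩ ⟨hn, hn'⟩
        refine ⟨P.mul_mem hm hn, fun q hq => ?_⟩
        have : m * n * q * (m * n)⁻¹ * q⁻¹ =
            (m * (n * q * n⁻¹) * m⁻¹ * (n * q * n⁻¹)⁻¹) * (n * q * n⁻¹ * q⁻¹) := by group
        rw [this]
        exact mul_mem (hm' _ (cQ n hn q hq)) (hn' q hq)
      inv_mem' := by
        rintro n ⟨hn, hn'⟩
        refine ⟨P.inv_mem hn, fun q hq => ?_⟩
        have : n⁻¹ * q * n⁻¹⁻¹ * q⁻¹ =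
            (n * (n⁻¹ * q * n) * n⁻¹ * (n⁻¹ * q * n)⁻¹)⁻¹ := by group
        rw [this]
        exact inv_mem (hn' _ (cQ' n hn q hq)) }
  have hNP : N ≤ P := fun n hn => hn.1
  have hPN : P ≤ normalizer (N : Set G) := by
    intro g hg
    apply mem_normalizer_of_map_le
    rintro _ ⟨n, hn, rfl⟩
    change g * n * g⁻¹ ∈ N
    refine ⟨P.mul_mem (P.mul_mem hg hn.1) (P.inv_mem hg), fun q hq => ?_⟩
    have : g * n * g⁻¹ * q * (g * n * g⁻¹)⁻¹ * q⁻¹ =
        g * (n * (g⁻¹ * q * g) * n⁻¹ * (g⁻¹ * q * g)⁻¹) * g⁻¹ := by group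
    rw [this]
    exact cV g hg _ (hn.2 _ (cQ' g hg q hq))
  have hXN : X ≤ N := fun x hx => ⟨hmin.le (hXS hx), fun q hq => hQX q hq x hx⟩
  have hNS : N ⊔ S = P := by
    rcases hmin.sup_eq_or_inf_le hS hSP hNP hPN with h | h
    · exact h
    · exact absurd ((le_inf hXS hXN).trans h) hXne
  -- the Sylow `r`-subgroup
  obtain ⟨r, hr, hr2, hR⟩ := hmin.exists_structure hS hSP hsol
  have hfr : Fact r.Prime := ⟨hr⟩
  obtain ⟨R⟩ : Nonempty (Sylow r P) := inferInstance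
  obtain ⟨hR1, hR2, -⟩ := hR R
  set R' : Subgroup G := (R : Subgroup P).map P.subtype with hR'
  have hR'P : R' ≤ P := map_subtype_le _
  have hR'p : IsPGroup r R' := R.2.map _
  have hR1' : P ≤ normalizer ((Q ⊔ R' : Subgroup G) : Set G) := hR1
  have hR2' : Q ⊔ R' ⊔ S = P := hR2
  -- `R' ≤ N`
  have hR'N : R' ≤ N := by
    intro x hx
    have hn : (N.subgroupOf P).Normal := normal_subgroupOf_of_le_normalizer hPN
    have hxP := hR'P hx
    obtain ⟨k, hk⟩ := hR'p ⟨x, hx⟩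
    have hk0 : x ^ r ^ k = 1 := congrArg Subtype.val hk
    have hk' : (⟨x, hxP⟩ : P) ^ r ^ k = 1 := Subtype.ext hk0
    have h1 : (⟨x, hxP⟩ : P) ∈ N.subgroupOf P := by
      refine mem_of_coprime_index hk' ?_
      have h2 : ∃ m, (N.subgroupOf P).index = 2 ^ m := by
        have h3 : N.subgroupOf P ⊔ S.subgroupOf P = ⊤ := by
          rw [← subgroupOf_sup hNP hmin.le, hNS, subgroupOf_self]
        have h4 : (N.subgroupOf P).relIndex (S.subgroupOf P) = (N.subgroupOf P).index := by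
          rw [← relIndex_sup_right, sup_comm, h3, relIndex_top_right]
        rw [← h4]
        have h5 : IsPGroup 2 (S.subgroupOf P) := hS.comap_of_injective _ P.subtype_injective
        obtain ⟨n, hn⟩ := IsPGroup.iff_card.1 h5
        have h6 : (N.subgroupOf P).relIndex (S.subgroupOf P) ∣ 2 ^ n := by
          rw [← hn]; exact relIndex_dvd_card _ _
        obtain ⟨m, _, hm⟩ := (Nat.dvd_prime_pow Nat.prime_two).1 h6
        exact ⟨m, hm⟩
      obtain ⟨m, hm⟩ := h2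
      rw [hm]
      exact ((Nat.coprime_primes hr Nat.prime_two).2 hr2).pow _ _
    exact mem_subgroupOf.1 h1
  -- coprime action
  have hVp : IsPGroup 2 V := (o2_isPGroup P).to_le hVo2
  have hVr : ¬ r ∣ Nat.card V := by
    obtain ⟨n, hn⟩ := IsPGroup.iff_card.1 hVp
    rw [hn]
    intro h
    exact hr2 ((Nat.prime_dvd_prime_iff_eq hr Nat.prime_two).1 (hr.dvd_of_dvd_pow h))
  have hfix : ∀ q ∈ Q, ∃ c ∈ Q ⊓ centralizer (R' : Set G), q⁻¹ * c ∈ V := by
    intro q hq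
    obtain ⟨c, hc, hqc⟩ := Lib.CoprimeCommutator.exists_fixed_in_coset r R' V hR'p
      (hR'P.trans hVP) hVr q (by
        intro a ha
        have h1 := (hR'N ha).2 q hq
        have h2 := cV q⁻¹ (P.inv_mem (hQP hq)) _ h1
        have h3 : q⁻¹ * (a * q * a⁻¹ * q⁻¹) * q⁻¹⁻¹ = q⁻¹ * (a * q * a⁻¹) := by group
        rwa [h3] at h2)
    refine ⟨c, ⟨?_, hc⟩, hqc⟩
    have h1 : c = q * (q⁻¹ * c) := by group
    rw [h1]
    exact Q.mul_mem hq (hVo2 hqc)
  set C := Q ⊓ centralizer (R' : Set G) with hC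
  -- `C` is normal in `P`
  have hPC : P ≤ normalizer (C : Set G) := by
    have hn : ((Q ⊔ R').subgroupOf P).Normal := normal_subgroupOf_of_le_normalizer hR1'
    have hfr := Lib.SylowNormalInf.normalizer_inf_sup_eq_top R ((Q ⊔ R').subgroupOf P)
    have hRle : (R : Subgroup P) ≤ (Q ⊔ R').subgroupOf P := by
      intro x hx
      rw [mem_subgroupOf]
      exact mem_sup_right ⟨x, hx, rfl⟩
    rw [inf_eq_left.mpr hRle] at hfr
    -- elements normalizing `R`
    have h1 : ∀ g : P, g ∈ normalizer ((R : Subgroup P) : Set P) →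
        (g : G) ∈ normalizer (C : Set G) := by
      intro g hg
      apply mem_normalizer_of_map_le
      rintro _ ⟨c, ⟨hcQ, hcR⟩, rfl⟩
      refine ⟨cQ g g.2 c hcQ, mem_centralizer_iff.2 ?_⟩
      rintro _ ⟨ρ, hρ, rfl⟩
      have h2 : g⁻¹ * ρ * g ∈ (R : Subgroup P) := by
        have := (mem_normalizer_iff.1 (inv_mem hg) ρ).1 hρ
        rwa [inv_inv] at this
      have h3 : ((g⁻¹ * ρ * g : P) : G) * c = c * ((g⁻¹ * ρ * g : P) : G) :=
        mem_centralizer_iff.1 hcR _ ⟨_, h2, rfl⟩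
      have h4 : ((g⁻¹ * ρ * g : P) : G) = (g : G)⁻¹ * (ρ : G) * (g : G) := rfl
      rw [h4] at h3
      change (ρ : G) * ((g : G) * c * (g : G)⁻¹) = ((g : G) * c * (g : G)⁻¹) * (ρ : G)
      calc (ρ : G) * ((g : G) * c * (g : G)⁻¹)
          = (g : G) * (((g : G)⁻¹ * (ρ : G) * (g : G)) * c) * (g : G)⁻¹ := by group
        _ = (g : G) * (c * ((g : G)⁻¹ * (ρ : G) * (g : G))) * (g : G)⁻¹ := by rw [h3]
        _ = _ := by group
    have h2 : Q ⊔ R' ≤ normalizer (C : Set G) := by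
      refine sup_le ?_ ?_
      · intro q hq
        obtain ⟨c, hc, hv⟩ := hfix q hq
        have h3 : q = c * (q⁻¹ * c)⁻¹ := by group
        rw [h3]
        refine mul_mem (le_normalizer hc) (inv_mem ?_)
        apply mem_normalizer_of_map_le
        rintro _ ⟨d, hd, rfl⟩
        change (q⁻¹ * c) * d * (q⁻¹ * c)⁻¹ ∈ C
        have h4 := mem_centralizer_iff.1 (hVc hv) d hd.1
        rw [← h4, mul_inv_cancel_right]
        exact hd
      · intro ρ hρ
        apply mem_normalizer_of_map_le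
        rintro _ ⟨d, hd, rfl⟩
        change ρ * d * ρ⁻¹ ∈ C
        have h4 := mem_centralizer_iff.1 hd.2 ρ hρ
        rw [h4, mul_inv_cancel_right]
        exact hd
    intro g hg
    have h3 : (⟨g, hg⟩ : P) ∈ normalizer ((R : Subgroup P) : Set P) ⊔ (Q ⊔ R').subgroupOf P := by
      rw [hfr]; exact mem_top _
    have h4 : normalizer ((R : Subgroup P) : Set P) ⊔ (Q ⊔ R').subgroupOf P ≤
        (normalizer (C : Set G)).comap P.subtype := by
      refine sup_le (fun x hx => h1 x hx) ?_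
      intro x hx
      exact h2 (mem_subgroupOf.1 hx)
    exact h4 h3
  -- `C = 1`
  have hCbot : C = ⊥ := by
    by_contra hne
    obtain ⟨c, hc, hcz, hc1⟩ := exists_mem_zc hS (inf_le_left.trans hQS) (hmin.le.trans hPC) hne
    apply hc1
    have h1 : c ∈ zc S ⊓ centralizer (P : Set G) := by
      refine ⟨hcz, ?_⟩
      have h2 : P ≤ centralizer ({c} : Set G) := by
        rw [← hR2']
        refine sup_le (sup_le ?_ ?_) ?_
        · intro q hq
          refine mem_centralizer_iff.2 fun y hy => ?_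
          rw [Set.mem_singleton_iff.1 hy]
          exact ((mem_zc.1 hcz).2.1 q (hQS hq)).symm
        · intro q hq
          refine mem_centralizer_iff.2 fun y hy => ?_
          rw [Set.mem_singleton_iff.1 hy]
          exact (mem_centralizer_iff.1 hc.2 q hq).symm
        · intro q hq
          refine mem_centralizer_iff.2 fun y hy => ?_
          rw [Set.mem_singleton_iff.1 hy]
          exact ((mem_zc.1 hcz).2.1 q hq).symm
      refine mem_centralizer_iff.2 fun p hp => ?_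
      exact (mem_centralizer_iff.1 (h2 hp) c rfl).symm
    rw [hCZ] at h1
    exact mem_bot.1 h1
  refine le_antisymm ?_ hVo2
  intro q hq
  obtain ⟨c, hc, hv⟩ := hfix q hq
  rw [hCbot, mem_bot] at hc
  rw [hc, mul_one] at hv
  have := V.inv_mem hv
  rwa [inv_inv] at this

end Cfsg.Agent.MinSimple.CaseD8
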