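import Cfsg.Agent.ZN.FFData
import Cfsg.Agent.ZN.MaxQ
import Cfsg.Agent.ZN.Facts
import Cfsg.Agent.ZN.Baumann
import Cfsg.Agent.MinSimple.PlaneAct
import Cfsg.Agent.Lib.PGroupCoprimeAction

/-!
# Failure of factorization: 3-elements inverted by transvections

`K` finite, `T` a Sylow 2-subgroup, `Baumann.FF0 T W V` (consequences of the structure theorem S0617).
For every `i` and every `t ∈ J(T)` acting nontrivially exactly on `V i` there is a 3-element
`y ∈ J(K)`, trivial on `V j`, `j ≠ i`, inverted by `t` and centralized by `C_{J(T)}(V i)` modulo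
`O₂(K)`, acting with order `3` on `V i` (`YData`).
-/

set_option autoImplicit false

namespace Cfsg.Agent.MinSimple.FFX

open Subgroup Cfsg
open Cfsg.Agent.ZN
open Cfsg.Agent.PLocal
open Cfsg.Agent.PLocal.ThompsonJ
open Cfsg.Agent.MinSimple.PlaneAct
open Cfsg.Agent.ZN.Baumann (FF0)

universe u

variable {K : Type u} [Group K] {T W : Subgroup K} {ι : Type} {V : ι → Subgroup K}

/-- `FF1` implies `Baumann.FF0` (`K` solvable). -/
theorem ff0_of_ff1 [Finite K] (hs : Group.IsSolvable K) [Finite ι] (h : FF1 T W V) :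
    FF0 T W V := by
  have hmax := MaxQ.exists_max h.two h.sylow h.Wn h.Wcomm h.Wsq h.cT h.card h.indep h.sup h.nrm
  have := h.Wn
  exact ⟨h.two, h.sylow, h.nonempty, h.Wn, h.Wcomm, h.Wsq, h.cQ, h.WQ, h.Wcent, h.cT, h.card,
    h.indep, h.sup, h.perm, h.nrm, h.d, h.t,
    MaxQ.comm_le hs h.two h.sylow h.Wcomm h.Wsq h.hO h.cT hmax, hmax⟩

/-! ### Basic facts -/

theorem Q_comm (h : FF0 T W V) {q w : K} (hq : q ∈ pCore 2 K) (hw : w ∈ W) : q * w = w * q :=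
  ((mem_centralizer_iff.1 (h.Wcent hq)) w hw).symm

/-- An element of `J(K)` centralizing all planes centralizes `W`. -/
theorem mem_centralizer_W (h : FF0 T W V) {g : K} (hg : g ∈ thompsonSubgroup 2 K)
    (hc : ∀ i, ∀ v ∈ V i, g * v * g⁻¹ = v) : g ∈ centralizer (W : Set K) :=
  h.mem_centralizer (FF0.J_le_centralizer hg) fun i => mem_centralizer_iff'.2 (hc i)

/-- 2-subgroups of `C(W)` lie in `O₂(K)`. -/
theorem le_pCore [Finite K] (h : FF0 T W V) {A : Subgroup K} (hA : IsPGroup 2 A)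
    (hAW : A ≤ centralizer (W : Set K)) : A ≤ pCore 2 K :=
  MaxQ.le_pCore h.two h.sylow h.Wn h.cT hA hAW

/-- Elements of `T` centralizing `W` lie in `O₂(K)`. -/
theorem mem_pCore (h : FF0 T W V) {g : K} (hg : g ∈ T) (hc : g ∈ centralizer (W : Set K)) :
    g ∈ pCore 2 K := by
  rw [← h.cT]
  exact ⟨hg, hc⟩

theorem conj_eq_iff {g v : K} : g * v * g⁻¹ = v ↔ g * v = v * g := by
  rw [mul_inv_eq_iff_eq_mul]

/-- The subgroup `{g ∈ J(K) | g centralizes V j, j ≠ i, and g ^ 3 centralizes V i}`. -/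
def rot (h : FF0 T W V) (i : ι) : Subgroup K where
  carrier := {g | g ∈ thompsonSubgroup 2 K ∧ (∀ j, j ≠ i → ∀ v ∈ V j, g * v * g⁻¹ = v) ∧
    ∀ v ∈ V i, g ^ 3 * v * (g ^ 3)⁻¹ = v}
  one_mem' := ⟨one_mem _, fun _ _ v _ => by group, fun v _ => by group⟩
  mul_mem' := by
    rintro a b ⟨ha, ha1, ha2⟩ ⟨hb, hb1, hb2⟩
    refine ⟨mul_mem ha hb, fun j hj v hv => ?_, cube_mul (h.card i) (h.nrm i) ha hb ha2 hb2⟩
    calc a * b * v * (a * b)⁻¹ = a * (b * v * b⁻¹) * a⁻¹ := by group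
      _ = v := by rw [hb1 j hj v hv, ha1 j hj v hv]
  inv_mem' := by
    rintro a ⟨ha, ha1, ha2⟩
    refine ⟨inv_mem ha, fun j hj v hv => ?_, fun v hv => ?_⟩
    · have := ha1 j hj v hv
      rw [conj_eq_iff] at this
      rw [inv_inv, mul_assoc, ← this]
      group
    · have := ha2 v hv
      rw [conj_eq_iff] at this
      rw [inv_pow, inv_inv, mul_assoc, ← this, ← mul_assoc, inv_mul_cancel, one_mul]

theorem mem_rot {h : FF0 T W V} {i : ι} {g : K} :
    g ∈ rot h i ↔ g ∈ thompsonSubgroup 2 K ∧ (∀ j, j ≠ i → ∀ v ∈ V j, g * v * g⁻¹ = v) ∧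
    ∀ v ∈ V i, g ^ 3 * v * (g ^ 3)⁻¹ = v := Iff.rfl

theorem conj_mem_V (h : FF0 T W V) (j : ι) {a v : K} (ha : a ∈ thompsonSubgroup 2 K)
    (hv : v ∈ V j) : a * v * a⁻¹ ∈ V j := (mem_normalizer_iff.1 (h.nrm j ha) v).1 hv

theorem inv_conj_mem_V (h : FF0 T W V) (j : ι) {a v : K} (ha : a ∈ thompsonSubgroup 2 K)
    (hv : v ∈ V j) : a⁻¹ * v * a ∈ V j := by
  have := conj_mem_V h j (inv_mem ha) hv
  rwa [inv_inv] at this

/-- `rot` is normalized by `J(K)`. -/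
theorem conj_mem_rot {h : FF0 T W V} {i : ι} {g a : K} (ha : a ∈ thompsonSubgroup 2 K)
    (hg : g ∈ rot h i) : a * g * a⁻¹ ∈ rot h i := by
  obtain ⟨h1, h2, h3⟩ := mem_rot.1 hg
  refine mem_rot.2 ⟨?_, fun j hj v hv => ?_, fun v hv => ?_⟩
  · exact mul_mem (mul_mem ha h1) (inv_mem ha)
  · have := h2 j hj _ (inv_conj_mem_V h j ha hv)
    calc a * g * a⁻¹ * v * (a * g * a⁻¹)⁻¹ = a * (g * (a⁻¹ * v * a) * g⁻¹) * a⁻¹ := by group
      _ = v := by rw [this]; group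
  · have := h3 _ (inv_conj_mem_V h i ha hv)
    rw [conj_pow]
    calc a * g ^ 3 * a⁻¹ * v * (a * g ^ 3 * a⁻¹)⁻¹ =
          a * (g ^ 3 * (a⁻¹ * v * a) * (g ^ 3)⁻¹) * a⁻¹ := by group
      _ = v := by rw [this]; group

/-- An element whose square lies in `O₂(K)` and whose cube acts trivially on `V i`, trivial on the
other planes, lies in `O₂(K)`. -/
theorem mem_pCore_of_sq [Finite K] (h : FF0 T W V) {i : ι} {g : K} (hg : g ∈ rot h i)
    (hsq : g ^ 2 ∈ pCore 2 K) : g ∈ pCore 2 K := by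
  obtain ⟨h1, h2, h3⟩ := mem_rot.1 hg
  have hc : g ∈ centralizer (W : Set K) := by
    refine mem_centralizer_W h h1 fun j v hv => ?_
    by_cases hj : j = i
    · subst hj
      have h4 := h3 v hv
      have h5 : g ^ 2 * v = v * g ^ 2 := Q_comm h hsq (h.V_le j hv)
      calc g * v * g⁻¹ = g * (g ^ 2 * v * (g ^ 2)⁻¹) * g⁻¹ := by
            rw [conj_eq_iff.2 h5]
        _ = g ^ 3 * v * (g ^ 3)⁻¹ := by rw [pow_succ' g 2, mul_inv_rev]; simp only [mul_assoc]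
        _ = v := h4
    · exact h2 j hj v hv
  have hle : zpowers g ≤ pCore 2 K := by
    refine le_pCore h ?_ (zpowers_le.2 hc)
    obtain ⟨k, hk⟩ := (Lib.Cores.pCore_isPGroup (G := K) 2) ⟨g ^ 2, hsq⟩
    have hk' : g ^ (2 ^ (k + 1)) = 1 := by
      rw [pow_succ', pow_mul]
      have := congrArg Subtype.val hk
      simpa using this
    rintro ⟨z, hz⟩
    obtain ⟨n, rfl⟩ := mem_zpowers_iff.1 hz
    refine ⟨k + 1, Subtype.ext ?_⟩
    change (g ^ n) ^ 2 ^ (k + 1) = 1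
    rw [← zpow_natCast, ← zpow_mul, mul_comm, zpow_mul, zpow_natCast, hk', one_zpow]
  exact hle (mem_zpowers g)

/-- The image of `rot` in `K / O₂(K)` has odd order. -/
theorem not_dvd_card [Finite K] (h : FF0 T W V) (i : ι) :
    ¬ 2 ∣ Nat.card ((rot h i).map (QuotientGroup.mk' (pCore 2 K))) := by
  have hp : Fact (Nat.Prime 2) := ⟨Nat.prime_two⟩
  intro hd
  obtain ⟨y, hy⟩ := exists_prime_orderOf_dvd_card' 2 hd
  obtain ⟨y, g, hg, rfl⟩ := y
  have hy' : orderOf ((QuotientGroup.mk' (pCore 2 K)) g) = 2 :=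
    (Subgroup.orderOf_coe _).trans hy
  have hsq : g ^ 2 ∈ pCore 2 K := by
    rw [← QuotientGroup.eq_one_iff, QuotientGroup.mk_pow]
    have := pow_orderOf_eq_one ((QuotientGroup.mk' (pCore 2 K)) g)
    rw [hy'] at this
    exact this
  have h5 : (QuotientGroup.mk' (pCore 2 K)) g = 1 :=
    (QuotientGroup.eq_one_iff g).2 (mem_pCore_of_sq h hg hsq)
  rw [h5, orderOf_one] at hy'
  omega

/-- `y` is a 3-element of `J(K)`, trivial on `V j`, `j ≠ i`, of order `3` on `V i`, inverted by `t`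
and centralized by `C_{J(T)}(V i)` modulo `O₂(K)`. -/
structure YData (T : Subgroup K) (V : ι → Subgroup K) (i : ι) (t y : K) : Prop where
  mem : y ∈ thompsonSubgroup 2 K
  pow : ∃ m : ℕ, y ^ 3 ^ m = 1
  fix : ∀ v ∈ V i, y * v * y⁻¹ = v → v = 1
  cube : ∀ v ∈ V i, y ^ 3 * v * (y ^ 3)⁻¹ = v
  triv : ∀ j, j ≠ i → ∀ v ∈ V j, y * v * y⁻¹ = v
  inv : t * y * t⁻¹ * y ∈ pCore 2 K
  cent : ∀ a ∈ jj T, a ∈ centralizer (V i : Set K) → a * y * a⁻¹ * y⁻¹ ∈ pCore 2 K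

theorem mk_eq_iff {Q : Subgroup K} [Q.Normal] {a b : K} :
    (QuotientGroup.mk' Q) a = (QuotientGroup.mk' Q) b ↔ a * b⁻¹ ∈ Q := by
  rw [← div_eq_one, ← map_div, QuotientGroup.mk'_apply, QuotientGroup.eq_one_iff, div_eq_mul_inv]

/-- Existence of `y`. -/
theorem exists_y [Finite K] (h : FF0 T W V) (i : ι) {t : K} (ht : t ∈ jj T)
    (htne : ∃ v ∈ V i, t * v * t⁻¹ ≠ v) (httriv : ∀ j, j ≠ i → ∀ v ∈ V j, t * v * t⁻¹ = v) :
    ∃ y, YData T V i t y := by
  have hp : Fact (Nat.Prime 2) := ⟨Nat.prime_two⟩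
  obtain ⟨d, hdJ, hdne, hd3, hdtriv⟩ := h.d i
  obtain ⟨π, hπ⟩ : ∃ π : K →* K ⧸ pCore 2 K, π = QuotientGroup.mk' (pCore 2 K) := ⟨_, rfl⟩
  have hπ1 : ∀ a b : K, π a = π b ↔ a * b⁻¹ ∈ pCore 2 K := fun a b => hπ ▸ mk_eq_iff
  have hπ2 : ∀ a : K, π a = 1 ↔ a ∈ pCore 2 K := fun a => by
    rw [← map_one π, hπ1, inv_one, mul_one]
  have htJ : t ∈ thompsonSubgroup 2 K := h.jj_le_J ht
  have h2T : IsPGroup 2 (jj T) := h.two.to_le (jj_le T)
  have ht2V : ∀ v ∈ V i, t ^ 2 * v * (t ^ 2)⁻¹ = v := sq_mem (h.card i) (h.jj_nrm i) h2T ht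
  have hsqV : ∀ v ∈ V i, v ^ 2 = 1 := h.V_sq i
  have ht2 : t ^ 2 ∈ pCore 2 K := by
    refine mem_pCore h (pow_mem (jj_le T ht) 2) (mem_centralizer_W h (pow_mem htJ 2) ?_)
    intro j v hv
    by_cases hj : j = i
    · subst hj; exact ht2V v hv
    · have h1 := httriv j hj v hv
      calc t ^ 2 * v * (t ^ 2)⁻¹ = t * (t * v * t⁻¹) * t⁻¹ := by
            rw [pow_two, mul_inv_rev]; simp only [mul_assoc]
        _ = v := by rw [h1, h1]
  have haa : π t * π t = 1 := by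
    rw [← map_mul, ← pow_two, hπ2]; exact ht2
  have hainv : (π t)⁻¹ = π t := by rw [inv_eq_iff_mul_eq_one]; exact haa
  have hdR : d ∈ rot h i := by
    refine mem_rot.2 ⟨hdJ, fun j hj v hv => ?_, hd3⟩
    rw [conj_eq_iff]; exact hdtriv j hj v hv
  -- coprime action
  obtain ⟨c, hc, hdc⟩ := Lib.PGroupCoprimeAction.exists_centralizer_mem_coset
    (A := (jj T ⊓ centralizer (V i : Set K)).map π) (H := (rot h i).map π)
    (N := (thompsonSubgroup 2 K ⊓ centralizer (W : Set K)).map π) (h := π d)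
    ((h2T.to_le inf_le_left).map π) (hπ ▸ not_dvd_card h i)
    (by
      rintro _ ⟨a, ha, rfl⟩ _ ⟨u, hu, rfl⟩
      exact ⟨a * u * a⁻¹, conj_mem_rot (h.jj_le_J ha.1) hu, by simp only [map_mul, map_inv]⟩)
    (by
      rintro _ ⟨a, ha, rfl⟩ _ ⟨u, hu, rfl⟩
      refine ⟨a * u * a⁻¹, ?_, by simp only [map_mul, map_inv]⟩
      have hn := h.Wn
      have haJ := h.jj_le_J ha.1
      have hcn : (centralizer (W : Set K)).Normal := inferInstance
      have hu1 : u ∈ thompsonSubgroup 2 K := hu.1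
      have hu2 : u ∈ centralizer (W : Set K) := hu.2
      exact mem_inf.2 ⟨mul_mem (mul_mem haJ hu1) (inv_mem haJ), hcn.conj_mem u hu2 a⟩)
    ⟨d, hdR, rfl⟩
    (by
      rintro _ ⟨a, ha, rfl⟩
      refine ⟨d⁻¹ * (a * d * a⁻¹), ?_, by simp only [map_mul, map_inv]⟩
      have haJ := h.jj_le_J ha.1
      have hmem : d⁻¹ * (a * d * a⁻¹) ∈ thompsonSubgroup 2 K :=
        mul_mem (inv_mem hdJ) (mul_mem (mul_mem haJ hdJ) (inv_mem haJ))
      refine ⟨hmem, mem_centralizer_W h hmem fun j v hv => ?_⟩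
      by_cases hj : j = i
      · subst hj
        have ha1 : ∀ w ∈ V j, a * w * a⁻¹ = w := mem_centralizer_iff'.1 ha.2
        have ha2 : a⁻¹ * v * a = v := by
          calc a⁻¹ * v * a = a⁻¹ * (a * v * a⁻¹) * a := by rw [ha1 v hv]
            _ = v := by group
        calc d⁻¹ * (a * d * a⁻¹) * v * (d⁻¹ * (a * d * a⁻¹))⁻¹ =
              d⁻¹ * (a * (d * (a⁻¹ * v * a) * d⁻¹) * a⁻¹) * d := by group
          _ = v := by rw [ha2, ha1 _ (conj_mem_V h j hdJ hv)]; group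
      · have hd1 : ∀ w ∈ V j, d * w * d⁻¹ = w := fun w hw => by
          rw [conj_eq_iff]; exact hdtriv j hj w hw
        have hd2 : d⁻¹ * v * d = v := by
          calc d⁻¹ * v * d = d⁻¹ * (d * v * d⁻¹) * d := by rw [hd1 v hv]
            _ = v := by group
        calc d⁻¹ * (a * d * a⁻¹) * v * (d⁻¹ * (a * d * a⁻¹))⁻¹ =
              d⁻¹ * (a * (d * (a⁻¹ * v * a) * d⁻¹) * a⁻¹) * d := by group
          _ = d⁻¹ * v * d := by rw [hd1 _ (inv_conj_mem_V h j haJ hv)]; group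
          _ = v := hd2)
  obtain ⟨⟨y, hy0, rfl⟩, hcen0⟩ := hc
  have hy : y ∈ rot h i := hy0
  have hcen : π y ∈ centralizer
    (((jj T ⊓ centralizer (V i : Set K)).map π : Subgroup (K ⧸ pCore 2 K)) : Set _) := hcen0
  -- `y` acts on `V i` as `d`
  have hyd : ∀ v ∈ V i, y * v * y⁻¹ = d * v * d⁻¹ := by
    obtain ⟨n, hn, hn'⟩ := hdc
    have h1 : n * (d⁻¹ * y)⁻¹ ∈ pCore 2 K := by
      rw [← hπ1, hn']; simp only [map_mul, map_inv]
    have h2 : d⁻¹ * y ∈ centralizer (W : Set K) := by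
      have h3 := h.Wcent h1
      have h4 := mul_mem (inv_mem h3) hn.2
      have h5 : (n * (d⁻¹ * y)⁻¹)⁻¹ * n = d⁻¹ * y := by group
      rwa [h5] at h4
    intro v hv
    have h3 : d⁻¹ * y * v * (d⁻¹ * y)⁻¹ = v :=
      (mem_centralizer_iff'.1 h2) v (h.V_le i hv)
    calc y * v * y⁻¹ = d * (d⁻¹ * y * v * (d⁻¹ * y)⁻¹) * d⁻¹ := by group
      _ = d * v * d⁻¹ := by rw [h3]
  have hyfix : ∀ v ∈ V i, y * v * y⁻¹ = v → v = 1 := fun v hv hfix =>
    eq_one_of_fixed (h.card i) hsqV (h.nrm i hdJ) hdne hd3 hv ((hyd v hv).symm.trans hfix)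
  have hyJ : y ∈ thompsonSubgroup 2 K := (mem_rot.1 hy).1
  -- the commutator with `t`
  obtain ⟨x, hx⟩ : ∃ x : K, x = y⁻¹ * (t * y * t⁻¹) := ⟨_, rfl⟩
  have hxR : x ∈ rot h i := hx ▸ mul_mem (inv_mem hy) (conj_mem_rot htJ hy)
  obtain ⟨hxJ, hx1, hx3⟩ := mem_rot.1 hxR
  have hxne : ∃ v ∈ V i, x * v * x⁻¹ ≠ v := by
    by_contra hcon
    push Not at hcon
    obtain ⟨e, he, he1, hte⟩ := exists_fixed hsqV (fun v hv w hw => h.Vcomm hv hw)
      (h.nrm i htJ) htne ht2V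
    have hte' : t⁻¹ * e * t = e := by
      calc t⁻¹ * e * t = t⁻¹ * (t * e * t⁻¹) * t := by rw [hte]
        _ = e := by group
    have hf : y * e * y⁻¹ ∈ V i := conj_mem_V h i hyJ he
    have h1 : t * (y * e * y⁻¹) * t⁻¹ = y * e * y⁻¹ := by
      have h2 := hcon e he
      rw [hx] at h2
      calc t * (y * e * y⁻¹) * t⁻¹ = t * (y * (t⁻¹ * e * t) * y⁻¹) * t⁻¹ := by rw [hte']
        _ = y * (y⁻¹ * (t * y * t⁻¹) * e * (y⁻¹ * (t * y * t⁻¹))⁻¹) * y⁻¹ := by group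
        _ = y * e * y⁻¹ := by rw [h2]
    have hf1 : y * e * y⁻¹ ≠ 1 := by
      intro h2
      apply he1
      calc e = y⁻¹ * (y * e * y⁻¹) * y := by group
        _ = 1 := by rw [h2]; group
    exact he1 (hyfix e he (fixed_unique (h.card i) hsqV htne hf he hf1 he1 h1 hte))
  have hxfix : ∀ v ∈ V i, x * v * x⁻¹ = v → v = 1 := fun v hv hfix =>
    eq_one_of_fixed (h.card i) hsqV (h.nrm i hxJ) hxne hx3 hv hfix
  have hπx : π x = (π y)⁻¹ * (π t * π y * (π t)⁻¹) := by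
    rw [hx]; simp only [map_mul, map_inv]
  have hinv : π t * π x * (π t)⁻¹ = (π x)⁻¹ := by
    rw [hπx, hainv]
    calc π t * ((π y)⁻¹ * (π t * π y * π t)) * π t =
          π t * (π y)⁻¹ * π t * π y * (π t * π t) := by group
      _ = π t * (π y)⁻¹ * π t * π y := by rw [haa, mul_one]
      _ = ((π y)⁻¹ * (π t * π y * (π t)⁻¹))⁻¹ := by
          rw [mul_inv_rev, mul_inv_rev, mul_inv_rev, inv_inv, inv_inv]
          nth_rewrite 2 [← hainv]
          group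
      _ = ((π y)⁻¹ * (π t * π y * π t))⁻¹ := by rw [hainv]
  have hcx : ∀ a ∈ jj T, a ∈ centralizer (V i : Set K) → π a * π x = π x * π a := by
    intro a ha hac
    have h1 : π a * π y = π y * π a := (mem_centralizer_iff.1 hcen) (π a) ⟨a, ⟨ha, hac⟩, rfl⟩
    have h2 : t⁻¹ * a * t ∈ centralizer (V i : Set K) := by
      rw [mem_centralizer_iff'] at hac ⊢
      intro v hv
      have h3 := hac _ (conj_mem_V h i htJ hv)
      calc t⁻¹ * a * t * v * (t⁻¹ * a * t)⁻¹ = t⁻¹ * (a * (t * v * t⁻¹) * a⁻¹) * t := by group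
        _ = v := by rw [h3]; group
    have h2' : t⁻¹ * a * t ∈ jj T := mul_mem (mul_mem (inv_mem ht) ha) ht
    have h4 : π (t⁻¹ * a * t) * π y = π y * π (t⁻¹ * a * t) :=
      (mem_centralizer_iff.1 hcen) _ ⟨t⁻¹ * a * t, mem_inf.2 ⟨h2', h2⟩, rfl⟩
    rw [map_mul, map_mul, map_inv] at h4
    have h5 : π a * (π t * π y * (π t)⁻¹) = (π t * π y * (π t)⁻¹) * π a := by
      calc π a * (π t * π y * (π t)⁻¹) = π t * ((π t)⁻¹ * π a * π t * π y) * (π t)⁻¹ := by group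
        _ = π t * (π y * ((π t)⁻¹ * π a * π t)) * (π t)⁻¹ := by rw [h4]
        _ = (π t * π y * (π t)⁻¹) * π a := by group
    have h6 : π a * (π y)⁻¹ = (π y)⁻¹ * π a := by
      calc π a * (π y)⁻¹ = (π y)⁻¹ * (π y * π a) * (π y)⁻¹ := by group
        _ = (π y)⁻¹ * π a := by rw [← h1]; group
    rw [hπx, ← mul_assoc, h6, mul_assoc, h5, ← mul_assoc]
  -- a 3-element
  obtain ⟨k, m, hm, hord⟩ := Nat.exists_eq_pow_mul_and_not_dvd (orderOf_pos x).ne' 3 (by norm_num)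
  have hym : x ^ m ∈ rot h i := pow_mem hxR m
  obtain ⟨hm1, hm2, hm3⟩ := mem_rot.1 hym
  refine ⟨x ^ m, hm1, ⟨k, ?_⟩, ?_, hm3, hm2, ?_, ?_⟩
  · rw [← pow_mul, mul_comm, ← hord, pow_orderOf_eq_one]
  · intro v hv hfix
    refine hxfix v hv ?_
    have h1 : x ^ m ∈ centralizer ({v} : Set K) := by
      rw [mem_centralizer_singleton_iff]
      exact (conj_eq_iff.1 hfix).symm ▸ rfl
    have h2 : x ^ 3 ∈ centralizer ({v} : Set K) := by
      rw [mem_centralizer_singleton_iff]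
      exact (conj_eq_iff.1 (hx3 v hv)).symm ▸ rfl
    have h3 : x ∈ centralizer ({v} : Set K) := by
      have h4 : m % 3 = 1 ∨ m % 3 = 2 := by omega
      have h5 : x ^ m = (x ^ 3) ^ (m / 3) * x ^ (m % 3) := by
        rw [← pow_mul, ← pow_add, Nat.div_add_mod]
      rcases h4 with h4 | h4
      · rw [h4, pow_one] at h5
        have : x = ((x ^ 3) ^ (m / 3))⁻¹ * x ^ m := by rw [h5]; group
        rw [this]
        exact mul_mem (inv_mem (pow_mem h2 _)) h1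
      · rw [h4] at h5
        have h6 : x ^ 2 ∈ centralizer ({v} : Set K) := by
          have : x ^ 2 = ((x ^ 3) ^ (m / 3))⁻¹ * x ^ m := by rw [h5]; group
          rw [this]
          exact mul_mem (inv_mem (pow_mem h2 _)) h1
        have : x = (x ^ 2)⁻¹ * x ^ 3 := by group
        rw [this]
        exact mul_mem (inv_mem h6) h2
    rw [mem_centralizer_singleton_iff] at h3
    rw [conj_eq_iff]
    exact h3.symm ▸ rfl
  · rw [← hπ2]
    have h1 : π t * (π x) ^ m * (π t)⁻¹ = ((π x) ^ m)⁻¹ := by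
      rw [← conj_pow, hinv, inv_pow]
    rw [map_mul, map_mul, map_mul, map_inv, map_pow, h1, inv_mul_cancel]
  · intro a ha hac
    rw [← hπ2]
    have h1 : π a * (π x) ^ m = (π x) ^ m * π a :=
      ((show Commute (π a) (π x) from hcx a ha hac).pow_right m).eq
    rw [map_mul, map_mul, map_mul, map_inv, map_inv, map_pow, h1]
    group

end Cfsg.Agent.MinSimple.FFX
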