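import Cfsg.Agent.MinSimple.DBlkReduce
import Cfsg.Agent.MinSimple.FFX

/-!
# Core theorem T, part C1: some block is not contained in `M`

* `exists_not_mem`: if the 3-elements `y i` (order 3 on `V i`, trivial on the other planes) all lie in
  `M ≥ C(W) N(J(T))` then `M = K`;
* `exists_ff1_rd`: the data of the structure theorem S0617 for the group `rd X T`.
-/

set_option autoImplicit false

namespace Cfsg.Agent.MinSimple.DBlkNot

open Subgroup Cfsg Cfsg.Agent.ZN
open Cfsg.Agent.PLocal.ThompsonJ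
open Cfsg.Agent.PLocal.FFCoprime (omegaJoin omegaJoin_def)

open Cfsg.Agent.MinSimple.DBlkReduce

universe u

section KLevel

variable {K : Type u} [Group K] {T W : Subgroup K} {ι : Type} {V : ι → Subgroup K}

theorem jj_le_thompson [Finite K] {T : Subgroup K} (hT : IsPGroup 2 T) (hTi : ¬ 2 ∣ T.index) :
    jj T ≤ thompsonSubgroup 2 K := by
  haveI : Fact (Nat.Prime 2) := ⟨Nat.prime_two⟩
  obtain ⟨S, hS⟩ := FFBasic.exists_sylow hT hTi
  obtain ⟨A, hA, hAS⟩ := exists_max_le_sylow S
  exact thompsonSubgroupOf_le hA (hS ▸ hAS)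

theorem not_dvd_relIndex_top {T : Subgroup K} (hTi : ¬ 2 ∣ T.index) :
    ¬ 2 ∣ T.relIndex (⊤ : Subgroup K) := by rwa [relIndex_top_right]

/-- If `C(W)`, `N(J(T))` and all `y i` lie in `M` then `J(K) ≤ M`. -/
theorem thompson_le [Finite K] [Finite ι] (h : Baumann.FF0 T W V) {M : Subgroup K}
    (hW : centralizer (W : Set K) ≤ M) (hJ : jj T ≤ M) (y : ι → K)
    (hy : ∀ i, y i ∈ thompsonSubgroup 2 K) (hfix : ∀ i, ∀ v ∈ V i, y i * v * (y i)⁻¹ = v → v = 1)
    (hcube : ∀ i, ∀ v ∈ V i, y i ^ 3 * v * (y i ^ 3)⁻¹ = v)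
    (htriv : ∀ i j, j ≠ i → ∀ v ∈ V j, y i * v * (y i)⁻¹ = v) (hyM : ∀ i, y i ∈ M) :
    thompsonSubgroup 2 K ≤ M := by
  classical
  have key : ∀ s : Finset ι, ∀ g ∈ thompsonSubgroup 2 K,
      (∀ j, j ∉ s → ∀ v ∈ V j, g * v * g⁻¹ = v) → g ∈ M := by
    intro s
    induction s using Finset.induction_on with
    | empty =>
      intro g hg hgv
      exact hW (FFX.mem_centralizer_W h hg fun i v hv => hgv i (Finset.notMem_empty i) v hv)
    | insert a s ha ih =>
      intro g hg hgv
      obtain ⟨t, ht, htne, htj⟩ := h.t a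
      have htJ := h.jj_le_J ht
      have hyne : ∃ v ∈ V a, y a * v * (y a)⁻¹ ≠ v := by
        obtain ⟨v, hv, hv1⟩ := htne
        refine ⟨v, hv, fun h0 => hv1 ?_⟩
        rw [hfix a v hv h0]; group
      have h2T : IsPGroup 2 (jj T) := h.two.to_le (jj_le T)
      have ht2 : ∀ v ∈ V a, t ^ 2 * v * (t ^ 2)⁻¹ = v :=
        PlaneAct.sq_mem (h.card a) (h.jj_nrm a) h2T ht
      obtain ⟨u, hu, huv⟩ := PlaneAct.exists_mul (h.card a) (h.nrm a) htJ (hy a) htne ht2 hyne
        (hcube a) hg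
      have huM : u ∈ M := by
        have h1 : closure ({t, y a} : Set K) ≤ M := by
          rw [closure_le]
          rintro x (rfl | rfl)
          · exact hJ ht
          · exact hyM a
        exact h1 hu
      have huJ : u ∈ thompsonSubgroup 2 K := by
        have h1 : closure ({t, y a} : Set K) ≤ thompsonSubgroup 2 K := by
          rw [closure_le]
          rintro x (rfl | rfl)
          · exact htJ
          · exact hy a
        exact h1 hu
      have huj : ∀ j, j ≠ a → ∀ v ∈ V j, u * v * u⁻¹ = v := by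
        intro j hj
        have h1 : closure ({t, y a} : Set K) ≤ centralizer (V j : Set K) := by
          rw [closure_le]
          rintro x (rfl | rfl)
          · exact PlaneAct.mem_centralizer_iff'.2 fun v hv => by
              rw [htj j hj v hv]; group
          · exact PlaneAct.mem_centralizer_iff'.2 (htriv a j hj)
        exact PlaneAct.mem_centralizer_iff'.1 (h1 hu)
      have h1 : u⁻¹ * g ∈ M := by
        refine ih (u⁻¹ * g) (mul_mem (inv_mem huJ) hg) fun j hj v hv => ?_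
        by_cases hja : j = a
        · subst hja
          calc u⁻¹ * g * v * (u⁻¹ * g)⁻¹ = u⁻¹ * (g * v * g⁻¹) * u := by group
            _ = u⁻¹ * (u * v * u⁻¹) * u := by rw [huv v hv]
            _ = v := by group
        · have h2 := hgv j (by simp [hja, hj]) v hv
          calc u⁻¹ * g * v * (u⁻¹ * g)⁻¹ = u⁻¹ * (g * v * g⁻¹) * u := by group
            _ = u⁻¹ * v * u := by rw [h2]
            _ = u⁻¹ * (u * v * u⁻¹) * u := by rw [huj j hja v hv]
            _ = v := by group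
      have h3 : g = u * (u⁻¹ * g) := by group
      rw [h3]
      exact mul_mem huM h1
  haveI := Fintype.ofFinite ι
  intro g hg
  exact key Finset.univ g hg fun j hj => absurd (Finset.mem_univ j) hj

/-- Some `y i` is not in `M`. -/
theorem exists_not_mem [Finite K] [Finite ι] (h : Baumann.FF0 T W V) {M : Subgroup K}
    (hW : centralizer (W : Set K) ≤ M) (hJ : normalizer (jj T : Set K) ≤ M) (hM : M ≠ ⊤)
    (y : ι → K) (hy : ∀ i, y i ∈ thompsonSubgroup 2 K)
    (hfix : ∀ i, ∀ v ∈ V i, y i * v * (y i)⁻¹ = v → v = 1)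
    (hcube : ∀ i, ∀ v ∈ V i, y i ^ 3 * v * (y i ^ 3)⁻¹ = v)
    (htriv : ∀ i j, j ≠ i → ∀ v ∈ V j, y i * v * (y i)⁻¹ = v) : ∃ i, y i ∉ M := by
  by_contra hcon
  push Not at hcon
  apply hM
  have h1 := thompson_le h hW (le_normalizer.trans hJ) y hy hfix hcube htriv hcon
  have hJn : (thompsonSubgroup 2 K).Normal := by
    haveI := thompsonSubgroup_characteristic 2 K
    infer_instance
  have h2 := Basic.frattini_jj (X := (⊤ : Subgroup K)) (L := thompsonSubgroup 2 K) (S := T)
    le_top h.two (not_dvd_relIndex_top h.sylow) (by rw [normalizer_eq_top_iff.2 hJn])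
    h.jj_le_J
  rw [eq_top_iff]
  exact h2.trans (sup_le h1 (inf_le_right.trans hJ))

/-- `⟨Ω₁(Z(T))^K⟩` is generated by the `Ω₁(Z(S))`, `S` a Sylow 2-subgroup. -/
theorem omegaJoin_eq [Finite K] {T : Subgroup K} (hT : IsPGroup 2 T) (hTi : ¬ 2 ∣ T.index) :
    omegaJoin 2 K = zl T ⊤ := by
  haveI : Fact (Nat.Prime 2) := ⟨Nat.prime_two⟩
  obtain ⟨S, hS⟩ := FFBasic.exists_sylow hT hTi
  have hch : (omegaJoin 2 K).Characteristic := PLocal.FFCoprime.omegaJoin_characteristic 2 K
  have hWn : (omegaJoin 2 K).Normal := inferInstance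
  apply le_antisymm
  · rw [omegaJoin_def]
    refine iSup_le fun P => ?_
    obtain ⟨g, hg⟩ := MulAction.exists_smul_eq K S P
    have h1 : (P : Subgroup K) = T.map (MulAut.conj g).toMonoidHom := by
      rw [← hg, ← hS, Sylow.coe_subgroup_smul]; rfl
    change zc (P : Subgroup K) ≤ _
    rw [h1, zc_map _ (MulAut.conj g).injective]
    exact le_iSup (fun g : (⊤ : Subgroup K) => (zc T).map (MulAut.conj (g : K)).toMonoidHom)
      ⟨g, mem_top g⟩
  · refine zl_le ?_ (by rw [normalizer_eq_top_iff.2 hWn])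
    rw [← hS]
    exact FFBasic.zc_le_omegaJoin S

end KLevel

section Ambient

variable {G : Type u} [Group G]

/-- The data of the structure theorem for the group `N ≤ G` with `O₂(N) = T ∩ C(W)`. -/
theorem exists_ff1 [Finite G] {N T : Subgroup G} (hs : Group.IsSolvable ↥N) (hT : IsPGroup 2 T)
    (hTN : T ≤ N) (hTs : ¬ 2 ∣ T.relIndex N) (hc : N ⊓ centralizer (o2 N : Set G) ≤ o2 N)
    (ho : o2 N = T ⊓ centralizer (zl T N : Set G)) (hJ : ¬ jj T ≤ centralizer (zl T N : Set G)) :
    ∃ (n : ℕ) (V : Fin n → Subgroup ↥N), FF1 (T.subgroupOf N) (omegaJoin 2 ↥N) V := by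
  have hinj : Function.Injective N.subtype := N.subtype_injective
  set T' : Subgroup ↥N := T.subgroupOf N with hT'
  have hTT : T'.map N.subtype = T := by
    rw [hT', subgroupOf_map_subtype, inf_eq_left.2 hTN]
  have hT2 : IsPGroup 2 T' := hT.of_equiv (subgroupOfEquivOfLe hTN).symm
  have hTi : ¬ 2 ∣ T'.index := hTs
  have hNN : (⊤ : Subgroup ↥N).map N.subtype = N := by
    rw [← MonoidHom.range_eq_map, Subgroup.range_subtype]
  have hzl : zl T N = (omegaJoin 2 ↥N).map N.subtype := by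
    rw [omegaJoin_eq hT2 hTi, ← zl_map N.subtype hinj, hTT, hNN]
  have hc' : centralizer (pCore 2 ↥N : Set ↥N) ≤ pCore 2 ↥N := (Basic.char2_iff N).2 hc
  have hcT : T' ⊓ centralizer (omegaJoin 2 ↥N : Set ↥N) = pCore 2 ↥N := by
    apply Subgroup.map_injective hinj
    rw [← centralizer_map_inf N.subtype hinj, hTT, ← hzl, ← ho]
    rfl
  refine FFData.exists_ff1 hs hc' T' hT2 hTi hcT fun hcon => hJ ?_
  rw [hzl, ← hTT, jj_map N.subtype hinj, le_centralizer_map_iff N.subtype hinj]
  exact (jj_le_thompson hT2 hTi).trans hcon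

/-- The data of the structure theorem for the group `rd X T`. -/
theorem exists_ff1_rd [Finite G] {X T M : Subgroup G} (hs : Group.IsSolvable ↥X)
    (hc : X ⊓ centralizer (o2 X : Set G) ≤ o2 X) (hT : IsPGroup 2 T) (hTX : T ≤ X)
    (hTs : ¬ 2 ∣ T.relIndex X) (hZ : X ⊓ centralizer (zc T : Set G) ≤ M)
    (hJ : X ⊓ normalizer (jj T : Set G) ≤ M) (hX : ¬ X ≤ M) :
    ∃ (n : ℕ) (V : Fin n → Subgroup ↥(rd X T)),
      FF1 (T.subgroupOf (rd X T)) (omegaJoin 2 ↥(rd X T)) V := by
  refine exists_ff1 ?_ hT (le_rd hTX) (not_dvd_rd hTX hTs) (char2_rd hT hTX hTs hc) ?_ ?_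
  · exact Group.isSolvable_of_isSolvable_injective (inclusion_injective (rd_le X T))
  · rw [o2_rd hT hTX hTs, zl_rd hT hTX hTs]
  · rw [zl_rd hT hTX hTs]
    exact not_jj_le hT hTX hTs hZ hJ hX

end Ambient

end Cfsg.Agent.MinSimple.DBlkNot
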