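import Mathlib

/-!
# Core theorem T, case (d), Step 9

`kill_conj`: in a solvable group `J` with normal subgroup `C`, an element `a` which is modulo `C` a
commutator of two conjugates of `a` lies in `C` (a form of helper60's killing lemma).

`Nine.false`: the last step of case (d).
-/

set_option autoImplicit false

namespace Cfsg.Agent.MinSimple.CaseD9

open Subgroup
open scoped commutatorElement

/-- The killing lemma modulo a normal subgroup. -/
theorem kill {J : Type*} [Group J] (hJ : Group.IsSolvable J) (C : Subgroup J) [C.Normal] (a : J)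
    (h : a ∈ ⁅normalClosure {a}, normalClosure {a}⁆ ⊔ C) : a ∈ C := by
  set N := normalClosure {a} with hN
  let φ := QuotientGroup.mk' C
  have hφ : Function.Surjective φ := QuotientGroup.mk'_surjective C
  have hC : C.map φ = ⊥ := by
    rw [Subgroup.map_eq_bot_iff, QuotientGroup.ker_mk']
  have hNn : (N.map φ).Normal := Subgroup.Normal.map inferInstance φ hφ
  have h1 : N.map φ ≤ ⁅N.map φ, N.map φ⁆ := by
    rw [← Subgroup.map_commutator, Subgroup.map_le_iff_le_comap]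
    have h2 : (((⁅N, N⁆ : Subgroup J).map φ).comap φ).Normal := by
      have h3 : ((⁅N, N⁆ : Subgroup J).map φ).Normal := Subgroup.Normal.map inferInstance φ hφ
      infer_instance
    refine normalClosure_le_normal ?_
    intro b hb
    rw [Set.mem_singleton_iff.1 hb]
    change φ a ∈ (⁅N, N⁆ : Subgroup J).map φ
    have h4 : φ a ∈ ((⁅N, N⁆ : Subgroup J) ⊔ C).map φ := ⟨a, h, rfl⟩
    rwa [Subgroup.map_sup, hC, sup_bot_eq] at h4
  have h2 : N.map φ = ⊥ := by
    by_contra hne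
    have _ : Group.IsSolvable (J ⧸ C) := Group.isSolvable_of_surjective hφ
    exact absurd h1 (not_le_of_gt (Group.IsSolvable.commutator_lt_of_ne_bot hne))
  have h3 : φ a ∈ N.map φ := ⟨a, subset_normalClosure rfl, rfl⟩
  rw [h2, mem_bot] at h3
  exact (QuotientGroup.eq_one_iff a).1 h3

/-- Elements `a` of a solvable subgroup `J` which are, modulo a `J`-invariant subgroup `C`, the
commutator of two `J`-conjugates of `a`, lie in `C`. -/
theorem kill_conj {G : Type*} [Group G] {J C : Subgroup G} (hJ : Group.IsSolvable J)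
    (hC : ∀ g ∈ J, ∀ c ∈ C, g * c * g⁻¹ ∈ C) {a g₁ g₂ : G} (ha : a ∈ J) (h₁ : g₁ ∈ J) (h₂ : g₂ ∈ J)
    (h : (g₁ * a * g₁⁻¹) * (g₂ * a * g₂⁻¹) * (g₁ * a * g₁⁻¹)⁻¹ * (g₂ * a * g₂⁻¹)⁻¹ * a⁻¹ ∈ C) :
    a ∈ C := by
  have hCn : (C.subgroupOf J).Normal := by
    refine ⟨fun c hc g => ?_⟩
    rw [mem_subgroupOf] at hc ⊢
    exact hC g g.2 c hc
  have key : (⟨a, ha⟩ : J) ∈ C.subgroupOf J := by
    apply kill hJ
    set A : J := ⟨a, ha⟩
    set G₁ : J := ⟨g₁, h₁⟩
    set G₂ : J := ⟨g₂, h₂⟩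
    have hm : ∀ g : J, g * A * g⁻¹ ∈ normalClosure {A} := fun g =>
      (inferInstance : (normalClosure {A}).Normal).conj_mem _ (subset_normalClosure rfl) g
    have e1 : ⁅G₁ * A * G₁⁻¹, G₂ * A * G₂⁻¹⁆ ∈ ⁅normalClosure {A}, normalClosure {A}⁆ :=
      commutator_mem_commutator (hm G₁) (hm G₂)
    have e2 : (⁅G₁ * A * G₁⁻¹, G₂ * A * G₂⁻¹⁆ * A⁻¹)⁻¹ ∈ C.subgroupOf J := by
      apply inv_mem
      rw [mem_subgroupOf]
      exact h
    have e3 : A = (⁅G₁ * A * G₁⁻¹, G₂ * A * G₂⁻¹⁆ * A⁻¹)⁻¹ *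
        ⁅G₁ * A * G₁⁻¹, G₂ * A * G₂⁻¹⁆ := by group
    have e4 := mul_mem (mem_sup_right e2) (mem_sup_left e1 :
      _ ∈ ⁅normalClosure {A}, normalClosure {A}⁆ ⊔ C.subgroupOf J)
    rwa [← e3] at e4
  exact mem_subgroupOf.1 key

variable {G : Type*} [Group G]

/-- **Step 9.** `z, w, a` (`a = z₁`) lie in the elementary abelian group `V`, `u = w ^ x`,
`[y, u] ∈ V`. -/
theorem false_nine' [Finite G]
    (hloc : ∀ U : Subgroup G, IsPGroup 2 U → U ≠ ⊥ → Group.IsSolvable ↥(normalizer (U : Set G)))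
    {V : Subgroup G} (Vcomm : ∀ v ∈ V, ∀ v' ∈ V, v * v' = v' * v)
    (Vsq : ∀ v ∈ V, v * v = 1) {x y z w a u : G} (hz : z ∈ V) (hw : w ∈ V) (ha : a ∈ V)
    (hyV : y ∈ normalizer (V : Set G)) (hxw : x * w * x⁻¹ = u) (hz1 : z ≠ 1)
    -- the action of `u` on `V`
    (hCu : ∀ v ∈ V, u * v = v * u → v = 1 ∨ v = z ∨ v = w ∨ v = z * w)
    (huz : u * z = z * u) (huw : u * w = w * u) (hua : u * a * u⁻¹ = a * z)
    -- the action of `x`
    (hxz : x * z * x⁻¹ = z) (hxu : x * u * x⁻¹ = w * u ∨ x * u * x⁻¹ = w * u * z)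
    -- the action of `y`
    (hyz : y * z * y⁻¹ = w) (hyw : y * w * y⁻¹ = z * w)
    (hyu : y * u * y⁻¹ * u⁻¹ ∈ V) : False := by
  have hzz := Vsq z hz
  have hww := Vsq w hw
  have haa := Vsq a ha
  have hzw := Vcomm z hz w hw
  have haz := Vcomm a ha z hz
  have haw := Vcomm a ha w hw
  have hzi : z⁻¹ = z := inv_eq_of_mul_eq_one_left hzz
  have hwi : w⁻¹ = w := inv_eq_of_mul_eq_one_left hww
  have hai : a⁻¹ = a := inv_eq_of_mul_eq_one_left haa
  have huu : u * u = 1 := by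
    rw [← hxw]
    calc x * w * x⁻¹ * (x * w * x⁻¹) = x * (w * w) * x⁻¹ := by group
      _ = 1 := by rw [hww]; group
  have hui : u⁻¹ = u := inv_eq_of_mul_eq_one_left huu
  -- `y u y⁻¹ = v₀ u` with `v₀ ∈ {1, z, w, z w}`
  obtain ⟨v₀, hv₀⟩ : ∃ v₀, v₀ = y * u * y⁻¹ * u⁻¹ := ⟨_, rfl⟩
  have hv₀V : v₀ ∈ V := hv₀ ▸ hyu
  have hyu' : y * u * y⁻¹ = v₀ * u := by rw [hv₀]; group
  have hv₀v₀ := Vsq v₀ hv₀V
  have hcu : u * v₀ = v₀ * u := by
    have h1 : (v₀ * u) * (v₀ * u) = 1 := by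
      rw [← hyu']
      calc y * u * y⁻¹ * (y * u * y⁻¹) = y * (u * u) * y⁻¹ := by group
        _ = 1 := by rw [huu]; group
    calc u * v₀ = v₀⁻¹ * ((v₀ * u) * (v₀ * u)) * u⁻¹ := by group
      _ = v₀⁻¹ * u⁻¹ := by rw [h1]; group
      _ = v₀ * u := by rw [hui, inv_eq_of_mul_eq_one_left hv₀v₀]
  have hv₀4 := hCu v₀ hv₀V hcu
  -- the group `E`
  let E : Subgroup G := closure {z, w, u}
  have hzE : z ∈ E := subset_closure (by simp)
  have hwE : w ∈ E := subset_closure (by simp)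
  have huE : u ∈ E := subset_closure (by simp)
  have hv₀E : v₀ ∈ E := by
    rcases hv₀4 with h | h | h | h
    · rw [h]; exact one_mem _
    · rw [h]; exact hzE
    · rw [h]; exact hwE
    · rw [h]; exact mul_mem hzE hwE
  have hEcomm : ∀ e ∈ ({z, w, u} : Set G), ∀ f ∈ ({z, w, u} : Set G), e * f = f * e := by
    intro e he f hf
    simp only [Set.mem_insert_iff, Set.mem_singleton_iff] at he hf
    rcases he with rfl | rfl | rfl <;> rcases hf with rfl | rfl | rfl <;>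
      first | rfl | exact hzw | exact hzw.symm | exact huz | exact huz.symm | exact huw |
        exact huw.symm
  have hEab : ∀ e ∈ E, ∀ f ∈ E, e * f = f * e := by
    have h1 : E ≤ centralizer ({z, w, u} : Set G) := by
      rw [closure_le]
      intro e he
      exact mem_centralizer_iff.2 fun f hf => hEcomm f hf e he
    have h2 : E ≤ centralizer (E : Set G) := by
      rw [closure_le]
      intro e he
      exact mem_centralizer_iff.2 fun f hf => ((mem_centralizer_iff.1 (h1 hf)) e he).symm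
    intro e he f hf
    exact mem_centralizer_iff.1 (h2 hf) e he
  have hEsq : ∀ e ∈ E, e * e = 1 := by
    intro e he
    refine closure_induction (p := fun e _ => e * e = 1) ?_ (one_mul 1) ?_ ?_ he
    · intro e he
      simp only [Set.mem_insert_iff, Set.mem_singleton_iff] at he
      rcases he with rfl | rfl | rfl
      · exact hzz
      · exact hww
      · exact huu
    · intro e f he' hf' he hf
      have h1 := hEab e he' f hf'
      calc e * f * (e * f) = e * (f * e) * f := by group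
        _ = e * (e * f) * f := by rw [h1]
        _ = (e * e) * (f * f) := by group
        _ = 1 := by rw [he, hf, one_mul]
    · intro e _ he
      calc e⁻¹ * e⁻¹ = (e * e)⁻¹ := by group
        _ = 1 := by rw [he, inv_one]
  have hEp : IsPGroup 2 E := by
    intro e
    refine ⟨1, Subtype.ext ?_⟩
    rw [pow_one, pow_two]
    exact hEsq e e.2
  have hEne : E ≠ ⊥ := by
    intro h
    apply hz1
    rw [h] at hzE
    exact mem_bot.1 hzE
  -- membership in the normalizer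
  have hnorm : ∀ g : G, g * z * g⁻¹ ∈ E → g * w * g⁻¹ ∈ E → g * u * g⁻¹ ∈ E →
      g ∈ normalizer (E : Set G) := by
    intro g h1 h2 h3
    have h4 : E.map (MulAut.conj g).toMonoidHom ≤ E := by
      rw [Subgroup.map_le_iff_le_comap, closure_le]
      intro e he
      simp only [Set.mem_insert_iff, Set.mem_singleton_iff] at he
      rcases he with rfl | rfl | rfl
      · exact h1
      · exact h2
      · exact h3
    have h5 : E.map (MulAut.conj g).toMonoidHom = E :=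
      eq_of_le_of_card_ge h4 (card_map_of_injective (MulAut.conj g).injective).ge
    exact mem_normalizer_iff_map_conj_eq.mpr h5
  have hyJ : y ∈ normalizer (E : Set G) := by
    apply hnorm
    · rw [hyz]; exact hwE
    · rw [hyw]; exact mul_mem hzE hwE
    · rw [hyu']; exact mul_mem hv₀E huE
  have hxJ : x ∈ normalizer (E : Set G) := by
    apply hnorm
    · rw [hxz]; exact hzE
    · rw [hxw]; exact huE
    · rcases hxu with h | h
      · rw [h]; exact mul_mem hwE huE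
      · rw [h]; exact mul_mem (mul_mem hwE huE) hzE
  have hau : a * u * a⁻¹ = z * u := by
    -- from `u a u⁻¹ = a z`
    have h1 : u * a = a * z * u := by rw [← hua]; group
    rw [hai]
    calc a * u * a = a * (u * a) := by group
      _ = a * (a * z * u) := by rw [h1]
      _ = (a * a) * (z * u) := by group
      _ = z * u := by rw [haa, one_mul]
  have haz' : a * z * a⁻¹ = z := by rw [haz]; group
  have haw' : a * w * a⁻¹ = w := by rw [haw]; group
  have haJ : a ∈ normalizer (E : Set G) := by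
    apply hnorm
    · rw [haz']; exact hzE
    · rw [haw']; exact hwE
    · rw [hau]; exact mul_mem hzE huE
  -- the centralizer of `E`
  have hCinv : ∀ g ∈ normalizer (E : Set G), ∀ c ∈ centralizer (E : Set G),
      g * c * g⁻¹ ∈ centralizer (E : Set G) := by
    intro g hg c hc
    refine mem_centralizer_iff.2 fun e he => ?_
    have h1 : g⁻¹ * e * g ∈ E := by
      have := (mem_normalizer_iff.1 (inv_mem hg) e).1 he
      rwa [inv_inv] at this
    have h2 := mem_centralizer_iff.1 hc _ h1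
    calc e * (g * c * g⁻¹) = g * ((g⁻¹ * e * g) * c) * g⁻¹ := by group
      _ = g * (c * (g⁻¹ * e * g)) * g⁻¹ := by rw [h2]
      _ = g * c * g⁻¹ * e := by group
  obtain ⟨a₁, ha₁⟩ : ∃ a₁, a₁ = y * a * y⁻¹ := ⟨_, rfl⟩
  obtain ⟨a₂, ha₂⟩ : ∃ a₂, a₂ = x * a * x⁻¹ := ⟨_, rfl⟩
  have ha₁V : a₁ ∈ V := by rw [ha₁]; exact (mem_normalizer_iff.1 hyV a).1 ha
  have ha₁z := Vcomm a₁ ha₁V z hz
  have ha₁w := Vcomm a₁ ha₁V w hw
  have ha₁v := Vcomm a₁ ha₁V v₀ hv₀V
  have hwv := Vcomm w hw v₀ hv₀V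
  -- `a₁ u a₁⁻¹ = w u`
  have ha₁u : a₁ * u = w * u * a₁ := by
    have h1 : a₁ * (y * u * y⁻¹) * a₁⁻¹ = (y * z * y⁻¹) * (y * u * y⁻¹) := by
      rw [ha₁]
      calc y * a * y⁻¹ * (y * u * y⁻¹) * (y * a * y⁻¹)⁻¹ = y * (a * u * a⁻¹) * y⁻¹ := by group
        _ = y * (z * u) * y⁻¹ := by rw [hau]
        _ = _ := by group
    rw [hyu', hyz] at h1
    have h2 : v₀ * (a₁ * u) = v₀ * (w * u * a₁) := by
      calc v₀ * (a₁ * u) = (a₁ * v₀) * u := by rw [ha₁v]; group
        _ = (a₁ * (v₀ * u) * a₁⁻¹) * a₁ := by group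
        _ = w * (v₀ * u) * a₁ := by rw [h1]
        _ = (w * v₀) * u * a₁ := by group
        _ = (v₀ * w) * u * a₁ := by rw [hwv]
        _ = v₀ * (w * u * a₁) := by group
    exact mul_left_cancel h2
  -- `a₂`
  have ha₂z : a₂ * z = z * a₂ := by
    rw [ha₂]
    calc x * a * x⁻¹ * z = x * a * x⁻¹ * (x * z * x⁻¹) := by rw [hxz]
      _ = x * (a * z) * x⁻¹ := by group
      _ = x * (z * a) * x⁻¹ := by rw [haz]
      _ = (x * z * x⁻¹) * (x * a * x⁻¹) := by group
      _ = z * (x * a * x⁻¹) := by rw [hxz]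
  have ha₂u : a₂ * u = u * a₂ := by
    rw [ha₂, ← hxw]
    calc x * a * x⁻¹ * (x * w * x⁻¹) = x * (a * w) * x⁻¹ := by group
      _ = x * (w * a) * x⁻¹ := by rw [haw]
      _ = _ := by group
  have ha₂w : a₂ * w = z * w * a₂ := by
    have h1 : a₂ * (x * u * x⁻¹) * a₂⁻¹ = z * (x * u * x⁻¹) := by
      rw [ha₂]
      calc x * a * x⁻¹ * (x * u * x⁻¹) * (x * a * x⁻¹)⁻¹ = x * (a * u * a⁻¹) * x⁻¹ := by group
        _ = x * (z * u) * x⁻¹ := by rw [hau]
        _ = (x * z * x⁻¹) * (x * u * x⁻¹) := by group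
        _ = z * (x * u * x⁻¹) := by rw [hxz]
    have h2 : a₂ * (w * u) * a₂⁻¹ = z * (w * u) := by
      rcases hxu with h | h
      · rw [h] at h1; exact h1
      · rw [h] at h1
        have h3 : a₂ * (w * u * z) * a₂⁻¹ = a₂ * (w * u) * a₂⁻¹ * z := by
          calc a₂ * (w * u * z) * a₂⁻¹ = a₂ * (w * u) * a₂⁻¹ * (a₂ * z) * a₂⁻¹ := by group
            _ = a₂ * (w * u) * a₂⁻¹ * (z * a₂) * a₂⁻¹ := by rw [ha₂z]
            _ = _ := by group
        rw [h3] at h1
        have h4 : a₂ * (w * u) * a₂⁻¹ * z = z * (w * u) * z := by rw [h1]; group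
        exact mul_right_cancel h4
    have h3 : a₂ * w * u = z * w * a₂ * u := by
      calc a₂ * w * u = (a₂ * (w * u) * a₂⁻¹) * a₂ := by group
        _ = z * (w * u) * a₂ := by rw [h2]
        _ = z * w * (u * a₂) := by group
        _ = z * w * (a₂ * u) := by rw [ha₂u]
        _ = z * w * a₂ * u := by group
    exact mul_right_cancel h3
  -- `a` acts on `E` as `[a₁, a₂]`
  have hcomm : a₁ * a₂ * a₁⁻¹ * a₂⁻¹ * a⁻¹ ∈ centralizer (E : Set G) := by
    -- conjugation facts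
    have c1z : a₁ * z * a₁⁻¹ = z := by rw [ha₁z]; group
    have c1w : a₁ * w * a₁⁻¹ = w := by rw [ha₁w]; group
    have c1u : a₁ * u * a₁⁻¹ = w * u := by rw [ha₁u]; group
    have c2z : a₂ * z * a₂⁻¹ = z := by rw [ha₂z]; group
    have c2w : a₂ * w * a₂⁻¹ = z * w := by rw [ha₂w]; group
    have c2u : a₂ * u * a₂⁻¹ = u := by rw [ha₂u]; group
    have i1z : a₁⁻¹ * z * a₁ = z := by rw [mul_assoc, ← ha₁z]; group
    have i1w : a₁⁻¹ * w * a₁ = w := by rw [mul_assoc, ← ha₁w]; group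
    have i1u : a₁⁻¹ * u * a₁ = w * u := by
      have h1 : u = a₁⁻¹ * (w * u) * a₁ := by rw [← c1u]; group
      have h2 : a₁⁻¹ * (w * u) * a₁ = w * (a₁⁻¹ * u * a₁) := by
        calc a₁⁻¹ * (w * u) * a₁ = (a₁⁻¹ * w * a₁) * (a₁⁻¹ * u * a₁) := by group
          _ = _ := by rw [i1w]
      rw [h2] at h1
      calc a₁⁻¹ * u * a₁ = w⁻¹ * (w * (a₁⁻¹ * u * a₁)) := by group
        _ = w⁻¹ * u := by rw [← h1]
        _ = w * u := by rw [hwi]
    have i2z : a₂⁻¹ * z * a₂ = z := by rw [mul_assoc, ← ha₂z]; group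
    have i2u : a₂⁻¹ * u * a₂ = u := by rw [mul_assoc, ← ha₂u]; group
    have i2w : a₂⁻¹ * w * a₂ = z * w := by
      have h1 : w = a₂⁻¹ * (z * w) * a₂ := by rw [← c2w]; group
      have h2 : a₂⁻¹ * (z * w) * a₂ = z * (a₂⁻¹ * w * a₂) := by
        calc a₂⁻¹ * (z * w) * a₂ = (a₂⁻¹ * z * a₂) * (a₂⁻¹ * w * a₂) := by group
          _ = _ := by rw [i2z]
      rw [h2] at h1
      calc a₂⁻¹ * w * a₂ = z⁻¹ * (z * (a₂⁻¹ * w * a₂)) := by group
        _ = z⁻¹ * w := by rw [← h1]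
        _ = z * w := by rw [hzi]
    obtain ⟨k, hk⟩ : ∃ k, k = a₁ * a₂ * a₁⁻¹ * a₂⁻¹ * a⁻¹ := ⟨_, rfl⟩
    have kz : k * z * k⁻¹ = z := by
      rw [hk]
      calc a₁ * a₂ * a₁⁻¹ * a₂⁻¹ * a⁻¹ * z * (a₁ * a₂ * a₁⁻¹ * a₂⁻¹ * a⁻¹)⁻¹
          = a₁ * (a₂ * (a₁⁻¹ * (a₂⁻¹ * (a⁻¹ * z * a) * a₂) * a₁) * a₂⁻¹) * a₁⁻¹ := by group
        _ = z := by
          have : a⁻¹ * z * a = z := by rw [mul_assoc, ← haz]; group
          rw [this, i2z, i1z, c2z, c1z]
    have kw : k * w * k⁻¹ = w := by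
      rw [hk]
      calc a₁ * a₂ * a₁⁻¹ * a₂⁻¹ * a⁻¹ * w * (a₁ * a₂ * a₁⁻¹ * a₂⁻¹ * a⁻¹)⁻¹
          = a₁ * (a₂ * (a₁⁻¹ * (a₂⁻¹ * (a⁻¹ * w * a) * a₂) * a₁) * a₂⁻¹) * a₁⁻¹ := by group
        _ = w := by
          have : a⁻¹ * w * a = w := by rw [mul_assoc, ← haw]; group
          rw [this, i2w]
          have e1 : a₁⁻¹ * (z * w) * a₁ = z * w := by
            calc a₁⁻¹ * (z * w) * a₁ = (a₁⁻¹ * z * a₁) * (a₁⁻¹ * w * a₁) := by group
              _ = _ := by rw [i1z, i1w]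
          rw [e1]
          have e2 : a₂ * (z * w) * a₂⁻¹ = w := by
            calc a₂ * (z * w) * a₂⁻¹ = (a₂ * z * a₂⁻¹) * (a₂ * w * a₂⁻¹) := by group
              _ = z * (z * w) := by rw [c2z, c2w]
              _ = (z * z) * w := by group
              _ = w := by rw [hzz, one_mul]
          rw [e2, c1w]
    have ku : k * u * k⁻¹ = u := by
      rw [hk]
      calc a₁ * a₂ * a₁⁻¹ * a₂⁻¹ * a⁻¹ * u * (a₁ * a₂ * a₁⁻¹ * a₂⁻¹ * a⁻¹)⁻¹
          = a₁ * (a₂ * (a₁⁻¹ * (a₂⁻¹ * (a⁻¹ * u * a) * a₂) * a₁) * a₂⁻¹) * a₁⁻¹ := by group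
        _ = u := by
          have e0 : a⁻¹ * u * a = z * u := by
            rw [hai]
            have := hau
            rwa [hai] at this
          rw [e0]
          have e1 : a₂⁻¹ * (z * u) * a₂ = z * u := by
            calc a₂⁻¹ * (z * u) * a₂ = (a₂⁻¹ * z * a₂) * (a₂⁻¹ * u * a₂) := by group
              _ = _ := by rw [i2z, i2u]
          rw [e1]
          have e2 : a₁⁻¹ * (z * u) * a₁ = z * (w * u) := by
            calc a₁⁻¹ * (z * u) * a₁ = (a₁⁻¹ * z * a₁) * (a₁⁻¹ * u * a₁) := by group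
              _ = _ := by rw [i1z, i1u]
          rw [e2]
          have e3 : a₂ * (z * (w * u)) * a₂⁻¹ = w * u := by
            calc a₂ * (z * (w * u)) * a₂⁻¹
                = (a₂ * z * a₂⁻¹) * ((a₂ * w * a₂⁻¹) * (a₂ * u * a₂⁻¹)) := by group
              _ = z * ((z * w) * u) := by rw [c2z, c2w, c2u]
              _ = (z * z) * (w * u) := by group
              _ = w * u := by rw [hzz, one_mul]
          rw [e3]
          calc a₁ * (w * u) * a₁⁻¹ = (a₁ * w * a₁⁻¹) * (a₁ * u * a₁⁻¹) := by group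
            _ = w * (w * u) := by rw [c1w, c1u]
            _ = (w * w) * u := by group
            _ = u := by rw [hww, one_mul]
    have hkc : ∀ e ∈ E, k * e * k⁻¹ = e := by
      intro e he
      refine closure_induction (p := fun e _ => k * e * k⁻¹ = e) ?_ (by group) ?_ ?_ he
      · intro e he
        simp only [Set.mem_insert_iff, Set.mem_singleton_iff] at he
        rcases he with rfl | rfl | rfl
        · exact kz
        · exact kw
        · exact ku
      · intro e f _ _ he hf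
        calc k * (e * f) * k⁻¹ = (k * e * k⁻¹) * (k * f * k⁻¹) := by group
          _ = e * f := by rw [he, hf]
      · intro e _ he
        calc k * e⁻¹ * k⁻¹ = (k * e * k⁻¹)⁻¹ := by group
          _ = e⁻¹ := by rw [he]
    rw [← hk]
    refine mem_centralizer_iff.2 fun e he => ?_
    calc e * k = (k * e * k⁻¹) * k := by rw [hkc e he]
      _ = k * e := by group
  have hfin := kill_conj (hloc E hEp hEne) hCinv haJ hyJ hxJ (by rw [← ha₁, ← ha₂]; exact hcomm)
  -- but `a` does not centralize `u`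
  have h1 := mem_centralizer_iff.1 hfin u huE
  have h2 : z * u = u := by
    rw [← hau, ← h1]; group
  exact hz1 (mul_eq_right.1 h2)

/-- **Step 9**, with `P ≤ N_G(V)`, `C_P(V) ≤ V`. -/
theorem false_nine [Finite G]
    (hloc : ∀ U : Subgroup G, IsPGroup 2 U → U ≠ ⊥ → Group.IsSolvable ↥(normalizer (U : Set G)))
    {P V : Subgroup G} (hVP : P ≤ normalizer (V : Set G))
    (hCV : P ⊓ centralizer (V : Set G) ≤ V) (Vcomm : ∀ v ∈ V, ∀ v' ∈ V, v * v' = v' * v)
    (Vsq : ∀ v ∈ V, v * v = 1) {x y z w a u : G} (hz : z ∈ V) (hw : w ∈ V) (ha : a ∈ V)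
    (hy : y ∈ P) (hu : u ∈ P) (hxw : x * w * x⁻¹ = u) (hz1 : z ≠ 1)
    -- the action of `u` on `V`
    (hCu : ∀ v ∈ V, u * v = v * u → v = 1 ∨ v = z ∨ v = w ∨ v = z * w)
    (huz : u * z = z * u) (huw : u * w = w * u) (hua : u * a * u⁻¹ = a * z)
    -- the action of `x`
    (hxz : x * z * x⁻¹ = z) (hxu : x * u * x⁻¹ = w * u ∨ x * u * x⁻¹ = w * u * z)
    -- the action of `y`
    (hyz : y * z * y⁻¹ = w) (hyw : y * w * y⁻¹ = z * w)
    (hyu : ∀ v ∈ V, (y * u * y⁻¹) * v * (y * u * y⁻¹)⁻¹ = u * v * u⁻¹) : False := by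
  refine false_nine' hloc Vcomm Vsq hz hw ha (hVP hy) hxw hz1 hCu huz huw hua hxz hxu hyz hyw ?_
  apply hCV
  refine ⟨P.mul_mem (P.mul_mem (P.mul_mem hy hu) (P.inv_mem hy)) (P.inv_mem hu), ?_⟩
  refine mem_centralizer_iff.2 fun v hv => ?_
  have h1 : u⁻¹ * v * u ∈ V := by
    have := (mem_normalizer_iff.1 (hVP (P.inv_mem hu)) v).1 hv
    rwa [inv_inv] at this
  have h2 := hyu _ h1
  have h3 : u * (u⁻¹ * v * u) * u⁻¹ = v := by group
  rw [h3] at h2
  have h4 : (y * u * y⁻¹ * u⁻¹) * v * (y * u * y⁻¹ * u⁻¹)⁻¹ = v := by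
    calc y * u * y⁻¹ * u⁻¹ * v * (y * u * y⁻¹ * u⁻¹)⁻¹
        = (y * u * y⁻¹) * (u⁻¹ * v * u) * (y * u * y⁻¹)⁻¹ := by group
      _ = v := h2
  calc v * (y * u * y⁻¹ * u⁻¹) =
      ((y * u * y⁻¹ * u⁻¹) * v * (y * u * y⁻¹ * u⁻¹)⁻¹) * (y * u * y⁻¹ * u⁻¹) := by rw [h4]
    _ = (y * u * y⁻¹ * u⁻¹) * v := by group

end Cfsg.Agent.MinSimple.CaseD9
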