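import Cfsg.Agent.MinSimple.DihedOf
import Cfsg.Agent.MinSimple.TriTrans

/-!
# Irreducible solvable groups do not contain a four-group of `Hom(R / V, V)` without transvections

`false_of_free`: `R` finite of exponent two, `X ≤ MulAut R` solvable and irreducible, `A ≤ X` of order at least three,
`V ≤ R`, `[R, A] ≤ V`, `[V, A] = 1`, and every `a ∈ A`, `a ≠ 1` fixes only the elements of `V`. This is impossible.
-/

set_option autoImplicit false

namespace Cfsg.Agent.MinSimple.TwoIrr

open Subgroup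

variable {R : Type*} [Group R]

theorem eq_bot_of_irred [Finite R] (hsq : ∀ x : R, x * x = 1) {X N : Subgroup (MulAut R)}
    (hirr : ∀ U : Subgroup R, (∀ j ∈ X, ∀ u ∈ U, j u ∈ U) → U = ⊥ ∨ U = ⊤) (_ : N ≤ X) (h2 : IsPGroup 2 N)
    (hn : X ≤ normalizer (N : Set (MulAut R))) : N = ⊥ := by
  have : Fact (Nat.Prime 2) := ⟨Nat.prime_two⟩
  by_contra hne
  obtain ⟨⟨b, hb⟩, hb1⟩ := (Subgroup.ne_bot_iff_exists_ne_one).1 hne
  have hb1' : b ≠ 1 := fun e => hb1 (Subtype.ext e)
  obtain ⟨x, hx⟩ : ∃ x : R, b x ≠ x := by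
    by_contra hcon
    push Not at hcon
    exact hb1' (MulEquiv.ext hcon)
  have hx1 : x ≠ 1 := by rintro rfl; exact hx (map_one b)
  let C : Subgroup R :=
    { carrier := {x | ∀ a ∈ N, a x = x}
      mul_mem' := fun {x y} hx hy a ha => by rw [map_mul, hx a ha, hy a ha]
      one_mem' := fun a _ => map_one a
      inv_mem' := fun {x} hx a ha => by rw [map_inv, hx a ha] }
  have hCinv : ∀ j ∈ X, ∀ u ∈ C, j u ∈ C := by
    intro j hj u hu a ha
    have h1 : j⁻¹ * a * j ∈ N := by
      have := (mem_normalizer_iff.1 (hn (inv_mem hj)) a).1 ha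
      rwa [inv_inv] at this
    have h2 := hu _ h1
    rw [MulAut.mul_apply, MulAut.mul_apply] at h2
    calc a (j u) = j (j⁻¹ (a (j u))) := (MulAut.apply_inv_self _ j _).symm
      _ = j u := by rw [h2]
  rcases hirr C hCinv with h | h
  · have h2' : 2 ∣ Nat.card R := by
      have h3 : orderOf x = 2 := orderOf_eq_prime (by rw [pow_two, hsq]) hx1
      rw [← h3]; exact orderOf_dvd_natCard x
    obtain ⟨y, hy, hy1⟩ := h2.exists_fixed_point_of_prime_dvd_card_of_fixed_point R h2'
      (a := (1 : R)) (fun a => smul_one a)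
    apply hy1
    have h3 : y ∈ C := fun a ha => hy ⟨a, ha⟩
    rw [h, mem_bot] at h3
    exact h3.symm
  · have h3 : x ∈ C := by rw [h]; exact mem_top x
    exact hx (h3 b hb)

theorem false_of_free [Finite R] (hsq : ∀ x : R, x * x = 1) {X A : Subgroup (MulAut R)} (hX : Group.IsSolvable X)
    (hirr : ∀ U : Subgroup R, (∀ j ∈ X, ∀ u ∈ U, j u ∈ U) → U = ⊥ ∨ U = ⊤) (hAX : A ≤ X)
    (hA : ∀ a ∈ A, a * a = 1) {V : Subgroup R} (hV : ∀ a ∈ A, ∀ v ∈ V, a v = v)
    (hRV : ∀ a ∈ A, ∀ x : R, x * a x ∈ V) (hfree : ∀ a ∈ A, a ≠ 1 → ∀ x : R, a x = x → x ∈ V)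
    (hcard : 2 < Nat.card A) : False := by
  have hfin : Finite (MulAut R) := Finite.of_injective (fun j : MulAut R => (j : R → R)) DFunLike.coe_injective
  have hcm := TriTrans.comm_of_sq hsq
  obtain ⟨n, b, y, hc, -, hbA, hyX, hyp, hy2, hinv, hcomm, -, -⟩ :=
    DihedOf.exists_dihedral_of_solvable hX (fun N h1 h2 h3 => eq_bot_of_irred hsq hirr h1 h2 h3) hAX hA
  have hn : 2 ≤ n := by
    by_contra hn
    have : 2 ^ n ≤ 2 ^ 1 := Nat.pow_le_pow_right (by norm_num) (by omega)
    omega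
  set i0 : Fin n := ⟨0, by omega⟩ with hi0
  set i1 : Fin n := ⟨1, by omega⟩ with hi1
  have h01 : i0 ≠ i1 := by
    intro e
    have := congrArg Fin.val e
    simp [hi0, hi1] at this
  set r := orderOf (y i1) with hr
  have hrp : r.Prime := hyp i1
  have hodd : r % 2 = 1 := hrp.eq_two_or_odd.resolve_left (hy2 i1)
  have hyr : (y i1) ^ r = 1 := pow_orderOf_eq_one _
  have hne : ∀ i, y i ≠ 1 := by
    intro i e
    have := hyp i
    rw [e, orderOf_one] at this
    exact Nat.not_prime_one this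
  have hb0 : b i0 ≠ 1 := by
    intro e
    have h1 := hinv i0
    rw [e] at h1
    have h2 : y i0 * y i0 = 1 := by
      have h3 : y i0 = (y i0)⁻¹ := by
        calc y i0 = 1 * y i0 * 1⁻¹ := by group
          _ = (y i0)⁻¹ := h1
      nth_rewrite 2 [h3]
      exact mul_inv_cancel _
    exact hy2 i0 (orderOf_eq_prime (by rw [pow_two]; exact h2) (hne i0))
  -- `y = y i1` commutes with `b i0` and is inverted by `b i1`
  have hsqf : ∀ x : R, y i1 (y i1 x) = x → y i1 x = x := by
    intro x hx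
    have h3 : ∀ i : ℕ, ((y i1) ^ (2 * i)) x = x := by
      intro i
      induction i with
      | zero => simp
      | succ i ih =>
        rw [show 2 * (i + 1) = 2 * i + 2 by ring, pow_add, MulAut.mul_apply, pow_two, MulAut.mul_apply, hx, ih]
    have h4 : ((y i1) ^ r) x = x := by rw [hyr, MulAut.one_apply]
    rw [show r = 1 + 2 * (r / 2) by omega, pow_add, pow_one, MulAut.mul_apply, h3] at h4
    exact h4
  have hcb : ∀ x : R, b i0 (y i1 x) = y i1 (b i0 x) := by
    intro x
    have := congrArg (fun f : MulAut R => f x) (hcomm i0 i1 h01)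
    exact this
  have hyV : ∀ v ∈ V, y i1 v ∈ V := by
    intro v hv
    refine hfree _ (hbA i0) hb0 _ ?_
    rw [hcb, hV _ (hbA i0) v hv]
  have hyfix : ∀ v ∈ V, y i1 v = v := by
    intro v hv
    apply hsqf
    have h1 : b i1 * y i1 = (y i1)⁻¹ * b i1 := by rw [← hinv i1]; group
    have h2 := congrArg (fun f : MulAut R => f v) h1
    have h3 : b i1 (y i1 v) = (y i1)⁻¹ (b i1 v) := h2
    rw [hV _ (hbA i1) _ (hyV v hv), hV _ (hbA i1) v hv] at h3
    rw [h3]
    exact MulAut.apply_inv_self _ _ _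
  apply hne i1
  ext x
  rw [MulAut.one_apply]
  apply hsqf
  -- `m = x * y x` is fixed by `b i0`
  have h1 := hyfix _ (hRV _ (hbA i0) x)
  rw [map_mul] at h1
  have h2 : b i0 (x * y i1 x) = x * y i1 x := by
    rw [map_mul, hcb]
    -- y x * y (b x) = x * b x
    have h3 : y i1 (b i0 x) = y i1 x * (x * b i0 x) := by
      rw [← h1, ← mul_assoc, hsq, one_mul]
    rw [h3]
    calc b i0 x * (y i1 x * (x * b i0 x)) = (b i0 x * y i1 x) * (x * b i0 x) := by group
      _ = (y i1 x * b i0 x) * (b i0 x * x) := by rw [hcm (b i0 x) (y i1 x), hcm x (b i0 x)]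
      _ = y i1 x * (b i0 x * b i0 x) * x := by group
      _ = y i1 x * x := by rw [hsq, mul_one]
      _ = x * y i1 x := hcm _ _
  have h4 := hyfix _ (hfree _ (hbA i0) hb0 _ h2)
  rw [map_mul] at h4
  -- y x * y y x = x * y x
  have h5 : y i1 x * y i1 (y i1 x) = y i1 x * x := by rw [h4, hcm]
  exact mul_left_cancel h5

end Cfsg.Agent.MinSimple.TwoIrr
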