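import Cfsg.Agent.MinSimple.BTwoLift
import Cfsg.Agent.MinSimple.TwoIrr

/-!
# (E1) with `|V| = 4`, `b = 2`: `|us V q : dd V| ≤ 2`

`Cfg`: the elementary abelian group `R = V ⟨g⟩ ⟨e⟩` of order 16 normalized by `xx V` and `c`; `Cfg.false`;
`BTwo.relIndex_le`: `|us V q : dd V| ≤ 2`.
-/

set_option autoImplicit false
set_option linter.dupNamespace false
set_option linter.unusedSectionVars false

namespace Cfsg.Agent.MinSimple.BTwoCfg

open Subgroup Cfsg Cfsg.Agent.ZN Cfsg.Agent.MinSimple.Geo Cfsg.Agent.MinSimple.BTwoA Cfsg.Agent.MinSimple.BTwoB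
open Cfsg.Agent.MinSimple.BTwoC Cfsg.Agent.MinSimple.BTwoK
open Cfsg.Agent.ZN.Block (conj_mem_of_normalizer conj_mem_of_normalizer' le_normalizer_of_forall
  mem_normalizer_of)

universe u

variable {G : Type u} [Group G]

theorem mem_sup_inv {V : Subgroup G} {e : G} (he : e * e = 1) (hc : ∀ v ∈ V, e * v = v * e) {x : G} :
    x ∈ V ⊔ zpowers e ↔ ∃ v ∈ V, x = v ∨ x = v * e := by
  constructor
  · intro hx
    let K : Subgroup G :=
      { carrier := {x | ∃ v ∈ V, x = v ∨ x = v * e}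
        mul_mem' := by
          rintro _ _ ⟨v, hv, rfl | rfl⟩ ⟨w, hw, rfl | rfl⟩
          · exact ⟨_, mul_mem hv hw, Or.inl rfl⟩
          · exact ⟨_, mul_mem hv hw, Or.inr (mul_assoc _ _ _).symm⟩
          · exact ⟨_, mul_mem hv hw, Or.inr (by rw [mul_assoc, hc _ hw, mul_assoc])⟩
          · refine ⟨_, mul_mem hv hw, Or.inl ?_⟩
            rw [mul_assoc, ← mul_assoc e, hc _ hw, mul_assoc, he, mul_one]
        one_mem' := ⟨1, one_mem _, Or.inl rfl⟩
        inv_mem' := by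
          have hei : e⁻¹ = e := inv_eq_of_mul_eq_one_left he
          rintro _ ⟨v, hv, rfl | rfl⟩
          · exact ⟨_, inv_mem hv, Or.inl rfl⟩
          · exact ⟨_, inv_mem hv, Or.inr (by rw [mul_inv_rev, hei, hc _ (inv_mem hv)])⟩ }
    have h1 : V ⊔ zpowers e ≤ K := by
      refine sup_le (fun v hv => ⟨v, hv, Or.inl rfl⟩) ?_
      rw [zpowers_le]
      exact ⟨1, one_mem _, Or.inr (one_mul _).symm⟩
    exact h1 hx
  · rintro ⟨v, hv, rfl | rfl⟩
    · exact mem_sup_left hv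
    · exact mul_mem (mem_sup_left hv) (mem_sup_right (mem_zpowers e))

variable [Finite G]

/-- The configuration leading to the subgroup `R = V ⟨g⟩ ⟨e⟩`. -/
structure Cfg (T V : Subgroup G) (z q c a w t g e : G) : Prop where
  base : BTwo T V z
  q_mem : q ∈ V
  q_ne : q ≠ 1
  q_ne_z : q ≠ z
  a_mem : a ∈ us V q
  w_mem : w ∈ ws V z
  w_not : w ∉ centralizer (V : Set G)
  t_mem : t ∈ ws V (z * q)
  t_z : t * z * t⁻¹ = q
  t_q : t * q * t⁻¹ = z
  g_mem : g ∈ us V z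
  g_not : g ∉ dd V
  e_mem : e ∈ us V q
  te : t * e * t⁻¹ = g
  tg : t * g * t⁻¹ = e
  gg : g * g = 1
  ge : g * e = e * g
  comm_e : ∀ x ∈ ws V z, x * e * x⁻¹ * e⁻¹ ∈ V ⊔ zpowers g
  ag : a * g * a⁻¹ * g⁻¹ = q ∨ a * g * a⁻¹ * g⁻¹ = z * q
  c_V : ∀ v ∈ V, c * v * c⁻¹ ∈ V ⊔ zpowers g
  c_g : c * g * c⁻¹ ∈ V ⊔ zpowers g
  c_e : c * e * c⁻¹ ∈ V ⊔ zpowers g ⊔ zpowers e
  c_gen : ∀ U : Subgroup G, V ≤ U → c ∈ normalizer (U : Set G) → g ∈ U

namespace Cfg

variable {T V : Subgroup G} {z q c a w t g e : G}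

/-- the group `R` -/
def R (_ : Cfg T V z q c a w t g e) : Subgroup G := V ⊔ zpowers g ⊔ zpowers e

variable (k : Cfg T V z q c a w t g e)
include k

theorem gV {v : G} (hv : v ∈ V) : g * v = v * g := comm_V k.g_mem.2 hv

theorem eV {v : G} (hv : v ∈ V) : e * v = v * e := comm_V k.e_mem.2 hv

theorem ee : e * e = 1 := by
  have h1 : e * e = t * (g * g) * t⁻¹ := by rw [← k.tg]; group
  rw [h1, k.gg]; group

theorem mem_F {x : G} : x ∈ V ⊔ zpowers g ↔ ∃ v ∈ V, x = v ∨ x = v * g :=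
  mem_sup_inv k.gg fun _ hv => k.gV hv

theorem eF {x : G} (hx : x ∈ V ⊔ zpowers g) : e * x = x * e := by
  obtain ⟨v, hv, rfl | rfl⟩ := k.mem_F.1 hx
  · exact k.eV hv
  · rw [← mul_assoc, k.eV hv, mul_assoc, ← k.ge, mul_assoc]

theorem mem_R {x : G} : x ∈ k.R ↔ ∃ v ∈ V, x = v ∨ x = v * g ∨ x = v * e ∨ x = v * g * e := by
  rw [R, mem_sup_inv k.ee fun _ hv => k.eF hv]
  constructor
  · rintro ⟨y, hy, rfl | rfl⟩
    · obtain ⟨v, hv, rfl | rfl⟩ := k.mem_F.1 hy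
      · exact ⟨_, hv, Or.inl rfl⟩
      · exact ⟨v, hv, Or.inr (Or.inl rfl)⟩
    · obtain ⟨v, hv, rfl | rfl⟩ := k.mem_F.1 hy
      · exact ⟨_, hv, Or.inr (Or.inr (Or.inl rfl))⟩
      · exact ⟨v, hv, Or.inr (Or.inr (Or.inr rfl))⟩
  · rintro ⟨v, hv, rfl | rfl | rfl | rfl⟩
    · exact ⟨_, k.mem_F.2 ⟨_, hv, Or.inl rfl⟩, Or.inl rfl⟩
    · exact ⟨v * g, k.mem_F.2 ⟨v, hv, Or.inr rfl⟩, Or.inl rfl⟩
    · exact ⟨v, k.mem_F.2 ⟨v, hv, Or.inl rfl⟩, Or.inr rfl⟩
    · exact ⟨v * g, k.mem_F.2 ⟨v, hv, Or.inr rfl⟩, Or.inr rfl⟩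

theorem F_le : V ⊔ zpowers g ≤ k.R := le_sup_left

theorem V_le : V ≤ k.R := le_sup_left.trans k.F_le

theorem g_memR : g ∈ k.R := k.F_le (mem_sup_right (mem_zpowers g))

theorem e_memR : e ∈ k.R := mem_sup_right (mem_zpowers e)

theorem sqR {x : G} (hx : x ∈ k.R) : x * x = 1 := by
  have h := k.base
  obtain ⟨v, hv, rfl | rfl | rfl | rfl⟩ := k.mem_R.1 hx
  · exact h.sq _ hv
  · calc v * g * (v * g) = v * (g * v) * g := by group
      _ = (v * v) * (g * g) := by rw [k.gV hv]; group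
      _ = 1 := by rw [h.sq v hv, k.gg, one_mul]
  · calc v * e * (v * e) = v * (e * v) * e := by group
      _ = (v * v) * (e * e) := by rw [k.eV hv]; group
      _ = 1 := by rw [h.sq v hv, k.ee, one_mul]
  · calc v * g * e * (v * g * e) = v * g * (e * v) * g * e := by group
      _ = v * (g * v) * (e * g) * e := by rw [k.eV hv]; group
      _ = (v * v) * (g * g) * (e * e) := by rw [k.gV hv, ← k.ge]; group
      _ = 1 := by rw [h.sq v hv, k.gg, k.ee, one_mul, one_mul]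

theorem commR {x y : G} (hx : x ∈ k.R) (hy : y ∈ k.R) : x * y = y * x := by
  have h1 := k.sqR (mul_mem hx hy)
  have h2 := k.sqR hx
  have h3 := k.sqR hy
  calc x * y = (y * y) * (x * y) * (x * x) := by rw [h3, h2]; simp
    _ = y * (y * x * (y * x)) * x := by group
    _ = y * x := by rw [k.sqR (mul_mem hy hx), mul_one]

/-- sufficient condition for conjugation to map `R` to `R` -/
theorem conj_memR {x : G} (hV : ∀ v ∈ V, x * v * x⁻¹ ∈ k.R) (hg : x * g * x⁻¹ ∈ k.R) (he : x * e * x⁻¹ ∈ k.R)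
    {r : G} (hr : r ∈ k.R) : x * r * x⁻¹ ∈ k.R := by
  have h1 : k.R ≤ k.R.comap (MulAut.conj x).toMonoidHom := by
    refine sup_le (sup_le hV ?_) ?_
    · rw [zpowers_le]; exact hg
    · rw [zpowers_le]; exact he
  exact h1 hr

theorem ws_le : ws V z ≤ normalizer ((k.R : Subgroup G) : Set G) := by
  have h := k.base
  refine le_normalizer_of_forall fun x hx r hr => ?_
  refine k.conj_memR (fun v hv => ?_) ?_ ?_ hr
  · exact k.V_le (conj_mem_of_normalizer (h.ws_le_normalizer) hx hv)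
  · have h1 := h.comm_mem hx (h.ws_le_o2 k.g_mem.1)
    have e1 : x * g * x⁻¹ = (x * g * x⁻¹ * g⁻¹) * g := by group
    rw [e1]
    exact mul_mem ((zpowers_le.2 (k.V_le h.z_mem)) h1) k.g_memR
  · have e1 : x * e * x⁻¹ = (x * e * x⁻¹ * e⁻¹) * e := by group
    rw [e1]
    exact mul_mem (k.F_le (k.comm_e x hx)) k.e_memR

theorem zq_mem : z * q ∈ V := mul_mem k.base.z_mem k.q_mem

theorem zq_ne : z * q ≠ 1 := fun e => k.q_ne_z (by
  rw [mul_eq_one_iff_eq_inv.mp e, k.base.inv_eq k.q_mem])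

theorem t_normV : t ∈ normalizer (V : Set G) := by
  obtain ⟨T', h'⟩ := k.base.point k.zq_mem k.zq_ne
  exact h'.ws_le_normalizer k.t_mem

theorem t_zq : t * (z * q) * t⁻¹ = z * q := by
  calc t * (z * q) * t⁻¹ = (t * z * t⁻¹) * (t * q * t⁻¹) := by group
    _ = q * z := by rw [k.t_z, k.t_q]
    _ = z * q := k.base.comm k.q_mem k.base.z_mem

theorem t_inv_z : t⁻¹ * z * t = q := by rw [← k.t_q]; group

theorem t_inv_q : t⁻¹ * q * t = z := by rw [← k.t_z]; group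

theorem t_inv_g : t⁻¹ * g * t = e := by rw [← k.te]; group

theorem t_inv_e : t⁻¹ * e * t = g := by rw [← k.tg]; group

theorem t_norm : t ∈ normalizer ((k.R : Subgroup G) : Set G) := by
  refine mem_normalizer_of (fun r hr => ?_) (fun r hr => ?_)
  · refine k.conj_memR (fun v hv => ?_) ?_ ?_ hr
    · exact k.V_le ((mem_normalizer_iff.1 k.t_normV v).1 hv)
    · rw [k.tg]; exact k.e_memR
    · rw [k.te]; exact k.g_memR
  · have h1 : t⁻¹ * r * t⁻¹⁻¹ ∈ k.R := by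
      refine k.conj_memR (fun v hv => ?_) ?_ ?_ hr
      · exact k.V_le ((mem_normalizer_iff.1 (inv_mem k.t_normV) v).1 hv)
      · rw [inv_inv, k.t_inv_g]; exact k.e_memR
      · rw [inv_inv, k.t_inv_e]; exact k.g_memR
    rwa [inv_inv] at h1

theorem xx_le : xx V ≤ normalizer ((k.R : Subgroup G) : Set G) := by
  have h := k.base
  have hwsq : ws V q ≤ normalizer ((k.R : Subgroup G) : Set G) := by
    intro x hx
    have h1 : t⁻¹ * x * t ∈ ws V z := by
      have h2 := conj_mem_ws (g := t⁻¹) hx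
      rw [inv_inv, k.t_inv_q] at h2
      exact h2
    have h2 := mul_mem (mul_mem k.t_norm (k.ws_le h1)) (inv_mem k.t_norm)
    have e1 : t * (t⁻¹ * x * t) * t⁻¹ = x := by group
    rwa [e1] at h2
  refine iSup_le fun p => ?_
  rcases h.four h.z_mem k.q_mem h.z_ne k.q_ne (Ne.symm k.q_ne_z) p.2.1 with e1 | e1 | e1 | e1
  · exact absurd e1 p.2.2
  · rw [e1]; exact k.ws_le
  · rw [e1]; exact hwsq
  · rw [e1]
    intro x hx
    have h0 := h.w_move k.w_mem k.w_not k.q_mem k.q_ne k.q_ne_z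
    have h1 : w⁻¹ * x * w ∈ ws V q := by
      have h2 := conj_mem_ws (g := w⁻¹) hx
      rw [inv_inv] at h2
      have e2 : w⁻¹ * (z * q) * w = q := by rw [← h0]; group
      rwa [e2] at h2
    have h2 := mul_mem (mul_mem (k.ws_le k.w_mem) (hwsq h1)) (inv_mem (k.ws_le k.w_mem))
    have e3 : w * (w⁻¹ * x * w) * w⁻¹ = x := by group
    rwa [e3] at h2

theorem c_norm : c ∈ normalizer ((k.R : Subgroup G) : Set G) := by
  have h1 : ∀ r ∈ k.R, c * r * c⁻¹ ∈ k.R := fun r hr =>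
    k.conj_memR (fun v hv => k.F_le (k.c_V v hv)) (k.F_le k.c_g) k.c_e hr
  have h2 : cj c k.R ≤ k.R := by
    rintro _ ⟨r, hr, rfl⟩
    exact h1 r hr
  rw [mem_normalizer_iff_cj]
  exact Subgroup.eq_of_le_of_card_ge h2 (card_cj c k.R).ge

/-- elements of `dd V` in `F` are in `V` -/
theorem mem_V_of_dd {x : G} (hx : x ∈ V ⊔ zpowers g) (hd : x ∈ dd V) : x ∈ V := by
  obtain ⟨v, hv, rfl | rfl⟩ := k.mem_F.1 hx
  · exact hv
  · exfalso
    apply k.g_not
    have := mul_mem (inv_mem (k.base.V_le_dd hv)) hd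
    rwa [inv_mul_cancel_left] at this

/-- `[R, us V z] ≤ V` -/
theorem quad_z {u x : G} (hu : u ∈ us V z) (hx : x ∈ k.R) : u * x * u⁻¹ * x⁻¹ ∈ V := by
  have h := k.base
  have hVc : ∀ v ∈ V, ∀ y ∈ k.R, v * y = y * v := fun v hv y hy => k.commR (k.V_le hv) hy
  let K : Subgroup G :=
    { carrier := {x | x ∈ k.R ∧ u * x * u⁻¹ * x⁻¹ ∈ V}
      mul_mem' := by
        rintro x y ⟨hx, hx'⟩ ⟨hy, hy'⟩
        refine ⟨mul_mem hx hy, ?_⟩
        have e1 : u * (x * y) * u⁻¹ * (x * y)⁻¹ =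
            (u * x * u⁻¹ * x⁻¹) * (x * (u * y * u⁻¹ * y⁻¹) * x⁻¹) := by group
        have e2 : x * (u * y * u⁻¹ * y⁻¹) * x⁻¹ = u * y * u⁻¹ * y⁻¹ := by
          rw [← hVc _ hy' x hx]; group
        rw [e1, e2]; exact mul_mem hx' hy'
      one_mem' := ⟨one_mem _, by simp⟩
      inv_mem' := by
        rintro x ⟨hx, hx'⟩
        refine ⟨inv_mem hx, ?_⟩
        have e1 : u * x⁻¹ * u⁻¹ * x⁻¹⁻¹ = x⁻¹ * (x * (u * x⁻¹ * u⁻¹)) * x := by group
        have e2 : x * (u * x⁻¹ * u⁻¹) = (u * x * u⁻¹ * x⁻¹)⁻¹ := by group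
        rw [e1, e2]
        have e3 : x⁻¹ * (u * x * u⁻¹ * x⁻¹)⁻¹ * x = (u * x * u⁻¹ * x⁻¹)⁻¹ := by
          rw [mul_assoc, hVc _ (inv_mem hx') x hx, inv_mul_cancel_left]
        rw [e3]; exact inv_mem hx' }
  have hle : k.R ≤ K := by
    refine sup_le (sup_le (fun v hv => ⟨k.V_le hv, ?_⟩) ?_) ?_
    · rw [comm_V hu.2 hv]
      have : v * u * u⁻¹ * v⁻¹ = 1 := by group
      rw [this]; exact one_mem _
    · rw [zpowers_le]
      refine ⟨k.g_memR, ?_⟩
      exact (zpowers_le.2 h.z_mem) (h.comm_mem hu.1 (h.ws_le_o2 k.g_mem.1))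
    · rw [zpowers_le]
      refine ⟨k.e_memR, ?_⟩
      exact k.mem_V_of_dd (k.comm_e u hu.1) (h.comm_us k.q_mem k.q_ne k.q_ne_z hu k.e_mem)
  exact (hle hx).2

theorem t_us {u : G} (hu : u ∈ us V q) : t⁻¹ * u * t ∈ us V z := by
  have h2 := conj_mem_us (inv_mem k.t_normV) hu
  rw [inv_inv, k.t_inv_q] at h2
  exact h2

theorem t_us' {u : G} (hu : u ∈ us V q) : t * u * t⁻¹ ∈ us V z := by
  have h2 := conj_mem_us k.t_normV hu
  rwa [k.t_q] at h2

/-- `[R, us V q] ≤ V` -/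
theorem quad_q {u x : G} (hu : u ∈ us V q) (hx : x ∈ k.R) : u * x * u⁻¹ * x⁻¹ ∈ V := by
  have h1 : t⁻¹ * x * t ∈ k.R := by
    have := (mem_normalizer_iff.1 (inv_mem k.t_norm) x).1 hx
    rwa [inv_inv] at this
  have h2 := k.quad_z (k.t_us hu) h1
  have h3 := (mem_normalizer_iff.1 k.t_normV _).1 h2
  have e1 : t * (t⁻¹ * u * t * (t⁻¹ * x * t) * (t⁻¹ * u * t)⁻¹ * (t⁻¹ * x * t)⁻¹) * t⁻¹ = u * x * u⁻¹ * x⁻¹ := by
    group
  rwa [e1] at h3

theorem rr_centralizer {u v : G} (hu : u ∈ rr V) (hv : v ∈ V) : u * v = v * u :=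
  comm_V (rr_le_centralizer V hu) hv

/-- `[R, rr V] ≤ V` -/
theorem quad {u x : G} (hu : u ∈ rr V) (hx : x ∈ k.R) : u * x * u⁻¹ * x⁻¹ ∈ V := by
  let K : Subgroup G :=
    { carrier := {u | u ∈ rr V ∧ ∀ x ∈ k.R, u * x * u⁻¹ * x⁻¹ ∈ V}
      mul_mem' := by
        rintro u v ⟨hu, hu'⟩ ⟨hv, hv'⟩
        refine ⟨mul_mem hu hv, fun x hx => ?_⟩
        have e1 : u * v * x * (u * v)⁻¹ * x⁻¹ =
            (u * (v * x * v⁻¹ * x⁻¹) * u⁻¹) * (u * x * u⁻¹ * x⁻¹) := by group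
        have e2 : u * (v * x * v⁻¹ * x⁻¹) * u⁻¹ = v * x * v⁻¹ * x⁻¹ := by
          rw [k.rr_centralizer hu (hv' x hx)]; group
        rw [e1, e2]; exact mul_mem (hv' x hx) (hu' x hx)
      one_mem' := ⟨one_mem _, fun x _ => by simp⟩
      inv_mem' := by
        rintro u ⟨hu, hu'⟩
        refine ⟨inv_mem hu, fun x hx => ?_⟩
        have e1 : u⁻¹ * x * u⁻¹⁻¹ * x⁻¹ = u⁻¹ * (u * x * u⁻¹ * x⁻¹)⁻¹ * u := by group
        have e2 : u⁻¹ * (u * x * u⁻¹ * x⁻¹)⁻¹ * u = (u * x * u⁻¹ * x⁻¹)⁻¹ := by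
          rw [mul_assoc, ← k.rr_centralizer hu (inv_mem (hu' x hx)), inv_mul_cancel_left]
        rw [e1, e2]; exact inv_mem (hu' x hx) }
  have hle : rr V ≤ K := by
    have h := k.base
    conv_lhs => rw [BTwo.rr_eq h k.q_mem k.q_ne k.q_ne_z]
    exact sup_le (fun u hu => ⟨us_le_rr h.z_mem h.z_ne hu, fun x hx => k.quad_z hu hx⟩)
      (fun u hu => ⟨us_le_rr k.q_mem k.q_ne hu, fun x hx => k.quad_q hu hx⟩)
  exact (hle hu).2 x hx

theorem rr_conj {x u : G} (hx : x ∈ xx V) (hu : u ∈ rr V) : x * u * x⁻¹ ∈ rr V := by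
  have hxn : x ∈ normalizer (V : Set G) := by
    have : xx V ≤ normalizer (V : Set G) := by
      refine iSup_le fun p => ?_
      obtain ⟨T', h'⟩ := k.base.point p.2.1 p.2.2
      exact h'.ws_le_normalizer
    exact this hx
  have h1 : rr V ≤ (rr V).comap (MulAut.conj x).toMonoidHom := by
    refine iSup_le fun p y hy => ?_
    have h2 := conj_mem_us hxn hy
    exact us_le_rr ((mem_normalizer_iff.1 hxn _).1 p.2.1) (fun e => p.2.2 (by
      have : (p : G) = x⁻¹ * (x * p * x⁻¹) * x := by group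
      rw [this, e]; group)) h2
  exact h1 hu

theorem xx_normV : xx V ≤ normalizer (V : Set G) := by
  refine iSup_le fun p => ?_
  obtain ⟨T', h'⟩ := k.base.point p.2.1 p.2.2
  exact h'.ws_le_normalizer

theorem z_us_rr {u : G} (hu : u ∈ us V z) : u ∈ rr V := us_le_rr k.base.z_mem k.base.z_ne hu

theorem q_us_rr {u : G} (hu : u ∈ us V q) : u ∈ rr V := us_le_rr k.q_mem k.q_ne hu

/-- `a` does not commute with `g` -/
theorem ag_ne : a * g ≠ g * a := by
  intro e1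
  have h1 : a * g * a⁻¹ * g⁻¹ = 1 := by rw [e1]; group
  rcases k.ag with e2 | e2
  · exact k.q_ne (by rw [← e2, h1])
  · exact k.zq_ne (by rw [← e2, h1])

/-- `w e w⁻¹ = v g e` -/
theorem w_e : ∃ v ∈ V, w * e * w⁻¹ = v * g * e := by
  have h := k.base
  obtain ⟨v, hv, e1 | e1⟩ := k.mem_F.1 (k.comm_e w k.w_mem)
  · exfalso
    -- `[w, e] ∈ V ≤ dd V` so `e ∈ dd V`, `g ∈ dd V`
    have h1 : e ∈ dd V := h.mem_dd_of_comm k.q_mem k.q_ne k.q_ne_z k.w_mem k.w_not k.e_mem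
      (by rw [e1]; exact h.V_le_dd hv)
    apply k.g_not
    rw [← k.te]
    exact conj_mem_dd k.t_normV h1
  · refine ⟨v, hv, ?_⟩
    have e2 : w * e * w⁻¹ = (w * e * w⁻¹ * e⁻¹) * e := by group
    rw [e2, e1]

/-- the elements of `R ∖ V` are moved by `rr V` -/
theorem exists_move {x : G} (hx : x ∈ k.R) (hxV : x ∉ V) : ∃ u ∈ rr V, u * x ≠ x * u := by
  have h := k.base
  -- moving `v * g`
  have case1 : ∀ v ∈ V, a * (v * g) ≠ (v * g) * a := by
    intro v hv e1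
    apply k.ag_ne
    have h1 := comm_V k.a_mem.2 hv
    have h2 : v * (a * g) = v * (g * a) := by
      calc v * (a * g) = a * (v * g) := by rw [← mul_assoc, ← h1, mul_assoc]
        _ = v * (g * a) := by rw [e1, mul_assoc]
    exact mul_left_cancel h2
  have case2 : ∀ v ∈ V, (t * a * t⁻¹) * (v * e) ≠ (v * e) * (t * a * t⁻¹) := by
    intro v hv e1
    apply case1 (t⁻¹ * v * t) (by
      have := (mem_normalizer_iff.1 (inv_mem k.t_normV) v).1 hv
      rwa [inv_inv] at this)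
    have e2 : v * e = t * ((t⁻¹ * v * t) * g) * t⁻¹ := by rw [← k.tg]; group
    rw [e2] at e1
    have e3 : a * (t⁻¹ * v * t * g) = t⁻¹ * ((t * a * t⁻¹) * (t * ((t⁻¹ * v * t) * g) * t⁻¹)) * t := by group
    rw [e3, e1]; group
  obtain ⟨v, hv, e1 | e1 | e1 | e1⟩ := k.mem_R.1 hx
  · exact absurd (e1 ▸ hv) hxV
  · exact ⟨a, k.q_us_rr k.a_mem, e1 ▸ case1 v hv⟩
  · exact ⟨_, k.z_us_rr (k.t_us' k.a_mem), e1 ▸ case2 v hv⟩
  · obtain ⟨v', hv', e2⟩ := k.w_e
    have hwV := h.ws_le_normalizer k.w_mem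
    set v'' := w⁻¹ * (v * v'⁻¹) * w with hv''
    have hv''V : v'' ∈ V := by
      have := (mem_normalizer_iff.1 (inv_mem hwV) (v * v'⁻¹)).1 (mul_mem hv (inv_mem hv'))
      rwa [inv_inv] at this
    have e3 : x = w * (v'' * e) * w⁻¹ := by
      calc x = v * g * e := e1
        _ = (v * v'⁻¹) * (v' * g * e) := by group
        _ = (v * v'⁻¹) * (w * e * w⁻¹) := by rw [e2]
        _ = w * (v'' * e) * w⁻¹ := by rw [hv'']; group
    refine ⟨w * (t * a * t⁻¹) * w⁻¹, ?_, ?_⟩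
    · exact k.rr_conj (ws_le_xx h.z_mem h.z_ne k.w_mem) (k.z_us_rr (k.t_us' k.a_mem))
    · intro e4
      apply case2 v'' hv''V
      rw [e3] at e4
      have e5 : t * a * t⁻¹ * (v'' * e) = w⁻¹ * (w * (t * a * t⁻¹) * w⁻¹ * (w * (v'' * e) * w⁻¹)) * w := by group
      rw [e5, e4]; group

/-- irreducibility of `⟨xx V, c⟩` on `R` -/
theorem irred {U : Subgroup G} (hU : U ≤ k.R) (hn : xx V ⊔ zpowers c ≤ normalizer (U : Set G)) :
    U = ⊥ ∨ U = k.R := by
  have h := k.base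
  by_cases hU1 : U = ⊥
  · exact Or.inl hU1
  right
  have hxx : xx V ≤ normalizer (U : Set G) := le_sup_left.trans hn
  have hcn : c ∈ normalizer (U : Set G) := (le_sup_right.trans hn) (mem_zpowers c)
  have hVU : V ≤ U := by
    obtain ⟨x, hx1⟩ := (Subgroup.ne_bot_iff_exists_ne_one).mp hU1
    have hx1' : (x : G) ≠ 1 := fun e => hx1 (Subtype.ext e)
    by_cases hxV : (x : G) ∈ V
    · exact BTwo.V_le_of_mem h hxx hxV hx1' x.2
    · obtain ⟨u, hu, hne⟩ := k.exists_move (hU x.2) hxV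
      have hux : u ∈ xx V := by
        have : rr V ≤ xx V := iSup_mono fun p => us_le_ws V p
        exact this hu
      have h1 : u * x * u⁻¹ * (x : G)⁻¹ ∈ U := mul_mem (conj_mem_of_normalizer hxx hux x.2) (inv_mem x.2)
      refine BTwo.V_le_of_mem h hxx (k.quad hu (hU x.2)) (fun e1 => hne ?_) h1
      calc u * x = (u * x * u⁻¹ * (x : G)⁻¹) * (x * u) := by group
        _ = x * u := by rw [e1, one_mul]
  have hgU : g ∈ U := k.c_gen U hVU hcn
  have htU : t ∈ normalizer (U : Set G) := hxx (ws_le_xx k.zq_mem k.zq_ne k.t_mem)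
  have heU : e ∈ U := by
    rw [← k.tg]; exact (mem_normalizer_iff.1 htU g).1 hgU
  refine le_antisymm hU (sup_le (sup_le hVU ?_) ?_)
  · rwa [zpowers_le]
  · rwa [zpowers_le]

/-- the dichotomy for the elements of `rr V`: trivial on `R`, a transvection or free -/
theorem cases {u : G} (hu : u ∈ rr V) : (∃ p ∈ V, p ≠ 1 ∧ (∀ x ∈ k.R, u * x * u⁻¹ = x ∨ u * x * u⁻¹ = x * p) ∧
      ∃ x ∈ k.R, u * x * u⁻¹ ≠ x) ∨ (∀ x ∈ k.R, u * x * u⁻¹ = x) ∨ ∀ x ∈ k.R, u * x * u⁻¹ = x → x ∈ V := by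
  by_cases htriv : ∀ x ∈ k.R, u * x * u⁻¹ = x
  · exact Or.inr (Or.inl htriv)
  by_cases hfree : ∀ x ∈ k.R, u * x * u⁻¹ = x → x ∈ V
  · exact Or.inr (Or.inr hfree)
  left
  push Not at htriv hfree
  obtain ⟨x, hx, hxu, hxV⟩ := hfree
  obtain ⟨y, hy, hyu⟩ := htriv
  set p := u * y * u⁻¹ * y⁻¹ with hp
  have hpV : p ∈ V := k.quad hu hy
  have huy : u * y * u⁻¹ = y * p := by
    have h1 : u * y * u⁻¹ = p * y := by rw [hp]; group
    rw [h1, k.commR (k.V_le hpV) hy]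
  have hp1 : p ≠ 1 := by
    intro e1; apply hyu; rw [huy, e1, mul_one]
  refine ⟨p, hpV, hp1, fun r hr => ?_, y, hy, hyu⟩
  have huV : ∀ v ∈ V, u * v * u⁻¹ = v := fun v hv => by rw [k.rr_centralizer hu hv]; group
  -- products
  have hmul : ∀ a b : G, u * (a * b) * u⁻¹ = (u * a * u⁻¹) * (u * b * u⁻¹) := fun a b => by group
  have hyR : ∀ v ∈ V, ∀ m, m ∈ k.R → u * m * u⁻¹ = m → u * (v * m) * u⁻¹ = v * m ∨
      u * (v * m) * u⁻¹ = v * m * p := by
    intro v hv m _ hm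
    left; rw [hmul, huV v hv, hm]
  have hyR' : ∀ v ∈ V, ∀ m, m ∈ k.R → u * m * u⁻¹ = m * p → u * (v * m) * u⁻¹ = v * m ∨
      u * (v * m) * u⁻¹ = v * m * p := by
    intro v hv m _ hm
    right; rw [hmul, huV v hv, hm, mul_assoc]
  -- `u` on `g`, `e`, `g * e` is known
  have key : (u * g * u⁻¹ = g ∨ u * g * u⁻¹ = g * p) ∧ (u * e * u⁻¹ = e ∨ u * e * u⁻¹ = e * p) ∧
      (u * (g * e) * u⁻¹ = g * e ∨ u * (g * e) * u⁻¹ = g * e * p) := by
    -- from `x` and `y`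
    have hgx : ∀ m m' : G, m ∈ k.R → m' ∈ k.R → u * m * u⁻¹ = m → u * m' * u⁻¹ = m' * p →
        u * (m * m') * u⁻¹ = m * m' * p := by
      intro m m' _ _ h1 h2
      rw [hmul, h1, h2, mul_assoc]
    have hred : ∀ v ∈ V, ∀ m : G, u * (v * m) * u⁻¹ = v * m → u * m * u⁻¹ = m := by
      intro v hv m h1
      rw [hmul, huV v hv] at h1
      exact mul_left_cancel h1
    have hred' : ∀ v ∈ V, ∀ m : G, u * (v * m) * u⁻¹ = v * m * p → u * m * u⁻¹ = m * p := by
      intro v hv m h1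
      have h2 : v * (u * m * u⁻¹) = v * (m * p) := by rw [← mul_assoc v m p, ← h1, hmul, huV v hv]
      exact mul_left_cancel h2
    have ass : ∀ v : G, v * g * e = v * (g * e) := fun v => mul_assoc v g e
    have hgg : g * (g * e) = e := by rw [← mul_assoc, k.gg, one_mul]
    have hee : e * (g * e) = g := by rw [k.ge, ← mul_assoc, k.ee, one_mul]
    have hge2 : (g * e) * g = e := by rw [k.ge, mul_assoc, k.gg, mul_one]
    have hge3 : (g * e) * e = g := by rw [mul_assoc, k.ee, mul_one]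
    have hgeR : g * e ∈ k.R := mul_mem k.g_memR k.e_memR
    have hpe : p * e = e * p := k.commR (k.V_le hpV) k.e_memR
    have hpg : p * g = g * p := k.commR (k.V_le hpV) k.g_memR
    obtain ⟨v, hv, rfl | rfl | rfl | rfl⟩ := k.mem_R.1 hx
    · exact absurd hv hxV
    · -- `g` fixed
      have hgf := hred v hv g hxu
      obtain ⟨v', hv', rfl | rfl | rfl | rfl⟩ := k.mem_R.1 hy
      · exact absurd (huV _ hv') hyu
      · exact absurd (by rw [hmul, huV v' hv', hgf]) hyu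
      · have hef := hred' v' hv' e huy
        exact ⟨Or.inl hgf, Or.inr hef, Or.inr (hgx g e k.g_memR k.e_memR hgf hef)⟩
      · have hgef := hred' v' hv' (g * e) (by rw [← ass]; exact huy)
        have h3 := hgx g (g * e) k.g_memR hgeR hgf hgef
        rw [hgg] at h3
        exact ⟨Or.inl hgf, Or.inr h3, Or.inr hgef⟩
    · have hef := hred v hv e hxu
      obtain ⟨v', hv', rfl | rfl | rfl | rfl⟩ := k.mem_R.1 hy
      · exact absurd (huV _ hv') hyu
      · have hgf := hred' v' hv' g huy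
        have h3 := hgx e g k.e_memR k.g_memR hef hgf
        rw [← k.ge] at h3
        exact ⟨Or.inr hgf, Or.inl hef, Or.inr h3⟩
      · exact absurd (by rw [hmul, huV v' hv', hef]) hyu
      · have hgef := hred' v' hv' (g * e) (by rw [← ass]; exact huy)
        have h3 := hgx e (g * e) k.e_memR hgeR hef hgef
        rw [hee] at h3
        exact ⟨Or.inr h3, Or.inl hef, Or.inr hgef⟩
    · have hgef := hred v hv (g * e) (by rw [← ass]; exact hxu)
      obtain ⟨v', hv', rfl | rfl | rfl | rfl⟩ := k.mem_R.1 hy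
      · exact absurd (huV _ hv') hyu
      · have hgf := hred' v' hv' g huy
        have h3 := hgx (g * e) g hgeR k.g_memR hgef hgf
        rw [hge2] at h3
        exact ⟨Or.inr hgf, Or.inr h3, Or.inl hgef⟩
      · have hef := hred' v' hv' e huy
        have h3 := hgx (g * e) e hgeR k.e_memR hgef hef
        rw [hge3] at h3
        exact ⟨Or.inr h3, Or.inr hef, Or.inl hgef⟩
      · refine absurd ?_ hyu
        rw [ass, hmul, huV v' hv', hgef]
  obtain ⟨v, hv, rfl | rfl | rfl | rfl⟩ := k.mem_R.1 hr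
  · exact Or.inl (huV _ hv)
  · rcases key.1 with h1 | h1
    · exact hyR v hv g k.g_memR h1
    · exact hyR' v hv g k.g_memR h1
  · rcases key.2.1 with h1 | h1
    · exact hyR v hv e k.e_memR h1
    · exact hyR' v hv e k.e_memR h1
  · rw [show v * g * e = v * (g * e) from mul_assoc v g e]
    rcases key.2.2 with h1 | h1
    · exact hyR v hv (g * e) (mul_mem k.g_memR k.e_memR) h1
    · exact hyR' v hv (g * e) (mul_mem k.g_memR k.e_memR) h1

theorem rr_le_xx : rr V ≤ xx V := iSup_mono fun p => us_le_ws V p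

/-- conjugates of transvections -/
theorem trans_conj {u p s p' : G} (hu : u ∈ rr V) (hs : s ∈ xx V) (hsp : s * p * s⁻¹ = p')
    (h1 : ∀ x ∈ k.R, u * x * u⁻¹ = x ∨ u * x * u⁻¹ = x * p) (h2 : ∃ x ∈ k.R, u * x * u⁻¹ ≠ x) :
    ∃ u' ∈ rr V, (∀ x ∈ k.R, u' * x * u'⁻¹ = x ∨ u' * x * u'⁻¹ = x * p') ∧ ∃ x ∈ k.R, u' * x * u'⁻¹ ≠ x := by
  have hn := k.xx_le hs
  refine ⟨s * u * s⁻¹, k.rr_conj hs hu, fun x hx => ?_, ?_⟩
  · have hx' : s⁻¹ * x * s ∈ k.R := by
      have := (mem_normalizer_iff.1 (inv_mem hn) x).1 hx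
      rwa [inv_inv] at this
    have e1 : s * u * s⁻¹ * x * (s * u * s⁻¹)⁻¹ = s * (u * (s⁻¹ * x * s) * u⁻¹) * s⁻¹ := by group
    rcases h1 _ hx' with e2 | e2
    · left; rw [e1, e2]; group
    · right; rw [e1, e2, ← hsp]; group
  · obtain ⟨x, hx, hne⟩ := h2
    refine ⟨s * x * s⁻¹, (mem_normalizer_iff.1 hn x).1 hx, fun e1 => hne ?_⟩
    calc u * x * u⁻¹ = s⁻¹ * (s * u * s⁻¹ * (s * x * s⁻¹) * (s * u * s⁻¹)⁻¹) * s := by group
      _ = x := by rw [e1]; group

/-- there is no such configuration -/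
theorem false : False := by
  have h := k.base
  set J := xx V ⊔ zpowers c with hJdef
  have hJ : J ≤ normalizer ((k.R : Subgroup G) : Set G) :=
    sup_le k.xx_le (by rw [zpowers_le]; exact k.c_norm)
  have hrrJ : rr V ≤ J := k.rr_le_xx.trans le_sup_left
  by_cases hT : ∃ u ∈ rr V, ∃ p ∈ V, p ≠ 1 ∧ (∀ x ∈ k.R, u * x * u⁻¹ = x ∨ u * x * u⁻¹ = x * p) ∧
      ∃ x ∈ k.R, u * x * u⁻¹ ≠ x
  · -- transvections
    obtain ⟨u, hu, p, hp, hp1, h1, h2⟩ := hT
    have hex : ∀ p' ∈ V, p' ≠ 1 → ∃ u' ∈ rr V, (∀ x ∈ k.R, u' * x * u'⁻¹ = x ∨ u' * x * u'⁻¹ = x * p') ∧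
        ∃ x ∈ k.R, u' * x * u'⁻¹ ≠ x := by
      intro p' hp' hp1'
      by_cases hpp : p = p'
      · exact ⟨u, hu, hpp ▸ h1, h2⟩
      · obtain ⟨s, hs, hs1, _⟩ := BTwo.exists_move h hp hp' hp1 hp1' hpp
        have hpp1 : p * p' ≠ 1 := fun e => hpp (by
          have := mul_eq_one_iff_eq_inv.mp e
          rwa [h.inv_eq hp'] at this)
        exact k.trans_conj hu (ws_le_xx (mul_mem hp hp') hpp1 hs) hs1 h1 h2
    let pt : Fin 3 → G := ![z, q, z * q]
    have hpt : ∀ i, pt i ∈ V ∧ pt i ≠ 1 := by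
      intro i
      fin_cases i
      · exact ⟨h.z_mem, h.z_ne⟩
      · exact ⟨k.q_mem, k.q_ne⟩
      · exact ⟨k.zq_mem, k.zq_ne⟩
    choose w' hw' hwt hwne using fun i => hex (pt i) (hpt i).1 (hpt i).2
    refine false_of_transvections h.solv (R := k.R) (J := J) (fun x hx => k.sqR hx) hJ pt w' rfl
      (fun i => (hpt i).2) (fun i => k.V_le (hpt i).1) (fun i => hrrJ (hw' i)) hwt hwne (fun i j => ?_)
      (fun U hU hn => k.irred hU hn)
    rw [k.rr_centralizer (hw' i) (hpt j).1]; group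
  · -- all elements of `rr V` are trivial or free on `R`
    have hfree : ∀ u ∈ rr V, (∀ x ∈ k.R, u * x * u⁻¹ = x) ∨ ∀ x ∈ k.R, u * x * u⁻¹ = x → x ∈ V := by
      intro u hu
      rcases k.cases hu with ⟨p, hp⟩ | h1 | h1
      · exact absurd ⟨u, hu, p, hp⟩ hT
      · exact Or.inl h1
      · exact Or.inr h1
    have hR1 : k.R ≠ ⊥ := by
      intro e1
      apply h.z_ne
      have := k.V_le h.z_mem
      rwa [e1, mem_bot] at this
    have hs := solvable_normalizer h.solv (fun x hx => k.sqR hx) hR1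
    have hJs : Group.IsSolvable J :=
      Group.isSolvable_of_isSolvable_injective (f := Subgroup.inclusion hJ) (Subgroup.inclusion_injective hJ)
    let f : J →* MulAut k.R := k.R.normalizerMonoidHom.comp (Subgroup.inclusion hJ)
    have hf : ∀ (j : J) (x : k.R), ((f j x : k.R) : G) = j * x * (j : G)⁻¹ := fun j x => rfl
    have hfs : Group.IsSolvable f.range :=
      Group.isSolvable_of_surjective (f := f.rangeRestrict) f.rangeRestrict_surjective
    set A := ((rr V).subgroupOf J).map f with hA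
    have hmemA : ∀ α ∈ A, ∃ u, ∃ hu : u ∈ rr V, f ⟨u, hrrJ hu⟩ = α := by
      rintro _ ⟨u, hu, rfl⟩
      exact ⟨u, hu, rfl⟩
    have hirr : ∀ U : Subgroup k.R, (∀ j ∈ f.range, ∀ u ∈ U, j u ∈ U) → U = ⊥ ∨ U = ⊤ := by
      intro U hU
      have h1 : J ≤ normalizer ((U.map k.R.subtype : Subgroup G) : Set G) := by
        refine le_normalizer_of_forall ?_
        rintro j hj _ ⟨u, hu, rfl⟩
        exact ⟨f ⟨j, hj⟩ u, hU _ ⟨_, rfl⟩ u hu, rfl⟩
      rcases k.irred (map_subtype_le U) h1 with h2 | h2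
      · left
        exact (Subgroup.map_eq_bot_iff_of_injective U k.R.subtype_injective).1 h2
      · right
        rw [eq_top_iff]
        intro x _
        have hx : (x : G) ∈ U.map k.R.subtype := by rw [h2]; exact x.2
        obtain ⟨u, hu, hux⟩ := hx
        rwa [← Subtype.ext hux]
    refine TwoIrr.false_of_free (R := k.R) (X := f.range) (A := A) (V := V.subgroupOf k.R)
      (fun x => Subtype.ext (k.sqR x.2)) hfs hirr ?_ ?_ ?_ ?_ ?_ ?_
    · rintro _ ⟨u, _, rfl⟩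
      exact ⟨u, rfl⟩
    · intro α hα
      obtain ⟨u, hu, rfl⟩ := hmemA α hα
      ext x
      change u * (u * x * u⁻¹) * u⁻¹ = x
      have hp := k.quad hu x.2
      set p := u * x * u⁻¹ * (x : G)⁻¹ with hp'
      have e1 : u * x * u⁻¹ = p * x := by rw [hp']; group
      have e2 : u * (p * x) * u⁻¹ = (u * p * u⁻¹) * (u * x * u⁻¹) := by group
      have e3 : u * p * u⁻¹ = p := by rw [k.rr_centralizer hu hp]; group
      rw [e1, e2, e3, e1, ← mul_assoc, h.sq p hp, one_mul]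
    · intro α hα v hv
      obtain ⟨u, hu, rfl⟩ := hmemA α hα
      apply Subtype.ext
      change u * v * u⁻¹ = v
      rw [k.rr_centralizer hu (mem_subgroupOf.1 hv)]; group
    · intro α hα x
      obtain ⟨u, hu, rfl⟩ := hmemA α hα
      rw [mem_subgroupOf]
      change (x : G) * (u * x * u⁻¹) ∈ V
      have hp := k.quad hu x.2
      have e1 : (x : G) * (u * x * u⁻¹) = (x : G) * (u * x * u⁻¹ * (x : G)⁻¹) * x := by group
      rw [e1, k.commR x.2 (k.V_le hp), mul_assoc, k.sqR x.2, mul_one]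
      exact hp
    · intro α hα hα1 x hx
      obtain ⟨u, hu, rfl⟩ := hmemA α hα
      rw [mem_subgroupOf]
      rcases hfree u hu with h1 | h1
      · exfalso
        apply hα1
        ext y
        exact h1 y y.2
      · exact h1 x x.2 (congrArg Subtype.val hx)
    · -- three elements
      have ha : a ∈ rr V := k.q_us_rr k.a_mem
      have hta : t * a * t⁻¹ ∈ rr V := k.z_us_rr (k.t_us' k.a_mem)
      have hαA : f ⟨a, hrrJ ha⟩ ∈ A := ⟨⟨a, hrrJ ha⟩, ha, rfl⟩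
      have hβA : f ⟨t * a * t⁻¹, hrrJ hta⟩ ∈ A := ⟨⟨t * a * t⁻¹, hrrJ hta⟩, hta, rfl⟩
      have h1 : f ⟨a, hrrJ ha⟩ ≠ 1 := by
        intro e1
        have h2 := congrArg (fun φ : MulAut k.R => ((φ ⟨g, k.g_memR⟩ : k.R) : G)) e1
        have h3 : a * g * a⁻¹ = g := h2
        apply k.ag_ne
        calc a * g = a * g * a⁻¹ * a := by group
          _ = g * a := by rw [h3]
      have h1' : f ⟨t * a * t⁻¹, hrrJ hta⟩ ≠ 1 := by
        intro e1
        have h2 := congrArg (fun φ : MulAut k.R => ((φ ⟨e, k.e_memR⟩ : k.R) : G)) e1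
        have h3 : t * a * t⁻¹ * e * (t * a * t⁻¹)⁻¹ = e := h2
        apply k.ag_ne
        calc a * g = t⁻¹ * (t * a * t⁻¹ * (t * g * t⁻¹) * (t * a * t⁻¹)⁻¹) * t * a := by group
          _ = t⁻¹ * (t * g * t⁻¹) * t * a := by rw [k.tg, h3]
          _ = g * a := by group
      have h2 : f ⟨a, hrrJ ha⟩ ≠ f ⟨t * a * t⁻¹, hrrJ hta⟩ := by
        intro e1
        have h2 := congrArg (fun φ : MulAut k.R => ((φ ⟨g, k.g_memR⟩ : k.R) : G)) e1
        have h3 : a * g * a⁻¹ = t * a * t⁻¹ * g * (t * a * t⁻¹)⁻¹ := h2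
        have h4 : t * a * t⁻¹ * g * (t * a * t⁻¹)⁻¹ * g⁻¹ ∈ zpowers z :=
          h.comm_mem (k.t_us' k.a_mem).1 (h.ws_le_o2 k.g_mem.1)
        rw [← h3] at h4
        rcases (mem_zpowers_iff_of_mul_self h.zz).1 h4 with e2 | e2
        · apply k.ag_ne
          calc a * g = (a * g * a⁻¹ * g⁻¹) * (g * a) := by group
            _ = g * a := by rw [e2, one_mul]
        · rcases k.ag with e3 | e3
          · exact k.q_ne_z (by rw [← e3, e2])
          · rw [e2] at e3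
            apply k.q_ne
            exact (mul_left_cancel (a := z) (by rw [mul_one]; exact e3)).symm
      have h3 : ({1, f ⟨a, hrrJ ha⟩, f ⟨t * a * t⁻¹, hrrJ hta⟩} : Set (MulAut k.R)) ⊆ (A : Set (MulAut k.R)) := by
        rintro x (rfl | rfl | rfl)
        · exact A.one_mem
        · exact hαA
        · exact hβA
      have hfin : Finite (MulAut k.R) :=
        Finite.of_injective (fun j : MulAut k.R => (j : k.R → k.R)) DFunLike.coe_injective
      have h4 := Set.ncard_le_ncard h3 (Set.toFinite _)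
      have h5 : ({1, f ⟨a, hrrJ ha⟩, f ⟨t * a * t⁻¹, hrrJ hta⟩} : Set (MulAut k.R)).ncard = 3 := by
        rw [Set.ncard_insert_of_notMem, Set.ncard_pair h2]
        rintro (e1 | e1)
        · exact h1 e1.symm
        · exact h1' e1.symm
      rw [h5] at h4
      have h6 : (A : Set (MulAut k.R)).ncard = Nat.card A := rfl
      omega

end Cfg

end Cfsg.Agent.MinSimple.BTwoCfg
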