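import Mathlib

/-!
# Singular vectors of the extraspecial group `2^{1+4}_+`

A group `H` generated by involutions `v, d, s, t` and a central involution `z` with `[v, t] = z = [d, s]` and all
other commutators trivial. A set `P` of noncentral involutions, closed under multiplication by `z`, such that every
`x ∈ P` lies in an elementary abelian subgroup `⟨z, x, y⟩` with `y, x y ∉ P`, cannot generate `H` if
`v, t ∈ P`, `d, v d ∉ P`.
-/

set_option autoImplicit false
set_option linter.dupNamespace false

namespace Cfsg.Agent.MinSimple.BTwoGrid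

variable {H : Type*} [Group H]

/-- `x` or `1` -/
def pw (x : H) (b : Bool) : H := bif b then x else 1

@[simp] theorem pw_true (x : H) : pw x true = x := rfl

@[simp] theorem pw_false (x : H) : pw x false = 1 := rfl

/-- a word in `v, d, s, t` -/
def W (v d s t : H) (b c e f : Bool) : H := pw v b * pw d c * pw s e * pw t f

/-- the bilinear form -/
def B (b c e f b' c' e' f' : Bool) : Bool :=
  xor (xor (b && f') (f && b')) (xor (c && e') (e && c'))

/-- the quadratic form -/
def Q (b c e f : Bool) : Bool := xor (b && f) (c && e)

/-- The relations. -/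
structure Quad (z v d s t : H) : Prop where
  zc : ∀ x : H, z * x = x * z
  zz : z * z = 1
  z1 : z ≠ 1
  vv : v * v = 1
  dd : d * d = 1
  ss : s * s = 1
  tt : t * t = 1
  vt : v * t = z * (t * v)
  ds : d * s = z * (s * d)
  vd : v * d = d * v
  vs : v * s = s * v
  dt : d * t = t * d
  st : s * t = t * s
  gen : ∀ x : H, ∃ b c e f i : Bool, x = pw z i * W v d s t b c e f

namespace Quad

variable {z v d s t : H}

theorem pwz (h : Quad z v d s t) (k : Bool) (x : H) : pw z k * x = x * pw z k := by
  cases k
  · simp
  · exact h.zc x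

theorem pwz_mul (h : Quad z v d s t) (k k' : Bool) : pw z k * pw z k' = pw z (xor k k') := by
  cases k <;> cases k' <;> simp [h.zz]

theorem mul_left (h : Quad z v d s t) {x x' y : H} {k k' : Bool} (h1 : x * y = pw z k * (y * x))
    (h2 : x' * y = pw z k' * (y * x')) : x * x' * y = pw z (xor k k') * (y * (x * x')) := by
  calc x * x' * y = x * (x' * y) := by group
    _ = (x * pw z k') * (y * x') := by rw [h2]; group
    _ = pw z k' * (x * y) * x' := by rw [← h.pwz]; group
    _ = (pw z k' * pw z k) * (y * (x * x')) := by rw [h1]; group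
    _ = pw z (xor k k') * (y * (x * x')) := by rw [h.pwz_mul, Bool.xor_comm]

theorem mul_right (h : Quad z v d s t) {x y y' : H} {k k' : Bool} (h1 : x * y = pw z k * (y * x))
    (h2 : x * y' = pw z k' * (y' * x)) : x * (y * y') = pw z (xor k k') * (y * y' * x) := by
  calc x * (y * y') = (x * y) * y' := by group
    _ = pw z k * y * (x * y') := by rw [h1]; group
    _ = pw z k * (y * pw z k') * (y' * x) := by rw [h2]; group
    _ = (pw z k * pw z k') * (y * y' * x) := by rw [← h.pwz]; group
    _ = pw z (xor k k') * (y * y' * x) := by rw [h.pwz_mul]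

theorem pw_pw {x y : H} {k : Bool} (h1 : x * y = pw z k * (y * x)) (b b' : Bool) :
    pw x b * pw y b' = pw z (b && b' && k) * (pw y b' * pw x b) := by
  cases b <;> cases b' <;> simp [h1]

theorem swap (h : Quad z v d s t) {x y : H} {k : Bool} (h1 : x * y = pw z k * (y * x)) :
    y * x = pw z k * (x * y) := by
  rw [h1, ← mul_assoc, h.pwz_mul, Bool.xor_self, pw_false, one_mul]

theorem self (x : H) : x * x = pw z false * (x * x) := by simp

theorem comm_W (h : Quad z v d s t) (b c e f b' c' e' f' : Bool) :
    W v d s t b c e f * W v d s t b' c' e' f' =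
      pw z (B b c e f b' c' e' f') * (W v d s t b' c' e' f' * W v d s t b c e f) := by
  have hc : ∀ {x y : H}, x * y = y * x → x * y = pw z false * (y * x) := by
    intro x y hxy; simpa using hxy
  have vt : v * t = pw z true * (t * v) := h.vt
  have ds : d * s = pw z true * (s * d) := h.ds
  have row : ∀ {x : H} {k1 k2 k3 k4 : Bool}, x * v = pw z k1 * (v * x) → x * d = pw z k2 * (d * x) →
      x * s = pw z k3 * (s * x) → x * t = pw z k4 * (t * x) → ∀ a : Bool,
      pw x a * W v d s t b' c' e' f' = pw z (xor (xor (xor (a && b' && k1) (a && c' && k2))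
        (a && e' && k3)) (a && f' && k4)) * (W v d s t b' c' e' f' * pw x a) := by
    intro x k1 k2 k3 k4 h1 h2 h3 h4 a
    exact h.mul_right (h.mul_right (h.mul_right (pw_pw h1 a b') (pw_pw h2 a c')) (pw_pw h3 a e'))
      (pw_pw h4 a f')
  have rv := row (self v) (hc h.vd) (hc h.vs) vt b
  have rd := row (hc h.vd.symm) (self d) ds (hc h.dt) c
  have rs := row (hc h.vs.symm) (h.swap ds) (self s) (hc h.st) e
  have rt := row (h.swap vt) (hc h.dt.symm) (hc h.st.symm) (self t) f
  have key := h.mul_left (h.mul_left (h.mul_left rv rd) rs) rt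
  have hB : (xor (xor (xor
      (xor (xor (xor (b && b' && false) (b && c' && false)) (b && e' && false)) (b && f' && true))
      (xor (xor (xor (c && b' && false) (c && c' && false)) (c && e' && true)) (c && f' && false)))
      (xor (xor (xor (e && b' && false) (e && c' && true)) (e && e' && false)) (e && f' && false)))
      (xor (xor (xor (f && b' && true) (f && c' && false)) (f && e' && false)) (f && f' && false))) =
      B b c e f b' c' e' f' := by
    unfold B
    clear key rv rd rs rt row vt ds hc h
    revert b c e f b' c' e' f'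
    decide
  rw [hB] at key
  exact key

theorem mul_W (h : Quad z v d s t) (b c e f b' c' e' f' : Bool) :
    ∃ k : Bool, W v d s t b c e f * W v d s t b' c' e' f' =
      pw z k * W v d s t (xor b b') (xor c c') (xor e e') (xor f f') := by
  have hc : ∀ {x y : H}, x * y = y * x → x * y = pw z false * (y * x) := by
    intro x y hxy; simpa using hxy
  have vt : v * t = pw z true * (t * v) := h.vt
  have ds : d * s = pw z true * (s * d) := h.ds
  have sq : ∀ {x : H}, x * x = 1 → ∀ a a' : Bool, pw x a * pw x a' = pw x (xor a a') := by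
    intro x hx a a'
    cases a <;> cases a' <;> simp [hx]
  -- move the letters of the second word to the left
  have m1 : ∀ {x y : H} {k : Bool} (a a' : Bool), x * y = pw z k * (y * x) →
      ∃ k' : Bool, pw x a * pw y a' = pw z k' * (pw y a' * pw x a) := fun a a' h1 =>
    ⟨_, pw_pw h1 a a'⟩
  obtain ⟨k1, e1⟩ := m1 f b' (h.swap vt)
  obtain ⟨k2, e2⟩ := m1 e b' (hc h.vs.symm)
  obtain ⟨k3, e3⟩ := m1 c b' (hc h.vd.symm)
  obtain ⟨k4, e4⟩ := m1 f c' (hc h.dt.symm)
  obtain ⟨k5, e5⟩ := m1 e c' (h.swap ds)
  obtain ⟨k6, e6⟩ := m1 f e' (hc h.st.symm)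
  refine ⟨xor (xor (xor k1 k2) (xor k3 k4)) (xor k5 k6), ?_⟩
  have pz := h.pwz
  unfold W
  rw [← sq h.vv b b', ← sq h.dd c c', ← sq h.ss e e', ← sq h.tt f f']
  calc pw v b * pw d c * pw s e * pw t f * (pw v b' * pw d c' * pw s e' * pw t f')
      = pw v b * pw d c * pw s e * (pw t f * pw v b') * pw d c' * pw s e' * pw t f' := by group
    _ = pw v b * pw d c * (pw s e * pw z k1) * (pw v b' * pw t f) * pw d c' * pw s e' * pw t f' := by
        rw [e1]; group
    _ = pw v b * (pw d c * pw z k1) * (pw s e * pw v b') * pw t f * pw d c' * pw s e' * pw t f' := by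
        rw [← pz]; group
    _ = (pw v b * pw z k1) * pw d c * (pw z k2 * (pw v b' * pw s e)) * pw t f * pw d c' * pw s e' *
          pw t f' := by rw [← pz, e2]; group
    _ = pw z k1 * pw v b * (pw d c * pw z k2) * pw v b' * pw s e * pw t f * pw d c' * pw s e' *
          pw t f' := by rw [← pz]; group
    _ = pw z k1 * (pw v b * pw z k2) * (pw d c * pw v b') * pw s e * pw t f * pw d c' * pw s e' *
          pw t f' := by rw [← pz]; group
    _ = pw z k1 * pw z k2 * pw v b * (pw z k3 * (pw v b' * pw d c)) * pw s e * pw t f * pw d c' *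
          pw s e' * pw t f' := by rw [← pz k2 (pw v b), e3]; group
    _ = pw z k1 * pw z k2 * (pw v b * pw z k3) * pw v b' * pw d c * pw s e * (pw t f * pw d c') *
          pw s e' * pw t f' := by group
    _ = pw z k1 * pw z k2 * pw z k3 * (pw v b * pw v b') * pw d c * pw s e *
          (pw z k4 * (pw d c' * pw t f)) * pw s e' * pw t f' := by rw [← pz k3, e4]; group
    _ = pw z k1 * pw z k2 * pw z k3 * (pw v b * pw v b') * pw d c * (pw s e * pw z k4) *
          pw d c' * pw t f * pw s e' * pw t f' := by group
    _ = pw z k1 * pw z k2 * pw z k3 * (pw v b * pw v b') * (pw d c * pw z k4) * (pw s e * pw d c') *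
          pw t f * pw s e' * pw t f' := by rw [← pz k4]; group
    _ = pw z k1 * pw z k2 * pw z k3 * ((pw v b * pw v b') * pw z k4) * pw d c *
          (pw z k5 * (pw d c' * pw s e)) * pw t f * pw s e' * pw t f' := by rw [← pz k4, e5]; group
    _ = pw z k1 * pw z k2 * pw z k3 * pw z k4 * (pw v b * pw v b') * (pw d c * pw z k5) *
          pw d c' * pw s e * (pw t f * pw s e') * pw t f' := by rw [← pz k4]; group
    _ = pw z k1 * pw z k2 * pw z k3 * pw z k4 * ((pw v b * pw v b') * pw z k5) * (pw d c *
          pw d c') * pw s e * (pw z k6 * (pw s e' * pw t f)) * pw t f' := by rw [← pz k5, e6]; group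
    _ = pw z k1 * pw z k2 * pw z k3 * pw z k4 * pw z k5 * (pw v b * pw v b') * (pw d c *
          pw d c') * (pw s e * pw z k6) * pw s e' * (pw t f * pw t f') := by rw [← pz k5]; group
    _ = pw z k1 * pw z k2 * pw z k3 * pw z k4 * pw z k5 * (pw v b * pw v b') * ((pw d c *
          pw d c') * pw z k6) * (pw s e * pw s e') * (pw t f * pw t f') := by rw [← pz k6]; group
    _ = pw z k1 * pw z k2 * pw z k3 * pw z k4 * pw z k5 * ((pw v b * pw v b') * pw z k6) *
          (pw d c * pw d c') * (pw s e * pw s e') * (pw t f * pw t f') := by rw [← pz k6]; group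
    _ = ((pw z k1 * pw z k2) * (pw z k3 * pw z k4) * (pw z k5 * pw z k6)) *
          (pw v b * pw v b' * (pw d c * pw d c') * (pw s e * pw s e') * (pw t f * pw t f')) := by
        rw [← pz k6]; group
    _ = _ := by rw [h.pwz_mul, h.pwz_mul, h.pwz_mul, h.pwz_mul, h.pwz_mul]

theorem sq_W (h : Quad z v d s t) (b c e f : Bool) :
    W v d s t b c e f * W v d s t b c e f = pw z (Q b c e f) := by
  have hz : ∀ k : Bool, pw z k * pw z k = 1 := by
    intro k; rw [h.pwz_mul, Bool.xor_self, pw_false]
  have zc := h.zc
  have vt := h.vt
  have ds := h.ds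
  have vd := h.vd
  have vs := h.vs
  have dt := h.dt
  have st := h.st
  -- `(v^b d^c s^e t^f)^2`
  have sq : ∀ {x : H}, x * x = 1 → ∀ a : Bool, pw x a * pw x a = 1 := by
    intro x hx a; cases a <;> simp [hx]
  have cc : ∀ {x y : H}, x * y = y * x → ∀ a a' : Bool, pw x a * pw y a' = pw y a' * pw x a := by
    intro x y hxy a a'; cases a <;> cases a' <;> simp [hxy]
  have vt' : ∀ b f : Bool, pw t f * pw v b = pw z (b && f) * (pw v b * pw t f) := by
    intro b f
    have := pw_pw (h.swap (show v * t = pw z true * (t * v) from vt)) f b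
    rw [this]
    cases b <;> cases f <;> rfl
  have ds' : ∀ c e : Bool, pw s e * pw d c = pw z (c && e) * (pw d c * pw s e) := by
    intro c e
    have := pw_pw (h.swap (show d * s = pw z true * (s * d) from ds)) e c
    rw [this]
    cases c <;> cases e <;> rfl
  unfold W Q
  have pz := h.pwz
  have c1 := cc dt c f
  have c2 := cc vs b e
  have c3 := cc vd b c
  have c4 := cc st e f
  -- `x = v^b t^f`, `y = d^c s^e` commute
  have hxy : pw v b * pw d c * pw s e * pw t f = (pw v b * pw t f) * (pw d c * pw s e) := by
    calc pw v b * pw d c * pw s e * pw t f = pw v b * pw d c * (pw s e * pw t f) := by group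
      _ = pw v b * (pw d c * pw t f) * pw s e := by rw [c4]; group
      _ = (pw v b * pw t f) * (pw d c * pw s e) := by rw [c1]; group
  have hcm : (pw d c * pw s e) * (pw v b * pw t f) = (pw v b * pw t f) * (pw d c * pw s e) := by
    calc (pw d c * pw s e) * (pw v b * pw t f) = pw d c * (pw s e * pw v b) * pw t f := by group
      _ = (pw d c * pw v b) * (pw s e * pw t f) := by rw [← c2]; group
      _ = pw v b * (pw d c * pw t f) * pw s e := by rw [← c3, c4]; group
      _ = (pw v b * pw t f) * (pw d c * pw s e) := by rw [c1]; group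
  have hx2 : (pw v b * pw t f) * (pw v b * pw t f) = pw z (b && f) := by
    calc (pw v b * pw t f) * (pw v b * pw t f) = pw v b * (pw t f * pw v b) * pw t f := by group
      _ = (pw v b * pw z (b && f)) * pw v b * (pw t f * pw t f) := by rw [vt']; group
      _ = pw z (b && f) * (pw v b * pw v b) := by rw [← pz, sq h.tt, mul_one]; group
      _ = pw z (b && f) := by rw [sq h.vv, mul_one]
  have hy2 : (pw d c * pw s e) * (pw d c * pw s e) = pw z (c && e) := by
    calc (pw d c * pw s e) * (pw d c * pw s e) = pw d c * (pw s e * pw d c) * pw s e := by group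
      _ = (pw d c * pw z (c && e)) * pw d c * (pw s e * pw s e) := by rw [ds']; group
      _ = pw z (c && e) * (pw d c * pw d c) := by rw [← pz, sq h.ss, mul_one]; group
      _ = pw z (c && e) := by rw [sq h.dd, mul_one]
  rw [hxy]
  calc (pw v b * pw t f) * (pw d c * pw s e) * ((pw v b * pw t f) * (pw d c * pw s e))
      = (pw v b * pw t f) * ((pw d c * pw s e) * (pw v b * pw t f)) * (pw d c * pw s e) := by group
    _ = ((pw v b * pw t f) * (pw v b * pw t f)) * ((pw d c * pw s e) * (pw d c * pw s e)) := by
        rw [hcm]; group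
    _ = pw z (xor (b && f) (c && e)) := by rw [hx2, hy2, h.pwz_mul]

theorem pw_eq_one (h : Quad z v d s t) {k : Bool} (h1 : pw z k = 1) : k = false := by
  cases k
  · rfl
  · exact absurd h1 h.z1

/-- **The combinatorial contradiction.** -/
theorem false_of (h : Quad z v d s t) (P : H → Prop) (hPz : ∀ x, P (z * x) → P x)
    (hP2 : ∀ x, P x → x * x = 1 ∧ x ≠ 1 ∧ x ≠ z)
    (hD : ∀ x, P x → ∃ y, y * y = 1 ∧ x * y = y * x ∧ y ≠ 1 ∧ y ≠ z ∧ y ≠ x ∧ y ≠ z * x ∧ ¬ P y ∧
      ¬ P (x * y))
    (hspan : ∀ w, w ≠ 1 → w ≠ z → ∃ x, P x ∧ x * w ≠ w * x) (hv : P v) (ht : P t) (hd : ¬ P d)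
    (hvd : ¬ P (v * d)) : False := by
  set p : Bool → Bool → Bool → Bool → Prop := fun b c e f => P (W v d s t b c e f) with hp
  have hz1 := h.z1
  have hPz' : ∀ (k : Bool) (x : H), P (pw z k * x) ↔ P x := by
    intro k x
    cases k
    · simp
    · simp only [pw_true]
      refine ⟨hPz x, fun hx => hPz _ ?_⟩
      rwa [← mul_assoc, h.zz, one_mul]
  -- every element is a word up to `z`
  have W1 : ∀ b c e f : Bool, W v d s t b c e f = 1 → (b, c, e, f) = (false, false, false, false) := by
    intro b c e f hW
    have h1 := h.comm_W b c e f false false false true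
    have h2 := h.comm_W b c e f false false true false
    have h3 := h.comm_W b c e f false true false false
    have h4 := h.comm_W b c e f true false false false
    rw [hW, one_mul, mul_one] at h1 h2 h3 h4
    have k : ∀ {x : H} {k : Bool}, x = pw z k * x → k = false := fun hx =>
      h.pw_eq_one (by simpa using hx.symm)
    have k1 := k h1
    have k2 := k h2
    have k3 := k h3
    have k4 := k h4
    revert k1 k2 k3 k4
    clear h1 h2 h3 h4 hW
    revert b c e f
    decide
  have hW_inj : ∀ (k b c e f b' c' e' f' : Bool), W v d s t b c e f = pw z k * W v d s t b' c' e' f' →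
      (b, c, e, f) = (b', c', e', f') := by
    intro k b c e f b' c' e' f' hW
    obtain ⟨k', hk⟩ := h.mul_W b c e f b' c' e' f'
    have h1 := h.sq_W b' c' e' f'
    rw [hW, mul_assoc, h1, h.pwz_mul] at hk
    have h2 : W v d s t (xor b b') (xor c c') (xor e e') (xor f f') =
        pw z (xor (xor k (Q b' c' e' f')) k') := by
      have h3 : pw z k' * (pw z k' * W v d s t (xor b b') (xor c c') (xor e e') (xor f f')) =
          pw z k' * pw z (xor k (Q b' c' e' f')) := by rw [hk]
      rw [← mul_assoc, h.pwz_mul k' k', Bool.xor_self, pw_false, one_mul, h.pwz_mul] at h3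
      rw [h3, Bool.xor_comm]
    -- `W (x + y)` is central, so it is `1` as a vector
    have hcen : ∀ b1 c1 e1 f1 : Bool,
        B (xor b b') (xor c c') (xor e e') (xor f f') b1 c1 e1 f1 = false := by
      intro b1 c1 e1 f1
      have h4 := h.comm_W (xor b b') (xor c c') (xor e e') (xor f f') b1 c1 e1 f1
      rw [h2, h.pwz] at h4
      apply h.pw_eq_one
      have h5 := h4
      nth_rewrite 1 [← one_mul (W v d s t b1 c1 e1 f1 * pw z (xor (xor k (Q b' c' e' f')) k'))] at h5
      exact (mul_right_cancel h5).symm
    have k1 := hcen false false false true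
    have k2 := hcen false false true false
    have k3 := hcen false true false false
    have k4 := hcen true false false false
    revert k1 k2 k3 k4
    clear hcen h2 hk h1 hW
    revert b c e f b' c' e' f'
    decide
  -- the condition `hD` in coordinates
  have hD' : ∀ b c e f : Bool, p b c e f → ∃ b' c' e' f' : Bool, Q b' c' e' f' = false ∧
      B b c e f b' c' e' f' = false ∧ (b', c', e', f') ≠ (false, false, false, false) ∧
      (b', c', e', f') ≠ (b, c, e, f) ∧ ¬ p b' c' e' f' ∧
      ¬ p (xor b b') (xor c c') (xor e e') (xor f f') := by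
    intro b c e f hx
    obtain ⟨y, y1, y2, y3, y4, y5, y6, y7, y8⟩ := hD _ hx
    obtain ⟨b', c', e', f', i, rfl⟩ := h.gen y
    refine ⟨b', c', e', f', ?_, ?_, ?_, ?_, ?_, ?_⟩
    · have h1 : pw z i * W v d s t b' c' e' f' * (pw z i * W v d s t b' c' e' f') =
          W v d s t b' c' e' f' * W v d s t b' c' e' f' := by
        calc pw z i * W v d s t b' c' e' f' * (pw z i * W v d s t b' c' e' f')
            = pw z i * (W v d s t b' c' e' f' * pw z i) * W v d s t b' c' e' f' := by group
          _ = (pw z i * pw z i) * (W v d s t b' c' e' f' * W v d s t b' c' e' f') := by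
              rw [← h.pwz]; group
          _ = _ := by rw [h.pwz_mul, Bool.xor_self, pw_false, one_mul]
      rw [h1, h.sq_W] at y1
      exact h.pw_eq_one y1
    · have h1 := h.comm_W b c e f b' c' e' f'
      have h2 : W v d s t b c e f * W v d s t b' c' e' f' = W v d s t b' c' e' f' * W v d s t b c e f := by
        have h3 : pw z i * (W v d s t b c e f * W v d s t b' c' e' f') =
            pw z i * (W v d s t b' c' e' f' * W v d s t b c e f) := by
          calc pw z i * (W v d s t b c e f * W v d s t b' c' e' f')
              = (pw z i * W v d s t b c e f) * W v d s t b' c' e' f' := by group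
            _ = W v d s t b c e f * (pw z i * W v d s t b' c' e' f') := by rw [h.pwz]; group
            _ = _ := by rw [y2]; group
        exact mul_left_cancel h3
      rw [h2] at h1
      apply h.pw_eq_one
      nth_rewrite 1 [← one_mul (W v d s t b' c' e' f' * W v d s t b c e f)] at h1
      exact (mul_right_cancel h1).symm
    · intro hh
      obtain ⟨rfl, rfl, rfl, rfl⟩ := by simpa using hh
      cases i
      · exact y3 (by simp [W])
      · exact y4 (by simp [W])
    · intro hh
      obtain ⟨rfl, rfl, rfl, rfl⟩ := by simpa using hh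
      cases i
      · exact y5 (by simp)
      · exact y6 (by simp)
    · intro hh
      exact y7 ((hPz' _ _).mpr hh)
    · intro hh
      apply y8
      obtain ⟨k, hk⟩ := h.mul_W b c e f b' c' e' f'
      have : W v d s t b c e f * (pw z i * W v d s t b' c' e' f') =
          pw z (xor i k) * W v d s t (xor b b') (xor c c') (xor e e') (xor f f') := by
        calc W v d s t b c e f * (pw z i * W v d s t b' c' e' f')
            = (W v d s t b c e f * pw z i) * W v d s t b' c' e' f' := by group
          _ = pw z i * (W v d s t b c e f * W v d s t b' c' e' f') := by rw [← h.pwz]; group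
          _ = _ := by rw [hk, ← mul_assoc, h.pwz_mul]
      rw [this]
      exact (hPz' _ _).mpr hh
  -- the condition `hspan` in coordinates
  have hS' : ∀ b c e f : Bool, (b, c, e, f) ≠ (false, false, false, false) → ∃ b' c' e' f' : Bool,
      p b' c' e' f' ∧ Q b' c' e' f' = false ∧ B b' c' e' f' b c e f = true := by
    intro b c e f hne
    obtain ⟨x, hx, hxw⟩ := hspan (W v d s t b c e f) (fun hh => hne (W1 _ _ _ _ hh)) (fun hh => hne (by
      have h1 : W v d s t b c e f = pw z true * W v d s t false false false false := by
        rw [hh]; simp [W]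
      exact hW_inj _ _ _ _ _ _ _ _ _ h1))
    obtain ⟨b', c', e', f', i, rfl⟩ := h.gen x
    refine ⟨b', c', e', f', (hPz' _ _).mp hx, ?_, ?_⟩
    · have y1 := (hP2 _ hx).1
      have h1 : pw z i * W v d s t b' c' e' f' * (pw z i * W v d s t b' c' e' f') =
          W v d s t b' c' e' f' * W v d s t b' c' e' f' := by
        calc pw z i * W v d s t b' c' e' f' * (pw z i * W v d s t b' c' e' f')
            = pw z i * (W v d s t b' c' e' f' * pw z i) * W v d s t b' c' e' f' := by group
          _ = (pw z i * pw z i) * (W v d s t b' c' e' f' * W v d s t b' c' e' f') := by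
              rw [← h.pwz]; group
          _ = _ := by rw [h.pwz_mul, Bool.xor_self, pw_false, one_mul]
      rw [h1, h.sq_W] at y1
      exact h.pw_eq_one y1
    · by_contra hB
      rw [Bool.not_eq_true] at hB
      apply hxw
      have h1 := h.comm_W b' c' e' f' b c e f
      rw [hB, pw_false, one_mul] at h1
      calc pw z i * W v d s t b' c' e' f' * W v d s t b c e f
          = pw z i * (W v d s t b' c' e' f' * W v d s t b c e f) := by group
        _ = (pw z i * W v d s t b c e f) * W v d s t b' c' e' f' := by rw [h1]; group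
        _ = W v d s t b c e f * (pw z i * W v d s t b' c' e' f') := by rw [h.pwz]; group
  have pv : p true false false false := by
    have : W v d s t true false false false = v := by simp [W]
    rw [hp]; simp only [this]; exact hv
  have pt : p false false false true := by
    have : W v d s t false false false true = t := by simp [W]
    rw [hp]; simp only [this]; exact ht
  have pd : ¬ p false true false false := by
    have : W v d s t false true false false = d := by simp [W]
    rw [hp]; simp only [this]; exact hd
  have pvd : ¬ p true true false false := by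
    have : W v d s t true true false false = v * d := by simp [W]
    rw [hp]; simp only [this]; exact hvd
  clear_value p
  clear hp hv ht hd hvd hD hspan hP2 hPz hPz' W1 hW_inj h
  have s_no : ¬ p false false true false := by
    intro hx
    obtain ⟨b, c, e, f, q1, q2, q3, q4, q5, q6⟩ := hD' _ _ _ _ hx
    cases b <;> cases c <;> cases e <;> cases f <;> simp [Q, B] at q1 q2 q3 q4 q5 q6 <;>
      first | exact q5 pv | exact q6 pv | exact q5 pt | exact q6 pt
  have vs_imp : p true false true false → ¬ p false true false true ∧ ¬ p true true true true := by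
    intro hx
    obtain ⟨b, c, e, f, q1, q2, q3, q4, q5, q6⟩ := hD' _ _ _ _ hx
    cases b <;> cases c <;> cases e <;> cases f <;> simp [Q, B] at q1 q2 q3 q4 q5 q6 <;>
      first | exact absurd pv q5 | exact absurd pv q6 | exact ⟨q5, q6⟩ | exact ⟨q6, q5⟩
  have t_imp : (¬ p false false true true) ∨ (¬ p false true false true) := by
    obtain ⟨b, c, e, f, q1, q2, q3, q4, q5, q6⟩ := hD' _ _ _ _ pt
    cases b <;> cases c <;> cases e <;> cases f <;> simp [Q, B] at q1 q2 q3 q4 q5 q6 <;>
      first | exact Or.inl q5 | exact Or.inl q6 | exact Or.inr q5 | exact Or.inr q6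
  have st_imp : p false false true true → ¬ p true true true true := by
    intro hx
    obtain ⟨b, c, e, f, q1, q2, q3, q4, q5, q6⟩ := hD' _ _ _ _ hx
    cases b <;> cases c <;> cases e <;> cases f <;> simp [Q, B] at q1 q2 q3 q4 q5 q6 <;>
      first | exact absurd pt q5 | exact absurd pt q6 | exact q5 | exact q6
  have dt_imp : p false true false true → ¬ p true true true true := by
    intro hx
    obtain ⟨b, c, e, f, q1, q2, q3, q4, q5, q6⟩ := hD' _ _ _ _ hx
    cases b <;> cases c <;> cases e <;> cases f <;> simp [Q, B] at q1 q2 q3 q4 q5 q6 <;>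
      first | exact absurd pt q5 | exact absurd pt q6 | exact q5 | exact q6
  have w_d : p false false true true ∨ p true false true false ∨ p true true true true := by
    obtain ⟨b, c, e, f, q1, q2, q3⟩ := hS' false true false false (by decide)
    cases b <;> cases c <;> cases e <;> cases f <;> simp [Q, B] at q2 q3 <;>
      first | exact absurd q1 s_no | exact Or.inl q1 | exact Or.inr (Or.inl q1) | exact Or.inr (Or.inr q1)
  have w_s : p false true false true ∨ p true true true true := by
    obtain ⟨b, c, e, f, q1, q2, q3⟩ := hS' false false true false (by decide)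
    cases b <;> cases c <;> cases e <;> cases f <;> simp [Q, B] at q2 q3 <;>
      first | exact absurd q1 pd | exact absurd q1 pvd | exact Or.inl q1 | exact Or.inr q1
  have w_ds : p false false true true ∨ p true false true false ∨ p false true false true := by
    obtain ⟨b, c, e, f, q1, q2, q3⟩ := hS' false true true false (by decide)
    cases b <;> cases c <;> cases e <;> cases f <;> simp [Q, B] at q2 q3 <;>
      first | exact absurd q1 pd | exact absurd q1 pvd | exact absurd q1 s_no | exact Or.inl q1 |
        exact Or.inr (Or.inl q1) | exact Or.inr (Or.inr q1)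
  tauto

end Quad

end Cfsg.Agent.MinSimple.BTwoGrid
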