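import Mathlib
import Cfsg.Agent.MinSimple.BTwoK
import Cfsg.Agent.MinSimple.BTwoGrid
import Cfsg.Agent.MinSimple.BTwoEndC

/-!
# (E1) with `|V| = 4`, `b = 2`: the case `|us V z : dd V| = 2`

* `dd_le_V`: `|us V z : dd V| = 2` implies `dd V = V` (the case `ws V z ≅ 2^{1+4}_+` does not occur);
* `main`: if `|us V z : dd V| = 2`, then `G` has 2-rank at most 2 or a normal subgroup of index 2.
-/

set_option autoImplicit false
set_option linter.dupNamespace false
set_option linter.unusedSectionVars false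

namespace Cfsg.Agent.MinSimple.BTwoOne

open Subgroup Cfsg Cfsg.Agent.ZN Cfsg.Agent.MinSimple.Geo Cfsg.Agent.MinSimple.BTwoA
  Cfsg.Agent.MinSimple.BTwoB Cfsg.Agent.MinSimple.BTwoC Cfsg.Agent.MinSimple.BTwoD
open Cfsg.Agent.MinSimple.BTwoGrid (pw W)
open Cfsg.Agent.ZN.Block (conj_mem_of_normalizer conj_mem_of_normalizer' le_normalizer_of_forall
  mem_normalizer_of)

universe u

variable {G : Type u} [Group G] [Finite G] {T V : Subgroup G} {z : G}

theorem mul_mem_of_relIndex {K H : Subgroup G} (hi : K.relIndex H = 2) {a b : G} (ha : a ∈ H)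
    (hb : b ∈ H) (haK : a ∉ K) (hbK : b ∉ K) : a * b ∈ K := by
  have hi' : (K.subgroupOf H).index = 2 := hi
  have h1 := Subgroup.mul_mem_iff_of_index_two hi' (a := ⟨a, ha⟩) (b := ⟨b, hb⟩)
  rw [mem_subgroupOf, mem_subgroupOf, mem_subgroupOf] at h1
  exact h1.mpr ⟨fun h => absurd h haK, fun h => absurd h hbK⟩

/-- a line is contained in each subgroup containing `z` and another of its elements -/
theorem line_le (h : BTwo T V z) {L U : Subgroup G} (hL : L ∈ lines V z) {y : G} (hy : y ∈ L)
    (hy1 : y ≠ 1) (hyz : y ≠ z) (hzU : z ∈ U) (hyU : y ∈ U) : L ≤ U := by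
  obtain ⟨T', h'⟩ := BTwoK.BTwo.line h hL
  intro x hx
  rcases h'.four h'.z_mem hy h'.z_ne hy1 (Ne.symm hyz) hx with rfl | rfl | rfl | rfl
  · exact one_mem _
  · exact hzU
  · exact hyU
  · exact mul_mem hzU hyU

theorem dd_cj_mem {c d : G} (hd : d ∈ dd V) : c * d * c⁻¹ ∈ dd (cj c V) := by
  rw [mem_dd] at hd ⊢
  intro p hp hp1
  rw [mem_cj] at hp
  have h1 := hd _ hp (fun e => hp1 (by
    have : p = c * (c⁻¹ * p * c) * c⁻¹ := by group
    rw [this, e]; group))
  have h2 := conj_mem_ws (g := c) h1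
  have e : c * (c⁻¹ * p * c) * c⁻¹ = p := by group
  rw [e] at h2
  rw [BTwoK.ws_cj]
  exact h2

/-- **`dd V = V` if `|us V z : dd V| = 2`** -/
theorem dd_le_V (h : BTwo T V z) (hi : (dd V).relIndex (us V z) = 2) : dd V ≤ V := by
  by_contra hcon
  obtain ⟨d0, hd0, hd0V⟩ := SetLike.not_le_iff_exists.mp hcon
  obtain ⟨v, hv, hv1, hvz⟩ := h.exists_y
  have hddus : dd V ≤ us V z := h.dd_le_us h.z_mem h.z_ne
  have hddws : dd V ≤ ws V z := h.dd_le_ws h.z_mem h.z_ne
  have hVdd : V ≤ dd V := h.V_le_dd
  have hvws : v ∈ ws V z := h.V_le_ws hv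
  have hzws : z ∈ ws V z := h.V_le_ws h.z_mem
  have zc : ∀ w ∈ ws V z, Commute z w := fun w hw => (h.z_comm (h.ws_le_centralizer hw)).symm
  -- a line not commuting with `V`
  obtain ⟨t, L1, hL1, htL, htw, ht2, htV⟩ : ∃ t, ∃ L ∈ lines V z, t ∈ L ∧ t ∈ ws V z ∧ t * t = 1 ∧
      t ∉ centralizer (V : Set G) := by
    by_contra hcon
    push Not at hcon
    obtain ⟨w, hw, hwV⟩ := h.exists_w
    apply hwV
    refine (ws_le (U := centralizer (V : Set G)) fun L hL x hx => ?_) hw
    obtain ⟨T', h'⟩ := BTwoK.BTwo.line h hL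
    exact hcon x L hL hx (le_ws hL hx) (h'.sq x hx)
  have ht1 : t ≠ 1 := fun e => htV (by rw [e]; exact one_mem _)
  have htz : t ≠ z := fun e => htV (by
    rw [e, mem_centralizer_iff]; exact fun w hw => h.comm hw h.z_mem)
  have m1 : t * v * t⁻¹ = z * v := h.w_move htw htV hv hv1 hvz
  have htv : t * v = z * (v * t) := by
    calc t * v = (t * v * t⁻¹) * t := by group
      _ = z * (v * t) := by rw [m1, mul_assoc]
  have hvt : v * t = z * (t * v) := by rw [htv, ← mul_assoc, h.zz, one_mul]
  -- the element `d`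
  obtain ⟨d, hd, hdV, hdt⟩ : ∃ d ∈ dd V, d ∉ V ∧ d * t = t * d := by
    rcases h.dd_ws hd0 htw with e | e
    · refine ⟨d0, hd0, hd0V, ?_⟩
      calc d0 * t = (t * d0 * t⁻¹) * t := by rw [e]
        _ = t * d0 := by group
    · refine ⟨d0 * v, mul_mem hd0 (hVdd hv), fun e1 => hd0V ?_, ?_⟩
      · have := mul_mem e1 (inv_mem hv)
        rwa [mul_inv_cancel_right] at this
      · have e1 : t * d0 = z * (d0 * t) := by
          calc t * d0 = (t * d0 * t⁻¹) * t := by group
            _ = z * (d0 * t) := by rw [e, mul_assoc]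
        have c1 := (zc _ (hddws hd0)).eq
        calc d0 * v * t = d0 * (v * t) := by group
          _ = (d0 * z) * t * v := by rw [hvt]; group
          _ = z * (d0 * t) * v := by rw [← c1]; group
          _ = t * (d0 * v) := by rw [← e1]; group
  have hdd2 := h.dd_sq hd
  have hdv : v * d = d * v := h.dd_comm (hVdd hv) hd
  -- elements of `us V z` outside `dd V` do not commute with `d`
  obtain ⟨a0, ha0, ha0d⟩ : ∃ a ∈ us V z, a ∉ dd V := by
    by_contra hcon
    push Not at hcon
    have : (dd V).relIndex (us V z) = 1 := relIndex_eq_one.mpr hcon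
    omega
  have hnc : ∀ a ∈ us V z, a ∉ dd V → d * a = z * (a * d) := by
    intro a ha had
    have hne : ¬ a * d = d * a := by
      intro hc
      apply hdV
      refine BTwo.mem_V_of_comm h hd fun b hb => ?_
      by_cases hbd : b ∈ dd V
      · exact h.dd_comm hbd hd
      · have h1 := mul_mem_of_relIndex hi (inv_mem ha) hb (fun e => had (inv_mem_iff.mp e)) hbd
        have h2 := h.dd_comm h1 hd
        calc b * d = a * ((a⁻¹ * b) * d) := by group
          _ = (a * d) * (a⁻¹ * b) := by rw [h2]; group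
          _ = d * b := by rw [hc]; group
    rcases ws_cases h (hddws hd) ha.1 with e | e
    · exact absurd e.symm hne
    · exact e
  -- the element `a` commuting with `t`
  obtain ⟨a, ha, had, hat⟩ : ∃ a ∈ us V z, a ∉ dd V ∧ a * t = t * a := by
    rcases ws_cases h ha0.1 htw with e | e
    · exact ⟨a0, ha0, ha0d, e⟩
    · refine ⟨a0 * v, mul_mem ha0 (hddus (hVdd hv)), fun e1 => ha0d ?_, ?_⟩
      · have := mul_mem e1 (inv_mem (hVdd hv))
        rwa [mul_inv_cancel_right] at this
      · have c1 := (zc _ ha0.1).eq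
        calc a0 * v * t = a0 * (v * t) := by group
          _ = (a0 * z) * t * v := by rw [hvt]; group
          _ = z * (a0 * t) * v := by rw [← c1]; group
          _ = (z * z) * (t * a0) * v := by rw [e]; group
          _ = t * (a0 * v) := by rw [h.zz]; group
  -- the involution `s`
  obtain ⟨s, hs, hsd, hst, hss⟩ : ∃ s ∈ us V z, s ∉ dd V ∧ s * t = t * s ∧ s * s = 1 := by
    rcases h.sq_cases ha.1 with e | e
    · exact ⟨a, ha, had, hat, e⟩
    · refine ⟨a * d, mul_mem ha (hddus hd), fun e1 => had ?_, ?_, ?_⟩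
      · have := mul_mem e1 (inv_mem hd)
        rwa [mul_inv_cancel_right] at this
      · calc a * d * t = a * (d * t) := by group
          _ = (a * t) * d := by rw [hdt]; group
          _ = t * (a * d) := by rw [hat]; group
      · have e1 := hnc a ha had
        have c1 := (zc _ ha.1).eq
        calc a * d * (a * d) = a * (d * a) * d := by group
          _ = (a * z) * a * (d * d) := by rw [e1]; group
          _ = z * (a * a) := by rw [← c1, hdd2]; group
          _ = 1 := by rw [e, h.zz]
  have hds : d * s = z * (s * d) := hnc s hs hsd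
  have hvs : v * s = s * v := (comm_V hs.2 hv).symm
  -- the data in the group `ws V z`
  let H := ws V z
  let z' : H := ⟨z, hzws⟩
  let v' : H := ⟨v, hvws⟩
  let d' : H := ⟨d, hddws hd⟩
  let s' : H := ⟨s, hs.1⟩
  let t' : H := ⟨t, htw⟩
  have hpw : ∀ (x : H) (b : Bool), ((pw x b : H) : G) = pw (x : G) b := by
    intro x b; cases b <;> rfl
  have hquad : BTwoGrid.Quad z' v' d' s' t' := by
    refine ⟨fun x => Subtype.ext (zc x x.2).eq, Subtype.ext h.zz, fun e => h.z_ne (congrArg Subtype.val e),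
      Subtype.ext (h.sq v hv), Subtype.ext hdd2, Subtype.ext hss, Subtype.ext ht2, Subtype.ext hvt,
      Subtype.ext hds, Subtype.ext hdv, Subtype.ext hvs, Subtype.ext hdt, Subtype.ext hst, ?_⟩
    rintro ⟨x, hx⟩
    -- the `t`-part
    obtain ⟨f, y, hy, hxy⟩ : ∃ f : Bool, ∃ y ∈ us V z, x = y * pw t f := by
      by_cases hxV : x ∈ centralizer (V : Set G)
      · exact ⟨false, x, ⟨hx, hxV⟩, by simp⟩
      · refine ⟨true, x * t, h.us_two hx hxV htw htV, ?_⟩
        simp only [BTwoGrid.pw_true]
        rw [mul_assoc, ht2, mul_one]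
    obtain ⟨e, w, hw, hyw⟩ : ∃ e : Bool, ∃ w ∈ dd V, y = w * pw s e := by
      by_cases hyd : y ∈ dd V
      · exact ⟨false, y, hyd, by simp⟩
      · refine ⟨true, y * s, mul_mem_of_relIndex hi hy hs hyd hsd, ?_⟩
        simp only [BTwoGrid.pw_true]
        rw [mul_assoc, hss, mul_one]
    obtain ⟨c, r, hr, hwr⟩ : ∃ c : Bool, ∃ r ∈ V, w = r * pw d c := by
      by_cases hwV : w ∈ V
      · exact ⟨false, w, hwV, by simp⟩
      · refine ⟨true, w * d, ?_, ?_⟩
        · refine BTwo.mem_V_of_comm h (mul_mem hw hd) fun b hb => ?_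
          by_cases hbd : b ∈ dd V
          · exact h.dd_comm hbd (mul_mem hw hd)
          · -- `b` moves both `w` and `d`
            have e1 := hnc b hb hbd
            have e2 : w * b = z * (b * w) := by
              rcases ws_cases h (hddws hw) hb.1 with e2 | e2
              · exfalso
                apply hwV
                refine BTwo.mem_V_of_comm h hw fun b' hb' => ?_
                by_cases hbd' : b' ∈ dd V
                · exact h.dd_comm hbd' hw
                · have h1 := mul_mem_of_relIndex hi (inv_mem hb) hb' (fun e => hbd (inv_mem_iff.mp e)) hbd'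
                  have h2 := h.dd_comm h1 hw
                  calc b' * w = b * ((b⁻¹ * b') * w) := by group
                    _ = (b * w) * (b⁻¹ * b') := by rw [h2]; group
                    _ = w * b' := by rw [← e2]; group
              · exact e2
            have c1 := (zc _ (hddws hw)).eq
            symm
            calc w * d * b = w * (d * b) := by group
              _ = (w * z) * b * d := by rw [e1]; group
              _ = z * (w * b) * d := by rw [← c1]; group
              _ = (z * z) * (b * w) * d := by rw [e2]; group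
              _ = b * (w * d) := by rw [h.zz]; group
        · simp only [BTwoGrid.pw_true]
          rw [mul_assoc, hdd2, mul_one]
    obtain ⟨i, b, hrb⟩ : ∃ i b : Bool, r = pw z i * pw v b := by
      rcases h.four h.z_mem hv h.z_ne hv1 (Ne.symm hvz) hr with k | k | k | k
      · exact ⟨false, false, by simp [k]⟩
      · exact ⟨true, false, by simp [k]⟩
      · exact ⟨false, true, by simp [k]⟩
      · exact ⟨true, true, by simp [k]⟩
    refine ⟨b, c, e, f, i, Subtype.ext ?_⟩
    change x = ((pw z' i * W v' d' s' t' b c e f : H) : G)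
    unfold BTwoGrid.W
    push_cast
    rw [hpw, hpw, hpw, hpw, hpw, hxy, hyw, hwr, hrb]
    group
    rfl
  -- the line elements
  let P : H → Prop := fun x => ∃ L ∈ lines V z, (x : G) ∈ L ∧ (x : G) ≠ 1 ∧ (x : G) ≠ z
  have hnP : ∀ y ∈ dd V, y ∉ V → ∀ L ∈ lines V z, y ∈ L → y ≠ 1 → y ≠ z → False := by
    intro y hy hyV L hL hyL hy1 hyz
    have h1 := line_le h hL hyL hy1 hyz (hVdd h.z_mem) hy
    have h2 := BTwoK.BTwo.eq_of_mem_lines h hL h1
    rw [h2] at hyL
    exact hyV hyL
  refine hquad.false_of P ?_ ?_ ?_ ?_ ?_ ?_ ?_ ?_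
  · rintro x ⟨L, hL, hx, hx1, hxz⟩
    have hx' : z * (x : G) ∈ L := hx
    refine ⟨L, hL, ?_, ?_, ?_⟩
    · have := mul_mem hL.2 hx'
      rwa [← mul_assoc, h.zz, one_mul] at this
    · intro e
      apply hxz
      change z * (x : G) = z
      rw [e, mul_one]
    · intro e
      apply hx1
      change z * (x : G) = 1
      rw [e, h.zz]
  · rintro x ⟨L, hL, hx, hx1, hxz⟩
    obtain ⟨T', h'⟩ := BTwoK.BTwo.line h hL
    exact ⟨Subtype.ext (h'.sq _ hx), fun e => hx1 (congrArg Subtype.val e),
      fun e => hxz (congrArg Subtype.val e)⟩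
  · rintro x ⟨L, hL, hx, hx1, hxz⟩
    obtain ⟨T', h'⟩ := BTwoK.BTwo.line h hL
    obtain ⟨c, hc, rfl⟩ := h.toGeo.exists_of_mem_lines hL
    -- an element of `dd L` outside `L`
    have hyd : c * d * c⁻¹ ∈ dd (cj c V) := dd_cj_mem hd
    have hyL : c * d * c⁻¹ ∉ cj c V := by
      rw [mem_cj]
      have : c⁻¹ * (c * d * c⁻¹) * c = d := by group
      rwa [this]
    set y := c * d * c⁻¹ with hy
    have hxd : (x : G) ∈ dd (cj c V) := h'.V_le_dd hx
    have hws' : ws (cj c V) z = ws V z := BTwoK.ws_cj V c z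
    have hlines' : lines (cj c V) z = lines V z := BTwoK.lines_cj V c z
    have hyw : y ∈ ws V z := by
      rw [← hws']; exact h'.dd_le_ws h'.z_mem h'.z_ne hyd
    have hno : ∀ y ∈ dd (cj c V), y ∉ cj c V → ∀ L ∈ lines V z, y ∈ L → y ≠ 1 → y ≠ z → False := by
      intro y hy hyV L hL hyL hy1 hyz
      have h1 := line_le h hL hyL hy1 hyz (h'.V_le_dd h'.z_mem) hy
      have h2 := BTwoK.BTwo.eq_of_mem_lines h' (by rw [hlines']; exact hL) h1
      rw [h2] at hyL
      exact hyV hyL
    refine ⟨⟨y, hyw⟩, Subtype.ext (h'.dd_sq hyd), Subtype.ext (h'.dd_comm hxd hyd), ?_, ?_, ?_, ?_, ?_, ?_⟩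
    · intro e
      have e' : y = 1 := congrArg Subtype.val e
      exact hyL (by rw [e']; exact one_mem _)
    · intro e
      have e' : y = z := congrArg Subtype.val e
      exact hyL (by rw [e']; exact hL.2)
    · intro e
      have e' : y = x := congrArg Subtype.val e
      exact hyL (by rw [e']; exact hx)
    · intro e
      have e' : y = z * x := congrArg Subtype.val e
      exact hyL (by rw [e']; exact mul_mem hL.2 hx)
    · rintro ⟨L', hL', hy', hy1, hyz⟩
      exact hno y hyd hyL L' hL' hy' hy1 hyz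
    · rintro ⟨L', hL', hy', hy1, hyz⟩
      refine hno _ (mul_mem hxd hyd) (fun e => hyL ?_) L' hL' hy' hy1 hyz
      have := mul_mem (inv_mem hx) e
      rwa [inv_mul_cancel_left] at this
  · intro w hw1 hwz
    by_contra hcon
    push Not at hcon
    -- `w` is central
    have hwc : ∀ x ∈ ws V z, x * (w : G) = w * x := by
      have h1 : ws V z ≤ centralizer ({(w : G)} : Set G) := by
        refine ws_le fun L hL x hx => ?_
        rw [mem_centralizer_singleton_iff]
        by_cases hx1 : x = 1
        · rw [hx1]; simp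
        by_cases hxz : x = z
        · rw [hxz]; exact (zc _ w.2).eq
        · exact congrArg Subtype.val (hcon ⟨x, le_ws hL hx⟩ ⟨L, hL, hx, hx1, hxz⟩)
      intro x hx
      exact mem_centralizer_singleton_iff.mp (h1 hx)
    have hwus : (w : G) ∈ us V z := ⟨w.2, mem_centralizer_iff.mpr fun x hx => hwc x (h.V_le_ws hx)⟩
    by_cases hwd : (w : G) ∈ dd V
    · have h1 := BTwoC.mem_zpowers_of_comm h hwd hwc
      rcases (mem_zpowers_iff_of_mul_self h.zz).mp h1 with e | e
      · exact hw1 (Subtype.ext e)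
      · exact hwz (Subtype.ext e)
    · have h1 := hnc _ hwus hwd
      rw [hwc d (hddws hd)] at h1
      exact h.z_ne (by simpa using h1.symm)
  · exact ⟨V, h.V_mem_lines, hv, hv1, hvz⟩
  · exact ⟨L1, hL1, htL, ht1, htz⟩
  · rintro ⟨L, hL, hy, hy1, hyz⟩
    exact hnP d hd hdV L hL hy hy1 hyz
  · rintro ⟨L, hL, hy, hy1, hyz⟩
    refine hnP (v * d) (mul_mem (hVdd hv) hd) (fun e => hdV ?_) L hL hy hy1 hyz
    have := mul_mem (inv_mem hv) e
    rwa [inv_mul_cancel_left] at this

/-- **The case `|us V z : dd V| = 2`.** -/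
theorem main (h : BTwo T V z) (hi : (dd V).relIndex (us V z) = 2) :
    PRankLE 2 2 G ∨ ∃ M : Subgroup G, M.Normal ∧ M.index = 2 := by
  have h1 := dd_le_V h hi
  have h2 : dd V = V := le_antisymm h1 h.V_le_dd
  rw [h2] at hi
  exact BTwoEndC.One.main (T := T) (V := V) (z := z) ⟨h, h1, hi⟩

end Cfsg.Agent.MinSimple.BTwoOne
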