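import Cfsg.Agent.MinSimple.BTwoLe
import Cfsg.Agent.MinSimple.BTwoD
import Cfsg.Agent.MinSimple.BTwoOne

/-!
# (E1)(a): the case `|V| = 4`, `⟨V^{C_G(z)}⟩` nonabelian

`main`: `BTwo T V z` implies that `G` has 2-rank at most two or a subgroup of index two.
-/

set_option autoImplicit false

namespace Cfsg.Agent.MinSimple.BTwoFinal

open Subgroup Cfsg Cfsg.Agent.MinSimple.BTwoA

universe u

variable {G : Type u} [Group G] [Finite G] {T V : Subgroup G} {z : G}

theorem relIndex_eq (h : BTwo T V z) : (dd V).relIndex (us V z) = 2 := by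
  have h1 := BTwoLe.relIndex_le h
  have h0 : (dd V).relIndex (us V z) ≠ 0 := index_ne_zero_of_finite
  have h2 : (dd V).relIndex (us V z) ≠ 1 := by
    intro e
    rw [relIndex_eq_one] at e
    exact BTwoD.us_ne_dd h (le_antisymm e (h.dd_le_us h.z_mem h.z_ne))
  omega

/-- **(E1)(a)** -/
theorem main (h : BTwo T V z) : PRankLE 2 2 G ∨ ∃ M : Subgroup G, M.Normal ∧ M.index = 2 :=
  BTwoOne.main h (relIndex_eq h)

end Cfsg.Agent.MinSimple.BTwoFinal
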