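import Cfsg.Agent.MinSimple.BTwoRep

/-!
# (E1) with `|V| = 4`, `b = 2`: the hyperplanes of `us V q / dd V`

`exists_pow_lift`, `smul_l_ne`, `inv`: an element `c` of `r`-power order of `C_G(z)`, inverted modulo `kq V z` by
some element of `us V q`, gives the data `BTwoMod.Inv`.
-/

set_option autoImplicit false
set_option linter.dupNamespace false
set_option linter.unusedSectionVars false

namespace Cfsg.Agent.MinSimple.BTwoInv

open Subgroup Cfsg Cfsg.Agent.ZN Cfsg.Agent.MinSimple.Geo Cfsg.Agent.MinSimple.BTwoA Cfsg.Agent.MinSimple.BTwoB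
open Cfsg.Agent.MinSimple.BTwoC Cfsg.Agent.MinSimple.BTwoK Cfsg.Agent.MinSimple.BTwoRep
open Cfsg.Agent.ZN.Block (conj_mem_of_normalizer conj_mem_of_normalizer' le_normalizer_of_forall
  mem_normalizer_of)
open Cfsg.Agent.MinSimple.Sec (Sec Mod)
open Cfsg.Agent.MinSimple.Sec.Mod

universe u

/-- a preimage of prime power order -/
theorem exists_pow_lift {C H : Type*} [Group C] [Finite C] [Group H] (φ : C →* H) (g : C) {r : ℕ} (hr : r.Prime)
    (hg : φ g ^ r = 1) : ∃ k s : ℕ, φ (g ^ k) = φ g ∧ (g ^ k) ^ r ^ s = 1 := by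
  have hpos : 0 < orderOf g := orderOf_pos g
  obtain ⟨s, m, hm, hn⟩ := Nat.exists_eq_pow_mul_and_not_dvd hpos.ne' r hr.ne_one
  have hcop : Nat.Coprime m r := ((Nat.Prime.coprime_iff_not_dvd hr).2 hm).symm
  obtain ⟨m', -, hm'⟩ := Nat.exists_mul_mod_eq_one_of_coprime hcop hr.one_lt
  refine ⟨m * m', s, ?_, ?_⟩
  · rw [map_pow]
    have h1 : m * m' = r * (m * m' / r) + 1 := by
      have := Nat.div_add_mod (m * m') r
      rw [hm'] at this
      exact this.symm
    rw [h1, pow_add, pow_mul, hg, one_pow, one_mul, pow_one]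
  · rw [← pow_mul, show m * m' * r ^ s = (r ^ s * m) * m' by ring, ← hn, pow_mul, pow_orderOf_eq_one, one_pow]

variable {G : Type u} [Group G]

/-- an element of odd order commutes with `a` if its square does -/
theorem comm_of_sq {c a : G} {r s : ℕ} (hr : r % 2 = 1) (hc : c ^ r ^ s = 1) (h : c * c * a = a * (c * c)) :
    c * a = a * c := by
  have hodd : r ^ s % 2 = 1 := Nat.odd_iff.1 ((Nat.odd_iff.2 hr).pow)
  have h1 : Commute (c * c) a := h
  have h2 : c = (c * c) ^ (r ^ s / 2 + 1) := by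
    rw [← pow_two, ← pow_mul]
    have : 2 * (r ^ s / 2 + 1) = r ^ s + 1 := by omega
    rw [this, pow_succ, hc, one_mul]
  rw [h2]
  exact (h1.pow_left _)

/-- an element of odd order commuting with `a` modulo a central involution commutes with `a` -/
theorem comm_of_mem_zpowers {c a z : G} {r s : ℕ} (hr : r % 2 = 1) (hc : c ^ r ^ s = 1) (hz : z * z = 1)
    (hcz : c * z = z * c) (h : c * a * c⁻¹ * a⁻¹ ∈ zpowers z) : c * a = a * c := by
  refine comm_of_sq hr hc ?_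
  rcases (mem_zpowers_iff_of_mul_self hz).1 h with e | e
  · have h1 : c * a = a * c := by
      calc c * a = (c * a * c⁻¹ * a⁻¹) * a * c := by group
        _ = a * c := by rw [e, one_mul]
    calc c * c * a = c * (c * a) := by group
      _ = (c * a) * c := by rw [h1, ← mul_assoc, h1]
      _ = a * (c * c) := by rw [h1]; group
  · have h1 : c * a = z * (a * c) := by
      calc c * a = (c * a * c⁻¹ * a⁻¹) * (a * c) := by group
        _ = z * (a * c) := by rw [e]
    calc c * c * a = c * (c * a) := by group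
      _ = (c * z) * (a * c) := by rw [h1]; group
      _ = z * (c * a) * c := by rw [hcz]; group
      _ = (z * z) * (a * (c * c)) := by rw [h1]; group
      _ = a * (c * c) := by rw [hz, one_mul]

variable [Finite G] {T V : Subgroup G} {z : G}

theorem card_aa (h : BTwo T V z) {q : G} (hq : q ∈ V) (hq1 : q ≠ 1) (hqz : q ≠ z) :
    Nat.card (aa h q) = (dd V).relIndex (us V q) := by
  rw [aa, ← relIndex_ker]
  have hker : (rep (sec h)).ker = (kq V z).subgroupOf (centralizer ({z} : Set G)) := by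
    ext ⟨c, hc⟩
    rw [MonoidHom.mem_ker, rep_eq_one_iff h hc, mem_subgroupOf]
  rw [hker, relIndex_subgroupOf (us_le_C h q)]
  have h1 : us V q ⊓ kq V z = dd V :=
    le_antisymm (us_inf_kq_le h hq hq1 hqz) (le_inf (h.dd_le_us hq hq1) (dd_le_kq h))
  rw [← inf_relIndex_left, h1]

/-- `λ^y ≠ λ` -/
theorem smul_l_ne (h : BTwo T V z) {q : G} (hq : q ∈ V) (hq1 : q ≠ 1) (hqz : q ≠ z) {c : G}
    (hc : c ∈ centralizer ({z} : Set G)) {r s : ℕ} (hr : r % 2 = 1) (hcr : c ^ r ^ s = 1)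
    (hcr' : rep (sec h) ⟨c, hc⟩ ^ r = 1) (hc1 : rep (sec h) ⟨c, hc⟩ ≠ 1) {a : Aut (sec h)} (ha : a ∈ aa h q)
    (hinv : a * rep (sec h) ⟨c, hc⟩ * a⁻¹ = (rep (sec h) ⟨c, hc⟩)⁻¹) :
    rep (sec h) ⟨c, hc⟩ • mk (sec h) q (h.V_le_ws hq) ≠ mk (sec h) q (h.V_le_ws hq) := by
  intro hl
  set y := rep (sec h) ⟨c, hc⟩ with hy
  rw [hy, rep_smul, smul_mk, mk_eq] at hl
  change (c * q * c⁻¹)⁻¹ * q ∈ zpowers z at hl
  have hqC : q ∈ centralizer ({z} : Set G) := (sec h).NC (h.V_le_ws hq)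
  have hcz : c * z = z * c := h.z_comm hc
  have hcq : c * q = q * c := by
    refine comm_of_mem_zpowers hr hcr h.zz hcz ?_
    have e : c * q * c⁻¹ * q⁻¹ = q * ((c * q * c⁻¹)⁻¹ * q)⁻¹ * q⁻¹ := by group
    rw [e, (sec h).conj_z hqC (inv_mem hl)]
    exact inv_mem hl
  have hcV : c ∈ centralizer (V : Set G) := by
    rw [mem_centralizer_iff]
    intro v hv
    rcases h.four h.z_mem hq h.z_ne hq1 (Ne.symm hqz) hv with rfl | rfl | rfl | rfl
    · simp
    · exact hcz.symm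
    · exact hcq.symm
    · rw [mul_assoc, ← hcq, ← mul_assoc, ← hcz, mul_assoc]
  obtain ⟨u, hu, hu', rfl⟩ := mem_aa.1 ha
  have h1 : u * (c * u⁻¹ * c⁻¹) ∈ us V q := by
    refine mul_mem hu' ?_
    have h2 := conj_mem_us (centralizer_le_normalizer _ hcV) (inv_mem hu')
    rwa [show c * q * c⁻¹ = q by rw [hcq]; group] at h2
  have h2 : u * (c * u⁻¹ * c⁻¹) ∈ centralizer ({z} : Set G) := us_le_C h q h1
  have h3 : rep (sec h) ⟨u * (c * u⁻¹ * c⁻¹), h2⟩ ∈ aa h q := mem_aa.2 ⟨_, h2, h1, rfl⟩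
  have h4 := (data h hq hq1 hqz).inv _ h3
  have h5 : (⟨u * (c * u⁻¹ * c⁻¹), h2⟩ : centralizer ({z} : Set G)) =
      ⟨u, hu⟩ * (⟨c, hc⟩ * ⟨u, hu⟩⁻¹ * ⟨c, hc⟩⁻¹) := rfl
  have h6 : rep (sec h) ⟨u * (c * u⁻¹ * c⁻¹), h2⟩ = y⁻¹ * y⁻¹ := by
    rw [h5, map_mul, map_mul, map_mul, map_inv, map_inv, ← hy]
    have : (rep (sec h)) ⟨u, hu⟩ * (y * ((rep (sec h)) ⟨u, hu⟩)⁻¹ * y⁻¹) =
      (rep (sec h)) ⟨u, hu⟩ * y * ((rep (sec h)) ⟨u, hu⟩)⁻¹ * y⁻¹ := by group
    rw [this, hinv]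
  rw [h6] at h4
  have h7 : y ^ 4 = 1 := by
    have : y⁻¹ * y⁻¹ * (y⁻¹ * y⁻¹) = (y ^ 4)⁻¹ := by group
    rw [this] at h4
    exact inv_eq_one.1 h4
  apply hc1
  have h8 : orderOf y ∣ 4 := orderOf_dvd_of_pow_eq_one h7
  have h9 : orderOf y ∣ r := orderOf_dvd_of_pow_eq_one hcr'
  have h10 : Nat.Coprime 4 r := by
    have : Nat.Coprime 2 r := (Nat.coprime_two_left).2 (Nat.odd_iff.2 hr)
    exact this.pow_left 2
  exact orderOf_eq_one_iff.1 (Nat.eq_one_of_dvd_coprimes h10 h8 h9)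

/-- (F0): if `l ∈ M₁` then `M₀ ≤ H` -/
theorem fix_mem (h : BTwo T V z) {q : G} (hq : q ∈ V) (hq1 : q ≠ 1) (hqz : q ≠ z) {c : G}
    (hc : c ∈ centralizer ({z} : Set G)) {r s : ℕ} (hr : r % 2 = 1) (hcr : c ^ r ^ s = 1)
    (hE : BTwoMod.E (rep (sec h) ⟨c, hc⟩) r (mk (sec h) q (h.V_le_ws hq)) = 0) (m : Mod (sec h))
    (hm : rep (sec h) ⟨c, hc⟩ • m = m) : m ∈ sub (sec h) (us V z) := by
  have hzus : z ∈ us V z := h.dd_le_us h.z_mem h.z_ne (h.V_le_dd h.z_mem)
  set y := rep (sec h) ⟨c, hc⟩ with hy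
  obtain ⟨n, hn, rfl⟩ := mk_surj m
  by_contra hnot
  rw [mem_sub hzus] at hnot
  rw [hy, rep_smul, smul_mk, mk_eq] at hm
  change (c * n * c⁻¹)⁻¹ * n ∈ zpowers z at hm
  have hcz : c * z = z * c := h.z_comm hc
  have hcn : c * n = n * c := by
    refine comm_of_mem_zpowers hr hcr h.zz hcz ?_
    have e : c * n * c⁻¹ * n⁻¹ = n * ((c * n * c⁻¹)⁻¹ * n)⁻¹ * n⁻¹ := by group
    rw [e, (sec h).conj_z ((sec h).NC hn) (inv_mem hm)]
    exact inv_mem hm
  have hzn : z ∈ centralizer ({n} : Set G) :=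
    mem_centralizer_singleton_iff.2 (h.z_comm ((sec h).NC hn)).symm
  set S := sub (sec h) (centralizer ({n} : Set G)) with hS
  have hmem : ∀ (a : G) (ha : a ∈ ws V z), mk (sec h) a ha ∈ S ↔ a * n = n * a := fun a ha => by
    rw [hS, mem_sub hzn, mem_centralizer_singleton_iff]
  -- `S` has index two
  have htwo : ∀ x x' : Mod (sec h), x ∉ S → x' ∉ S → x + x' ∈ S := by
    intro x x' hx hx'
    obtain ⟨a, ha, rfl⟩ := mk_surj x
    obtain ⟨b, hb, rfl⟩ := mk_surj x'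
    rw [hmem] at hx hx'
    rw [← mk_mul ha hb, hmem]
    have ha1 := (h.comm_cases ha (h.ws_le_o2 hn)).resolve_left hx
    have hb1 := (h.comm_cases hb (h.ws_le_o2 hn)).resolve_left hx'
    have haz : a * z = z * a := h.z_comm ((sec h).NC ha)
    calc a * b * n = a * (b * n) := by group
      _ = (a * z) * n * b := by rw [hb1]; group
      _ = z * (a * n) * b := by rw [haz]; group
      _ = (z * z) * (n * (a * b)) := by rw [ha1]; group
      _ = n * (a * b) := by rw [h.zz, one_mul]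
  have hy' : ∀ x : Mod (sec h), x ∉ S → y • x ∉ S := by
    intro x hx hyx
    apply hx
    obtain ⟨a, ha, rfl⟩ := mk_surj x
    rw [hy, rep_smul, smul_mk, hmem] at hyx
    rw [hmem]
    change c * a * c⁻¹ * n = n * (c * a * c⁻¹) at hyx
    calc a * n = c⁻¹ * ((c * a * c⁻¹) * (c * n)) := by group
      _ = c⁻¹ * ((c * a * c⁻¹ * n) * c) := by rw [hcn]; group
      _ = c⁻¹ * (n * c) * a := by rw [hyx]; group
      _ = n * a := by rw [← hcn]; group
  have hl : mk (sec h) q (h.V_le_ws hq) ∉ S := by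
    rw [hmem]
    intro hqn
    apply hnot
    have hzn' : z * n = n * z := (h.z_comm ((sec h).NC hn)).symm
    refine ⟨hn, mem_centralizer_iff.2 fun v hv => ?_⟩
    rcases h.four h.z_mem hq h.z_ne hq1 (Ne.symm hqz) hv with rfl | rfl | rfl | rfl
    · simp
    · exact hzn'
    · exact hqn
    · rw [mul_assoc, hqn, ← mul_assoc, hzn', mul_assoc]
  have hpow : ∀ i : ℕ, y ^ i • mk (sec h) q (h.V_le_ws hq) ∉ S := by
    intro i
    induction i with
    | zero => simpa using hl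
    | succ i ih => rw [pow_succ', mul_smul]; exact hy' _ ih
  have hsum : ∀ k : ℕ, (∑ i ∈ Finset.range k, y ^ i • mk (sec h) q (h.V_le_ws hq) ∈ S) ↔ k % 2 = 0 := by
    intro k
    induction k with
    | zero => simp [S.zero_mem]
    | succ k ih =>
      rw [Finset.sum_range_succ]
      constructor
      · intro h1
        by_contra h2
        have h3 : k % 2 = 0 := by omega
        have h4 := S.sub_mem h1 (ih.2 h3)
        rw [add_sub_cancel_left] at h4
        exact hpow k h4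
      · intro h1
        have h3 : ¬ k % 2 = 0 := by omega
        exact htwo _ _ (fun h4 => h3 (ih.1 h4)) (hpow k)
  have h1 : r % 2 = 0 := by
    rw [← hsum r]
    change BTwoMod.E y r _ ∈ S
    rw [hE]; exact S.zero_mem
  omega

/-- the data `BTwoMod.Inv` for `B = C_A(y)` -/
theorem inv (h : BTwo T V z) {q : G} (hq : q ∈ V) (hq1 : q ≠ 1) (hqz : q ≠ z) {c : G}
    (hc : c ∈ centralizer ({z} : Set G)) {r s : ℕ} (hrp : r.Prime) (hr2 : r ≠ 2) (hcr : c ^ r ^ s = 1)
    (hcr' : rep (sec h) ⟨c, hc⟩ ^ r = 1) (hc1 : rep (sec h) ⟨c, hc⟩ ≠ 1)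
    (hall : ∀ w ∈ aa h q, w * rep (sec h) ⟨c, hc⟩ = rep (sec h) ⟨c, hc⟩ * w ∨
      w * rep (sec h) ⟨c, hc⟩ * w⁻¹ = (rep (sec h) ⟨c, hc⟩)⁻¹)
    {a : Aut (sec h)} (ha : a ∈ aa h q)
    (hinv : a * rep (sec h) ⟨c, hc⟩ * a⁻¹ = (rep (sec h) ⟨c, hc⟩)⁻¹) :
    BTwoMod.Inv (aa h q) (aa h q ⊓ centralizer ({rep (sec h) ⟨c, hc⟩} : Set (Aut (sec h))))
      (sub (sec h) (us V z)) (sub (sec h) (dd V)) (mk (sec h) q (h.V_le_ws hq)) (rep (sec h) ⟨c, hc⟩) r := by
  have hr : r % 2 = 1 := hrp.eq_two_or_odd.resolve_left hr2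
  have hzdd : z ∈ dd V := h.V_le_dd h.z_mem
  set y := rep (sec h) ⟨c, hc⟩ with hy
  have hlne := smul_l_ne h hq hq1 hqz hc hr hcr hcr' hc1 ha hinv
  have hy2 : y * y ≠ 1 := by
    intro e
    apply hc1
    have h8 : orderOf y ∣ 2 := orderOf_dvd_of_pow_eq_one (by rw [pow_two]; exact e)
    have h9 : orderOf y ∣ r := orderOf_dvd_of_pow_eq_one hcr'
    exact orderOf_eq_one_iff.1 (Nat.eq_one_of_dvd_coprimes
      ((Nat.coprime_two_left).2 (Nat.odd_iff.2 hr)) h8 h9)
  have hmemB : ∀ w ∈ aa h q, w ∈ aa h q ⊓ centralizer ({y} : Set (Aut (sec h))) ↔ w * y = y * w :=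
    fun w hw => ⟨fun h1 => mem_centralizer_singleton_iff.1 h1.2,
      fun h1 => ⟨hw, mem_centralizer_singleton_iff.2 h1⟩⟩
  have hinv' : ∀ w ∈ aa h q, w ∉ aa h q ⊓ centralizer ({y} : Set (Aut (sec h))) → w * y = y⁻¹ * w := by
    intro w hw hwB
    rw [hmemB w hw] at hwB
    rw [← (hall w hw).resolve_left hwB]; group
  refine ⟨inf_le_left, ?_, ?_, hrp, hr2, ?_, ?_, ?_, ?_, ?_, ?_, ?_⟩
  · intro w hw hwB w' hw' hwB'
    rw [hmemB _ (mul_mem hw hw')]
    have h1 := hinv' w hw hwB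
    have h2 := hinv' w' hw' hwB'
    have h3 : w * y⁻¹ = y * w := by
      calc w * y⁻¹ = y * (y⁻¹ * w) * y⁻¹ := by group
        _ = y * (w * y) * y⁻¹ := by rw [h1]
        _ = y * w := by group
    calc w * w' * y = w * (w' * y) := by group
      _ = (w * y⁻¹) * w' := by rw [h2]; group
      _ = y * (w * w') := by rw [h3]; group
  · refine ⟨a, ha, ?_⟩
    rw [hmemB a ha]
    intro e
    apply hy2
    have h1 : a * y * a⁻¹ = y := by rw [e]; group
    rw [h1] at hinv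
    calc y * y = y * y⁻¹ := by rw [← hinv]
      _ = 1 := by group
  · intro m; rw [hcr', one_smul]
  · by_contra hcon
    push Not at hcon
    exact hc1 (aut_ext fun x => by rw [one_smul]; exact hcon x)
  · intro b hb m
    rw [← mul_smul, ← mul_smul, (hmemB b hb.1).1 hb]
  · intro w hw hwB m
    rw [← mul_smul, ← mul_smul, mul_assoc, hinv' w hw hwB, mul_inv_cancel_left]
  · intro hE m hm
    exact fix_mem h hq hq1 hqz hc hr hcr hE m hm
  · intro hl
    exact absurd hl hlne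
  · intro hk
    have h1 := hk 1
    rw [pow_one, hy, rep_smul, smul_mk, mem_sub hzdd] at h1
    change c * q * c⁻¹ ∈ dd V at h1
    have h2 : cj c V ≤ dd V := by
      rintro x hx
      rw [mem_cj] at hx
      have hcz : c * z * c⁻¹ = z := by rw [h.z_comm hc]; group
      rcases h.four h.z_mem hq h.z_ne hq1 (Ne.symm hqz) hx with e | e | e | e
      · have : x = 1 := by
          have : x = c * (c⁻¹ * x * c) * c⁻¹ := by group
          rw [this, e]; group
        rw [this]; exact one_mem _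
      · have : x = c * (c⁻¹ * x * c) * c⁻¹ := by group
        rw [this, e, hcz]; exact hzdd
      · have : x = c * (c⁻¹ * x * c) * c⁻¹ := by group
        rw [this, e]; exact h1
      · have : x = (c * z * c⁻¹) * (c * q * c⁻¹) := by
          calc x = c * (c⁻¹ * x * c) * c⁻¹ := by group
            _ = (c * z * c⁻¹) * (c * q * c⁻¹) := by rw [e]; group
        rw [this, hcz]; exact mul_mem hzdd h1
    have h3 := BTwo.eq_of_mem_lines h (h.toGeo.cj_mem_lines hc) h2
    apply hlne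
    rw [rep_smul, smul_mk, mk_eq]
    change (c * q * c⁻¹)⁻¹ * q ∈ zpowers z
    have h4 : c * q * c⁻¹ ∈ V := by rw [← h3]; exact conj_mem_cj hq
    have hcz : c * z * c⁻¹ = z := by rw [h.z_comm hc]; group
    rcases h.four h.z_mem hq h.z_ne hq1 (Ne.symm hqz) h4 with e | e | e | e
    · exfalso; apply hq1
      have : q = c⁻¹ * (c * q * c⁻¹) * c := by group
      rw [this, e]; group
    · exfalso; apply hqz
      have h5 : c * q * c⁻¹ = c * z * c⁻¹ := by rw [e, hcz]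
      exact mul_left_cancel (mul_right_cancel h5)
    · rw [e, inv_mul_cancel]; exact one_mem _
    · rw [e]
      have : (z * q)⁻¹ * q = q⁻¹ * z⁻¹ * q⁻¹⁻¹ := by group
      rw [this, (sec h).conj_z ((sec h).NC (inv_mem (h.V_le_ws hq))) (inv_mem (mem_zpowers z))]
      exact inv_mem (mem_zpowers z)

end Cfsg.Agent.MinSimple.BTwoInv
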