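import Cfsg.Agent.MinSimple.BTwoCfg
import Cfsg.Agent.Lib.CoprimeHyperplane

/-!
# (E1) with `|V| = 4`, `b = 2`: `|us V q : dd V| ≤ 2`
-/

set_option autoImplicit false
set_option linter.dupNamespace false
set_option linter.unusedSectionVars false

namespace Cfsg.Agent.MinSimple.BTwoLe

open Subgroup Cfsg Cfsg.Agent.ZN Cfsg.Agent.MinSimple.Geo Cfsg.Agent.MinSimple.BTwoA Cfsg.Agent.MinSimple.BTwoB
open Cfsg.Agent.MinSimple.BTwoC Cfsg.Agent.MinSimple.BTwoK Cfsg.Agent.MinSimple.BTwoLift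
open Cfsg.Agent.MinSimple.BTwoCfg
open Cfsg.Agent.ZN.Block (conj_mem_of_normalizer conj_mem_of_normalizer' le_normalizer_of_forall
  mem_normalizer_of)

universe u

variable {G : Type u} [Group G]

theorem mem_of_coprime_pow {W : Subgroup G} {x : G} {m n : ℕ} (hmn : Nat.Coprime m n) (hm : x ^ m ∈ W)
    (hn : x ^ n ∈ W) : x ∈ W := by
  have h1 := Nat.gcd_eq_gcd_ab m n
  rw [hmn.gcd_eq_one, Nat.cast_one] at h1
  have h2 : x = (x ^ m) ^ (Nat.gcdA m n) * (x ^ n) ^ (Nat.gcdB m n) := by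
    rw [← zpow_natCast, ← zpow_natCast, ← zpow_mul, ← zpow_mul, ← zpow_add, ← h1, zpow_one]
  rw [h2]
  exact mul_mem (zpow_mem hm _) (zpow_mem hn _)

variable [Finite G] {T V : Subgroup G} {z : G}

/-- `c e c⁻¹ e⁻¹ ∈ ws V z` -/
theorem gamma_mem (h : BTwo T V z) {q c e : G} {r s : ℕ} (hq : q ∈ V) (hq1 : q ≠ 1) (hqz : q ≠ z)
    (hr : r % 2 = 1) (hc : c ∈ ax V z q) (hcr : c ^ r ^ s = 1) (he : e ∈ us V q)
    (hk : e * c * e⁻¹ * c⁻¹ ∈ kq V z) : c * e * c⁻¹ * e⁻¹ ∈ ws V z := by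
  set C := centralizer ({z} : Set G) with hC
  have hcC : c ∈ C := ax_le h q hc
  have heax : e ∈ ax V z q := us_le_ax V z q he
  set γ := c * e * c⁻¹ * e⁻¹ with hγ
  have hγe : γ = (e * c * e⁻¹ * c⁻¹)⁻¹ := by rw [hγ]; group
  have hγo : γ ∈ o2 C := by
    have h1 : γ ∈ ax V z q := mul_mem (mul_mem (mul_mem hc heax) (inv_mem hc)) (inv_mem heax)
    have h2 : γ ∈ kq V z := by rw [hγe]; exact inv_mem hk
    exact ax_inf_kq_le h hq hq1 hqz ⟨h1, h2⟩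
  have hnW : ∀ x ∈ C, ∀ m ∈ ws V z, x * m * x⁻¹ ∈ ws V z := fun x hx m hm =>
    conj_mem_of_normalizer (Geo.centralizer_le_normalizer_ws V z) hx hm
  have key : ∀ i : ℕ, c ^ i * e * (c ^ i)⁻¹ * e⁻¹ * (γ ^ i)⁻¹ ∈ ws V z := by
    intro i
    induction i with
    | zero => simp
    | succ i ih =>
      set m := c ^ i * e * (c ^ i)⁻¹ * e⁻¹ * (γ ^ i)⁻¹ with hm
      have h2 : γ ^ i * c * (γ ^ i)⁻¹ * c⁻¹ ∈ ws V z := comm_o2_ax h hq hq1 hqz c hc _ (pow_mem hγo i)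
      have e1 : c ^ (i + 1) * e * (c ^ (i + 1))⁻¹ * e⁻¹ * (γ ^ (i + 1))⁻¹ =
          (c * m * c⁻¹) * (γ ^ i * c * (γ ^ i)⁻¹ * c⁻¹)⁻¹ := by
        have e2 : c ^ i * e * (c ^ i)⁻¹ = m * γ ^ i * e := by rw [hm]; group
        calc c ^ (i + 1) * e * (c ^ (i + 1))⁻¹ * e⁻¹ * (γ ^ (i + 1))⁻¹ =
            c * (c ^ i * e * (c ^ i)⁻¹) * c⁻¹ * e⁻¹ * (γ ^ (i + 1))⁻¹ := by rw [pow_succ']; group
          _ = c * (m * γ ^ i * e) * c⁻¹ * e⁻¹ * (γ ^ (i + 1))⁻¹ := by rw [e2]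
          _ = (c * m * c⁻¹) * (c * γ ^ i * c⁻¹) * (c * e * c⁻¹ * e⁻¹) * (γ ^ (i + 1))⁻¹ := by group
          _ = (c * m * c⁻¹) * (c * γ ^ i * c⁻¹) * γ * (γ ^ i * γ)⁻¹ := by rw [← hγ, pow_succ]
          _ = (c * m * c⁻¹) * (γ ^ i * c * (γ ^ i)⁻¹ * c⁻¹)⁻¹ := by group
      rw [e1]
      exact mul_mem (hnW c hcC _ ih) (inv_mem h2)
  have h1 := key (r ^ s)
  rw [hcr] at h1
  have h2 : γ ^ r ^ s ∈ ws V z := by
    have e1 : (1 : G) * e * 1⁻¹ * e⁻¹ * (γ ^ r ^ s)⁻¹ = (γ ^ r ^ s)⁻¹ := by group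
    rw [e1] at h1
    exact (inv_mem_iff).1 h1
  obtain ⟨k, hk'⟩ := (isPGroup_o2 C) ⟨γ, hγo⟩
  have h3 : γ ^ 2 ^ k = 1 := by simpa using congrArg Subtype.val hk'
  have hcop : Nat.Coprime (r ^ s) (2 ^ k) :=
    Nat.Coprime.pow _ _ ((Nat.coprime_two_right).2 (Nat.odd_iff.2 hr))
  exact mem_of_coprime_pow hcop h2 (by rw [h3]; exact one_mem _)

/-- a fixed point of `c` in the coset `e (ws V z)` -/
theorem exists_fixed (h : BTwo T V z) {c e : G} {r s : ℕ} (hrp : r.Prime) (hr2 : r ≠ 2)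
    (hc : c ∈ centralizer ({z} : Set G)) (hcr : c ^ r ^ s = 1) (he : e ∈ centralizer ({z} : Set G))
    (hγ : c * e * c⁻¹ * e⁻¹ ∈ ws V z) : ∃ x ∈ ws V z, c * (e * x) = (e * x) * c := by
  have hnW : ∀ x ∈ centralizer ({z} : Set G), ∀ m ∈ ws V z, x * m * x⁻¹ ∈ ws V z := fun x hx m hm =>
    conj_mem_of_normalizer (Geo.centralizer_le_normalizer_ws V z) hx hm
  have : Fact r.Prime := ⟨hrp⟩
  let cA : CommGroup (zpowers c) :=
    { (inferInstance : Group (zpowers c)) with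
      mul_comm := fun x y => Subtype.ext (by
        obtain ⟨i, hi⟩ := mem_zpowers_iff.1 x.2
        obtain ⟨j, hj⟩ := mem_zpowers_iff.1 y.2
        change (x : G) * y = y * x
        rw [← hi, ← hj, ← zpow_add, ← zpow_add, add_comm]) }
  let φ : zpowers c →* MulAut G := (MulAut.conj).comp (zpowers c).subtype
  have hφ : ∀ (p : zpowers c) (x : G), φ p x = (p : G) * x * (p : G)⁻¹ := fun p x => rfl
  have hzC : zpowers c ≤ centralizer ({z} : Set G) := zpowers_le.2 hc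
  have hB : IsPGroup r (⊤ : Subgroup (zpowers c)) := by
    rintro ⟨⟨x, hx⟩, -⟩
    refine ⟨s, ?_⟩
    apply Subtype.ext
    apply Subtype.ext
    obtain ⟨i, hi⟩ := mem_zpowers_iff.1 hx
    change x ^ r ^ s = 1
    rw [← hi, ← zpow_natCast, ← zpow_mul, mul_comm, zpow_mul, zpow_natCast, hcr, one_zpow]
  have hN : ¬ r ∣ Nat.card (ws V z) := by
    have h2 : IsPGroup 2 (ws V z) := h.two.to_le h.ws_le_T
    have : Fact (Nat.Prime 2) := ⟨Nat.prime_two⟩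
    obtain ⟨n, hn⟩ := IsPGroup.iff_card.1 h2
    rw [hn]
    intro hd
    exact hr2 ((Nat.prime_dvd_prime_iff_eq hrp Nat.prime_two).1 (hrp.dvd_of_dvd_pow hd))
  let K : Subgroup G :=
    { carrier := {p | p ∈ centralizer ({z} : Set G) ∧ e⁻¹ * p * e * p⁻¹ ∈ ws V z}
      mul_mem' := by
        rintro p p' ⟨hp, hp1⟩ ⟨hp', hp1'⟩
        refine ⟨mul_mem hp hp', ?_⟩
        have e1 : e⁻¹ * (p * p') * e * (p * p')⁻¹ = (e⁻¹ * p * e * p⁻¹) * (p * (e⁻¹ * p' * e * p'⁻¹) * p⁻¹) := by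
          group
        rw [e1]; exact mul_mem hp1 (hnW p hp _ hp1')
      one_mem' := ⟨one_mem _, by simp⟩
      inv_mem' := by
        rintro p ⟨hp, hp1⟩
        refine ⟨inv_mem hp, ?_⟩
        have e1 : e⁻¹ * p⁻¹ * e * p⁻¹⁻¹ = p⁻¹ * (e⁻¹ * p * e * p⁻¹)⁻¹ * p⁻¹⁻¹ := by group
        rw [e1]; exact hnW _ (inv_mem hp) _ (inv_mem hp1) }
  have hcK : zpowers c ≤ K := by
    rw [zpowers_le]
    refine ⟨hc, ?_⟩
    have e1 : e⁻¹ * c * e * c⁻¹ = e⁻¹ * (c * e * c⁻¹ * e⁻¹) * e⁻¹⁻¹ := by group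
    rw [e1]; exact hnW _ (inv_mem he) _ hγ
  obtain ⟨y, hy, hxy⟩ := Lib.CoprimeHyperplane.exists_fixed_in_coset φ hB hN
    (fun b _ x hx => hnW _ (hzC b.2) x hx) e (fun b _ => by
      have h1 := (hcK b.2).2
      rw [hφ]
      have e1 : e⁻¹ * ((b : G) * e * (b : G)⁻¹) = e⁻¹ * (b : G) * e * (b : G)⁻¹ := by group
      rw [e1]; exact h1)
  refine ⟨e⁻¹ * y, hxy, ?_⟩
  have h1 := hy ⟨c, mem_zpowers c⟩ (mem_top _)
  rw [hφ] at h1
  change c * y * c⁻¹ = y at h1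
  rw [mul_inv_cancel_left]
  calc c * y = (c * y * c⁻¹) * c := by group
    _ = y * c := by rw [h1]

theorem exists_cfg (h : BTwo T V z) {q : G} (hq : q ∈ V) (hq1 : q ≠ 1) (hqz : q ≠ z)
    (hbig : 2 < (dd V).relIndex (us V q)) : ∃ c a w t g e : G, Cfg T V z q c a w t g e := by
  obtain ⟨r, c, a, b₀, o⟩ := exists_out h hq hq1 hqz hbig
  obtain ⟨w, hw, hwV⟩ := h.exists_w
  obtain ⟨t, ht, htz, htq⟩ := BTwo.exists_move h h.z_mem hq h.z_ne hq1 (Ne.symm hqz)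
  have hzq : z * q ∈ V := mul_mem h.z_mem hq
  have hzq1 : z * q ≠ 1 := fun e => hqz (by
    rw [mul_eq_one_iff_eq_inv.mp e, h.inv_eq hq])
  obtain ⟨T', h'⟩ := h.point hzq hzq1
  have htn := h'.ws_le_normalizer ht
  have htV : t ∉ centralizer (V : Set G) := by
    intro h1
    apply hqz
    rw [← htz, comm_V h1 h.z_mem]; group
  have hcax := o.c_mem
  have hcC : c ∈ centralizer ({z} : Set G) := ax_le h q hcax
  have hcz : c * z = z * c := h.z_comm hcC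
  obtain ⟨s, hcs⟩ := o.c_pow
  have hodd : r % 2 = 1 := o.prime.eq_two_or_odd.resolve_left o.odd
  set e₁ := c * q * c⁻¹ with he₁
  set g := w * b₀ * w⁻¹ * b₀⁻¹ with hg
  set e := t⁻¹ * g * t with he
  have hg_mem : g ∈ us V z := h.comm_ws_us hw o.b_mem
  have hg_not : g ∉ dd V := fun h1 => o.b_ne (h.mem_dd_of_comm hq hq1 hqz hw hwV o.b_mem h1)
  have htiz : t⁻¹ * z * t = q := by rw [← htq]; group
  have he_mem : e ∈ us V q := by
    have := conj_mem_us (inv_mem htn) hg_mem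
    rw [inv_inv, htiz] at this
    exact this
  have hte : t * e * t⁻¹ = g := by rw [he]; group
  have htg : t * g * t⁻¹ = e := by
    have h1 : t * t * e = e * (t * t) := by
      rcases h'.sq_cases ht with e2 | e2
      · rw [e2]; group
      · rw [e2]; exact (comm_V he_mem.2 hzq).symm
    calc t * g * t⁻¹ = (t * t * e) * t⁻¹ * t⁻¹ := by rw [← hte]; group
      _ = e := by rw [h1]; group
  have hbe : b₀⁻¹ * e ∈ dd V := by
    have h1 := BTwo.identify h hq hq1 hqz hw hwV ht htV o.b_mem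
    have h2 := conj_mem_dd (inv_mem htn) (inv_mem h1)
    have e2 : t⁻¹ * ((w * b₀ * w⁻¹ * b₀⁻¹)⁻¹ * (t * b₀ * t⁻¹))⁻¹ * t⁻¹⁻¹ = b₀⁻¹ * e := by
      rw [he, hg]; group
    rwa [e2] at h2
  -- the group `F`
  have he₁V : ∀ v ∈ V, e₁ * v = v * e₁ := fun v hv => comm_V o.e_mem.2 hv
  have he₁sq : e₁ * e₁ = 1 := by
    rw [he₁]
    calc c * q * c⁻¹ * (c * q * c⁻¹) = c * (q * q) * c⁻¹ := by group
      _ = 1 := by rw [h.sq q hq]; group
  have hcjle : cj c V ≤ V ⊔ zpowers e₁ := by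
    rintro _ ⟨v, hv, rfl⟩
    change c * v * c⁻¹ ∈ V ⊔ zpowers e₁
    have hcz' : c * z * c⁻¹ = z := by rw [hcz]; group
    rcases h.four h.z_mem hq h.z_ne hq1 (Ne.symm hqz) hv with rfl | rfl | rfl | rfl
    · rw [mul_one, mul_inv_cancel]; exact one_mem _
    · rw [hcz']; exact mem_sup_left h.z_mem
    · exact mem_sup_right (mem_zpowers _)
    · have e2 : c * (z * q) * c⁻¹ = (c * z * c⁻¹) * (c * q * c⁻¹) := by group
      rw [e2, hcz']
      exact mul_mem (mem_sup_left h.z_mem) (mem_sup_right (mem_zpowers _))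
  have hF1 : V ⊔ cj c V = V ⊔ zpowers e₁ := by
    refine le_antisymm (sup_le le_sup_left hcjle) (sup_le le_sup_left ?_)
    rw [zpowers_le]
    exact mem_sup_right (conj_mem_cj hq)
  have hmemF : ∀ x, x ∈ V ⊔ cj c V ↔ ∃ v ∈ V, x = v ∨ x = v * e₁ := fun x => by
    rw [hF1]; exact mem_sup_inv he₁sq he₁V
  have hgF : g ∈ V ⊔ cj c V := by
    have h1 := o.b_comm b₀ o.b_mem (by rw [inv_mul_cancel]; exact one_mem _) w hw
    have e2 : g = (b₀ * w * b₀⁻¹ * w⁻¹)⁻¹ := by rw [hg]; group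
    rw [e2]; exact inv_mem h1
  obtain ⟨v₀, hv₀, hgv⟩ : ∃ v ∈ V, g = v * e₁ := by
    obtain ⟨v, hv, e2 | e2⟩ := (hmemF g).1 hgF
    · exact absurd (h.V_le_dd (e2 ▸ hv)) hg_not
    · exact ⟨v, hv, e2⟩
  have hF : V ⊔ cj c V = V ⊔ zpowers g := by
    rw [hF1]
    refine le_antisymm (sup_le le_sup_left ?_) (sup_le le_sup_left ?_)
    · rw [zpowers_le]
      have e2 : e₁ = v₀⁻¹ * g := by rw [hgv]; group
      rw [e2]
      exact mul_mem (mem_sup_left (inv_mem hv₀)) (mem_sup_right (mem_zpowers g))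
    · rw [zpowers_le, hgv]
      exact mul_mem (mem_sup_left hv₀) (mem_sup_right (mem_zpowers _))
  have hgg : g * g = 1 := by
    calc g * g = v₀ * (e₁ * v₀) * e₁ := by rw [hgv]; group
      _ = (v₀ * v₀) * (e₁ * e₁) := by rw [he₁V _ hv₀]; group
      _ = 1 := by rw [h.sq _ hv₀, he₁sq, one_mul]
  have hee : e * e = 1 := by
    calc e * e = t⁻¹ * (g * g) * t := by rw [he]; group
      _ = 1 := by rw [hgg]; group
  have heC : e ∈ centralizer ({z} : Set G) := us_le_C h q he_mem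
  have hge : g * e = e * g := by
    have h1 : e * g * e⁻¹ * g⁻¹ ∈ zpowers z := by
      have h2 := o.b_e e he_mem hbe
      have e2 : e * g * e⁻¹ * g⁻¹ = v₀ * (e * e₁ * e⁻¹ * e₁⁻¹) * v₀⁻¹ := by
        rw [hgv]
        have h3 := comm_V he_mem.2 hv₀
        calc e * (v₀ * e₁) * e⁻¹ * (v₀ * e₁)⁻¹ = (e * v₀) * e₁ * e⁻¹ * e₁⁻¹ * v₀⁻¹ := by group
          _ = v₀ * (e * e₁ * e⁻¹ * e₁⁻¹) * v₀⁻¹ := by rw [h3]; group
      rw [e2, zpowers_conj (h.T_le (h.V_le hv₀)) h2]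
      exact h2
    rcases (mem_zpowers_iff_of_mul_self h.zz).1 h1 with e2 | e2
    · calc g * e = (e * g * e⁻¹ * g⁻¹)⁻¹ * (e * g) := by group
        _ = e * g := by rw [e2]; group
    · exfalso
      have h3 : t * (e * g * e⁻¹ * g⁻¹) * t⁻¹ = (e * g * e⁻¹ * g⁻¹)⁻¹ := by
        calc t * (e * g * e⁻¹ * g⁻¹) * t⁻¹ =
            (t * e * t⁻¹) * (t * g * t⁻¹) * (t * e * t⁻¹)⁻¹ * (t * g * t⁻¹)⁻¹ := by group
          _ = (e * g * e⁻¹ * g⁻¹)⁻¹ := by rw [hte, htg]; group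
      rw [e2, htz, h.inv_eq h.z_mem] at h3
      exact hqz h3
  have hce₁ : c * e₁ * c⁻¹ ∈ V ⊔ cj c V := o.e_c
  have hcV : ∀ v ∈ V, c * v * c⁻¹ ∈ V ⊔ cj c V := fun v hv => mem_sup_right (conj_mem_cj hv)
  have hcF : ∀ x ∈ V ⊔ cj c V, c * x * c⁻¹ ∈ V ⊔ cj c V := by
    intro x hx
    obtain ⟨v, hv, e2 | e2⟩ := (hmemF x).1 hx
    · rw [e2]; exact hcV v hv
    · have e3 : c * x * c⁻¹ = (c * v * c⁻¹) * (c * e₁ * c⁻¹) := by rw [e2]; group
      rw [e3]; exact mul_mem (hcV v hv) hce₁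
  refine ⟨c, a, w, t, g, e, ⟨h, hq, hq1, hqz, o.a_mem, hw, hwV, ht, htz, htq, hg_mem, hg_not, he_mem, hte, htg,
    hgg, hge, ?_, ?_, ?_, ?_, ?_, ?_⟩⟩
  · intro x hx
    have h1 := o.b_comm e he_mem hbe x hx
    rw [← hF]
    have e2 : x * e * x⁻¹ * e⁻¹ = (e * x * e⁻¹ * x⁻¹)⁻¹ := by group
    rw [e2]; exact inv_mem h1
  · have e2 : a * g * a⁻¹ * g⁻¹ = v₀ * (a * e₁ * a⁻¹ * e₁⁻¹) * v₀⁻¹ := by
      have h3 := comm_V o.a_mem.2 hv₀
      rw [hgv]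
      calc a * (v₀ * e₁) * a⁻¹ * (v₀ * e₁)⁻¹ = (a * v₀) * e₁ * a⁻¹ * e₁⁻¹ * v₀⁻¹ := by group
        _ = v₀ * (a * e₁ * a⁻¹ * e₁⁻¹) * v₀⁻¹ := by rw [h3]; group
    rw [e2]
    rcases o.e_a with e3 | e3
    · left; rw [he₁, e3, h.comm hv₀ hq]; group
    · right; rw [he₁, e3, h.comm hv₀ hzq]; group
  · intro v hv
    rw [← hF]; exact hcV v hv
  · rw [← hF]; exact hcF g hgF
  · -- `c e c⁻¹ ∈ R`
    have hγ := gamma_mem h hq hq1 hqz hodd hcax hcs he_mem (o.comm e he_mem hbe)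
    obtain ⟨x, hx, hxc⟩ := exists_fixed h o.prime o.odd hcC hcs heC hγ
    obtain ⟨m, hm, hcm, hmF⟩ := o.b_fix e he_mem hbe x hx
    set n := x * m⁻¹ with hn
    have hnw : n ∈ ws V z := mul_mem hx (inv_mem hm)
    have hen : c * (e * n) = (e * n) * c := by
      have hcm' : c * m⁻¹ = m⁻¹ * c := by
        calc c * m⁻¹ = m⁻¹ * (m * c) * m⁻¹ := by group
          _ = m⁻¹ * (c * m) * m⁻¹ := by rw [hcm]
          _ = m⁻¹ * c := by group
      calc c * (e * n) = c * (e * x) * m⁻¹ := by rw [hn]; group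
        _ = (e * x) * (c * m⁻¹) := by rw [hxc]; group
        _ = (e * n) * c := by rw [hcm', hn]; group
    have hnF : n ∈ V ⊔ cj c V := by
      apply hmF
      have h1 : Commute c (e * n) := hen
      have h2 : Commute c (n * n) := by
        rcases h.sq_cases hnw with e2 | e2
        · rw [e2]; exact Commute.one_right c
        · rw [e2]; exact hcz
      have h3 := (h1.mul_right h1).mul_right h2.inv_right
      have hei : e⁻¹ = e := inv_eq_of_mul_eq_one_left hee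
      have e2 : e * n * (e * n) * (n * n)⁻¹ = e * n * e⁻¹ * n⁻¹ := by
        rw [hei]; group
      rw [e2] at h3
      exact h3
    have e2 : c * e * c⁻¹ = (e * n) * (c * n⁻¹ * c⁻¹) := by
      calc c * e * c⁻¹ = c * (e * n) * n⁻¹ * c⁻¹ := by group
        _ = (e * n) * (c * n⁻¹ * c⁻¹) := by rw [hen]; group
    rw [e2, ← hF]
    exact mul_mem (mul_mem (mem_sup_right (mem_zpowers e)) (mem_sup_left hnF))
      (mem_sup_left (hcF _ (inv_mem hnF)))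
  · intro U hVU hcU
    have h1 : e₁ ∈ U := (mem_normalizer_iff.1 hcU q).1 (hVU hq)
    rw [hgv]
    exact mul_mem (hVU hv₀) h1

/-- **`|us V q : dd V| ≤ 2`** for the points `q ≠ z` of `V` -/
theorem relIndex_le_two (h : BTwo T V z) {q : G} (hq : q ∈ V) (hq1 : q ≠ 1) (hqz : q ≠ z) :
    (dd V).relIndex (us V q) ≤ 2 := by
  by_contra hcon
  obtain ⟨c, a, w, t, g, e, k⟩ := exists_cfg h hq hq1 hqz (by omega)
  exact k.false

/-- **`|us V z : dd V| ≤ 2`** -/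
theorem relIndex_le (h : BTwo T V z) : (dd V).relIndex (us V z) ≤ 2 := by
  obtain ⟨q, hq, hq1, hqz⟩ := h.exists_y
  obtain ⟨T', h'⟩ := h.point hq hq1
  exact relIndex_le_two h' h.z_mem h.z_ne (Ne.symm hqz)

end Cfsg.Agent.MinSimple.BTwoLe
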