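import Cfsg.Agent.MinSimple.BTwoInv

/-!
# (E1) with `|V| = 4`, `b = 2`, `|us V q : dd V| ≥ 4`: the consequences of the module part, in `G`
-/

set_option autoImplicit false
set_option linter.dupNamespace false
set_option linter.unusedSectionVars false

namespace Cfsg.Agent.MinSimple.BTwoLift

open Subgroup Cfsg Cfsg.Agent.ZN Cfsg.Agent.MinSimple.Geo Cfsg.Agent.MinSimple.BTwoA Cfsg.Agent.MinSimple.BTwoB
open Cfsg.Agent.MinSimple.BTwoC Cfsg.Agent.MinSimple.BTwoK Cfsg.Agent.MinSimple.BTwoRep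
open Cfsg.Agent.MinSimple.BTwoInv
open Cfsg.Agent.ZN.Block (conj_mem_of_normalizer conj_mem_of_normalizer' le_normalizer_of_forall
  mem_normalizer_of)
open Cfsg.Agent.MinSimple.Sec (Sec Mod)
open Cfsg.Agent.MinSimple.Sec.Mod

universe u

variable {G : Type u} [Group G] [Finite G] {T V : Subgroup G} {z : G}

instance {N C : Subgroup G} {z : G} (s : Sec N C z) : Finite (Aut s) := by
  have : Finite (AddMonoid.End (Mod s)) :=
    Finite.of_injective (fun f : AddMonoid.End (Mod s) => (f : Mod s → Mod s))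
      DFunLike.coe_injective
  exact inferInstance

theorem solvable_range (h : BTwo T V z) : Group.IsSolvable (rep (sec h)).range := by
  have := h.solv _ (isTwoLocal_centralizer h.zz h.z_ne)
  exact Group.isSolvable_of_surjective (f := (rep (sec h)).rangeRestrict) (rep (sec h)).rangeRestrict_surjective

theorem eq_bot_of_normal (h : BTwo T V z) {N : Subgroup (Aut (sec h))} (hN : N ≤ (rep (sec h)).range)
    (h2 : IsPGroup 2 N) (hn : (rep (sec h)).range ≤ normalizer (N : Set (Aut (sec h)))) : N = ⊥ := by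
  set C := centralizer ({z} : Set G) with hC
  let N' : Subgroup G := (N.comap (rep (sec h))).map C.subtype
  have hmem : ∀ (x : G) (hx : x ∈ C), rep (sec h) ⟨x, hx⟩ ∈ N → x ∈ N' := fun x hx h1 => ⟨⟨x, hx⟩, h1, rfl⟩
  have hle : N' ≤ kq V z := by
    refine le_kq h.toGeo (map_subtype_le _) ?_ ?_
    · refine le_normalizer_of_forall ?_
      rintro g hg _ ⟨x, hx, rfl⟩
      refine ⟨⟨g, hg⟩ * x * ⟨g, hg⟩⁻¹, ?_, rfl⟩
      have hx' : rep (sec h) x ∈ N := hx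
      change rep (sec h) (⟨g, hg⟩ * x * ⟨g, hg⟩⁻¹) ∈ N
      rw [map_mul, map_mul, map_inv]
      exact conj_mem_of_normalizer hn ⟨_, rfl⟩ hx'
    · rintro _ ⟨x, hx, rfl⟩
      obtain ⟨k, hk⟩ := h2 ⟨_, hx⟩
      refine ⟨k, ?_⟩
      have h3 : rep (sec h) x ^ 2 ^ k = 1 := by simpa using congrArg Subtype.val hk
      rw [← map_pow] at h3
      exact (rep_eq_one_iff h (x ^ 2 ^ k).2).1 h3
  rw [eq_bot_iff]
  intro f hf
  obtain ⟨x, rfl⟩ := hN hf
  rw [mem_bot]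
  exact (rep_eq_one_iff h x.2).2 (hle (hmem x x.2 hf))

/-- a preimage of `r`-power order -/
theorem exists_lift (h : BTwo T V z) {y : Aut (sec h)} (hy : y ∈ (rep (sec h)).range) {r : ℕ} (hr : r.Prime)
    (hyr : y ^ r = 1) : ∃ c, ∃ hc : c ∈ centralizer ({z} : Set G), rep (sec h) ⟨c, hc⟩ = y ∧
      ∃ s : ℕ, c ^ r ^ s = 1 := by
  obtain ⟨g, rfl⟩ := hy
  obtain ⟨k, s, h1, h2⟩ := exists_pow_lift (rep (sec h)) g hr hyr
  refine ⟨((g ^ k : centralizer ({z} : Set G)) : G), (g ^ k).2, h1, s, ?_⟩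
  simpa using congrArg Subtype.val h2

/-- the same in `ax V z q` -/
theorem exists_lift_ax (h : BTwo T V z) {q : G} {y : Aut (sec h)} (hy : y ∈ (rep (sec h)).range) {r : ℕ} (hr : r.Prime)
    (hr2 : r ≠ 2) (hyr : y ^ r = 1) {a : Aut (sec h)} (ha : a ∈ aa h q) (hinv : a * y * a⁻¹ = y⁻¹) :
    ∃ c, ∃ hc : c ∈ centralizer ({z} : Set G), c ∈ ax V z q ∧ rep (sec h) ⟨c, hc⟩ = y ∧ ∃ s : ℕ, c ^ r ^ s = 1 := by
  obtain ⟨g, rfl⟩ := hy
  obtain ⟨u, hu, hu', rfl⟩ := mem_aa.1 ha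
  have hodd : r % 2 = 1 := hr.eq_two_or_odd.resolve_left hr2
  have hd : u * g * u⁻¹ * (g : G)⁻¹ ∈ ax V z q := by
    have h1 : (g : G) * u⁻¹ * (g : G)⁻¹ ∈ ax V z q :=
      conj_mem_of_normalizer (centralizer_le_normalizer_ax V z q) g.2 (inv_mem (us_le_ax V z q hu'))
    have e : u * g * u⁻¹ * (g : G)⁻¹ = u * ((g : G) * u⁻¹ * (g : G)⁻¹) := by group
    rw [e]; exact mul_mem (us_le_ax V z q hu') h1
  set d : centralizer ({z} : Set G) := ⟨u, hu⟩ * g * ⟨u, hu⟩⁻¹ * g⁻¹ with hd'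
  have hdd : (d : G) = u * g * u⁻¹ * (g : G)⁻¹ := rfl
  have hrd : rep (sec h) d = (rep (sec h) g)⁻¹ * (rep (sec h) g)⁻¹ := by
    rw [hd', map_mul, map_mul, map_mul, map_inv, map_inv, hinv]
  have hrd' : rep (sec h) (d ^ ((r - 1) / 2)) = rep (sec h) g := by
    rw [map_pow, hrd, ← pow_two, ← pow_mul, inv_pow]
    have h1 : 2 * ((r - 1) / 2) = r - 1 := by omega
    rw [h1, inv_eq_iff_mul_eq_one, ← pow_succ]
    have h2 : r - 1 + 1 = r := by omega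
    rw [h2, hyr]
  have hyr' : rep (sec h) (d ^ ((r - 1) / 2)) ^ r = 1 := by rw [hrd', hyr]
  obtain ⟨k, s, h1, h2⟩ := exists_pow_lift (rep (sec h)) (d ^ ((r - 1) / 2)) hr hyr'
  refine ⟨(((d ^ ((r - 1) / 2)) ^ k : centralizer ({z} : Set G)) : G), Subtype.property _, ?_, ?_, s, ?_⟩
  · have : (((d ^ ((r - 1) / 2)) ^ k : centralizer ({z} : Set G)) : G) = ((d : G) ^ ((r - 1) / 2)) ^ k := rfl
    rw [this]
    exact pow_mem (pow_mem (by rw [hdd]; exact hd) _) _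
  · rw [← hrd']; exact h1
  · simpa using congrArg Subtype.val h2

/-- The output of the module part. -/
structure Out (V : Subgroup G) (z q : G) (r : ℕ) (c a b₀ : G) : Prop where
  prime : r.Prime
  odd : r ≠ 2
  c_mem : c ∈ ax V z q
  c_pow : ∃ s : ℕ, c ^ r ^ s = 1
  a_mem : a ∈ us V q
  b_mem : b₀ ∈ us V q
  b_ne : b₀ ∉ dd V
  /-- `e₁ = c q c⁻¹` -/
  e_mem : c * q * c⁻¹ ∈ us V z
  e_ne : c * q * c⁻¹ ∉ dd V
  e_c : c * (c * q * c⁻¹) * c⁻¹ ∈ V ⊔ cj c V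
  e_a : a * (c * q * c⁻¹) * a⁻¹ * (c * q * c⁻¹)⁻¹ = q ∨ a * (c * q * c⁻¹) * a⁻¹ * (c * q * c⁻¹)⁻¹ = z * q
  comm : ∀ b ∈ us V q, b₀⁻¹ * b ∈ dd V → b * c * b⁻¹ * c⁻¹ ∈ kq V z
  b_e : ∀ b ∈ us V q, b₀⁻¹ * b ∈ dd V → b * (c * q * c⁻¹) * b⁻¹ * (c * q * c⁻¹)⁻¹ ∈ zpowers z
  b_comm : ∀ b ∈ us V q, b₀⁻¹ * b ∈ dd V → ∀ x ∈ ws V z, b * x * b⁻¹ * x⁻¹ ∈ V ⊔ cj c V
  b_fix : ∀ b ∈ us V q, b₀⁻¹ * b ∈ dd V → ∀ x ∈ ws V z, ∃ m ∈ ws V z, c * m = m * c ∧
    (c * (b * (x * m⁻¹) * b⁻¹ * (x * m⁻¹)⁻¹) = (b * (x * m⁻¹) * b⁻¹ * (x * m⁻¹)⁻¹) * c → x * m⁻¹ ∈ V ⊔ cj c V)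

theorem exists_out (h : BTwo T V z) {q : G} (hq : q ∈ V) (hq1 : q ≠ 1) (hqz : q ≠ z)
    (hbig : 2 < (dd V).relIndex (us V q)) : ∃ (r : ℕ) (c a b₀ : G), Out V z q r c a b₀ := by
  have hAX : aa h q ≤ (rep (sec h)).range := by
    rintro _ ⟨u, hu, rfl⟩
    exact ⟨u, rfl⟩
  have hdat := data h hq hq1 hqz
  obtain ⟨n, bb, yy, hcard, -, hbA, hyX, hyp, hy2, hinv, hcomm, -, hall⟩ :=
    DihedOf.exists_dihedral_of_solvable (solvable_range h) (fun N h1 h2 h3 => eq_bot_of_normal h h1 h2 h3) hAX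
      hdat.inv
  rw [card_aa h hq hq1 hqz] at hcard
  have hn : 2 ≤ n := by
    by_contra hn
    have : 2 ^ n ≤ 2 ^ 1 := Nat.pow_le_pow_right (by norm_num) (by omega)
    omega
  set i0 : Fin n := ⟨0, by omega⟩ with hi0
  set i1 : Fin n := ⟨1, by omega⟩ with hi1
  have h01 : i0 ≠ i1 := by
    intro e
    have := congrArg Fin.val e
    simp [hi0, hi1] at this
  -- lifts
  obtain ⟨c, hc, hcax, hcy, s, hcs⟩ := exists_lift_ax h (q := q) (hyX i0) (hyp i0) (hy2 i0) (pow_orderOf_eq_one _)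
    (hbA i0) (hinv i0)
  obtain ⟨c', hc', hcy', s', hcs'⟩ := exists_lift h (hyX i1) (hyp i1) (pow_orderOf_eq_one _)
  have hne : ∀ i, yy i ≠ 1 := by
    intro i e
    have := hyp i
    rw [e, orderOf_one] at this
    exact Nat.not_prime_one this
  have hInv := inv h hq hq1 hqz hc (hyp i0) (hy2 i0) hcs (by rw [hcy]; exact pow_orderOf_eq_one _)
    (by rw [hcy]; exact hne i0) (by rw [hcy]; exact fun w hw => hall w hw i0) (hbA i0)
    (by rw [hcy]; exact hinv i0)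
  have hInv' := inv h hq hq1 hqz hc' (hyp i1) (hy2 i1) hcs' (by rw [hcy']; exact pow_orderOf_eq_one _)
    (by rw [hcy']; exact hne i1) (by rw [hcy']; exact fun w hw => hall w hw i1) (hbA i1)
    (by rw [hcy']; exact hinv i1)
  rw [hcy] at hInv
  rw [hcy'] at hInv'
  set y := yy i0 with hy
  set r := orderOf y with hr
  set a' := bb i0 with ha'
  set b' := bb i1 with hb'
  set l := mk (sec h) q (h.V_le_ws hq) with hl
  -- memberships
  have hy2' : ∀ i, yy i * yy i ≠ 1 := by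
    intro i e
    exact hy2 i (orderOf_eq_prime (by rw [pow_two]; exact e) (hne i))
  have notcomm : ∀ i, ¬ bb i * yy i = yy i * bb i := by
    intro i e
    apply hy2' i
    have h1 := hinv i
    have h2 : bb i * yy i * (bb i)⁻¹ = yy i := by rw [e]; group
    rw [h2] at h1
    calc yy i * yy i = yy i * (yy i)⁻¹ := by rw [← h1]
      _ = 1 := by group
  have hbB : b' ∈ aa h q ⊓ centralizer ({y} : Set (Aut (sec h))) :=
    ⟨hbA i1, mem_centralizer_singleton_iff.2 (hcomm i1 i0 (Ne.symm h01))⟩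
  have hb1 : b' ≠ 1 := by
    intro e
    apply notcomm i1
    rw [← hb', e]; group
  have hbB' : b' ∉ aa h q ⊓ centralizer ({yy i1} : Set (Aut (sec h))) :=
    fun h1 => notcomm i1 (mem_centralizer_singleton_iff.1 h1.2)
  have haB' : a' ∈ aa h q ⊓ centralizer ({yy i1} : Set (Aut (sec h))) :=
    ⟨hbA i0, mem_centralizer_singleton_iff.2 (hcomm i0 i1 h01)⟩
  have haB : a' ∉ aa h q ⊓ centralizer ({y} : Set (Aut (sec h))) :=
    fun h1 => notcomm i0 (mem_centralizer_singleton_iff.1 h1.2)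
  obtain ⟨a, ha, haq, harep⟩ := mem_aa.1 (hbA i0)
  obtain ⟨b₀, hb₀, hb₀q, hb₀rep⟩ := mem_aa.1 (hbA i1)
  have hzdd : z ∈ dd V := h.V_le_dd h.z_mem
  have hzus : z ∈ us V z := h.dd_le_us h.z_mem h.z_ne hzdd
  -- the class of `e₁`
  have hqw := h.V_le_ws hq
  have hew : c * q * c⁻¹ ∈ ws V z := (sec h).CN c hc q hqw
  have hyl : y • l = mk (sec h) (c * q * c⁻¹) hew := by
    rw [hl, ← hcy, rep_smul, smul_mk]
  have hVF : V ≤ V ⊔ cj c V := le_sup_left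
  have heF : c * q * c⁻¹ ∈ V ⊔ cj c V := mem_sup_right (conj_mem_cj hq)
  have hzF : zpowers z ≤ V ⊔ cj c V := zpowers_le.2 (hVF h.z_mem)
  -- membership in the preimage of `I`
  have hI : ∀ (x : G) (hx : x ∈ ws V z), (mk (sec h) x hx = 0 ∨ mk (sec h) x hx = l ∨ mk (sec h) x hx = y • l ∨
      mk (sec h) x hx = y • l + l) → x ∈ V ⊔ cj c V := by
    intro x hx hcase
    have key : ∀ g (hg : g ∈ ws V z), g ∈ V ⊔ cj c V → mk (sec h) x hx = mk (sec h) g hg → x ∈ V ⊔ cj c V := by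
      intro g hg hgF he
      rw [mk_eq] at he
      have h1 := mul_mem hgF (inv_mem (hzF he))
      have e : g * (x⁻¹ * g)⁻¹ = x := by group
      rwa [e] at h1
    rcases hcase with e | e | e | e
    · exact key 1 (one_mem _) (one_mem _) e
    · exact key q hqw (hVF hq) e
    · exact key _ hew heF (by rw [e, hyl])
    · exact key _ (mul_mem hew hqw) (mul_mem heF (hVF hq)) (by rw [e, hyl, mk_mul hew hqw])
  -- elements over `b'`
  have hover : ∀ b, ∀ hb : b ∈ us V q, b₀⁻¹ * b ∈ dd V → rep (sec h) ⟨b, us_le_C h q hb⟩ = b' := by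
    intro b hb hbd
    have h1 : b₀⁻¹ * b ∈ centralizer ({z} : Set G) := mul_mem (inv_mem hb₀) (us_le_C h q hb)
    have h2 := (rep_eq_one_iff h h1).2 (dd_le_kq h hbd)
    have h3 : (⟨b₀⁻¹ * b, h1⟩ : centralizer ({z} : Set G)) = ⟨b₀, hb₀⟩⁻¹ * ⟨b, us_le_C h q hb⟩ := rfl
    rw [h3, map_mul, map_inv, hb₀rep] at h2
    exact (inv_mul_eq_one.1 h2).symm
  have hval : ∀ (c : centralizer ({z} : Set G)) (a : G) (ha : a ∈ ws V z),
      rep (sec h) c • mk (sec h) a ha + mk (sec h) a ha =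
        mk (sec h) ((c : G) * a * (c : G)⁻¹ * a⁻¹) (mul_mem ((sec h).CN c c.2 a ha) (inv_mem ha)) := by
    intro c a ha
    rw [rep_smul, smul_mk, mk_mul ((sec h).CN c c.2 a ha) (inv_mem ha), mk_inv ha]
  refine ⟨r, c, a, b₀, hyp i0, hy2 i0, hcax, ⟨s, hcs⟩, haq, hb₀q, ?_, ?_, ?_, ?_, ?_, ?_, ?_, ?_, ?_⟩
  · intro h1
    apply hb1
    rw [hb', ← hb₀rep]
    exact (rep_eq_one_iff h hb₀).2 (dd_le_kq h h1)
  · rw [← mem_sub hzus hew, ← hyl]
    refine BTwoMod.Inv.mem_H_of_fix hdat hbB.1 hb1 ?_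
    rw [hInv.y_comm b' hbB, hdat.l_fix b' hbB.1]
  · rw [← mem_sub hzdd hew, ← hyl]
    exact hInv.yl_not_mem hdat hbB hb1
  · have hw : c * (c * q * c⁻¹) * c⁻¹ ∈ ws V z := (sec h).CN c hc _ hew
    refine hI _ hw (Or.inr (Or.inr (Or.inr ?_)))
    rw [← hInv.yyl hdat hbB hb1, hyl, ← hcy, rep_smul, smul_mk]
  · have h1 := hInv.smul_yl hdat hbB hb1 (hbA i0) haB
    rw [hyl, ← harep] at h1
    have h2 : rep (sec h) ⟨a, ha⟩ • mk (sec h) (c * q * c⁻¹) hew + mk (sec h) (c * q * c⁻¹) hew = l := by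
      rw [h1, add_comm (mk (sec h) (c * q * c⁻¹) hew) l, add_assoc, add_self, add_zero]
    rw [hval, hl, mk_eq] at h2
    change (a * (c * q * c⁻¹) * a⁻¹ * (c * q * c⁻¹)⁻¹)⁻¹ * q ∈ zpowers z at h2
    generalize a * (c * q * c⁻¹) * a⁻¹ * (c * q * c⁻¹)⁻¹ = g at h2 ⊢
    rcases (mem_zpowers_iff_of_mul_self h.zz).1 h2 with e | e
    · left; exact inv_mul_eq_one.1 e
    · right
      rw [inv_mul_eq_iff_eq_mul] at e
      have h3 : g = q * z := by
        rw [e, mul_assoc, h.zz, mul_one]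
      rw [h3, h.comm hq h.z_mem]
  · intro b hb hbd
    have h1 : b * c * b⁻¹ * c⁻¹ ∈ centralizer ({z} : Set G) :=
      mul_mem (mul_mem (mul_mem (us_le_C h q hb) hc) (inv_mem (us_le_C h q hb))) (inv_mem hc)
    rw [← rep_eq_one_iff h h1]
    have h3 : (⟨b * c * b⁻¹ * c⁻¹, h1⟩ : centralizer ({z} : Set G)) =
      ⟨b, us_le_C h q hb⟩ * ⟨c, hc⟩ * ⟨b, us_le_C h q hb⟩⁻¹ * ⟨c, hc⟩⁻¹ := rfl
    rw [h3, map_mul, map_mul, map_mul, map_inv, map_inv, hover b hb hbd, hcy]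
    have h4 : b' * y = y * b' := hcomm i1 i0 (Ne.symm h01)
    rw [h4]; group
  · intro b hb hbd
    have h1 : b' • (y • l) = y • l := by rw [hInv.y_comm b' hbB, hdat.l_fix b' hbB.1]
    have h2 : rep (sec h) ⟨b, us_le_C h q hb⟩ • mk (sec h) (c * q * c⁻¹) hew + mk (sec h) (c * q * c⁻¹) hew = 0 := by
      rw [hover b hb hbd, ← hyl, h1, add_self]
    rw [hval, mk_eq_zero] at h2
    exact h2
  · intro b hb hbd x hx
    have h1 := hInv.comm_mem hdat hbB hb1 (mk (sec h) x hx)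
    rw [← hover b hb hbd, hval] at h1
    exact hI _ (mul_mem ((sec h).CN b (us_le_C h q hb) x hx) (inv_mem hx)) h1
  · intro b hb hbd x hx
    obtain ⟨m, hm, hmE⟩ := mk_surj (BTwoMod.E y r (mk (sec h) x hx))
    have hodd : r % 2 = 1 := (hyp i0).eq_two_or_odd.resolve_left (hy2 i0)
    have hym : y • mk (sec h) m hm = mk (sec h) m hm := by
      rw [hmE]; exact BTwoMod.smul_E hInv.y_pow _
    have hcz : c * z = z * c := h.z_comm hc
    have hcm : c * m = m * c := by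
      refine comm_of_mem_zpowers hodd hcs h.zz hcz ?_
      rw [← hcy, rep_smul, smul_mk, mk_eq] at hym
      change (c * m * c⁻¹)⁻¹ * m ∈ zpowers z at hym
      have e : c * m * c⁻¹ * m⁻¹ = m * ((c * m * c⁻¹)⁻¹ * m)⁻¹ * m⁻¹ := by group
      rw [e, (sec h).conj_z ((sec h).NC hm) (inv_mem hym)]
      exact inv_mem hym
    refine ⟨m, hm, hcm, fun hct => ?_⟩
    set n := x * m⁻¹ with hn
    have hnw : n ∈ ws V z := mul_mem hx (inv_mem hm)
    have hnE : BTwoMod.E y r (mk (sec h) n hnw) = 0 := by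
      have h1 : mk (sec h) n hnw = mk (sec h) x hx + BTwoMod.E y r (mk (sec h) x hx) := by
        have : mk (sec h) n hnw = mk (sec h) x hx + mk (sec h) m⁻¹ (inv_mem hm) := mk_mul hx (inv_mem hm)
        rw [this, mk_inv hm, hmE]
      rw [h1]
      exact hInv.E_add_self hdat _
    -- the commutator
    have htw : b * n * b⁻¹ * n⁻¹ ∈ ws V z :=
      mul_mem ((sec h).CN b (us_le_C h q hb) n hnw) (inv_mem hnw)
    have ht : mk (sec h) (b * n * b⁻¹ * n⁻¹) htw = b' • mk (sec h) n hnw + mk (sec h) n hnw := by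
      rw [← hover b hb hbd, hval]
    have hyt : y • mk (sec h) (b * n * b⁻¹ * n⁻¹) htw = mk (sec h) (b * n * b⁻¹ * n⁻¹) htw := by
      rw [← hcy, rep_smul, smul_mk, mk_eq]
      change (c * (b * n * b⁻¹ * n⁻¹) * c⁻¹)⁻¹ * (b * n * b⁻¹ * n⁻¹) ∈ zpowers z
      rw [hct]
      have : (b * n * b⁻¹ * n⁻¹ * c * c⁻¹)⁻¹ * (b * n * b⁻¹ * n⁻¹) = 1 := by group
      rw [this]; exact one_mem _
    have hEt : BTwoMod.E y r (mk (sec h) (b * n * b⁻¹ * n⁻¹) htw) = 0 := by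
      rw [ht, BTwoMod.E_add, hInv.E_smulA hbB.1, hnE, smul_zero, zero_add]
    have h0 := hInv.eq_zero_of_fix hdat hEt hyt
    rw [ht] at h0
    have hfix : b' • mk (sec h) n hnw = mk (sec h) n hnw := hdat.eq_of_add h0
    exact hI n hnw (hInv.mem_of_fix hdat hInv' hbB hb1 hbB' haB' haB hnE hfix)

end Cfsg.Agent.MinSimple.BTwoLift
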