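import Mathlib

/-!
# The section `N / ⟨z⟩` as a module for a group `C`

`Sec N C z`: `z` is an involution in `N ≤ C`, central in `C`, `C` normalizes `N` and the squares of elements of `N` are
in `⟨z⟩`. Then `N / ⟨z⟩` is an additive group of exponent two (`Mod s`) with an action of `C`.
-/

set_option autoImplicit false
set_option linter.dupNamespace false
set_option linter.unusedTactic false

namespace Cfsg.Agent.MinSimple.Sec

open Subgroup

universe u

variable {G : Type u} [Group G]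

theorem mem_zpowers {z y : G} (hz : z * z = 1) : y ∈ zpowers z ↔ y = 1 ∨ y = z := by
  constructor
  · intro h
    obtain ⟨n, rfl⟩ := mem_zpowers_iff.mp h
    have h2 : z ^ (2 : ℤ) = 1 := by rw [zpow_two]; exact hz
    rcases Int.even_or_odd' n with ⟨k, rfl | rfl⟩
    · left; rw [zpow_mul, h2, one_zpow]
    · right; rw [zpow_add, zpow_mul, h2, one_zpow, one_mul, zpow_one]
  · rintro (rfl | rfl)
    · exact one_mem _
    · exact Subgroup.mem_zpowers _

/-- The section `N / ⟨z⟩` with the action of `C`. -/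
structure Sec (N C : Subgroup G) (z : G) : Prop where
  zN : z ∈ N
  zz : z * z = 1
  NC : N ≤ C
  zC : ∀ c ∈ C, c * z = z * c
  CN : ∀ c ∈ C, ∀ n ∈ N, c * n * c⁻¹ ∈ N
  sq : ∀ n ∈ N, n * n = 1 ∨ n * n = z

variable {N C : Subgroup G} {z : G}

namespace Sec

theorem conj_z (s : Sec N C z) {c : G} (hc : c ∈ C) {y : G} (hy : y ∈ zpowers z) : c * y * c⁻¹ = y := by
  rcases (mem_zpowers s.zz).1 hy with rfl | rfl
  · simp
  · rw [s.zC c hc, mul_inv_cancel_right]

theorem mem_of_sq (s : Sec N C z) {n : G} (hn : n ∈ N) : n * n ∈ zpowers z :=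
  (mem_zpowers s.zz).2 (s.sq n hn)

theorem comm_mem (s : Sec N C z) {a b : G} (ha : a ∈ N) (hb : b ∈ N) : a * b * a⁻¹ * b⁻¹ ∈ zpowers z := by
  have h1 := s.mem_of_sq (mul_mem ha hb)
  have h2 := s.mem_of_sq ha
  have h3 := s.mem_of_sq hb
  -- a b a⁻¹ b⁻¹ = (ab)(ab) (b⁻¹ (a a)⁻¹ b)(b b)⁻¹
  have e : a * b * a⁻¹ * b⁻¹ = (a * b * (a * b)) * (b⁻¹ * (a * a)⁻¹ * b⁻¹⁻¹) * (b * b)⁻¹ := by group
  rw [e, s.conj_z (inv_mem (s.NC hb)) (inv_mem h2)]
  exact mul_mem (mul_mem h1 (inv_mem h2)) (inv_mem h3)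

theorem normal (s : Sec N C z) : ((zpowers z).subgroupOf N).Normal := by
  constructor
  intro n hn g
  rw [mem_subgroupOf] at hn ⊢
  have h1 : ((g * n * g⁻¹ : N) : G) = (g : G) * n * (g : G)⁻¹ := rfl
  rw [h1, s.conj_z (s.NC g.2) hn]
  exact hn

end Sec

/-- `N / ⟨z⟩` -/
def Mod (_ : Sec N C z) : Type u := Additive (↥N ⧸ (zpowers z).subgroupOf N)

namespace Mod

variable (s : Sec N C z)

instance : AddCommGroup (Mod s) := by
  letI : ((zpowers z).subgroupOf N).Normal := s.normal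
  letI : CommGroup (↥N ⧸ (zpowers z).subgroupOf N) :=
    { (inferInstance : Group (↥N ⧸ (zpowers z).subgroupOf N)) with
      mul_comm := by
        intro x y
        obtain ⟨a, rfl⟩ := QuotientGroup.mk_surjective x
        obtain ⟨b, rfl⟩ := QuotientGroup.mk_surjective y
        rw [← QuotientGroup.mk_mul, ← QuotientGroup.mk_mul, QuotientGroup.eq, mem_subgroupOf]
        have h1 := s.comm_mem (inv_mem b.2) (inv_mem a.2)
        have h2 : (((a * b)⁻¹ * (b * a) : N) : G) = (b : G)⁻¹ * (a : G)⁻¹ * (b : G)⁻¹⁻¹ * (a : G)⁻¹⁻¹ := by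
          simp [mul_assoc]
        rw [h2]; exact h1 }
  exact inferInstanceAs (AddCommGroup (Additive (↥N ⧸ (zpowers z).subgroupOf N)))

instance [Finite G] : Finite (Mod s) := inferInstanceAs (Finite (↥N ⧸ (zpowers z).subgroupOf N))

variable {s}

/-- the class of an element of `N` -/
def mk (s : Sec N C z) (n : G) (hn : n ∈ N) : Mod s :=
  Additive.ofMul (QuotientGroup.mk (⟨n, hn⟩ : N) : ↥N ⧸ (zpowers z).subgroupOf N)

theorem mk_surj (x : Mod s) : ∃ n, ∃ hn : n ∈ N, mk s n hn = x := by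
  obtain ⟨⟨n, hn⟩, h⟩ := QuotientGroup.mk_surjective (s := (zpowers z).subgroupOf N) (Additive.toMul x)
  exact ⟨n, hn, h⟩

theorem mk_mul {a b : G} (ha : a ∈ N) (hb : b ∈ N) :
    mk s (a * b) (mul_mem ha hb) = mk s a ha + mk s b hb := rfl

theorem mk_one : mk s 1 (one_mem N) = 0 := rfl

theorem mk_eq {a b : G} (ha : a ∈ N) (hb : b ∈ N) : mk s a ha = mk s b hb ↔ a⁻¹ * b ∈ zpowers z := by
  have h1 : mk s a ha = mk s b hb ↔ (QuotientGroup.mk (⟨a, ha⟩ : N) : ↥N ⧸ (zpowers z).subgroupOf N) =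
    QuotientGroup.mk (⟨b, hb⟩ : N) := Iff.rfl
  rw [h1, QuotientGroup.eq, mem_subgroupOf]
  rfl

theorem mk_eq_zero {a : G} (ha : a ∈ N) : mk s a ha = 0 ↔ a ∈ zpowers z := by
  rw [← mk_one, eq_comm, mk_eq, inv_one, one_mul]

theorem mk_congr {a b : G} (h : a = b) (ha : a ∈ N) : mk s a ha = mk s b (h ▸ ha) := by
  subst h; rfl

theorem add_self (x : Mod s) : x + x = 0 := by
  obtain ⟨a, ha, rfl⟩ := mk_surj x
  rw [← mk_mul, mk_eq_zero]
  exact s.mem_of_sq ha

theorem neg_eq (x : Mod s) : -x = x := neg_eq_of_add_eq_zero_left (add_self x)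

theorem mk_inv {a : G} (ha : a ∈ N) : mk s a⁻¹ (inv_mem ha) = mk s a ha := by
  have h1 : mk s (a⁻¹ * a) (mul_mem (inv_mem ha) ha) = 0 := by
    rw [mk_eq_zero, inv_mul_cancel]; exact one_mem _
  rw [mk_mul] at h1
  have := eq_neg_of_add_eq_zero_left h1
  rwa [neg_eq] at this

/-- The image of a subgroup of `G`. -/
def sub (s : Sec N C z) (U : Subgroup G) : AddSubgroup (Mod s) where
  carrier := {x | ∃ u ∈ U, ∃ hu : u ∈ N, mk s u hu = x}
  zero_mem' := ⟨1, one_mem _, one_mem _, mk_one⟩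
  add_mem' := by
    rintro _ _ ⟨u, hu, hu', rfl⟩ ⟨v, hv, hv', rfl⟩
    exact ⟨u * v, mul_mem hu hv, mul_mem hu' hv', mk_mul _ _⟩
  neg_mem' := by
    rintro _ ⟨u, hu, hu', rfl⟩
    refine ⟨u, hu, hu', (neg_eq _).symm⟩

theorem mem_sub {U : Subgroup G} (hz : z ∈ U) {a : G} (ha : a ∈ N) : mk s a ha ∈ sub s U ↔ a ∈ U := by
  constructor
  · rintro ⟨u, hu, hu', h⟩
    rw [mk_eq] at h
    have h1 : u * (u⁻¹ * a) ∈ U := mul_mem hu ((zpowers_le.mpr hz) h)
    rwa [mul_inv_cancel_left] at h1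
  · intro h
    exact ⟨a, h, ha, rfl⟩

/-- the action of `C` -/
instance : DistribMulAction C (Mod s) where
  smul c x := Quotient.liftOn' (Additive.toMul x)
    (fun n : N => (mk s ((c : G) * n * (c : G)⁻¹) (s.CN c c.2 n n.2)))
    (by
      intro a b hab
      rw [QuotientGroup.leftRel_apply, mem_subgroupOf] at hab
      change mk s _ _ = mk s _ _
      rw [mk_eq]
      have hab' : (a : G)⁻¹ * b ∈ zpowers z := hab
      have e : ((c : G) * a * (c : G)⁻¹)⁻¹ * (c * b * (c : G)⁻¹) = c * ((a : G)⁻¹ * b) * (c : G)⁻¹ := by group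
      rw [e, s.conj_z c.2 hab']
      exact hab')
  one_smul := by
    intro x
    obtain ⟨a, ha, rfl⟩ := mk_surj x
    change mk s _ _ = mk s _ _
    rw [mk_eq]
    have e : (((1 : C) : G) * a * ((1 : C) : G)⁻¹)⁻¹ * a = 1 := by simp
    change (((1 : C) : G) * a * ((1 : C) : G)⁻¹)⁻¹ * a ∈ _
    rw [e]; exact one_mem _
  mul_smul := by
    intro c d x
    obtain ⟨a, ha, rfl⟩ := mk_surj x
    change mk s _ _ = mk s _ _
    rw [mk_eq]
    change (((c * d : C) : G) * a * ((c * d : C) : G)⁻¹)⁻¹ * (c * (d * a * (d : G)⁻¹) * (c : G)⁻¹) ∈ _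
    have e : (((c * d : C) : G) * a * ((c * d : C) : G)⁻¹)⁻¹ * (c * (d * a * (d : G)⁻¹) * (c : G)⁻¹) = 1 := by
      have : ((c * d : C) : G) = c * d := rfl
      rw [this]; group
    rw [e]; exact one_mem _
  smul_zero := by
    intro c
    change mk s _ _ = 0
    rw [mk_eq_zero]
    change (c : G) * 1 * (c : G)⁻¹ ∈ _
    rw [mul_one, mul_inv_cancel]; exact one_mem _
  smul_add := by
    intro c x y
    obtain ⟨a, ha, rfl⟩ := mk_surj x
    obtain ⟨b, hb, rfl⟩ := mk_surj y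
    change mk s _ _ = mk s _ _ + mk s _ _
    rw [← mk_mul, mk_eq]
    change (c * (a * b) * (c : G)⁻¹)⁻¹ * (c * a * (c : G)⁻¹ * (c * b * (c : G)⁻¹)) ∈ _
    have e : (c * (a * b) * (c : G)⁻¹)⁻¹ * (c * a * (c : G)⁻¹ * (c * b * (c : G)⁻¹)) = 1 := by group
    rw [e]; exact one_mem _

theorem smul_mk (c : C) {a : G} (ha : a ∈ N) : c • mk s a ha = mk s ((c : G) * a * (c : G)⁻¹) (s.CN c c.2 a ha) := rfl

/-- the group acting -/
abbrev Aut (s : Sec N C z) : Type u := (AddMonoid.End (Mod s))ˣ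

/-- the representation -/
def rep (s : Sec N C z) : C →* Aut s := (DistribMulAction.toAddMonoidEnd C (Mod s)).toHomUnits

theorem rep_smul (c : C) (x : Mod s) : rep s c • x = c • x := rfl

theorem aut_ext {f g : Aut s} (h : ∀ x : Mod s, f • x = g • x) : f = g := by
  apply Units.ext
  exact AddMonoidHom.ext h

theorem rep_eq_one {c : C} : rep s c = 1 ↔ ∀ n ∈ N, (c : G) * n * (c : G)⁻¹ * n⁻¹ ∈ zpowers z := by
  constructor
  · intro h n hn
    have h1 : rep s c • mk s n hn = mk s n hn := by rw [h, one_smul]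
    rw [rep_smul, smul_mk, mk_eq] at h1
    have h2 := s.conj_z (s.NC hn) (inv_mem h1)
    have e : (c : G) * n * (c : G)⁻¹ * n⁻¹ = n * (((c : G) * n * (c : G)⁻¹)⁻¹ * n)⁻¹ * n⁻¹ := by group
    rw [e, h2]
    exact inv_mem h1
  · intro h
    apply aut_ext
    intro x
    obtain ⟨a, ha, rfl⟩ := mk_surj x
    rw [one_smul, rep_smul, smul_mk, mk_eq]
    have h1 := h a ha
    have h2 := s.conj_z (inv_mem (s.NC ha)) (inv_mem h1)
    have e : ((c : G) * a * (c : G)⁻¹)⁻¹ * a = a⁻¹ * ((c : G) * a * (c : G)⁻¹ * a⁻¹)⁻¹ * a⁻¹⁻¹ := by group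
    rw [e, h2]; exact inv_mem h1

end Mod

end Cfsg.Agent.MinSimple.Sec
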