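import Cfsg.Agent.MinSimple.BTwoC
import Cfsg.Agent.MinSimple.BTwoK
import Cfsg.Agent.MinSimple.BTwoMod
import Cfsg.Agent.MinSimple.DihedOf
import Cfsg.Agent.MinSimple.Sec

/-!
# (E1) with `|V| = 4`, `b = 2`: the module `ws V z / ⟨z⟩`

`sec h : Sec (ws V z) (C_G(z)) z`, `aa h q` the image of `us V q`; `data`: the conditions `BTwoMod.Data`.
-/

set_option autoImplicit false
set_option linter.dupNamespace false
set_option linter.unusedSectionVars false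

namespace Cfsg.Agent.MinSimple.BTwoRep

open Subgroup Cfsg Cfsg.Agent.ZN Cfsg.Agent.MinSimple.Geo Cfsg.Agent.MinSimple.BTwoA Cfsg.Agent.MinSimple.BTwoB
open Cfsg.Agent.MinSimple.BTwoC Cfsg.Agent.MinSimple.BTwoK
open Cfsg.Agent.ZN.Block (conj_mem_of_normalizer conj_mem_of_normalizer' le_normalizer_of_forall
  mem_normalizer_of)
open Cfsg.Agent.MinSimple.Sec (Sec Mod)
open Cfsg.Agent.MinSimple.Sec.Mod

universe u

variable {G : Type u} [Group G] [Finite G] {T V : Subgroup G} {z : G}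

theorem sec (h : BTwo T V z) : Sec (ws V z) (centralizer ({z} : Set G)) z where
  zN := h.V_le_ws h.z_mem
  zz := h.zz
  NC := h.ws_le_centralizer
  zC := fun _ hc => h.z_comm hc
  CN := fun _ hc _ hn => conj_mem_of_normalizer (Geo.centralizer_le_normalizer_ws V z) hc hn
  sq := fun _ hn => h.sq_cases hn

/-- the image of `us V q` -/
def aa (h : BTwo T V z) (q : G) : Subgroup (Aut (sec h)) :=
  ((us V q).subgroupOf (centralizer ({z} : Set G))).map (rep (sec h))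

theorem mem_aa {h : BTwo T V z} {q : G} {w : Aut (sec h)} :
    w ∈ aa h q ↔ ∃ u, ∃ hu : u ∈ centralizer ({z} : Set G), u ∈ us V q ∧ rep (sec h) ⟨u, hu⟩ = w := by
  constructor
  · rintro ⟨u, hu, rfl⟩
    exact ⟨u, u.2, hu, rfl⟩
  · rintro ⟨u, hu, hu', rfl⟩
    exact ⟨⟨u, hu⟩, hu', rfl⟩

theorem rep_eq_one_iff (h : BTwo T V z) {c : G} (hc : c ∈ centralizer ({z} : Set G)) :
    rep (sec h) ⟨c, hc⟩ = 1 ↔ c ∈ kq V z := by
  rw [rep_eq_one, mem_kq]
  constructor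
  · intro h1
    refine ⟨hc, h1, fun w hw => ?_⟩
    have hw' : c⁻¹ * w * c ∈ ws V z := by
      have := (sec h).CN c⁻¹ (inv_mem hc) w hw
      rwa [inv_inv] at this
    have h2 := h1 _ hw'
    have e : c⁻¹ * w * c * w⁻¹ = (c * (c⁻¹ * w * c) * c⁻¹ * (c⁻¹ * w * c)⁻¹)⁻¹ := by group
    rw [e]
    exact inv_mem h2
  · intro h1
    exact h1.2.1

theorem dd_le_kq (h : BTwo T V z) : dd V ≤ kq V z := by
  intro d hd
  have hdC : d ∈ centralizer ({z} : Set G) := h.ws_le_centralizer (h.dd_le_ws h.z_mem h.z_ne hd)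
  have hdw := h.dd_le_ws h.z_mem h.z_ne hd
  rw [← rep_eq_one_iff h hdC, rep_eq_one]
  intro n hn
  exact (sec h).comm_mem hdw hn

theorem V_le_kq (h : BTwo T V z) : V ≤ kq V z := h.V_le_dd.trans (dd_le_kq h)

/-- the module data -/
theorem data (h : BTwo T V z) {q : G} (hq : q ∈ V) (hq1 : q ≠ 1) (hqz : q ≠ z) :
    BTwoMod.Data (aa h q) (sub (sec h) (us V z)) (sub (sec h) (dd V)) (mk (sec h) q (h.V_le_ws hq)) := by
  have hC : ∀ u ∈ us V q, u ∈ centralizer ({z} : Set G) := fun u hu => us_le_C h q hu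
  have hzus : z ∈ us V z := h.dd_le_us h.z_mem h.z_ne (h.V_le_dd h.z_mem)
  have hzdd : z ∈ dd V := h.V_le_dd h.z_mem
  obtain ⟨Tq, hBq⟩ := h.point hq hq1
  -- the value of `w • x + x`
  have hval : ∀ (c : centralizer ({z} : Set G)) (a : G) (ha : a ∈ ws V z),
      rep (sec h) c • mk (sec h) a ha + mk (sec h) a ha =
        mk (sec h) ((c : G) * a * (c : G)⁻¹ * a⁻¹) (mul_mem ((sec h).CN c c.2 a ha) (inv_mem ha)) := by
    intro c a ha
    rw [rep_smul, smul_mk, mk_mul ((sec h).CN c c.2 a ha) (inv_mem ha), mk_inv ha]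
  refine ⟨add_self, ?_, ?_, ?_, ?_, ?_, ?_, ?_, ?_, ?_, ?_, ?_, ?_, ?_⟩
  · -- l ≠ 0
    rw [Ne, mk_eq_zero, mem_zpowers_iff_of_mul_self h.zz]
    rintro (e | e)
    · exact hq1 e
    · exact hqz e
  · exact (mem_sub hzdd _).2 (h.V_le_dd hq)
  · rintro x hx
    obtain ⟨a, ha, rfl⟩ := mk_surj x
    rw [mem_sub hzdd] at hx
    rw [mem_sub hzus]
    exact h.dd_le_us h.z_mem h.z_ne hx
  · intro x x' hx hx'
    obtain ⟨a, ha, rfl⟩ := mk_surj x
    obtain ⟨b, hb, rfl⟩ := mk_surj x'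
    rw [mem_sub hzus] at hx hx'
    rw [← mk_mul, mem_sub hzus]
    exact h.us_two ha (fun h1 => hx ⟨ha, h1⟩) hb (fun h1 => hx' ⟨hb, h1⟩)
  · obtain ⟨w, hw, hwV⟩ := h.exists_w
    exact ⟨mk (sec h) w hw, fun h1 => hwV ((mem_sub hzus hw).1 h1).2⟩
  · intro w hw
    obtain ⟨u, hu, hu', rfl⟩ := mem_aa.1 hw
    rw [← map_mul]
    refine (rep_eq_one_iff h _).2 ?_
    rcases hBq.sq_cases hu'.1 with e | e
    · rw [e]; exact one_mem _
    · rw [e]; exact V_le_kq h hq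
  · intro w hw w' hw'
    obtain ⟨u, hu, hu', rfl⟩ := mem_aa.1 hw
    obtain ⟨v, hv, hv', rfl⟩ := mem_aa.1 hw'
    have h1 : u * v * u⁻¹ * v⁻¹ ∈ kq V z := by
      have h2 := hBq.comm_mem hu'.1 (hBq.ws_le_o2 hv'.1)
      rcases (mem_zpowers_iff_of_mul_self hBq.zz).1 h2 with e | e
      · rw [e]; exact one_mem _
      · rw [e]; exact V_le_kq h hq
    have hmem : u * v * u⁻¹ * v⁻¹ ∈ centralizer ({z} : Set G) :=
      mul_mem (mul_mem (mul_mem hu hv) (inv_mem hu)) (inv_mem hv)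
    have h2 := (rep_eq_one_iff h hmem).2 h1
    have h3 : (⟨u * v * u⁻¹ * v⁻¹, hmem⟩ : centralizer ({z} : Set G)) = ⟨u, hu⟩ * ⟨v, hv⟩ * ⟨u, hu⟩⁻¹ * ⟨v, hv⟩⁻¹ := rfl
    rw [h3, map_mul, map_mul, map_mul, map_inv, map_inv, mul_inv_eq_one, mul_inv_eq_iff_eq_mul] at h2
    exact h2
  · intro w hw
    obtain ⟨u, hu, hu', rfl⟩ := mem_aa.1 hw
    rw [rep_smul, smul_mk, mk_eq]
    have : ((⟨u, hu⟩ : centralizer ({z} : Set G)) : G) * q * ((⟨u, hu⟩ : centralizer ({z} : Set G)) : G)⁻¹ = q := by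
      change u * q * u⁻¹ = q
      rw [comm_V hu'.2 hq]; group
    rw [this, inv_mul_cancel]; exact one_mem _
  · intro x hx w hw hw1 hd
    obtain ⟨a, ha, rfl⟩ := mk_surj x
    obtain ⟨u, hu, hu', rfl⟩ := mem_aa.1 hw
    rw [mem_sub hzus] at hx
    rw [hval, mem_sub hzdd] at hd
    change u * a * u⁻¹ * a⁻¹ ∈ dd V at hd
    have haV : a ∉ centralizer (V : Set G) := fun h1 => hx ⟨ha, h1⟩
    have h1 : a * u * a⁻¹ * u⁻¹ ∈ dd V := by
      have e : a * u * a⁻¹ * u⁻¹ = (u * a * u⁻¹ * a⁻¹)⁻¹ := by group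
      rw [e]; exact inv_mem hd
    have h2 := h.mem_dd_of_comm hq hq1 hqz ha haV hu' h1
    exact hw1 ((rep_eq_one_iff h hu).2 (dd_le_kq h h2))
  · intro x w hw
    obtain ⟨a, ha, rfl⟩ := mk_surj x
    obtain ⟨u, hu, hu', rfl⟩ := mem_aa.1 hw
    rw [hval, mem_sub hzus]
    change u * a * u⁻¹ * a⁻¹ ∈ us V z
    have e : u * a * u⁻¹ * a⁻¹ = (a * u * a⁻¹ * u⁻¹)⁻¹ := by group
    rw [e]; exact inv_mem (h.comm_ws_us ha hu')
  · intro x hx w hw
    obtain ⟨a, ha, rfl⟩ := mk_surj x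
    obtain ⟨u, hu, hu', rfl⟩ := mem_aa.1 hw
    rw [mem_sub hzus] at hx
    rw [hval, mem_sub hzdd]
    change u * a * u⁻¹ * a⁻¹ ∈ dd V
    have e : u * a * u⁻¹ * a⁻¹ = (a * u * a⁻¹ * u⁻¹)⁻¹ := by group
    rw [e]; exact inv_mem (h.comm_us hq hq1 hqz hx hu')
  · intro x hx w hw
    obtain ⟨a, ha, rfl⟩ := mk_surj x
    obtain ⟨u, hu, hu', rfl⟩ := mem_aa.1 hw
    rw [mem_sub hzdd] at hx
    rw [hval]
    rcases hBq.dd_ws hx hu'.1 with e | e
    · left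
      rw [mk_eq_zero]
      change u * a * u⁻¹ * a⁻¹ ∈ zpowers z
      rw [e, mul_inv_cancel]; exact one_mem _
    · right
      rw [mk_eq]
      change (u * a * u⁻¹ * a⁻¹)⁻¹ * q ∈ zpowers z
      rw [e]
      have : (q * a * a⁻¹)⁻¹ * q = 1 := by group
      rw [this]; exact one_mem _
  · intro x hx hfix
    obtain ⟨a, ha, rfl⟩ := mk_surj x
    rw [mem_sub hzdd] at hx
    have h1 : a ∈ V := by
      refine mem_V_of_comm_zpowers h hq hq1 hqz hx fun u hu => ?_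
      have h2 := hfix _ (mem_aa.2 ⟨u, hC u hu, hu, rfl⟩)
      rw [rep_smul, smul_mk, mk_eq] at h2
      change (u * a * u⁻¹)⁻¹ * a ∈ zpowers z at h2
      have h3 := (sec h).conj_z ((sec h).NC (inv_mem ha)) (inv_mem h2)
      have e : u * a * u⁻¹ * a⁻¹ = a⁻¹⁻¹ * (((u * a * u⁻¹)⁻¹ * a)⁻¹) * a⁻¹ := by group
      rw [e]
      have h4 := (sec h).conj_z ((sec h).NC ha) (inv_mem h2)
      rw [inv_inv, h4]
      exact inv_mem h2
    rcases h.four h.z_mem hq h.z_ne hq1 (Ne.symm hqz) h1 with e | e | e | e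
    · left; rw [mk_eq_zero, e]; exact one_mem _
    · left; rw [mk_eq_zero, e]; exact mem_zpowers z
    · right; rw [mk_eq, e, inv_mul_cancel]; exact one_mem _
    · right
      rw [mk_eq, e]
      have : (z * q)⁻¹ * q = q⁻¹ * z⁻¹ * q⁻¹⁻¹ := by group
      rw [this, (sec h).conj_z ((sec h).NC (inv_mem (h.V_le_ws hq))) (inv_mem (mem_zpowers z))]
      exact inv_mem (mem_zpowers z)

end Cfsg.Agent.MinSimple.BTwoRep
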