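import Cfsg.Agent.MinSimple.CaseDDefs
import Cfsg.Agent.MinSimple.Basic
import Cfsg.Agent.Lib.BenderMaximal
import Cfsg.Agent.Lib.GenFitting

/-!
# Case (d) of (E1): the choice of a minimal `P₂`

`RD S P₂ V R r`: `P₂ = R S`, `O₂(P₂) ≤ R` normal in `P₂`, `R / O₂(P₂)` an `r`-group (`r ≠ 2`), not
centralised by `V`, and `V` centralises every proper `S`-invariant subgroup of `R / O₂(P₂)`.

`exists_rd`: in case (d) `P₂` may be replaced by a smaller group with this property.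
-/

set_option autoImplicit false

namespace Cfsg.Agent.MinSimple.CaseDMin

open Subgroup Cfsg Cfsg.Agent.ZN Cfsg.Agent.MinSimple.CaseDDefs Cfsg.Agent.MinSimple.VModule
open scoped commutatorElement

universe u

variable {G : Type u} [Group G]

/-- The structure of a minimal `P₂`. -/
structure RD (S P₂ V R : Subgroup G) (r : ℕ) : Prop where
  r_prime : r.Prime
  r_ne : r ≠ 2
  Q_le : o2 P₂ ≤ R
  le : R ≤ P₂
  nrm : P₂ ≤ normalizer (R : Set G)
  sup : P₂ ≤ R ⊔ S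
  pow : ∀ g ∈ R, ∃ k : ℕ, g ^ r ^ k ∈ o2 P₂
  ne : ∃ g ∈ R, ∃ v ∈ V, g * v * g⁻¹ * v⁻¹ ∉ o2 P₂
  min : ∀ R' : Subgroup G, R' ≤ R → o2 P₂ ≤ R' → S ≤ normalizer (R' : Set G) → R' ≠ R →
    ∀ g ∈ R', ∀ v ∈ V, g * v * g⁻¹ * v⁻¹ ∈ o2 P₂

/-- A minimal subgroup of odd prime power order normalised by `T` and not centralised by `A`. -/
theorem exists_sub {H : Type*} [Group H] [Finite H] (hH : Group.IsSolvable H)
    (hO : pCore 2 H = ⊥) {T A : Subgroup H} (hT : IsPGroup 2 T) (hA : A ≤ T) (hAne : A ≠ ⊥) :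
    ∃ (r : ℕ) (R : Subgroup H), r.Prime ∧ r ≠ 2 ∧ IsPGroup r R ∧ T ≤ normalizer (R : Set H) ∧
      ¬ A ≤ centralizer (R : Set H) ∧ ∀ R' : Subgroup H, R' ≤ R → T ≤ normalizer (R' : Set H) →
        R' ≠ R → A ≤ centralizer (R' : Set H) := by
  have _ : Fact (Nat.Prime 2) := ⟨Nat.prime_two⟩
  -- `A` does not centralize some `O_p(H)`
  obtain ⟨p, hp, hpA⟩ : ∃ p : ℕ, p.Prime ∧ ¬ A ≤ centralizer (pCore p H : Set H) := by
    by_contra hcon
    push Not at hcon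
    have h1 : A ≤ centralizer (fittingSubgroup H : Set H) := by
      apply Lib.BenderMaximal.le_centralizer_symm
      rw [Lib.Cores.fittingSubgroup_eq_iSup_pCore]
      exact iSup_le fun q => Lib.BenderMaximal.le_centralizer_symm (hcon q q.2)
    have h2 : A ≤ fittingSubgroup H := h1.trans (Cfsg.Agent.S0044.result (G := H))
    apply hAne
    rw [eq_bot_iff]
    intro a ha
    obtain ⟨k, hk⟩ := hT ⟨a, hA ha⟩
    have hk' : a ^ 2 ^ k = 1 := congrArg Subtype.val hk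
    have h3 := Lib.GenFitting.mem_pCore_of_mem_fitting (h2 ha) hk'
    rwa [hO] at h3
  have hfp : Fact p.Prime := ⟨hp⟩
  have hp2 : p ≠ 2 := by
    rintro rfl
    apply hpA
    intro a _
    refine mem_centralizer_iff.2 fun (g : H) hg => ?_
    have hg' : g ∈ pCore 2 H := hg
    rw [hO, mem_bot] at hg'
    rw [hg', one_mul, mul_one]
  let 𝒮 : Set (Subgroup H) := {R | IsPGroup p R ∧ T ≤ normalizer (R : Set H) ∧
    ¬ A ≤ centralizer (R : Set H)}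
  have hne : 𝒮.Nonempty := by
    refine ⟨pCore p H, Lib.Cores.pCore_isPGroup p, ?_, hpA⟩
    have h1 : (pCore p H).Normal := Lib.Cores.pCore_normal p
    rw [normalizer_eq_top_iff.2 h1]
    exact le_top
  obtain ⟨R, hR⟩ := (Set.toFinite 𝒮).exists_minimal hne
  refine ⟨p, R, hp, hp2, hR.prop.1, hR.prop.2.1, hR.prop.2.2, fun R' hR' hT' hne' => ?_⟩
  by_contra hcon
  exact hne' (le_antisymm hR' (hR.le_of_le ⟨hR.prop.1.to_le hR', hT', hcon⟩ hR'))

theorem exists_rd [Finite G] {S P P₂ V : Subgroup G} (h : CaseDDefs.Ctx S P P₂ V) :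
    ∃ P₂' : Subgroup G, P₂' ≤ P₂ ∧ CaseDDefs.Ctx S P P₂' V ∧
      ∃ (R : Subgroup G) (r : ℕ), RD S P₂' V R r := by
  have _ : Fact (Nat.Prime 2) := ⟨Nat.prime_two⟩
  let 𝒮 : Set (Subgroup G) := {X | S ≤ X ∧ X ≤ P₂ ∧ ¬ V ≤ o2 X}
  obtain ⟨X, hX⟩ := (Set.toFinite 𝒮).exists_minimal ⟨P₂, h.SP₂, le_rfl, h.Vnle⟩
  obtain ⟨hSX, hXP, hVX⟩ := hX.prop
  have hOS : o2 P₂ ≤ S := o2_le_of_sylow h.S2 h.sylP₂
  have hsyl : ¬ 2 ∣ S.relIndex X := fun hd => h.sylP₂ (by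
    rw [← relIndex_mul_relIndex S X P₂ hSX hXP]
    exact hd.mul_right _)
  have hsol : Group.IsSolvable X := by
    have := h.solP₂
    exact Group.isSolvable_of_isSolvable_injective (inclusion_injective hXP)
  have hctx : CaseDDefs.Ctx S P X V :=
    { h with
      SP₂ := hSX
      sylP₂ := hsyl
      solP₂ := hsol
      Z₂ := hXP.trans h.Z₂
      char := Basic.char2_of_le h.char (hOS.trans hSX) hXP
      Vnle := hVX }
  refine ⟨X, hXP, hctx, ?_⟩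
  set N : Subgroup X := pCore 2 X with hN
  have hNn : N.Normal := Lib.Cores.pCore_normal 2
  set φ := QuotientGroup.mk' N with hφ
  have hφs : Function.Surjective φ := QuotientGroup.mk'_surjective N
  have hker : φ.ker = N := QuotientGroup.ker_mk' N
  have hmemN : ∀ g : X, φ g = 1 ↔ (g : G) ∈ o2 X := fun g => by
    rw [← MonoidHom.mem_ker, hker, o2_def]
    constructor
    · intro hg; exact ⟨g, hg, rfl⟩
    · rintro ⟨g', hg', he⟩
      rwa [← Subtype.ext he]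
  have hO : pCore 2 (X ⧸ N) = ⊥ := Lib.Cores.pCore_quotient_pCore 2
  have hVX' : V ≤ X := h.VS.trans hSX
  set T : Subgroup (X ⧸ N) := (S.subgroupOf X).map φ with hT
  set A : Subgroup (X ⧸ N) := (V.subgroupOf X).map φ with hA
  have hT2 : IsPGroup 2 T := (h.S2.comap_of_injective _ X.subtype_injective).map φ
  have hAT : A ≤ T := Subgroup.map_mono (fun x hx => h.VS hx)
  have hAne : A ≠ ⊥ := by
    intro hbot
    apply hVX
    intro v hv
    have h1 : φ ⟨v, hVX' hv⟩ ∈ A := ⟨⟨v, hVX' hv⟩, hv, rfl⟩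
    rw [hbot, mem_bot] at h1
    exact (hmemN _).1 h1
  obtain ⟨r, R₀, hr, hr2, hRr, hTR, hAR, hmin⟩ := exists_sub (H := X ⧸ N) inferInstance hO hT2 hAT
    hAne
  have hfr : Fact r.Prime := ⟨hr⟩
  -- `R₀ T = X / N`
  have hnormR : R₀ ⊔ T ≤ normalizer (R₀ : Set (X ⧸ N)) := sup_le le_normalizer hTR
  set X' : Subgroup G := ((R₀ ⊔ T).comap φ).map X.subtype with hX'
  have hX'X : X' ≤ X := map_subtype_le _
  have hSX' : S ≤ X' := by
    intro s hs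
    exact ⟨⟨s, hSX hs⟩, mem_sup_right ⟨⟨s, hSX hs⟩, hs, rfl⟩, rfl⟩
  have hVX'' : ¬ V ≤ o2 X' := by
    intro hle
    apply hAR
    set N' : Subgroup (X ⧸ N) := ((o2 X').subgroupOf X).map φ with hN'
    have hN'2 : IsPGroup 2 N' := ((o2_isPGroup X').comap_of_injective _ X.subtype_injective).map φ
    have hN'le : N' ≤ R₀ ⊔ T := by
      rintro _ ⟨g, hg, rfl⟩
      obtain ⟨g', hg', he⟩ := o2_le X' hg
      rwa [Subtype.ext he] at hg'
    have hN'n : R₀ ⊔ T ≤ normalizer (N' : Set (X ⧸ N)) := by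
      have h1 : ∀ y ∈ R₀ ⊔ T, ∀ n ∈ N', y * n * y⁻¹ ∈ N' := by
        rintro y hy _ ⟨g, hg, rfl⟩
        obtain ⟨y, rfl⟩ := hφs y
        refine ⟨y * g * y⁻¹, ?_, by simp⟩
        have h2 : (y : G) ∈ X' := ⟨y, hy, rfl⟩
        exact (mem_normalizer_iff.1 (le_normalizer_o2 X' h2) g).1 hg
      intro y hy
      rw [mem_normalizer_iff]
      intro n
      refine ⟨h1 y hy n, fun hn => ?_⟩
      have h2 := h1 y⁻¹ (inv_mem hy) _ hn
      have e : y⁻¹ * (y * n * y⁻¹) * y⁻¹⁻¹ = n := by group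
      rwa [e] at h2
    have hdisj : R₀ ⊓ N' = ⊥ := (IsPGroup.disjoint_of_ne r 2 hr2 _ _ hRr hN'2).eq_bot
    rintro _ ⟨v, hv, rfl⟩
    refine mem_centralizer_iff.2 fun y hy => ?_
    have hvN : φ v ∈ N' := ⟨v, hle hv, rfl⟩
    have h1 : y * φ v * y⁻¹ * (φ v)⁻¹ ∈ R₀ ⊓ N' := by
      constructor
      · have h2 := (mem_normalizer_iff.1 (hnormR (hN'le hvN)) y⁻¹).1 (inv_mem hy)
        have e : y * φ v * y⁻¹ * (φ v)⁻¹ = y * (φ v * y⁻¹ * (φ v)⁻¹) := by group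
        rw [e]
        exact mul_mem hy h2
      · exact N'.mul_mem ((mem_normalizer_iff.1 (hN'n (mem_sup_left hy)) _).1 hvN) (N'.inv_mem hvN)
    rw [hdisj, mem_bot] at h1
    have e : y * φ v = (y * φ v * y⁻¹ * (φ v)⁻¹) * (φ v * y) := by group
    rw [e, h1, one_mul]
  have hXX' : X' = X := le_antisymm hX'X (hX.le_of_le ⟨hSX', hX'X.trans hXP, hVX''⟩ hX'X)
  have htop : R₀ ⊔ T = ⊤ := by
    rw [eq_top_iff]
    intro y _
    obtain ⟨g, rfl⟩ := hφs y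
    have h1 : (g : G) ∈ X' := hXX'.symm ▸ g.2
    obtain ⟨g', hg', he⟩ := h1
    rwa [← Subtype.ext he]
  have hR₀n : R₀.Normal := by
    rw [← normalizer_eq_top_iff, eq_top_iff, ← htop]
    exact hnormR
  refine ⟨(R₀.comap φ).map X.subtype, r, hr, hr2, ?_, map_subtype_le _, ?_, ?_, ?_, ?_, ?_⟩
  · intro g hg
    have hg' : g ∈ X := o2_le X hg
    have h1 : φ ⟨g, hg'⟩ ∈ R₀ := by
      rw [(hmemN ⟨g, hg'⟩).2 hg]
      exact one_mem _
    exact ⟨⟨g, hg'⟩, h1, rfl⟩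
  · exact le_normalizer_map_of_normal (hR₀n.comap φ)
  · intro g hg
    have h1 : φ ⟨g, hg⟩ ∈ R₀ ⊔ T := htop.symm ▸ mem_top _
    obtain ⟨y, hy, t, ht, hyt⟩ := mem_sup_of_normal_left.1 h1
    obtain ⟨s, hs, rfl⟩ := ht
    obtain ⟨y, rfl⟩ := hφs y
    have h2 : φ (⟨g, hg⟩ * s⁻¹) ∈ R₀ := by
      rw [map_mul, ← hyt, map_inv, mul_inv_cancel_right]
      exact hy
    have h3 : g * (s : G)⁻¹ ∈ (R₀.comap φ).map X.subtype := ⟨⟨g, hg⟩ * s⁻¹, h2, rfl⟩
    have e : g = (g * (s : G)⁻¹) * s := by group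
    rw [e]
    exact mul_mem (mem_sup_left h3) (mem_sup_right hs)
  · rintro _ ⟨g, hg, rfl⟩
    obtain ⟨k, hk⟩ := hRr ⟨φ g, hg⟩
    refine ⟨k, ?_⟩
    have h1 : φ (g ^ r ^ k) = 1 := by
      rw [map_pow]
      exact congrArg Subtype.val hk
    exact (hmemN _).1 h1
  · by_contra hcon
    push Not at hcon
    apply hAR
    rintro _ ⟨v, hv, rfl⟩
    refine mem_centralizer_iff.2 fun y hy => ?_
    obtain ⟨g, rfl⟩ := hφs y
    have h1 := hcon g ⟨g, hy, rfl⟩ v hv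
    have h2 : φ (g * v * g⁻¹ * v⁻¹) = 1 := (hmemN _).2 h1
    rw [map_mul, map_mul, map_mul, map_inv, map_inv] at h2
    have e : φ g * φ v = (φ g * φ v * (φ g)⁻¹ * (φ v)⁻¹) * (φ v * φ g) := by group
    rw [e, h2, one_mul]
  · intro R' hR' hQR' hSR' hne g hg v hv
    set R₁ : Subgroup (X ⧸ N) := (R'.subgroupOf X).map φ with hR₁
    have h1 : R₁ ≤ R₀ := by
      rintro _ ⟨g, hg, rfl⟩
      obtain ⟨g', hg', he⟩ := hR' hg
      rwa [Subtype.ext he] at hg'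
    have h2 : T ≤ normalizer (R₁ : Set (X ⧸ N)) := by
      have h1 : ∀ y ∈ T, ∀ n ∈ R₁, y * n * y⁻¹ ∈ R₁ := by
        rintro _ ⟨s, hs, rfl⟩ _ ⟨g, hg, rfl⟩
        exact ⟨s * g * s⁻¹, (mem_normalizer_iff.1 (hSR' hs) g).1 hg, by simp⟩
      intro y hy
      rw [mem_normalizer_iff]
      intro n
      refine ⟨h1 y hy n, fun hn => ?_⟩
      have h2 := h1 y⁻¹ (inv_mem hy) _ hn
      have e : y⁻¹ * (y * n * y⁻¹) * y⁻¹⁻¹ = n := by group
      rwa [e] at h2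
    have h3 : R₁ ≠ R₀ := by
      intro he
      apply hne
      refine le_antisymm hR' ?_
      rintro _ ⟨g, hg, rfl⟩
      have h3 : φ g ∈ R₁ := he.symm ▸ hg
      obtain ⟨g', hg', he'⟩ := h3
      have h4 : φ (g'⁻¹ * g) = 1 := by rw [map_mul, map_inv, he', inv_mul_cancel]
      have h5 := hQR' ((hmemN _).1 h4)
      have e : (g : G) = g' * ((g'⁻¹ * g : X) : G) := by simp
      change (g : G) ∈ R'
      rw [e]
      exact R'.mul_mem hg' h5
    have h4 := hmin R₁ h1 h2 h3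
    have hgX : g ∈ X := map_subtype_le _ (hR' hg)
    have h5 := mem_centralizer_iff.1 (h4 ⟨⟨v, hVX' hv⟩, hv, rfl⟩) (φ ⟨g, hgX⟩) ⟨⟨g, hgX⟩, hg, rfl⟩
    have h6 : φ (⟨g, hgX⟩ * ⟨v, hVX' hv⟩ * ⟨g, hgX⟩⁻¹ * ⟨v, hVX' hv⟩⁻¹) = 1 := by
      rw [map_mul, map_mul, map_mul, map_inv, map_inv, h5]
      group
    exact (hmemN _).1 h6

end Cfsg.Agent.MinSimple.CaseDMin
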