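import Cfsg.Agent.MinSimple.CaseD9

/-!
# Core theorem T, case (d): two commuting dihedral pairs on an elementary abelian group

`exists_z`: two commuting elements `y₁, y₂` acting without fixed points and with order `3` on the
elementary abelian group `U`, with `bᵢ` inverting `yᵢ` and centralizing `yⱼ`: there is `z ≠ 1` in `U`
fixed by `b₁ b₂`, moved by `b₁`, with `[z ^ y₁, b₁ b₂] = z`.
-/

set_option autoImplicit false

namespace Cfsg.Agent.MinSimple.CaseD6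

open Subgroup

/-- Additive form of `exists_z`. -/
theorem exists_z_add {M : Type*} [AddCommGroup M] [Nontrivial M] (h2 : ∀ m : M, m + m = 0)
    (α β b c : M →+ M) (hα : ∀ m, m + α m + α (α m) = 0) (hβ : ∀ m, m + β m + β (β m) = 0)
    (hαβ : ∀ m, α (β m) = β (α m)) (hbα : ∀ m, α (b (α m)) = b m) (hbβ : ∀ m, b (β m) = β (b m))
    (hcα : ∀ m, c (α m) = α (c m)) (hcβ : ∀ m, β (c (β m)) = c m) (hbb : ∀ m, b (b m) = m)
    (hcc : ∀ m, c (c m) = m) (hbc : ∀ m, b (c m) = c (b m)) :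
    ∃ z : M, z ≠ 0 ∧ b (c z) = z ∧ b z ≠ z ∧ b (c (α z)) = z + α z := by
  have neg : ∀ m : M, -m = m := fun m => neg_eq_of_add_eq_zero_left (h2 m)
  have eqz : ∀ m n : M, m + n = 0 → m = n := fun m n h => by
    rw [eq_neg_of_add_eq_zero_left h, neg]
  have hα' : ∀ m, α (α m) = m + α m := fun m => by
    have := hα m
    rw [eq_comm]
    exact eqz _ _ this
  have hβ' : ∀ m, β (β m) = m + β m := fun m => by
    have := hβ m
    rw [eq_comm]
    exact eqz _ _ this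
  have hα3 : ∀ m, α (α (α m)) = m := fun m => by
    rw [hα' (α m), hα' m]
    calc α m + (m + α m) = (α m + α m) + m := by abel
      _ = m := by rw [h2, zero_add]
  have hβ3 : ∀ m, β (β (β m)) = m := fun m => by
    rw [hβ' (β m), hβ' m]
    calc β m + (m + β m) = (β m + β m) + m := by abel
      _ = m := by rw [h2, zero_add]
  -- `b α = α⁻¹ b`
  have hbα' : ∀ m, b (α m) = α (α (b m)) := fun m => by
    have h := congrArg (fun t => α (α t)) (hbα m)
    simpa only [hα3] using h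
  have hcβ' : ∀ m, c (β m) = β (β (c m)) := fun m => by
    have h := congrArg (fun t => β (β t)) (hcβ m)
    simpa only [hβ3] using h
  have hαb : ∀ p, α (b p) = b (α (α p)) := fun p => by
    rw [hbα', hbα', hα3]
  have hβc : ∀ p, β (c p) = c (β (β p)) := fun p => by
    rw [hcβ', hcβ', hβ3]
  -- an element of `V₁ = {m | α m = β m}`
  obtain ⟨m, hm, hαm⟩ : ∃ m : M, m ≠ 0 ∧ α m = β m := by
    obtain ⟨u, hu⟩ := exists_ne (0 : M)
    by_cases h : α u = β u
    · exact ⟨u, hu, h⟩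
    · refine ⟨b (α u + β u), ?_, ?_⟩
      · intro h0
        have h1 := congrArg b h0
        rw [hbb, map_zero] at h1
        exact h (eqz _ _ h1)
      · -- `α p = β β p` for `p = α u + β u`
        have e1 : α (α u + β u) = β (β (α u + β u)) := by
          rw [map_add, map_add, map_add, hα', hαβ, hβ' (α u), hβ3]
          abel
        have e2 : α (α (α u + β u)) = β (α u + β u) := by
          rw [e1, hαβ, hαβ, e1, hβ3]
        rw [hαb, e2, hbβ]
  have ht : ∀ m, α m = β m → α (b (c m)) = β (b (c m)) := fun m h => by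
    have e1 : α (α m) = β (β m) := by rw [h, hαβ, h]
    rw [hαb, ← hcα, ← hcα, e1, ← hbβ, hβc]
  have htt : ∀ m, b (c (b (c m))) = m := fun m => by
    rw [← hbc (c m), hcc, hbb]
  obtain ⟨z, hz, hαz, htz⟩ : ∃ z : M, z ≠ 0 ∧ α z = β z ∧ b (c z) = z := by
    by_cases h : b (c m) = m
    · exact ⟨m, hm, hαm, h⟩
    · refine ⟨m + b (c m), ?_, ?_, ?_⟩
      · intro h0
        exact h (eqz _ _ h0).symm
      · rw [map_add, map_add, hαm, ht m hαm]
      · rw [map_add, map_add, htt, add_comm]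
  refine ⟨z, hz, htz, ?_, ?_⟩
  · intro hbz
    have h1 : α z = b (α (α z)) := by rw [← hαb, hbz]
    have h2' : β z = b (β z) := by rw [hbβ, hbz]
    have h3 : α (α z) = β z := by
      have h4 : b (α (α z)) = b (β z) := by rw [← h1, ← h2', hαz]
      have h5 := congrArg b h4
      rwa [hbb, hbb] at h5
    have h4 := hα z
    rw [h3, ← hαz, add_assoc, h2, add_zero] at h4
    exact hz h4
  · rw [hcα, hbα', htz, hα']

variable {G : Type*} [Group G]

/-- Conjugation by an element of the normalizer, on the additive group of `U`. -/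
def cj (U : Subgroup G) (y : G)
    (hy : y ∈ normalizer (U : Set G)) : Additive U →+ Additive U where
  toFun m := Additive.ofMul ⟨y * (m.toMul : G) * y⁻¹, (mem_normalizer_iff.1 hy _).1 m.toMul.2⟩
  map_zero' := by
    apply Additive.toMul.injective
    apply Subtype.ext
    simp
  map_add' m n := by
    apply Additive.toMul.injective
    apply Subtype.ext
    simp

/-- Group form. -/
theorem exists_z {U : Subgroup G} {y₁ y₂ b₁ b₂ : G} (Usq : ∀ u ∈ U, u * u = 1) (hU : U ≠ ⊥)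
    (n1 : y₁ ∈ normalizer (U : Set G)) (n2 : y₂ ∈ normalizer (U : Set G))
    (m1 : b₁ ∈ normalizer (U : Set G)) (m2 : b₂ ∈ normalizer (U : Set G))
    (o1 : ∀ u ∈ U, u * (y₁ * u * y₁⁻¹) * (y₁ * (y₁ * u * y₁⁻¹) * y₁⁻¹) = 1)
    (o2 : ∀ u ∈ U, u * (y₂ * u * y₂⁻¹) * (y₂ * (y₂ * u * y₂⁻¹) * y₂⁻¹) = 1)
    (r12 : ∀ u ∈ U, y₁ * (y₂ * u * y₂⁻¹) * y₁⁻¹ = y₂ * (y₁ * u * y₁⁻¹) * y₂⁻¹)
    (s11 : ∀ u ∈ U, y₁ * (b₁ * (y₁ * u * y₁⁻¹) * b₁⁻¹) * y₁⁻¹ = b₁ * u * b₁⁻¹)
    (s12 : ∀ u ∈ U, b₁ * (y₂ * u * y₂⁻¹) * b₁⁻¹ = y₂ * (b₁ * u * b₁⁻¹) * y₂⁻¹)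
    (s21 : ∀ u ∈ U, b₂ * (y₁ * u * y₁⁻¹) * b₂⁻¹ = y₁ * (b₂ * u * b₂⁻¹) * y₁⁻¹)
    (s22 : ∀ u ∈ U, y₂ * (b₂ * (y₂ * u * y₂⁻¹) * b₂⁻¹) * y₂⁻¹ = b₂ * u * b₂⁻¹)
    (i1 : ∀ u ∈ U, b₁ * (b₁ * u * b₁⁻¹) * b₁⁻¹ = u)
    (i2 : ∀ u ∈ U, b₂ * (b₂ * u * b₂⁻¹) * b₂⁻¹ = u)
    (i12 : ∀ u ∈ U, b₁ * (b₂ * u * b₂⁻¹) * b₁⁻¹ = b₂ * (b₁ * u * b₁⁻¹) * b₂⁻¹) :
    ∃ z ∈ U, z ≠ 1 ∧ b₁ * (b₂ * z * b₂⁻¹) * b₁⁻¹ = z ∧ b₁ * z * b₁⁻¹ ≠ z ∧
      b₁ * (b₂ * (y₁ * z * y₁⁻¹) * b₂⁻¹) * b₁⁻¹ = z * (y₁ * z * y₁⁻¹) := by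
  have Uc : ∀ u ∈ U, ∀ v ∈ U, u * v = v * u := by
    intro u hu v hv
    have h1 := Usq _ (U.mul_mem hu hv)
    have h2 := Usq u hu
    have h3 := Usq v hv
    calc u * v = (u * v)⁻¹ := (inv_eq_of_mul_eq_one_left h1).symm
      _ = v⁻¹ * u⁻¹ := mul_inv_rev u v
      _ = v * u := by rw [inv_eq_of_mul_eq_one_left h2, inv_eq_of_mul_eq_one_left h3]
  let _ : CommGroup U := { (inferInstance : Group U) with
    mul_comm := fun a b => Subtype.ext (Uc a a.2 b b.2) }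
  have _ : Nontrivial U := (Subgroup.nontrivial_iff_ne_bot U).2 hU
  have key := exists_z_add (M := Additive U)
    (fun m => Additive.toMul.injective (Subtype.ext (by simpa using Usq _ m.toMul.2)))
    (cj U y₁ n1) (cj U y₂ n2) (cj U b₁ m1) (cj U b₂ m2)
    (fun m => Additive.toMul.injective (Subtype.ext (o1 _ m.toMul.2)))
    (fun m => Additive.toMul.injective (Subtype.ext (o2 _ m.toMul.2)))
    (fun m => Additive.toMul.injective (Subtype.ext (r12 _ m.toMul.2)))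
    (fun m => Additive.toMul.injective (Subtype.ext (s11 _ m.toMul.2)))
    (fun m => Additive.toMul.injective (Subtype.ext (s12 _ m.toMul.2)))
    (fun m => Additive.toMul.injective (Subtype.ext (s21 _ m.toMul.2)))
    (fun m => Additive.toMul.injective (Subtype.ext (s22 _ m.toMul.2)))
    (fun m => Additive.toMul.injective (Subtype.ext (i1 _ m.toMul.2)))
    (fun m => Additive.toMul.injective (Subtype.ext (i2 _ m.toMul.2)))
    (fun m => Additive.toMul.injective (Subtype.ext (i12 _ m.toMul.2)))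
  obtain ⟨z, hz, h1, h2, h3⟩ := key
  refine ⟨(z.toMul : U), z.toMul.2, ?_, ?_, ?_, ?_⟩
  · intro h
    exact hz (Additive.toMul.injective (Subtype.ext h))
  · exact congrArg (fun t : Additive U => ((t.toMul : U) : G)) h1
  · intro h
    exact h2 (Additive.toMul.injective (Subtype.ext h))
  · exact congrArg (fun t : Additive U => ((t.toMul : U) : G)) h3

end Cfsg.Agent.MinSimple.CaseD6
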