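import Cfsg.Agent.MinSimple.CaseDFive
import Cfsg.Agent.MinSimple.CaseD9

/-!
# Case (d) of (E1), step (5c)

If `R / O₂(P₂)` has order `3` then `S = V O₂(P₂)` and a contradiction follows in `N_G(⟨z, w, w^x⟩)`.
-/

set_option autoImplicit false

namespace Cfsg.Agent.MinSimple.CaseDFiveC

open Subgroup Cfsg Cfsg.Agent.ZN Cfsg.Agent.MinSimple.CaseDDefs Cfsg.Agent.MinSimple.CaseDMin
open Cfsg.Agent.MinSimple.CaseDThree Cfsg.Agent.MinSimple.CaseDHyp Cfsg.Agent.MinSimple.CaseDGlue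
open Cfsg.Agent.MinSimple.CaseDFive
open Cfsg.Agent.MinSimple.VModule (o2_def o2_isPGroup le_normalizer_o2 le_o2 o2_le)
open scoped commutatorElement

universe u

variable {G : Type u} [Group G] {S P P₂ V R : Subgroup G} {r : ℕ}

/-- The elements of `X` commuting with `s` modulo the normal subgroup `Q`. -/
def cq (X Q : Subgroup G) (hQ : X ≤ normalizer (Q : Set G)) (s : G) : Subgroup G where
  carrier := {g | g ∈ X ∧ g * s * g⁻¹ * s⁻¹ ∈ Q}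
  one_mem' := ⟨one_mem _, by simp⟩
  mul_mem' := by
    rintro g k ⟨hg, hg'⟩ ⟨hk, hk'⟩
    refine ⟨mul_mem hg hk, ?_⟩
    have e : g * k * s * (g * k)⁻¹ * s⁻¹ = g * (k * s * k⁻¹ * s⁻¹) * g⁻¹ * (g * s * g⁻¹ * s⁻¹) := by
      group
    rw [e]
    exact mul_mem ((mem_normalizer_iff.1 (hQ hg) _).1 hk') hg'
  inv_mem' := by
    rintro g ⟨hg, hg'⟩
    refine ⟨inv_mem hg, ?_⟩
    have e : g⁻¹ * s * g⁻¹⁻¹ * s⁻¹ = g⁻¹ * (g * s * g⁻¹ * s⁻¹)⁻¹ * g⁻¹⁻¹ := by group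
    rw [e]
    exact (mem_normalizer_iff.1 (hQ (X.inv_mem hg)) _).1 (Q.inv_mem hg')

theorem mem_cq {X Q : Subgroup G} {hQ : X ≤ normalizer (Q : Set G)} {s g : G} :
    g ∈ cq X Q hQ s ↔ g ∈ X ∧ g * s * g⁻¹ * s⁻¹ ∈ Q := Iff.rfl

theorem le_normalizer_of_conj {X N : Subgroup G} (h : ∀ g ∈ X, ∀ n ∈ N, g * n * g⁻¹ ∈ N) :
    X ≤ normalizer (N : Set G) := by
  intro g hg
  rw [mem_normalizer_iff]
  intro n
  refine ⟨h g hg n, fun hn => ?_⟩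
  have h2 := h g⁻¹ (X.inv_mem hg) _ hn
  have e1 : g⁻¹ * (g * n * g⁻¹) * g⁻¹⁻¹ = n := by group
  rwa [e1] at h2

/-- `S = V O₂(P₂)`. -/
theorem S_le [Finite G] (h : CaseDDefs.Ctx S P P₂ V) (hR : RD S P₂ V R r) {a ρ : G} (ha : a ∈ V)
    (hinv : a * ρ * a⁻¹ * ρ ∈ o2 P₂) (hρ : ρ ∈ R) (hρ3 : ρ ^ 3 = 1) (hρQ : ρ ∉ o2 P₂)
    (hRρ : R ≤ o2 P₂ ⊔ zpowers ρ) : S ≤ V ⊔ o2 P₂ := by
  have hVP : V ≤ P₂ := h.VS.trans h.SP₂
  have hOS : o2 P₂ ≤ S := VModule.o2_le_of_sylow h.S2 h.sylP₂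
  have hn := le_normalizer_o2 P₂
  have hρP : ρ ∈ P₂ := hR.le hρ
  -- `N = C_S(R / Q)`
  set N : Subgroup G := S ⊓ cq P₂ (o2 P₂) hn ρ with hN
  have hmemN : ∀ s, s ∈ N ↔ s ∈ S ∧ s * ρ * s⁻¹ * ρ⁻¹ ∈ o2 P₂ := by
    intro s
    rw [hN, mem_inf, mem_cq]
    exact ⟨fun hs => ⟨hs.1, hs.2.2⟩, fun hs => ⟨hs.1, h.SP₂ hs.1, hs.2⟩⟩
  have hQN : o2 P₂ ≤ N := by
    intro q hq
    rw [hmemN]
    refine ⟨hOS hq, ?_⟩
    have e : q * ρ * q⁻¹ * ρ⁻¹ = q * (ρ * q⁻¹ * ρ⁻¹) := by group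
    rw [e]
    exact mul_mem hq (conj_o2 hρP (inv_mem hq))
  have hNR : ∀ s ∈ N, ∀ g ∈ R, g * s * g⁻¹ * s⁻¹ ∈ o2 P₂ := by
    intro s hs g hg
    have hs' := (hmemN s).1 hs
    have h1 : o2 P₂ ⊔ zpowers ρ ≤ cq P₂ (o2 P₂) hn s := by
      refine sup_le ?_ (zpowers_le.2 ?_)
      · intro q hq
        refine ⟨o2_le P₂ hq, ?_⟩
        have e : q * s * q⁻¹ * s⁻¹ = q * (s * q⁻¹ * s⁻¹) := by group
        rw [e]
        exact mul_mem hq (conj_o2 (h.SP₂ hs'.1) (inv_mem hq))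
      · refine ⟨hρP, ?_⟩
        have e : ρ * s * ρ⁻¹ * s⁻¹ = (s * ρ * s⁻¹ * ρ⁻¹)⁻¹ := by group
        rw [e]
        exact inv_mem hs'.2
    exact (h1 (hRρ hg)).2
  have hPN : P₂ ≤ normalizer (N : Set G) := by
    refine hR.sup.trans (sup_le ?_ ?_)
    · refine le_normalizer_of_conj fun g hg s hs => ?_
      have e : g * s * g⁻¹ = (g * s * g⁻¹ * s⁻¹) * s := by group
      rw [e]
      exact mul_mem (hQN (hNR s hs g hg)) hs
    · refine le_normalizer_of_conj fun g hg s hs => ?_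
      rw [hmemN]
      refine ⟨mul_mem (mul_mem hg ((hmemN s).1 hs).1) (inv_mem hg), ?_⟩
      have h1 : g⁻¹ * ρ * g ∈ R := by
        have := (mem_normalizer_iff.1 (hR.nrm (h.SP₂ (S.inv_mem hg))) ρ).1 hρ
        rwa [inv_inv] at this
      have h2 := inv_mem (hNR s hs _ h1)
      have e : g * s * g⁻¹ * ρ * (g * s * g⁻¹)⁻¹ * ρ⁻¹ =
          g * ((g⁻¹ * ρ * g) * s * (g⁻¹ * ρ * g)⁻¹ * s⁻¹)⁻¹ * g⁻¹ := by group
      rw [e]
      exact conj_o2 (h.SP₂ hg) h2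
  have hNQ : N ≤ o2 P₂ := le_o2 (inf_le_left.trans h.SP₂) (h.S2.to_le inf_le_left) hPN
  intro s hs
  have hsR : s * ρ * s⁻¹ ∈ R := (mem_normalizer_iff.1 (hR.nrm (h.SP₂ hs)) ρ).1 hρ
  have h1 := hRρ hsR
  rw [← SetLike.mem_coe, coe_mul_of_right_le_normalizer_left _ _ ((zpowers_le.2 hρP).trans hn)] at h1
  obtain ⟨q, hq, _, ⟨i, rfl⟩, hqi⟩ := h1
  have hqi' : q * ρ ^ i = s * ρ * s⁻¹ := hqi
  have hi : ρ ^ i = ρ ^ (i % 3) := by
    conv_lhs => rw [← Int.mul_ediv_add_emod i 3]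
    rw [zpow_add, zpow_mul, show (3 : ℤ) = ((3 : ℕ) : ℤ) from rfl, zpow_natCast, hρ3, one_zpow,
      one_mul]
  rw [hi] at hqi'
  have h3 : i % 3 = 0 ∨ i % 3 = 1 ∨ i % 3 = 2 := by omega
  rcases h3 with h3 | h3 | h3
  · exfalso
    rw [h3, zpow_zero, mul_one] at hqi'
    apply hρQ
    have h4 := conj_o2' (h.SP₂ hs) (hqi' ▸ hq : s * ρ * s⁻¹ ∈ o2 P₂)
    have e : s⁻¹ * (s * ρ * s⁻¹) * s = ρ := by group
    rwa [e] at h4
  · apply mem_sup_right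
    apply hNQ
    rw [hmemN]
    refine ⟨hs, ?_⟩
    rw [← hqi', h3, zpow_one, mul_inv_cancel_right]
    exact hq
  · have h4 : s * ρ * s⁻¹ * ρ ∈ o2 P₂ := by
      rw [← hqi', h3, mul_assoc]
      have e : ρ ^ (2 : ℤ) * ρ = 1 := by
        rw [← zpow_add_one]
        norm_num
        exact_mod_cast hρ3
      rw [e, mul_one]
      exact hq
    have h5 : s * a ∈ N := by
      rw [hmemN]
      refine ⟨mul_mem hs (h.VS ha), ?_⟩
      have e : s * a * ρ * (s * a)⁻¹ * ρ⁻¹ =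
          (s * (a * ρ * a⁻¹ * ρ) * s⁻¹) * (ρ * (s * ρ * s⁻¹ * ρ) * ρ⁻¹)⁻¹ := by group
      rw [e]
      exact mul_mem (conj_o2 (h.SP₂ hs) hinv) (inv_mem (conj_o2 hρP h4))
    have e2 : s = (s * a) * a⁻¹ := by group
    rw [e2]
    exact mul_mem (mem_sup_right (hNQ h5)) (mem_sup_left (inv_mem ha))

/-- The action of `P` on `V`, with kernel `C_P(V)`. -/
theorem exists_act (hPV : P ≤ normalizer (V : Set G)) : ∃ θ : P →* MulAut V,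
    ∀ g : P, θ g = 1 ↔ (g : G) ∈ centralizer (V : Set G) := by
  refine ⟨(normalizerMonoidHom V).comp (inclusion hPV), fun g => ?_⟩
  rw [← MonoidHom.mem_ker, ← MonoidHom.comap_ker, normalizerMonoidHom_ker]
  rfl

theorem sylIn_of [Finite G] (hSP : S ≤ P) (hS : IsPGroup 2 S) (hsyl : ¬ 2 ∣ S.relIndex P) :
    Transfer.FusionBasic.SylIn 2 S P := by
  have hf : Fact (Nat.Prime 2) := ⟨Nat.prime_two⟩
  have h1 : IsPGroup 2 (S.subgroupOf P) := hS.comap_of_injective _ P.subtype_injective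
  have h2 := Transfer.FusionBasic.sylIn_map (h1.toSylow hsyl : Sylow 2 P)
  have h3 : ((h1.toSylow hsyl : Sylow 2 P) : Subgroup P).map P.subtype = S := by
    change (S.subgroupOf P).map P.subtype = S
    rw [subgroupOf_map_subtype, inf_eq_left.2 hSP]
  rwa [h3] at h2

theorem conj_cen (hPV : P ≤ normalizer (V : Set G)) {g n : G} (hg : g ∈ P)
    (hn : n ∈ centralizer (V : Set G)) : g * n * g⁻¹ ∈ centralizer (V : Set G) := by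
  refine mem_centralizer_iff.2 fun v hv => ?_
  have h1 : g⁻¹ * v * g ∈ V := by
    have := (mem_normalizer_iff.1 (hPV (P.inv_mem hg)) v).1 hv
    rwa [inv_inv] at this
  have h2 := mem_centralizer_iff.1 hn _ h1
  calc v * (g * n * g⁻¹) = g * ((g⁻¹ * v * g) * n) * g⁻¹ := by group
    _ = g * (n * (g⁻¹ * v * g)) * g⁻¹ := by rw [h2]
    _ = g * n * g⁻¹ * v := by group

/-- The element `p` of step (5c). -/
theorem exists_p [Finite G] (h : CaseDDefs.Ctx S P P₂ V)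
    (charP : P ⊓ centralizer (o2 P : Set G) ≤ o2 P) {B : Subgroup G} (hBS : B ≤ S)
    (hQB : ∀ s ∈ S, s ∈ centralizer (V : Set G) → ∀ e ∈ B, s * e * s⁻¹ * e⁻¹ ∈ V) {c y u : G}
    (hc : c ∈ B) (hy : y ∈ P) (hy3 : y ^ 3 ∈ centralizer (V : Set G))
    (hcy : c * y * c⁻¹ * y ∈ centralizer (V : Set G)) (hu : u ∈ B)
    (huy : u * y * u⁻¹ * y⁻¹ ∈ centralizer (V : Set G)) :
    ∃ p ∈ P, p * y⁻¹ ∈ centralizer (V : Set G) ∧ p * u * p⁻¹ * u⁻¹ ∈ V := by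
  have hf : Fact (Nat.Prime 2) := ⟨Nat.prime_two⟩
  obtain ⟨θ, hθ⟩ := exists_act h.PV
  set Qp : Subgroup G := S ⊓ (P ⊓ centralizer (V : Set G)) with hQp
  have hCn : P ≤ normalizer ((P ⊓ centralizer (V : Set G) : Subgroup G) : Set G) :=
    le_normalizer_of_conj fun g hg n hn =>
      mem_inf.2 ⟨mul_mem (mul_mem hg hn.1) (inv_mem hg), conj_cen h.PV hg hn.2⟩
  have hsylIn := sylIn_of h.SP h.S2 h.sylP
  have hQsyl := hsylIn.inf inf_le_left hCn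
  -- `N = N_P(Qp)`
  set N : Subgroup G := P ⊓ normalizer (Qp : Set G) with hN
  have hSN : S ≤ N := by
    refine le_inf h.SP (le_normalizer_of_conj fun g hg n hn => mem_inf.2 ?_)
    exact ⟨mul_mem (mul_mem hg hn.1) (inv_mem hg), (mem_normalizer_iff.1 (hCn (h.SP hg)) n).1 hn.2⟩
  -- `K`
  let K : Subgroup G :=
    { carrier := {g | g ∈ N ∧ ∀ s ∈ Qp, g * s * g⁻¹ * s⁻¹ ∈ V}
      one_mem' := ⟨one_mem _, fun s _ => by simp⟩
      mul_mem' := by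
        rintro g k ⟨hg, hg'⟩ ⟨hk, hk'⟩
        refine ⟨mul_mem hg hk, fun s hs => ?_⟩
        have e : g * k * s * (g * k)⁻¹ * s⁻¹ =
            g * (k * s * k⁻¹ * s⁻¹) * g⁻¹ * (g * s * g⁻¹ * s⁻¹) := by group
        rw [e]
        exact mul_mem ((mem_normalizer_iff.1 (h.PV hg.1) _).1 (hk' s hs)) (hg' s hs)
      inv_mem' := by
        rintro g ⟨hg, hg'⟩
        refine ⟨N.inv_mem hg, fun s hs => ?_⟩
        have e : g⁻¹ * s * g⁻¹⁻¹ * s⁻¹ = g⁻¹ * (g * s * g⁻¹ * s⁻¹)⁻¹ * g⁻¹⁻¹ := by group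
        rw [e]
        exact (mem_normalizer_iff.1 (h.PV (P.inv_mem hg.1)) _).1 (V.inv_mem (hg' s hs)) }
  have hKN : K ≤ N := fun g hg => hg.1
  have hKn : N ≤ normalizer (K : Set G) := by
    refine le_normalizer_of_conj fun m hm g hg => ⟨mul_mem (mul_mem hm hg.1) (N.inv_mem hm), ?_⟩
    intro s hs
    have h1 : m⁻¹ * s * m ∈ Qp := by
      have := (mem_normalizer_iff.1 (N.inv_mem hm).2 s).1 hs
      rwa [inv_inv] at this
    have e : m * g * m⁻¹ * s * (m * g * m⁻¹)⁻¹ * s⁻¹ =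
        m * (g * (m⁻¹ * s * m) * g⁻¹ * (m⁻¹ * s * m)⁻¹) * m⁻¹ := by group
    rw [e]
    exact (mem_normalizer_iff.1 (h.PV hm.1) _).1 (hg.2 _ h1)
  have hBK : B ≤ K := by
    intro e he
    refine ⟨hSN (hBS he), fun s hs => ?_⟩
    have h1 := V.inv_mem (hQB s hs.1 hs.2.2 e he)
    have e1 : (s * e * s⁻¹ * e⁻¹)⁻¹ = e * s * e⁻¹ * s⁻¹ := by group
    rwa [e1] at h1
  -- `C = C_K(V)` is contained in `Qp`
  set C : Subgroup G := K ⊓ centralizer (V : Set G) with hC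
  have hVsq := h.Vsq
  have hC2 : ∀ g ∈ C, Odd (orderOf g) → g = 1 := by
    intro g hg hodd
    have h1 : g ∈ centralizer (Qp : Set G) := by
      refine mem_centralizer_iff.2 fun s hs => ?_
      obtain ⟨v, hv⟩ : ∃ v, v = g * s * g⁻¹ * s⁻¹ := ⟨_, rfl⟩
      have hvV : v ∈ V := hv ▸ hg.1.2 s hs
      have hgs : g * s * g⁻¹ = v * s := by rw [hv]; group
      have hvv := hVsq v hvV
      have hgv : g * v * g⁻¹ = v := by
        rw [← mem_centralizer_iff.1 hg.2 v hvV, mul_inv_cancel_right]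
      have hpow : ∀ i : ℕ, g ^ i * s * (g ^ i)⁻¹ = v ^ i * s := by
        intro i
        induction i with
        | zero => simp
        | succ i ih =>
          have hgvi : g * v ^ i * g⁻¹ = v ^ i := by rw [← conj_pow, hgv]
          calc g ^ (i + 1) * s * (g ^ (i + 1))⁻¹ = g * (g ^ i * s * (g ^ i)⁻¹) * g⁻¹ := by
                rw [pow_succ']; group
            _ = (g * v ^ i * g⁻¹) * (g * s * g⁻¹) := by rw [ih]; group
            _ = v ^ i * (v * s) := by rw [hgvi, hgs]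
            _ = v ^ (i + 1) * s := by rw [pow_succ]; group
      have h2 := hpow (orderOf g)
      rw [pow_orderOf_eq_one] at h2
      obtain ⟨m, hm⟩ := hodd
      have h3 : v ^ orderOf g = v := by
        rw [hm, pow_succ, pow_mul, pow_two, hvv, one_pow, one_mul]
      rw [h3] at h2
      have h4 : v = 1 := by
        have h5 : v * s = 1 * s := by rw [← h2]; group
        exact mul_right_cancel h5
      rw [h4, one_mul] at hgs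
      calc s * g = (g * s * g⁻¹) * g := by rw [hgs]
        _ = g * s := by group
    have h2 : o2 P ≤ Qp := by
      refine le_inf (VModule.o2_le_of_sylow h.S2 h.sylP) (le_inf (o2_le P) ?_)
      refine h.core _ (o2_le P) (le_normalizer_o2 P) fun n hn => ?_
      obtain ⟨k, hk⟩ := o2_isPGroup P ⟨n, hn⟩
      refine ⟨k, ?_⟩
      have h3 : n ^ 2 ^ k = 1 := congrArg Subtype.val hk
      rw [h3]
      exact one_mem _
    have h3 : g ∈ o2 P := charP ⟨hg.1.1.1, centralizer_le h2 h1⟩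
    obtain ⟨k, hk⟩ := o2_isPGroup P ⟨g, h3⟩
    have h4 : g ^ 2 ^ k = 1 := congrArg Subtype.val hk
    have h5 : orderOf g = 1 := Nat.eq_one_of_dvd_coprimes
      (Nat.Coprime.pow_right k hodd.coprime_two_right) dvd_rfl (orderOf_dvd_of_pow_eq_one h4)
    exact orderOf_eq_one_iff.1 h5
  have hCp : IsPGroup 2 C := by
    rintro ⟨g, hg⟩
    obtain ⟨k, m, hm, hkm⟩ := Nat.exists_eq_two_pow_mul_odd (orderOf_pos g).ne'
    refine ⟨k, Subtype.ext ?_⟩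
    refine hC2 _ (C.pow_mem hg _) ?_
    have h1 : (g ^ 2 ^ k) ^ m = 1 := by
      rw [← pow_mul, ← hkm, pow_orderOf_eq_one]
    exact hm.of_dvd_nat (orderOf_dvd_of_pow_eq_one h1)
  have hCS : C ≤ S := by
    have h1 : C ≤ N := inf_le_left.trans hKN
    have h2 : N ≤ normalizer (C : Set G) := le_normalizer_of_conj fun g hg n hn =>
      mem_inf.2 ⟨(mem_normalizer_iff.1 (hKn hg) n).1 hn.1, conj_cen h.PV hg.1 hn.2⟩
    refine (le_o2 h1 hCp h2).trans (VModule.o2_le_of_sylow h.S2 fun hd => h.sylP ?_)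
    rw [← relIndex_mul_relIndex S N P hSN inf_le_left]
    exact hd.mul_right _
  -- the element `y` may be taken in `N`
  obtain ⟨n, hn, hny⟩ := hQsyl.frattini hCn hy
  have hmN : n * y ∈ N := ⟨mul_mem hn.1 hy, hny⟩
  obtain ⟨p₀, hp₀⟩ : ∃ p₀, p₀ = (n * y) * c * (n * y)⁻¹ * c⁻¹ := ⟨_, rfl⟩
  have hcK := hBK hc
  have hp₀K : p₀ ∈ K := hp₀ ▸ K.mul_mem ((mem_normalizer_iff.1 (hKn hmN) c).1 hcK) (K.inv_mem hcK)
  have hcP : c ∈ P := h.SP (hBS hc)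
  have huP : u ∈ P := h.SP (hBS hu)
  -- actions
  have hθn : θ ⟨n, hn.1⟩ = 1 := (hθ _).2 hn.2
  have hθy3 : θ ⟨y, hy⟩ ^ 3 = 1 := by
    rw [← map_pow]
    exact (hθ _).2 hy3
  have hθc : θ ⟨c, hcP⟩ * θ ⟨y, hy⟩ * (θ ⟨c, hcP⟩)⁻¹ * θ ⟨y, hy⟩ = 1 := by
    rw [← map_mul, ← map_inv, ← map_mul, ← map_mul]
    exact (hθ _).2 hcy
  have hθu : θ ⟨u, huP⟩ * θ ⟨y, hy⟩ * (θ ⟨u, huP⟩)⁻¹ * (θ ⟨y, hy⟩)⁻¹ = 1 := by
    rw [← map_mul, ← map_inv, ← map_inv, ← map_mul, ← map_mul]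
    exact (hθ _).2 huy
  have hp₀P : p₀ ∈ P := hp₀K.1.1
  have hθp₀ : θ ⟨p₀, hp₀P⟩ = θ ⟨y, hy⟩ ^ 2 := by
    have e : (⟨p₀, hp₀P⟩ : P) = (⟨n, hn.1⟩ * ⟨y, hy⟩) * ⟨c, hcP⟩ * (⟨n, hn.1⟩ * ⟨y, hy⟩)⁻¹ *
        ⟨c, hcP⟩⁻¹ := Subtype.ext hp₀
    rw [e, map_mul, map_mul, map_mul, map_inv, map_inv, map_mul, hθn, one_mul]
    have h1 : θ ⟨c, hcP⟩ * (θ ⟨y, hy⟩)⁻¹ * (θ ⟨c, hcP⟩)⁻¹ = θ ⟨y, hy⟩ := by
      calc θ ⟨c, hcP⟩ * (θ ⟨y, hy⟩)⁻¹ * (θ ⟨c, hcP⟩)⁻¹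
          = θ ⟨y, hy⟩ * (θ ⟨c, hcP⟩ * θ ⟨y, hy⟩ * (θ ⟨c, hcP⟩)⁻¹ * θ ⟨y, hy⟩)⁻¹ := by group
        _ = θ ⟨y, hy⟩ := by rw [hθc, inv_one, mul_one]
    calc θ ⟨y, hy⟩ * θ ⟨c, hcP⟩ * (θ ⟨y, hy⟩)⁻¹ * (θ ⟨c, hcP⟩)⁻¹
        = θ ⟨y, hy⟩ * (θ ⟨c, hcP⟩ * (θ ⟨y, hy⟩)⁻¹ * (θ ⟨c, hcP⟩)⁻¹) := by group
      _ = θ ⟨y, hy⟩ ^ 2 := by rw [h1, pow_two]
  -- the odd part
  obtain ⟨k, m, hm, hkm⟩ := Nat.exists_eq_two_pow_mul_odd (orderOf_pos p₀).ne'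
  obtain ⟨e, he1, he2⟩ := Nat.chineseRemainder
    (Nat.Coprime.pow_right k (by norm_num : Nat.Coprime 3 2)) 2 0
  have he3 : 2 ^ k ∣ e := (Nat.modEq_zero_iff_dvd).1 he2
  obtain ⟨p, hp⟩ : ∃ p, p = p₀ ^ e := ⟨_, rfl⟩
  have hpK : p ∈ K := hp ▸ K.pow_mem hp₀K e
  have hpm : p ^ m = 1 := by
    obtain ⟨e', he'⟩ := he3
    rw [hp, ← pow_mul, he', mul_assoc, mul_comm e' m, ← mul_assoc, ← hkm, pow_mul,
      pow_orderOf_eq_one, one_pow]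
  have hpP : p ∈ P := hpK.1.1
  have hθp : θ ⟨p, hpP⟩ = θ ⟨y, hy⟩ := by
    have e1 : (⟨p, hpP⟩ : P) = ⟨p₀, hp₀P⟩ ^ e := Subtype.ext hp
    rw [e1, map_pow, hθp₀, ← pow_mul]
    have h2 : 2 * e ≡ 1 [MOD 3] := by
      have h3 : 2 * e ≡ 2 * 2 [MOD 3] := he1.mul_left 2
      exact h3
    have h4 : 2 * e = 3 * (2 * e / 3) + 1 := by
      have h5 : 2 * e % 3 = 1 := h2
      omega
    rw [h4, pow_succ, pow_mul, hθy3, one_pow, one_mul]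
  refine ⟨p, hpP, ?_, ?_⟩
  · have h1 : θ (⟨p, hpP⟩ * ⟨y, hy⟩⁻¹) = 1 := by
      rw [map_mul, map_inv, hθp, mul_inv_cancel]
    exact (hθ _).1 h1
  · obtain ⟨q, hq⟩ : ∃ q, q = p * u * p⁻¹ * u⁻¹ := ⟨_, rfl⟩
    have huK := hBK hu
    have hqK : q ∈ K := hq ▸ K.mul_mem (K.mul_mem (K.mul_mem hpK huK) (K.inv_mem hpK))
      (K.inv_mem huK)
    have hqcen : q ∈ centralizer (V : Set G) := by
      have h1 : θ (⟨p, hpP⟩ * ⟨u, huP⟩ * ⟨p, hpP⟩⁻¹ * ⟨u, huP⟩⁻¹) = 1 := by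
        rw [map_mul, map_mul, map_mul, map_inv, map_inv, hθp]
        calc θ ⟨y, hy⟩ * θ ⟨u, huP⟩ * (θ ⟨y, hy⟩)⁻¹ * (θ ⟨u, huP⟩)⁻¹
            = (θ ⟨u, huP⟩ * θ ⟨y, hy⟩ * (θ ⟨u, huP⟩)⁻¹ * (θ ⟨y, hy⟩)⁻¹)⁻¹ := by group
          _ = 1 := by rw [hθu, inv_one]
      rw [hq]
      exact (hθ _).1 h1
    have hqQ : q ∈ Qp := ⟨hCS ⟨hqK, hqcen⟩, hqK.1.1, hqcen⟩
    obtain ⟨w, hw⟩ : ∃ w, w = p * q * p⁻¹ * q⁻¹ := ⟨_, rfl⟩
    have hwV : w ∈ V := hw ▸ hpK.2 q hqQ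
    have hpq : p * q * p⁻¹ = w * q := by rw [hw]; group
    have hwq : Commute w q := mem_centralizer_iff.1 hqcen w hwV
    have key : ∀ i : ℕ, p ^ i * u * (p ^ i)⁻¹ * u⁻¹ * (q ^ i)⁻¹ ∈ V := by
      intro i
      induction i with
      | zero => simp
      | succ i ih =>
        have h1 := (mem_normalizer_iff.1 (h.PV hpP) _).1 ih
        have h2 : p * q ^ i * p⁻¹ = w ^ i * q ^ i := by
          rw [← conj_pow, hpq, hwq.mul_pow]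
        have e1 : p ^ (i + 1) * u * (p ^ (i + 1))⁻¹ * u⁻¹ * (q ^ (i + 1))⁻¹ =
            (p * (p ^ i * u * (p ^ i)⁻¹ * u⁻¹ * (q ^ i)⁻¹) * p⁻¹) * w ^ i := by
          calc p ^ (i + 1) * u * (p ^ (i + 1))⁻¹ * u⁻¹ * (q ^ (i + 1))⁻¹
              = (p * (p ^ i * u * (p ^ i)⁻¹ * u⁻¹ * (q ^ i)⁻¹) * p⁻¹) * (p * q ^ i * p⁻¹) *
                (p * u * p⁻¹ * u⁻¹) * (q ^ (i + 1))⁻¹ := by
                  rw [pow_succ' p]; group
            _ = (p * (p ^ i * u * (p ^ i)⁻¹ * u⁻¹ * (q ^ i)⁻¹) * p⁻¹) * (w ^ i * q ^ i) *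
                q * (q ^ (i + 1))⁻¹ := by rw [h2, ← hq]
            _ = _ := by rw [pow_succ q]; group
        rw [e1]
        exact mul_mem h1 (pow_mem hwV i)
    have h1 := key m
    rw [hpm] at h1
    have h2 : q ^ m ∈ V := by
      have e1 : (1 * u * 1⁻¹ * u⁻¹ * (q ^ m)⁻¹)⁻¹ = q ^ m := by group
      rw [← e1]
      exact V.inv_mem h1
    obtain ⟨j, hj⟩ := h.S2 ⟨q, hqQ.1⟩
    have h3 : q ^ 2 ^ j = 1 := congrArg Subtype.val hj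
    rw [← hq]
    exact mem_of_pow h2 (h3 ▸ V.one_mem : q ^ 2 ^ j ∈ V)
      (Nat.Coprime.pow_right j hm.coprime_two_right)

/-- **(5c)** -/
theorem five_c [Finite G] (h : CaseDDefs.Ctx S P P₂ V)
    (charP : P ⊓ centralizer (o2 P : Set G) ≤ o2 P) (hPD : PDAll P P₂ V) (hR : RD S P₂ V R r)
    (hab : ∀ g ∈ R, ∀ k ∈ R, g * k * g⁻¹ * k⁻¹ ∈ o2 P₂) : False := by
  obtain ⟨hrel, hc16, hc8, hc2, a, ha, haQ, hidx⟩ := basic h hPD
  have hinv := inverts h hR hab ha hidx haQ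
  obtain ⟨ρ, hρ, hρ3, hρQ, hRρ⟩ := five_a h hPD hR hab
  have hS := S_le h hR ha (hinv ρ hρ) hρ hρ3 hρQ hRρ
  have hX := mk_xd hR hrel ha Nat.prime_three (by norm_num) hρ hρQ
    (by rw [hρ3]; exact one_mem _) (hinv ρ hρ)
  obtain ⟨q, hq, -, hlx, z, b, c, y₁, y₂, hP⟩ := exists_lx h hPD hX
  obtain ⟨x, hx⟩ : ∃ x, x = ρ * q := ⟨_, rfl⟩
  rw [← hx] at hlx hP
  have hxP : x ∈ P₂ := hx ▸ mul_mem (hR.le hρ) (o2_le P₂ hq)
  have hVP₂ : V ≤ P₂ := h.VS.trans h.SP₂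
  have hOS : o2 P₂ ≤ S := VModule.o2_le_of_sylow h.S2 h.sylP₂
  have hVcen : V ≤ centralizer (V : Set G) := fun v hv =>
    mem_centralizer_iff.2 fun w hw => h.Vcomm w hw v hv
  have hZD : zc S ≤ V ⊓ o2 P₂ := le_inf h.ZV (zc_le_o2 h)
  set B : Subgroup G := (V ⊓ o2 P₂).map (MulAut.conj x).toMonoidHom with hB
  have hmemB : ∀ g, g ∈ B ↔ x⁻¹ * g * x ∈ V ⊓ o2 P₂ := by
    intro g
    constructor
    · rintro ⟨d, hd, rfl⟩
      have e : x⁻¹ * (x * d * x⁻¹) * x = d := by group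
      change x⁻¹ * (x * d * x⁻¹) * x ∈ _
      rwa [e]
    · intro hg
      refine ⟨_, hg, ?_⟩
      change x * (x⁻¹ * g * x) * x⁻¹ = g
      group
  have hBQ : B ≤ o2 P₂ := by
    rintro _ ⟨d, hd, rfl⟩
    exact conj_o2 hxP hd.2
  have hBS : B ≤ S := hBQ.trans hOS
  have hBP : B ≤ P := hBS.trans h.SP
  have hBV' : B ≤ V.map (MulAut.conj x).toMonoidHom := Subgroup.map_mono inf_le_left
  have hVn : ∀ g ∈ P, ∀ v ∈ V, g * v * g⁻¹ ∈ V := fun g hg v hv =>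
    (mem_normalizer_iff.1 (h.PV hg) v).1 hv
  have haD : a ∉ V ⊓ o2 P₂ := fun h1 => haQ h1.2
  -- `C_B(V) = Z`
  have hCB : ∀ e ∈ B, e ∈ centralizer (V : Set G) → e ∈ zc S := by
    intro e he hecen
    refine hlx.ld.inj a ha haD e he ?_
    have h1 := mem_centralizer_iff.1 hecen a ha
    rw [h1]
    simp
  have hQB : ∀ s ∈ S, s ∈ centralizer (V : Set G) → ∀ e ∈ B, s * e * s⁻¹ * e⁻¹ ∈ V := by
    intro s hs hscen e he
    have h1 := hS hs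
    rw [← SetLike.mem_coe, coe_mul_of_left_le_normalizer_right _ _
      (hVP₂.trans (le_normalizer_o2 P₂))] at h1
    obtain ⟨v, hv, g, hg, hvg⟩ := h1
    have hvg' : v * g = s := hvg
    have hgcen : g ∈ centralizer (V : Set G) := by
      have e1 : g = v⁻¹ * s := by rw [← hvg']; group
      rw [e1]
      exact mul_mem (inv_mem (hVcen hv)) hscen
    have h2 : g * e * g⁻¹ * e⁻¹ ∈ zc S := by
      apply hCB
      · rw [hmemB]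
        have hgQ' : x⁻¹ * g * x ∈ o2 P₂ := conj_o2' hxP hg
        have heD := (hmemB e).1 he
        have e1 : x⁻¹ * (g * e * g⁻¹ * e⁻¹) * x = (x⁻¹ * g * x) * (x⁻¹ * e * x) *
            (x⁻¹ * g * x)⁻¹ * (x⁻¹ * e * x)⁻¹ := by group
        rw [e1]
        refine mem_inf.2 ⟨V.mul_mem (hVn _ (h.SP (hOS hgQ')) _ heD.1) (V.inv_mem heD.1), ?_⟩
        exact mul_mem (mul_mem (mul_mem hgQ' heD.2) (inv_mem hgQ')) (inv_mem heD.2)
      · have e1 : g * e * g⁻¹ * e⁻¹ = g * (e * g⁻¹ * e⁻¹) := by group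
        rw [e1]
        exact mul_mem hgcen (conj_cen h.PV (hBP he) (inv_mem hgcen))
    have e1 : s * e * s⁻¹ * e⁻¹ = (v * (g * e * g⁻¹ * e⁻¹) * v⁻¹) * (v * e * v⁻¹ * e⁻¹) := by
      rw [← hvg']; group
    rw [e1]
    exact mul_mem (mul_mem (mul_mem hv (h.ZV h2)) (inv_mem hv)) (hlx.ld.nrm v hv e he).1
  -- conjugation of elements of `V`
  have hcenconj : ∀ κ ∈ centralizer (V : Set G), ∀ v ∈ V, κ * v * κ⁻¹ = v := fun κ hκ v hv => by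
    rw [← mem_centralizer_iff.1 hκ v hv, mul_inv_cancel_right]
  have hzZ : z ∈ zc S := (hP.Z₀_eq z).2 (Or.inr rfl)
  have hzV : z ∈ V := h.ZV hzZ
  have hzz := h.Vsq z hzV
  have hzc : ∀ g ∈ B, g * z * g⁻¹ = z := fun g hg => by
    have h1 := hlx.ld.V'comm z (hlx.Z_le hzZ).2 g (hBV' hg)
    rw [← h1, mul_inv_cancel_right]
  obtain ⟨w, hw⟩ : ∃ w, w = y₂ * z * y₂⁻¹ := ⟨_, rfl⟩
  have hwV : w ∈ V := hw ▸ hVn _ hP.y₂P _ hzV
  have hww := h.Vsq w hwV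
  have hzw := h.Vcomm z hzV w hwV
  have hzi : z⁻¹ = z := inv_eq_of_mul_eq_one_left hzz
  have hwi : w⁻¹ = w := inv_eq_of_mul_eq_one_left hww
  -- `b` commutes with conjugation by `y₂` on `V`
  have hby : ∀ v ∈ V, b * (y₂ * v * y₂⁻¹) * b⁻¹ = y₂ * (b * v * b⁻¹) * y₂⁻¹ := by
    intro v hv
    have h1 := hcenconj _ hP.by₂ _ (hVn _ hP.y₂P _ (hVn _ (hBP hP.bB) _ hv))
    calc b * (y₂ * v * y₂⁻¹) * b⁻¹ = (b * y₂ * b⁻¹ * y₂⁻¹) * (y₂ * (b * v * b⁻¹) * y₂⁻¹) *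
        (b * y₂ * b⁻¹ * y₂⁻¹)⁻¹ := by group
      _ = _ := h1
  have hbw : b * w * b⁻¹ = w := by
    rw [hw, hby z hzV, hzc b hP.bB]
  have hcw : c * w * c⁻¹ = y₂⁻¹ * z * y₂ := by
    have h2 : y₂⁻¹ * z * y₂ ∈ V := by
      have := hVn _ (P.inv_mem hP.y₂P) _ hzV
      rwa [inv_inv] at this
    have h1 := hcenconj _ hP.cy₂ _ h2
    calc c * w * c⁻¹ = (c * y₂ * c⁻¹ * y₂) * (y₂⁻¹ * (c * z * c⁻¹) * y₂) *
        (c * y₂ * c⁻¹ * y₂)⁻¹ := by rw [hw]; group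
      _ = (c * y₂ * c⁻¹ * y₂) * (y₂⁻¹ * z * y₂) * (c * y₂ * c⁻¹ * y₂)⁻¹ := by
          rw [hzc c hP.cB]
      _ = _ := h1
  have hy3 : ∀ v ∈ V, y₂ ^ 3 * v * (y₂ ^ 3)⁻¹ = v := fun v hv => hcenconj _ hP.y₂_cube v hv
  have hwZ : w ∉ zc S := by
    intro hwZ
    rcases (hP.Z₀_eq w).1 hwZ with h1 | h1
    · apply hP.z_ne
      have e : z = y₂⁻¹ * w * y₂ := by rw [hw]; group
      rw [e, h1]; group
    · exact hP.z_ne (hP.fpf₂ z hzV (by rw [← hw, h1]))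
  -- `y₂⁻¹ z y₂ ≠ w`
  have hne : y₂⁻¹ * z * y₂ ≠ w := by
    intro h1
    apply hP.z_ne
    apply hP.fpf₂ z hzV
    have h2 : z = y₂ * (y₂ * z * y₂⁻¹) * y₂⁻¹ := by
      rw [← hw, ← h1]; group
    calc y₂ * z * y₂⁻¹ = y₂ * (y₂ * (y₂ * z * y₂⁻¹) * y₂⁻¹) * y₂⁻¹ := by rw [← h2]
      _ = y₂ ^ 3 * z * (y₂ ^ 3)⁻¹ := by
          rw [show (3 : ℕ) = 1 + 1 + 1 from rfl, pow_add, pow_add, pow_one]; group
      _ = z := hy3 z hzV
  obtain ⟨t, ht⟩ : ∃ t, t = a * b * a⁻¹ * b⁻¹ := ⟨_, rfl⟩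
  have htD : t ∈ V ⊓ o2 P₂ := ht ▸ hlx.ld.nrm a ha b hP.bB
  have hCb : ∀ v ∈ V, b * v * b⁻¹ = v → v = 1 ∨ v = z ∨ v = t ∨ v = t * z := by
    intro v hv hbv
    rcases hP.Cb a ha haD v hv hbv with h1 | ⟨e, he, h1⟩
    · rcases (hP.Z₀_eq v).1 h1 with h2 | h2
      · exact Or.inl h2
      · exact Or.inr (Or.inl h2)
    · rw [← ht] at h1
      rcases (hP.Z₀_eq e).1 he with h2 | h2
      · rw [h2, mul_one] at h1
        exact Or.inr (Or.inr (Or.inl h1))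
      · rw [h2] at h1
        exact Or.inr (Or.inr (Or.inr h1))
  have htw : w = t ∨ w = t * z := by
    rcases hCb w hwV hbw with h1 | h1 | h1 | h1
    · exact absurd (h1 ▸ one_mem _) hwZ
    · exact absurd (h1 ▸ hzZ) hwZ
    · exact Or.inl h1
    · exact Or.inr h1
  have hwD : w ∈ V ⊓ o2 P₂ := by
    rcases htw with h1 | h1
    · exact h1 ▸ htD
    · exact h1 ▸ mul_mem htD (hZD hzZ)
  obtain ⟨u, hu⟩ : ∃ u, u = x * w * x⁻¹ := ⟨_, rfl⟩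
  have huB : u ∈ B := hu ▸ ⟨w, hwD, rfl⟩
  have huw : w * u = u * w := hu ▸ hlx.self hwD
  have huw' : u * w * u⁻¹ = w := by rw [← huw]; group
  have hxz : x * z * x⁻¹ = z := by
    rw [← mem_centralizer_iff.1 (h.Z₂ hxP) z hzZ, mul_inv_cancel_right]
  -- `u` acts as `b`
  obtain ⟨e, heZ, hue⟩ : ∃ e ∈ zc S, u = e * b := by
    obtain ⟨e, he, h1⟩ := hP.B_eq u huB
    have heV := h.ZV he
    have hact : ∀ g ∈ B, (e * g) * w * (e * g)⁻¹ = g * w * g⁻¹ := by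
      intro g hg
      have h2 := hcenconj e (hVcen heV) _ (hVn _ (hBP hg) _ hwV)
      calc (e * g) * w * (e * g)⁻¹ = e * (g * w * g⁻¹) * e⁻¹ := by group
        _ = _ := h2
    rcases h1 with h1 | h1 | h1 | h1
    · exfalso
      apply hwZ
      have h2 : w = x⁻¹ * e * x := by rw [← h1, hu]; group
      have h3 : x⁻¹ * e * x = e := by
        have := mem_centralizer_iff.1 (h.Z₂ hxP) e he
        rw [mul_assoc, this]; group
      rw [h2, h3]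
      exact he
    · exact ⟨e, he, h1⟩
    · exfalso
      rw [h1, hact c hP.cB, hcw] at huw'
      exact hne huw'
    · exfalso
      rw [h1, hact (b * c) (mul_mem hP.bB hP.cB)] at huw'
      have h2 : b * c * w * (b * c)⁻¹ = y₂⁻¹ * z * y₂ := by
        have h3 : b * (y₂⁻¹ * z * y₂) * b⁻¹ = y₂⁻¹ * z * y₂ := by
          have h4 : y₂⁻¹ * z * y₂ ∈ V := by
            have := hVn _ (P.inv_mem hP.y₂P) _ hzV
            rwa [inv_inv] at this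
          have h5 := hby _ h4
          have e1 : y₂ * (y₂⁻¹ * z * y₂) * y₂⁻¹ = z := by group
          rw [e1, hzc b hP.bB] at h5
          calc b * (y₂⁻¹ * z * y₂) * b⁻¹ =
              y₂⁻¹ * (y₂ * (b * (y₂⁻¹ * z * y₂) * b⁻¹) * y₂⁻¹) * y₂ := by group
            _ = y₂⁻¹ * z * y₂ := by rw [← h5]
        calc b * c * w * (b * c)⁻¹ = b * (c * w * c⁻¹) * b⁻¹ := by group
          _ = y₂⁻¹ * z * y₂ := by rw [hcw, h3]
      rw [h2] at huw'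
      exact hne huw'
  have heV := h.ZV heZ
  have hub : ∀ v ∈ V, u * v * u⁻¹ = b * v * b⁻¹ := by
    intro v hv
    have h2 := hcenconj e (hVcen heV) _ (hVn _ (hBP hP.bB) _ hv)
    calc u * v * u⁻¹ = e * (b * v * b⁻¹) * e⁻¹ := by rw [hue]; group
      _ = _ := h2
  have huy : u * y₂ * u⁻¹ * y₂⁻¹ ∈ centralizer (V : Set G) := by
    have e1 : u * y₂ * u⁻¹ * y₂⁻¹ = e * (b * y₂ * b⁻¹ * y₂⁻¹) * (y₂ * e⁻¹ * y₂⁻¹) := by
      rw [hue]; group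
    rw [e1]
    exact mul_mem (mul_mem (hVcen heV) hP.by₂) (hVcen (hVn _ hP.y₂P _ (inv_mem heV)))
  obtain ⟨p, hpP, hpy, hpu⟩ := exists_p h charP hBS hQB hP.cB hP.y₂P hP.y₂_cube hP.cy₂ huB huy
  have hpv : ∀ v ∈ V, p * v * p⁻¹ = y₂ * v * y₂⁻¹ := by
    intro v hv
    have h2 := hcenconj _ hpy _ (hVn _ hP.y₂P _ hv)
    calc p * v * p⁻¹ = (p * y₂⁻¹) * (y₂ * v * y₂⁻¹) * (p * y₂⁻¹)⁻¹ := by group
      _ = _ := h2
  -- `y₂ w y₂⁻¹ = z w`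
  have hyw : y₂ * w * y₂⁻¹ = z * w := by
    obtain ⟨w', hw'⟩ : ∃ w', w' = y₂ * w * y₂⁻¹ := ⟨_, rfl⟩
    have hw'V : w' ∈ V := hw' ▸ hVn _ hP.y₂P _ hwV
    have h1 : y₂ * w' * y₂⁻¹ = z := by
      rw [hw', hw]
      calc y₂ * (y₂ * (y₂ * z * y₂⁻¹) * y₂⁻¹) * y₂⁻¹ = y₂ ^ 3 * z * (y₂ ^ 3)⁻¹ := by
            rw [show (3 : ℕ) = 1 + 1 + 1 from rfl, pow_add, pow_add, pow_one]; group
        _ = z := hy3 z hzV
    have h2 : z * w * w' = 1 := by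
      apply hP.fpf₂ _ (mul_mem (mul_mem hzV hwV) hw'V)
      calc y₂ * (z * w * w') * y₂⁻¹ = (y₂ * z * y₂⁻¹) * (y₂ * w * y₂⁻¹) * (y₂ * w' * y₂⁻¹) := by
            group
        _ = w * w' * z := by rw [← hw, ← hw', h1]
        _ = z * w * w' := by
            rw [h.Vcomm (w * w') (mul_mem hwV hw'V) z hzV, mul_assoc]
    rw [← hw']
    have h3 : w' = (z * w)⁻¹ := (eq_inv_of_mul_eq_one_right h2)
    rw [h3, mul_inv_rev, hzi, hwi, hzw]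
  -- the element `a₁` with `[a₁, b] = z`
  obtain ⟨a₁, ha₁V, ha₁⟩ : ∃ a₁ ∈ V, a₁ * b * a₁⁻¹ * b⁻¹ = z := by
    have hconj : ∀ v ∈ V, (y₂ * v * y₂⁻¹) * b * (y₂ * v * y₂⁻¹)⁻¹ * b⁻¹ =
        y₂ * (v * b * v⁻¹ * b⁻¹) * y₂⁻¹ := by
      intro v hv
      have h1 := hby _ (V.inv_mem hv)
      calc (y₂ * v * y₂⁻¹) * b * (y₂ * v * y₂⁻¹)⁻¹ * b⁻¹
          = (y₂ * v * y₂⁻¹) * (b * (y₂ * v⁻¹ * y₂⁻¹) * b⁻¹) := by group
        _ = (y₂ * v * y₂⁻¹) * (y₂ * (b * v⁻¹ * b⁻¹) * y₂⁻¹) := by rw [h1]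
        _ = _ := by group
    have hyaV := hVn _ hP.y₂P _ ha
    rcases htw with h1 | h1
    · -- `t = w`
      refine ⟨y₂ * (y₂ * a * y₂⁻¹) * y₂⁻¹, hVn _ hP.y₂P _ hyaV, ?_⟩
      rw [hconj _ hyaV, hconj _ ha, ← ht, ← h1, hyw]
      calc y₂ * (z * w) * y₂⁻¹ = (y₂ * z * y₂⁻¹) * (y₂ * w * y₂⁻¹) := by group
        _ = w * (z * w) := by rw [hyw, ← hw]
        _ = (w * z) * w := by group
        _ = (z * w) * w := by rw [hzw]
        _ = z := by rw [mul_assoc, hww, mul_one]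
    · -- `t = w z`
      have h2 : t = w * z := by
        rw [h1, mul_assoc, hzz, mul_one]
      refine ⟨y₂ * a * y₂⁻¹, hyaV, ?_⟩
      rw [hconj _ ha, ← ht, h2]
      calc y₂ * (w * z) * y₂⁻¹ = (y₂ * w * y₂⁻¹) * (y₂ * z * y₂⁻¹) := by group
        _ = z * w * w := by rw [hyw, ← hw]
        _ = z := by rw [mul_assoc, hww, mul_one]
  have hua : u * a₁ * u⁻¹ = a₁ * z := by
    rw [hub a₁ ha₁V]
    have haa₁ : a₁⁻¹ = a₁ := inv_eq_of_mul_eq_one_left (h.Vsq a₁ ha₁V)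
    have h1 : a₁ * (b * a₁ * b⁻¹) = z := by
      rw [← ha₁, haa₁]
      group
    calc b * a₁ * b⁻¹ = a₁⁻¹ * (a₁ * (b * a₁ * b⁻¹)) := by group
      _ = a₁ * z := by rw [h1, haa₁]
  refine CaseD9.false_nine' h.hloc h.Vcomm h.Vsq (x := x) (y := p) (z := z) (w := w) (a := a₁)
    (u := u) hzV hwV ha₁V (h.PV hpP) hu.symm hP.z_ne ?_ ?_ huw.symm hua hxz ?_ ?_ ?_ hpu
  · intro v hv huv
    have h1 : b * v * b⁻¹ = v := by
      rw [← hub v hv, huv, mul_inv_cancel_right]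
    rcases hCb v hv h1 with h2 | h2 | h2 | h2
    · exact Or.inl h2
    · exact Or.inr (Or.inl h2)
    · rcases htw with h3 | h3
      · exact Or.inr (Or.inr (Or.inl (h2.trans h3.symm)))
      · refine Or.inr (Or.inr (Or.inr ?_))
        rw [h2, hzw, h3, mul_assoc, hzz, mul_one]
    · rcases htw with h3 | h3
      · refine Or.inr (Or.inr (Or.inr ?_))
        rw [h2, hzw, h3]
      · exact Or.inr (Or.inr (Or.inl (h2.trans h3.symm)))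
  · have h1 := hzc u huB
    rw [mul_inv_eq_iff_eq_mul] at h1
    exact h1
  · have h1 := hlx.cube hwD
    have e1 : x ^ 2 * w * (x ^ 2)⁻¹ = x * u * x⁻¹ := by rw [hu, pow_two]; group
    rw [← hu, e1] at h1
    have huu : u⁻¹ = u := by
      apply inv_eq_of_mul_eq_one_left
      rw [hu]
      calc x * w * x⁻¹ * (x * w * x⁻¹) = x * (w * w) * x⁻¹ := by group
        _ = 1 := by rw [hww]; group
    have h2 : x * u * x⁻¹ = w * u * (w * u * (x * u * x⁻¹)) := by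
      calc x * u * x⁻¹ = (w * u)⁻¹ * (w * u * (x * u * x⁻¹)) := by group
        _ = (u * w) * (w * u * (x * u * x⁻¹)) := by rw [mul_inv_rev, huu, hwi]
        _ = _ := by rw [huw]
    rcases (hP.Z₀_eq _).1 h1 with h3 | h3
    · left
      rw [h2, h3, mul_one]
    · right
      rw [h2, h3]
  · rw [hpv z hzV, hw]
  · rw [hpv w hwV, hyw]

end Cfsg.Agent.MinSimple.CaseDFiveC
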