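import Cfsg.Agent.MinSimple.CaseDPD
import Cfsg.Agent.MinSimple.CaseDFiveC

/-!
# Case (d) of (E1): assembly
-/

set_option autoImplicit false

namespace Cfsg.Agent.MinSimple.CaseDEnd

open Subgroup Cfsg Cfsg.Agent.ZN Cfsg.Agent.MinSimple.CaseDDefs Cfsg.Agent.MinSimple.CaseDMin
open Cfsg.Agent.MinSimple.CaseDGlue

universe u

variable {G : Type u} [Group G] {S P P₂ V : Subgroup G}

/-- Steps (3) and (4), `helper824`. -/
theorem pdAll [Finite G] (h : CaseDDefs.Ctx S P P₂ V) : PDAll P P₂ V := by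
  intro V₀ a x r hX hH
  exact CaseDPD.exists_PD_ctx h hX hH.sit.mem

/-- Theorem D, with step (5b) as a hypothesis. -/
theorem false_of_five_b [Finite G] (h : CaseDDefs.Ctx S P P₂ V)
    (charP : P ⊓ centralizer (o2 P : Set G) ≤ o2 P)
    (five_b : ∀ (P₂' R : Subgroup G) (r : ℕ), CaseDDefs.Ctx S P P₂' V → RD S P₂' V R r →
      ¬ ⁅R, R⁆ ≤ o2 P₂' → False) : False := by
  obtain ⟨P₂', _, h', R, r, hR⟩ := exists_rd h
  by_cases hab : ⁅R, R⁆ ≤ o2 P₂'
  · exact CaseDFiveC.five_c h' charP (pdAll h') hR fun g hg k hk =>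
      hab (commutator_mem_commutator hg hk)
  · exact five_b P₂' R r h' hR hab

end Cfsg.Agent.MinSimple.CaseDEnd
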