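import Cfsg.Agent.MinSimple.CaseDGlue
import Cfsg.Agent.Transfer.FusionBasic

/-!
# Case (d) of (E1), step (5a)

If `R / O₂(P₂)` is abelian then it has order `3` and `S = V O₂(P₂)`.
-/

set_option autoImplicit false

namespace Cfsg.Agent.MinSimple.CaseDFive

open Subgroup Cfsg Cfsg.Agent.ZN Cfsg.Agent.MinSimple.CaseDDefs Cfsg.Agent.MinSimple.CaseDMin
open Cfsg.Agent.MinSimple.CaseDThree Cfsg.Agent.MinSimple.CaseDHyp Cfsg.Agent.MinSimple.CaseDGlue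
open Cfsg.Agent.MinSimple.VModule (o2_def o2_isPGroup le_normalizer_o2 le_o2 o2_le)
open scoped commutatorElement

universe u

variable {G : Type u} [Group G]

/-- If `g ^ m ∈ Q` and `g ^ n ∈ Q` with coprime `m, n` then `g ∈ Q`. -/
theorem mem_of_pow {Q : Subgroup G} {g : G} {m n : ℕ} (hm : g ^ m ∈ Q) (hn : g ^ n ∈ Q)
    (h : Nat.Coprime m n) : g ∈ Q := by
  obtain ⟨s, t, hst⟩ := Nat.isCoprime_iff_coprime.2 h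
  have e : g = (g ^ m) ^ s * (g ^ n) ^ t := by
    rw [← zpow_natCast, ← zpow_natCast, ← zpow_mul, ← zpow_mul, ← zpow_add]
    rw [show (m : ℤ) * s + (n : ℤ) * t = 1 by rw [← hst]; ring, zpow_one]
  rw [e]
  exact mul_mem (zpow_mem hm s) (zpow_mem hn t)

variable {S P P₂ V R : Subgroup G} {r : ℕ}

theorem conj_o2 {g q : G} (hg : g ∈ P₂) (hq : q ∈ o2 P₂) : g * q * g⁻¹ ∈ o2 P₂ :=
  (mem_normalizer_iff.1 (le_normalizer_o2 P₂ hg) q).1 hq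

theorem conj_o2' {g q : G} (hg : g ∈ P₂) (hq : q ∈ o2 P₂) : g⁻¹ * q * g ∈ o2 P₂ := by
  have := conj_o2 (inv_mem hg) hq
  rwa [inv_inv] at this

/-- `S` normalises `V` and `V ⊓ o2 P₂`; the element `a` is central modulo `V ⊓ o2 P₂`. -/
theorem conj_a (h : CaseDDefs.Ctx S P P₂ V) {a : G} (ha : a ∈ V)
    (hidx : ∀ v ∈ V, v ∈ V ⊓ o2 P₂ ∨ a * v ∈ V ⊓ o2 P₂) (haQ : a ∉ o2 P₂) {s : G} (hs : s ∈ S) :
    a⁻¹ * (s⁻¹ * a * s) ∈ o2 P₂ := by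
  have h1 : s⁻¹ * a * s ∈ V := by
    have := (mem_normalizer_iff.1 (h.PV (h.SP (S.inv_mem hs))) a).1 ha
    rwa [inv_inv] at this
  have haa : a⁻¹ = a := inv_eq_of_mul_eq_one_left (h.Vsq a ha)
  rcases hidx _ h1 with h2 | h2
  · exfalso
    apply haQ
    have h3 := conj_o2 (h.SP₂ hs) h2.2
    have e : s * (s⁻¹ * a * s) * s⁻¹ = a := by group
    rwa [e] at h3
  · rw [haa]
    exact h2.2

/-- **`a` inverts `R / O₂(P₂)`** if the latter is abelian. -/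
theorem inverts (h : CaseDDefs.Ctx S P P₂ V) (hR : RD S P₂ V R r)
    (hab : ∀ g ∈ R, ∀ k ∈ R, g * k * g⁻¹ * k⁻¹ ∈ o2 P₂) {a : G} (ha : a ∈ V)
    (hidx : ∀ v ∈ V, v ∈ V ⊓ o2 P₂ ∨ a * v ∈ V ⊓ o2 P₂) (haQ : a ∉ o2 P₂) :
    ∀ g ∈ R, a * g * a⁻¹ * g ∈ o2 P₂ := by
  have hVP : V ≤ P₂ := h.VS.trans h.SP₂
  have haa : a * a = 1 := h.Vsq a ha
  have hai : a⁻¹ = a := inv_eq_of_mul_eq_one_left haa
  have haP := hVP ha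
  have haR : ∀ g ∈ R, a * g * a⁻¹ ∈ R := fun g hg =>
    (mem_normalizer_iff.1 (hR.nrm haP) g).1 hg
  let R₁ : Subgroup G :=
    { carrier := {g | g ∈ R ∧ a * g * a⁻¹ * g ∈ o2 P₂}
      one_mem' := ⟨one_mem _, by simp⟩
      mul_mem' := by
        rintro g k ⟨hg, hg'⟩ ⟨hk, hk'⟩
        refine ⟨mul_mem hg hk, ?_⟩
        have h1 := hab g⁻¹ (R.inv_mem hg) _ (haR k hk)
        have e : a * (g * k) * a⁻¹ * (g * k) = (a * g * a⁻¹ * g) *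
            (g⁻¹ * (a * k * a⁻¹) * g⁻¹⁻¹ * (a * k * a⁻¹)⁻¹) * (a * k * a⁻¹ * k) := by group
        rw [e]
        exact mul_mem (mul_mem hg' h1) hk'
      inv_mem' := by
        rintro g ⟨hg, hg'⟩
        refine ⟨R.inv_mem hg, ?_⟩
        have e : a * g⁻¹ * a⁻¹ * g⁻¹ = g * (a * g * a⁻¹ * g)⁻¹ * g⁻¹ := by group
        rw [e]
        exact conj_o2 (hR.le hg) (inv_mem hg') }
  have hR₁ : ∀ g, g ∈ R₁ ↔ g ∈ R ∧ a * g * a⁻¹ * g ∈ o2 P₂ := fun g => Iff.rfl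
  have hR₁R : R₁ ≤ R := fun g hg => hg.1
  suffices hEq : R₁ = R by
    intro g hg
    rw [← hEq] at hg
    exact hg.2
  by_contra hne
  have hQR₁ : o2 P₂ ≤ R₁ := fun q hq => ⟨hR.Q_le hq, mul_mem (conj_o2 haP hq) hq⟩
  have hSR₁ : S ≤ normalizer (R₁ : Set G) := by
    have key : ∀ s ∈ S, ∀ g ∈ R₁, s * g * s⁻¹ ∈ R₁ := by
      rintro s hs g ⟨hg, hg'⟩
      refine ⟨(mem_normalizer_iff.1 (hR.nrm (h.SP₂ hs)) g).1 hg, ?_⟩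
      obtain ⟨d, hd⟩ : ∃ d, d = a⁻¹ * (s⁻¹ * a * s) := ⟨_, rfl⟩
      have hdQ : d ∈ o2 P₂ := hd ▸ conj_a h ha hidx haQ hs
      have e1 : s⁻¹ * a * s = a * d := by rw [hd]; group
      have e2 : a * (s * g * s⁻¹) * a⁻¹ * (s * g * s⁻¹) =
          s * ((s⁻¹ * a * s) * g * (s⁻¹ * a * s)⁻¹ * g) * s⁻¹ := by group
      rw [e2, e1]
      apply conj_o2 (h.SP₂ hs)
      have e3 : a * d * g * (a * d)⁻¹ * g = (a * (d * (g * d⁻¹ * g⁻¹)) * a⁻¹) *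
          (a * g * a⁻¹ * g) := by group
      rw [e3]
      exact mul_mem (conj_o2 haP (mul_mem hdQ (conj_o2 (hR.le hg) (inv_mem hdQ)))) hg'
    intro s hs
    rw [mem_normalizer_iff]
    intro g
    refine ⟨key s hs g, fun hg => ?_⟩
    have h2 := key s⁻¹ (S.inv_mem hs) _ hg
    have e1 : s⁻¹ * (s * g * s⁻¹) * s⁻¹⁻¹ = g := by group
    rwa [e1] at h2
  have hmin := hR.min R₁ hR₁R hQR₁ hSR₁ hne
  -- `[g, a] ∈ Q` for all `g ∈ R`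
  have hga : ∀ g ∈ R, g * a * g⁻¹ * a⁻¹ ∈ o2 P₂ := by
    intro g hg
    obtain ⟨k, hk⟩ : ∃ k, k = g * a * g⁻¹ * a⁻¹ := ⟨_, rfl⟩
    have hkR : k ∈ R := by
      have e : k = g * (a * g * a⁻¹)⁻¹ := by rw [hk]; group
      rw [e]
      exact mul_mem hg (inv_mem (haR g hg))
    have hka : a * k * a⁻¹ * k = 1 := by
      rw [hk]
      calc a * (g * a * g⁻¹ * a⁻¹) * a⁻¹ * (g * a * g⁻¹ * a⁻¹)
          = a * g * a * g⁻¹ * (a * a)⁻¹ * g * a * g⁻¹ * a⁻¹ := by group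
        _ = a * g * a * g⁻¹ * 1⁻¹ * g * a * g⁻¹ * a⁻¹ := by rw [haa]
        _ = a * g * (a * a) * g⁻¹ * a⁻¹ := by group
        _ = 1 := by rw [haa]; group
    have hkR₁ : k ∈ R₁ := ⟨hkR, by rw [hka]; exact one_mem _⟩
    have h1 := hmin k hkR₁ a ha
    have h2 : k ^ 2 ∈ o2 P₂ := by
      have e1 : a * k⁻¹ * a⁻¹ = k := by
        have e2 : a * k * a⁻¹ = k⁻¹ := eq_inv_of_mul_eq_one_left hka
        calc a * k⁻¹ * a⁻¹ = (a * k * a⁻¹)⁻¹ := by group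
          _ = k := by rw [e2, inv_inv]
      have e3 : k * a * k⁻¹ * a⁻¹ = k ^ 2 := by
        calc k * a * k⁻¹ * a⁻¹ = k * (a * k⁻¹ * a⁻¹) := by group
          _ = k ^ 2 := by rw [e1, pow_two]
      rwa [e3] at h1
    obtain ⟨n, hn⟩ := hR.pow k hkR
    rw [← hk]
    exact mem_of_pow h2 hn (Nat.Coprime.pow_right n
      ((Nat.coprime_primes Nat.prime_two hR.r_prime).2 hR.r_ne.symm))
  obtain ⟨g, hg, v, hv, hgv⟩ := hR.ne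
  apply hgv
  rcases hidx v hv with h1 | h1
  · have e : g * v * g⁻¹ * v⁻¹ = (g * v * g⁻¹) * v⁻¹ := by group
    rw [e]
    exact mul_mem (conj_o2 (hR.le hg) h1.2) (inv_mem h1.2)
  · obtain ⟨d, hd⟩ : ∃ d, d = a * v := ⟨_, rfl⟩
    have hdQ : d ∈ o2 P₂ := hd ▸ h1.2
    have e1 : v = a * d := by
      rw [hd, ← mul_assoc, haa, one_mul]
    have e2 : g * v * g⁻¹ * v⁻¹ = (g * a * g⁻¹ * a⁻¹) * (a * (g * d * g⁻¹) * a⁻¹) *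
        (a * d⁻¹ * a⁻¹) := by rw [e1]; group
    rw [e2]
    exact mul_mem (mul_mem (hga g hg) (conj_o2 haP (conj_o2 (hR.le hg) hdQ)))
      (conj_o2 haP (inv_mem hdQ))

theorem mk_eq_one_iff (g : P₂) : (QuotientGroup.mk' (pCore 2 P₂)) g = 1 ↔ (g : G) ∈ o2 P₂ := by
  rw [← MonoidHom.mem_ker, QuotientGroup.ker_mk', o2_def]
  constructor
  · intro hg
    exact ⟨g, hg, rfl⟩
  · rintro ⟨g', hg', he⟩
    rwa [← Subtype.ext he]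

theorem mul_pow_mem {g k : G} (hg : g ∈ P₂) (hk : k ∈ P₂) (hc : g * k * g⁻¹ * k⁻¹ ∈ o2 P₂) (n : ℕ)
    (h1 : g ^ n ∈ o2 P₂) (h2 : k ^ n ∈ o2 P₂) : (g * k) ^ n ∈ o2 P₂ := by
  set φ := QuotientGroup.mk' (pCore 2 P₂)
  have h3 : φ (⟨g, hg⟩ * ⟨k, hk⟩ * ⟨g, hg⟩⁻¹ * ⟨k, hk⟩⁻¹) = 1 := (mk_eq_one_iff _).2 hc
  have h4 : Commute (φ ⟨g, hg⟩) (φ ⟨k, hk⟩) := by
    rw [map_mul, map_mul, map_mul, map_inv, map_inv, mul_inv_eq_one, mul_inv_eq_iff_eq_mul] at h3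
    exact h3
  have h5 : φ ((⟨g, hg⟩ * ⟨k, hk⟩) ^ n) = 1 := by
    rw [map_pow, map_mul, h4.mul_pow, ← map_pow, ← map_pow, (mk_eq_one_iff _).2 h1,
      (mk_eq_one_iff _).2 h2, one_mul]
  exact (mk_eq_one_iff _).1 h5

/-- The index two subgroup `V ⊓ o2 P₂` of `V`. -/
theorem basic [Finite G] (h : CaseDDefs.Ctx S P P₂ V) (hPD : PDAll P P₂ V) :
    (V ⊓ o2 P₂).relIndex V = 2 ∧ Nat.card V = 16 ∧ Nat.card (V ⊓ o2 P₂ : Subgroup G) = 8 ∧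
      Nat.card (zc S) = 2 ∧ ∃ a ∈ V, a ∉ o2 P₂ ∧ ∀ v ∈ V, v ∈ V ⊓ o2 P₂ ∨ a * v ∈ V ⊓ o2 P₂ := by
  obtain ⟨V₀, a, x, r, hX⟩ := CaseDExists.exists_XD h
  obtain ⟨h1, h2, h3, h4⟩ := V₀_eq h hPD hX
  have haV₀ := CaseDExists.XD.aV₀ hX
  have hor := CaseDExists.XD.or hX
  rw [h1] at haV₀ hor h3
  exact ⟨h1 ▸ hX.idx, h2, h3, h4, a, hX.aV, fun haQ => haV₀ ⟨hX.aV, haQ⟩, hor⟩

theorem mk_xd (hR : RD S P₂ V R r)
    (hidx : (V ⊓ o2 P₂).relIndex V = 2) {a : G} (ha : a ∈ V) {p : ℕ} (hp : p.Prime) (hp2 : p ≠ 2)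
    {g : G} (hg : g ∈ R) (hgQ : g ∉ o2 P₂) (hgp : g ^ p ∈ o2 P₂)
    (hinv : a * g * a⁻¹ * g ∈ o2 P₂) : XD P₂ V (V ⊓ o2 P₂) a g p where
  r_prime := hp
  r_ne := hp2
  xP₂ := hR.le hg
  xne := hgQ
  xr := hgp
  V₀_le := inf_le_left
  D_le := le_rfl
  idx := hidx
  cent := fun v hv => by
    have e : v * g * v⁻¹ * g⁻¹ = v * (g * v⁻¹ * g⁻¹) := by group
    rw [e]
    exact mul_mem hv.2 (conj_o2 (hR.le hg) (inv_mem hv.2))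
  aV := ha
  inv := hinv

/-- There is an element of order `r` in `R / O₂(P₂)`. -/
theorem exists_order (hR : RD S P₂ V R r) (hVP : V ≤ P₂) :
    ∃ g ∈ R, g ∉ o2 P₂ ∧ g ^ r ∈ o2 P₂ := by
  classical
  obtain ⟨g, hg, v, hv, hgv⟩ := hR.ne
  have hgQ : g ∉ o2 P₂ := by
    intro hgQ
    apply hgv
    have e : g * v * g⁻¹ * v⁻¹ = g * (v * g⁻¹ * v⁻¹) := by group
    rw [e]
    exact mul_mem hgQ (conj_o2 (hVP hv) (inv_mem hgQ))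
  have hex := hR.pow g hg
  have hspec := Nat.find_spec hex
  have h0 : Nat.find hex ≠ 0 := by
    intro h0
    rw [h0, pow_zero, pow_one] at hspec
    exact hgQ hspec
  obtain ⟨m, hm⟩ := Nat.exists_eq_succ_of_ne_zero h0
  refine ⟨g ^ r ^ m, R.pow_mem hg _, Nat.find_min hex (by omega), ?_⟩
  rw [← pow_mul, ← pow_succ]
  rwa [hm] at hspec

/-- `R / O₂(P₂)` is elementary abelian of exponent `3` (if abelian). -/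
theorem cube_mem [Finite G] (h : CaseDDefs.Ctx S P P₂ V) (hPD : PDAll P P₂ V)
    (hR : RD S P₂ V R r) (hab : ∀ g ∈ R, ∀ k ∈ R, g * k * g⁻¹ * k⁻¹ ∈ o2 P₂) :
    r = 3 ∧ ∀ g ∈ R, g ^ 3 ∈ o2 P₂ := by
  obtain ⟨hrel, _, _, _, a, ha, haQ, hidx⟩ := basic h hPD
  have hVP : V ≤ P₂ := h.VS.trans h.SP₂
  have hinv := inverts h hR hab ha hidx haQ
  obtain ⟨g, hg, hgQ, hgr⟩ := exists_order hR hVP
  have hr3 : r = 3 := by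
    obtain ⟨q, hq, _, hlx, _⟩ := exists_lx h hPD
      (mk_xd hR hrel ha hR.r_prime hR.r_ne hg hgQ hgr (hinv g hg))
    exact hlx.three
  subst hr3
  refine ⟨rfl, ?_⟩
  let R₃ : Subgroup G :=
    { carrier := {g | g ∈ R ∧ g ^ 3 ∈ o2 P₂}
      one_mem' := ⟨one_mem _, by simp⟩
      mul_mem' := by
        rintro g k ⟨hg, hg'⟩ ⟨hk, hk'⟩
        exact ⟨mul_mem hg hk, mul_pow_mem (hR.le hg) (hR.le hk) (hab g hg k hk) 3 hg' hk'⟩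
      inv_mem' := by
        rintro g ⟨hg, hg'⟩
        exact ⟨R.inv_mem hg, by rw [inv_pow]; exact inv_mem hg'⟩ }
  have hR₃R : R₃ ≤ R := fun g hg => hg.1
  suffices hEq : R₃ = R by
    intro g hg
    rw [← hEq] at hg
    exact hg.2
  by_contra hne
  have hQR₃ : o2 P₂ ≤ R₃ := fun q hq => ⟨hR.Q_le hq, pow_mem hq 3⟩
  have hSR₃ : S ≤ normalizer (R₃ : Set G) := by
    have key : ∀ s ∈ S, ∀ g ∈ R₃, s * g * s⁻¹ ∈ R₃ := by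
      rintro s hs g ⟨hg, hg'⟩
      refine ⟨(mem_normalizer_iff.1 (hR.nrm (h.SP₂ hs)) g).1 hg, ?_⟩
      rw [conj_pow]
      exact conj_o2 (h.SP₂ hs) hg'
    intro s hs
    rw [mem_normalizer_iff]
    intro g
    refine ⟨key s hs g, fun hg => ?_⟩
    have h2 := key s⁻¹ (S.inv_mem hs) _ hg
    have e1 : s⁻¹ * (s * g * s⁻¹) * s⁻¹⁻¹ = g := by group
    rwa [e1] at h2
  have h1 := hR.min R₃ hR₃R hQR₃ hSR₃ hne g ⟨hg, hgr⟩ a ha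
  -- `[g, a] ∈ Q` and `g ^ a = g⁻¹` give `g ^ 2 ∈ Q`
  have h2 := hinv g hg
  apply hgQ
  refine mem_of_pow (m := 2) ?_ hgr (by norm_num)
  have e : g ^ 2 = (g * a * g⁻¹ * a⁻¹) * (a * g * a⁻¹ * g) := by rw [pow_two]; group
  rw [e]
  exact mul_mem h1 h2

/-- The properties of `F = D D^ρ`. -/
structure FR (P₂ V Z F : Subgroup G) (ρ : G) : Prop where
  card : Nat.card F = 32
  le : F ≤ o2 P₂
  D_le : V ⊓ o2 P₂ ≤ F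
  eq : F = (V ⊓ o2 P₂) ⊔ (V ⊓ o2 P₂).map (MulAut.conj ρ).toMonoidHom
  comm : ∀ q ∈ o2 P₂, ρ * q * ρ⁻¹ * q⁻¹ ∈ F
  fpf : ∀ f ∈ F, ρ * f * ρ⁻¹ * f⁻¹ ∈ Z → f ∈ Z
  sq : ∀ f ∈ F, f * f ∈ Z
  ab : ∀ f ∈ F, ∀ g ∈ F, f * g * f⁻¹ * g⁻¹ ∈ Z
  nsq : ¬ ∀ f ∈ F, f * f = 1
  inter : ∀ d ∈ V ⊓ o2 P₂, ρ⁻¹ * d * ρ ∈ V ⊓ o2 P₂ → d ∈ Z

theorem exists_fr [Finite G] (h : CaseDDefs.Ctx S P P₂ V) (hPD : PDAll P P₂ V) {Rh : Subgroup G}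
    (hRh3 : IsPGroup 3 Rh) {a ρ : G} (hρ : ρ ∈ Rh)
    (hX : XD P₂ V (V ⊓ o2 P₂) a ρ 3) : ∃ F : Subgroup G, FR P₂ V (zc S) F ρ := by
  have hf3 : Fact (Nat.Prime 3) := ⟨Nat.prime_three⟩
  have hVP : V ≤ P₂ := h.VS.trans h.SP₂
  have hOS : o2 P₂ ≤ S := VModule.o2_le_of_sylow h.S2 h.sylP₂
  obtain ⟨q, hq, hx3, hlx, _⟩ := exists_lx h hPD hX
  obtain ⟨x, hx⟩ : ∃ x, x = ρ * q := ⟨_, rfl⟩
  rw [← hx] at hx3 hlx
  have hρP : ρ ∈ P₂ := hX.xP₂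
  have hxP : x ∈ P₂ := hx ▸ mul_mem hρP (o2_le P₂ hq)
  -- the subgroup `D`
  have hDn : ∀ g ∈ o2 P₂, ∀ d ∈ V ⊓ o2 P₂, g * d * g⁻¹ ∈ V ⊓ o2 P₂ := fun g hg d hd =>
    ⟨(mem_normalizer_iff.1 (h.PV (h.SP (hOS hg))) d).1 hd.1, conj_o2 (o2_le P₂ hg) hd.2⟩
  have hmap : (V ⊓ o2 P₂).map (MulAut.conj x).toMonoidHom =
      (V ⊓ o2 P₂).map (MulAut.conj ρ).toMonoidHom := by
    apply le_antisymm
    · rintro _ ⟨d, hd, rfl⟩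
      refine ⟨q * d * q⁻¹, hDn q hq d hd, ?_⟩
      change ρ * (q * d * q⁻¹) * ρ⁻¹ = x * d * x⁻¹
      rw [hx]; group
    · rintro _ ⟨d, hd, rfl⟩
      refine ⟨q⁻¹ * d * q⁻¹⁻¹, hDn q⁻¹ (inv_mem hq) d hd, ?_⟩
      change x * (q⁻¹ * d * q⁻¹⁻¹) * x⁻¹ = ρ * d * ρ⁻¹
      rw [hx]; group
  -- `ρ` is conjugate to `x` under `Q`
  obtain ⟨k, hk, hkx⟩ : ∃ k ∈ o2 P₂, k * x * k⁻¹ = ρ := by
    have hco : (Nat.card (o2 P₂)).Coprime 3 := by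
      obtain ⟨n, hn⟩ := IsPGroup.iff_card.mp (o2_isPGroup P₂)
      rw [hn]
      exact Nat.Coprime.pow_left n (by norm_num)
    have hA : IsPGroup 3 (zpowers ρ) := hRh3.to_le (zpowers_le.2 hρ)
    have hB : IsPGroup 3 (zpowers x) := by
      rintro ⟨_, i, rfl⟩
      refine ⟨1, Subtype.ext ?_⟩
      change (x ^ i) ^ 3 ^ 1 = 1
      rw [pow_one, ← zpow_natCast, ← zpow_mul, mul_comm, zpow_mul, zpow_natCast, hx3, one_zpow]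
    obtain ⟨k, hk, hk'⟩ := Transfer.FusionBasic.exists_conj_of_coprime hA hB hco
      (zpowers_le.2 (le_normalizer_o2 P₂ hρP))
      (zpowers_le.2 (hx ▸ mul_mem (mem_sup_left (mem_zpowers ρ)) (mem_sup_right hq)))
    refine ⟨k, hk, ?_⟩
    have h1 : k * x * k⁻¹ * ρ⁻¹ ∈ Rh := Rh.mul_mem
      (zpowers_le.2 hρ (hk' x (mem_zpowers x))) (Rh.inv_mem hρ)
    have h2 : k * x * k⁻¹ * ρ⁻¹ ∈ o2 P₂ := by
      have e : k * x * k⁻¹ * ρ⁻¹ = k * (ρ * (q * k⁻¹) * ρ⁻¹) := by rw [hx]; group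
      rw [e]
      exact mul_mem hk (conj_o2 hρP (mul_mem hq (inv_mem hk)))
    have h3 : Rh ⊓ o2 P₂ = ⊥ :=
      (IsPGroup.disjoint_of_ne 3 2 (by norm_num) _ _ hRh3 (o2_isPGroup P₂)).eq_bot
    have h4 : k * x * k⁻¹ * ρ⁻¹ ∈ Rh ⊓ o2 P₂ := ⟨h1, h2⟩
    rw [h3, mem_bot, mul_inv_eq_one] at h4
    exact h4
  -- `F`
  obtain ⟨F, hF⟩ : ∃ F, F = (V ⊓ o2 P₂) ⊔ (V ⊓ o2 P₂).map (MulAut.conj x).toMonoidHom := ⟨_, rfl⟩
  have hFL := hlx.F_le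
  have hcard := hlx.cardF
  rw [← hF] at hFL hcard
  have hFQ : F ≤ o2 P₂ := by
    rw [hF, ← hlx.FQ]
    exact inf_le_right
  have hFn : ∀ g ∈ o2 P₂, ∀ f ∈ F, g * f * g⁻¹ ∈ F := by
    intro g hg f hf
    have e : g * f * g⁻¹ = (g * f * g⁻¹ * f⁻¹) * f := by group
    rw [e]
    refine mul_mem ?_ hf
    rw [hF]
    exact hlx.QL g hg f (hFL hf)
  have hcomx : ∀ g ∈ o2 P₂, x * g * x⁻¹ * g⁻¹ ∈ F := by
    intro g hg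
    have h1 := inv_mem (hlx.QL g hg x hlx.xL)
    have e : (g * x * g⁻¹ * x⁻¹)⁻¹ = x * g * x⁻¹ * g⁻¹ := by group
    rw [e, ← hF] at h1
    exact h1
  have hZc : ∀ g ∈ P₂, ∀ z ∈ zc S, g * z * g⁻¹ = z := fun g hg z hz => by
    rw [← mem_centralizer_iff.1 (h.Z₂ hg) z hz, mul_inv_cancel_right]
  refine ⟨F, hcard, hFQ, hF ▸ le_sup_left, hmap ▸ hF, ?_, ?_, ?_, ?_, ?_, ?_⟩
  · -- `[Q, ρ] ≤ F`
    intro g hg
    have h1 := hcomx (k⁻¹ * g * k) (mul_mem (mul_mem (inv_mem hk) hg) hk)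
    have h2 := hFn k hk _ h1
    have e : k * (x * (k⁻¹ * g * k) * x⁻¹ * (k⁻¹ * g * k)⁻¹) * k⁻¹ =
        (k * x * k⁻¹) * g * (k * x * k⁻¹)⁻¹ * g⁻¹ := by group
    rw [e, hkx] at h2
    exact h2
  · intro f hf hfZ
    have h1 : k⁻¹ * f * k ∈ F := by
      have := hFn k⁻¹ (inv_mem hk) f hf
      rwa [inv_inv] at this
    have h2 : x * (k⁻¹ * f * k) * x⁻¹ * (k⁻¹ * f * k)⁻¹ = k⁻¹ * (ρ * f * ρ⁻¹ * f⁻¹) * k := by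
      rw [← hkx]; group
    have h3 : k⁻¹ * (ρ * f * ρ⁻¹ * f⁻¹) * k = ρ * f * ρ⁻¹ * f⁻¹ := by
      have := hZc k⁻¹ (inv_mem (o2_le P₂ hk)) _ hfZ
      rwa [inv_inv] at this
    have h4 : k⁻¹ * f * k ∈ zc S := hlx.fpf (hF ▸ h1) (by rw [h2, h3]; exact hfZ)
    have h5 := hZc k (o2_le P₂ hk) _ h4
    have e : k * (k⁻¹ * f * k) * k⁻¹ = f := by group
    rw [e] at h5
    rw [h5]
    exact h4
  · intro f hf
    exact hlx.sq (hF ▸ hf)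
  · intro f hf g hg
    exact (hlx.F_le_cz (hF ▸ hg) (hF ▸ hf)).2
  · intro hsq
    exact hlx.not_sq (hF ▸ hsq)
  · intro d hd hd'
    rw [← hlx.inf_DB, hmap]
    refine ⟨hd, ρ⁻¹ * d * ρ, hd', ?_⟩
    change ρ * (ρ⁻¹ * d * ρ) * ρ⁻¹ = d
    group

theorem le_of_comm {F E Z : Subgroup G} {ρ : G} (hρ3 : ρ ^ 3 = 1)
    (hρF : ∀ f ∈ F, ρ * f * ρ⁻¹ ∈ F) (hZE : Z ≤ E)
    (hc : ∀ f ∈ F, ρ * f * ρ⁻¹ * f⁻¹ ∈ E) (hEF : E ≤ F)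
    (fpf : ∀ f ∈ F, ρ * f * ρ⁻¹ * f⁻¹ ∈ Z → f ∈ Z) (sq : ∀ f ∈ F, f * f ∈ Z)
    (ab : ∀ f ∈ F, ∀ g ∈ F, f * g * f⁻¹ * g⁻¹ ∈ Z) : F ≤ E := by
  intro f hf
  obtain ⟨e₁, he₁⟩ : ∃ e₁, e₁ = ρ * f * ρ⁻¹ * f⁻¹ := ⟨_, rfl⟩
  obtain ⟨f₁, hf₁⟩ : ∃ f₁, f₁ = ρ * f * ρ⁻¹ := ⟨_, rfl⟩
  have hf₁F : f₁ ∈ F := hf₁ ▸ hρF f hf
  obtain ⟨e₂, he₂⟩ : ∃ e₂, e₂ = ρ * f₁ * ρ⁻¹ * f₁⁻¹ := ⟨_, rfl⟩
  obtain ⟨f₂, hf₂⟩ : ∃ f₂, f₂ = ρ * f₁ * ρ⁻¹ := ⟨_, rfl⟩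
  have hf₂F : f₂ ∈ F := hf₂ ▸ hρF f₁ hf₁F
  have he₁E : e₁ ∈ E := he₁ ▸ hc f hf
  have he₂E : e₂ ∈ E := he₂ ▸ hc f₁ hf₁F
  have h1 : f₁ = e₁ * f := by rw [hf₁, he₁]; group
  have h2 : f₂ = e₂ * (e₁ * f) := by rw [← h1, hf₂, he₂]; group
  have h3 : ρ * f₂ * ρ⁻¹ = f := by
    rw [hf₂, hf₁]
    calc ρ * (ρ * (ρ * f * ρ⁻¹) * ρ⁻¹) * ρ⁻¹ = ρ ^ 3 * f * (ρ ^ 3)⁻¹ := by
          rw [show (3 : ℕ) = 1 + 1 + 1 from rfl, pow_add, pow_add, pow_one]; group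
      _ = f := by rw [hρ3]; group
  have hgF : f * f₁ * f₂ ∈ F := mul_mem (mul_mem hf hf₁F) hf₂F
  have hgZ : f * f₁ * f₂ ∈ Z := by
    apply fpf _ hgF
    have h4 := ab f⁻¹ (inv_mem hf) _ hgF
    have e : ρ * (f * f₁ * f₂) * ρ⁻¹ * (f * f₁ * f₂)⁻¹ =
        f⁻¹ * (f * f₁ * f₂) * f⁻¹⁻¹ * (f * f₁ * f₂)⁻¹ := by
      have e1 : ρ * (f * f₁ * f₂) * ρ⁻¹ = f₁ * f₂ * f := by
        calc ρ * (f * f₁ * f₂) * ρ⁻¹ = (ρ * f * ρ⁻¹) * (ρ * f₁ * ρ⁻¹) * (ρ * f₂ * ρ⁻¹) := by group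
          _ = f₁ * f₂ * f := by rw [h3, ← hf₂, ← hf₁]
      rw [e1]; group
    rw [e]
    exact h4
  have h5 : f * e₁ * f⁻¹ ∈ E := by
    have e : f * e₁ * f⁻¹ = (f * e₁ * f⁻¹ * e₁⁻¹) * e₁ := by group
    rw [e]
    exact mul_mem (hZE (ab f hf e₁ (hEF he₁E))) he₁E
  have e : f = ((f * e₁ * f⁻¹) * (f * f) * (e₂ * e₁))⁻¹ * (f * f₁ * f₂) := by
    rw [h2, h1]; group
  rw [e]
  exact mul_mem (inv_mem (mul_mem (mul_mem h5 (hZE (sq f hf))) (mul_mem he₂E he₁E))) (hZE hgZ)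

theorem FR.conj_le {Z F : Subgroup G} {ρ t : G} (hF : FR P₂ V Z F ρ) (hρ : ρ ∈ P₂)
    (hρ3 : ρ ^ 3 = 1) (ht : t ∈ P₂) (hρt : t * ρ = ρ * t) (hZF : Z ≤ F)
    (hZt : ∀ z ∈ Z, t * z * t⁻¹ = z) {f : G} (hf : f ∈ F) : t * f * t⁻¹ ∈ F := by
  have hρF : ∀ f ∈ F, ρ * f * ρ⁻¹ ∈ F := by
    intro f hf
    have e : ρ * f * ρ⁻¹ = (ρ * f * ρ⁻¹ * f⁻¹) * f := by group
    rw [e]
    exact mul_mem (hF.comm f (hF.le hf)) hf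
  have key := le_of_comm (E := F ⊓ F.comap (MulAut.conj t).toMonoidHom) hρ3 hρF
    (fun z hz => ⟨hZF hz, by
      change t * z * t⁻¹ ∈ F
      rw [hZt z hz]
      exact hZF hz⟩)
    (fun g hg => ⟨hF.comm g (hF.le hg), by
      change t * (ρ * g * ρ⁻¹ * g⁻¹) * t⁻¹ ∈ F
      have h1 := hF.comm (t * g * t⁻¹) (conj_o2 ht (hF.le hg))
      have e : t * (ρ * g * ρ⁻¹ * g⁻¹) * t⁻¹ =
          ρ * (t * g * t⁻¹) * ρ⁻¹ * (t * g * t⁻¹)⁻¹ := by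
        calc t * (ρ * g * ρ⁻¹ * g⁻¹) * t⁻¹
            = (t * ρ) * g * (t * ρ)⁻¹ * (t * g * t⁻¹)⁻¹ := by group
          _ = (ρ * t) * g * (ρ * t)⁻¹ * (t * g * t⁻¹)⁻¹ := by rw [hρt]
          _ = _ := by group
      rw [e]
      exact h1⟩)
    inf_le_left hF.fpf hF.sq hF.ab
  exact (key hf).2

/-- **(5a)** If `R / O₂(P₂)` is abelian it has order `3`. -/
theorem five_a [Finite G] (h : CaseDDefs.Ctx S P P₂ V) (hPD : PDAll P P₂ V)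
    (hR : RD S P₂ V R r) (hab : ∀ g ∈ R, ∀ k ∈ R, g * k * g⁻¹ * k⁻¹ ∈ o2 P₂) :
    ∃ ρ ∈ R, ρ ^ 3 = 1 ∧ ρ ∉ o2 P₂ ∧ R ≤ o2 P₂ ⊔ zpowers ρ := by
  classical
  have hf3 : Fact (Nat.Prime 3) := ⟨Nat.prime_three⟩
  obtain ⟨hrel, hc16, hc8, hc2, a, ha, haQ, hidx⟩ := basic h hPD
  have hVP : V ≤ P₂ := h.VS.trans h.SP₂
  have hinv := inverts h hR hab ha hidx haQ
  obtain ⟨hr3, hcube⟩ := cube_mem h hPD hR hab
  -- a Sylow 3-subgroup of `R`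
  obtain ⟨W⟩ : Nonempty (Sylow 3 R) := inferInstance
  set Rh : Subgroup G := (W : Subgroup R).map R.subtype with hRh
  have hRhR : Rh ≤ R := map_subtype_le _
  have hRh3 : IsPGroup 3 Rh := W.isPGroup'.map _
  have hdisj : Rh ⊓ o2 P₂ = ⊥ :=
    (IsPGroup.disjoint_of_ne 3 2 (by norm_num) _ _ hRh3 (o2_isPGroup P₂)).eq_bot
  have hone : ∀ g ∈ Rh, g ∈ o2 P₂ → g = 1 := by
    intro g hg hgQ
    have h1 : g ∈ Rh ⊓ o2 P₂ := ⟨hg, hgQ⟩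
    rwa [hdisj, mem_bot] at h1
  have hQn : R ≤ normalizer (o2 P₂ : Set G) := hR.le.trans (le_normalizer_o2 P₂)
  have hdec : ∀ g ∈ R, ∃ t ∈ Rh, g * t⁻¹ ∈ o2 P₂ := by
    intro g hg
    set N : Subgroup R := (o2 P₂).subgroupOf R with hN
    have hNn : N.Normal := normal_subgroupOf_of_le_normalizer hQn
    set π := QuotientGroup.mk' N with hπ
    have hπs : Function.Surjective π := QuotientGroup.mk'_surjective N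
    have h3 : IsPGroup 3 (R ⧸ N) := by
      intro y
      obtain ⟨y, rfl⟩ := hπs y
      refine ⟨1, ?_⟩
      rw [pow_one, ← map_pow]
      exact (QuotientGroup.eq_one_iff _).2 (hcube y y.2)
    have htop : ((W.mapSurjective hπs : Sylow 3 (R ⧸ N)) : Subgroup (R ⧸ N)) = ⊤ :=
      ((W.mapSurjective hπs).is_maximal' (h3.to_subgroup ⊤) le_top).symm
    have h1 : π ⟨g, hg⟩ ∈ ((W.mapSurjective hπs : Sylow 3 (R ⧸ N)) : Subgroup (R ⧸ N)) :=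
      htop.symm ▸ mem_top _
    obtain ⟨w, hw, hwg⟩ := h1
    refine ⟨w, ⟨w, hw, rfl⟩, ?_⟩
    have h2 : (⟨g, hg⟩ * w⁻¹ : R) ∈ N := by
      rw [← QuotientGroup.eq_one_iff]
      change π (⟨g, hg⟩ * w⁻¹) = 1
      rw [map_mul, map_inv, ← hwg, mul_inv_cancel]
    exact h2
  have hcomm : ∀ g ∈ Rh, ∀ k ∈ Rh, g * k = k * g := by
    intro g hg k hk
    have h1 := hone _ (mul_mem (mul_mem (mul_mem hg hk) (inv_mem hg)) (inv_mem hk))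
      (hab g (hRhR hg) k (hRhR hk))
    rwa [mul_inv_eq_one, mul_inv_eq_iff_eq_mul] at h1
  have hp3 : ∀ g ∈ Rh, g ^ 3 = 1 := fun g hg => hone _ (pow_mem hg 3) (hcube g (hRhR hg))
  have hXD : ∀ g ∈ Rh, g ≠ 1 → XD P₂ V (V ⊓ o2 P₂) a g 3 := fun g hg hg1 =>
    mk_xd hR hrel ha Nat.prime_three (by norm_num) (hRhR hg) (fun hgQ => hg1 (hone g hg hgQ))
      (hcube g (hRhR hg)) (hinv g (hRhR hg))
  -- `ρ`
  obtain ⟨g₀, hg₀, hg₀Q, hg₀r⟩ := exists_order hR hVP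
  obtain ⟨ρ, hρ, hρQ'⟩ := hdec g₀ hg₀
  have hρ1 : ρ ≠ 1 := by
    rintro rfl
    rw [inv_one, mul_one] at hρQ'
    exact hg₀Q hρQ'
  obtain ⟨F, hF⟩ := exists_fr h hPD hRh3 hρ (hXD ρ hρ hρ1)
  have hZD : zc S ≤ V ⊓ o2 P₂ := le_inf h.ZV (zc_le_o2 h)
  have hZc : ∀ g ∈ P₂, ∀ z ∈ zc S, g * z * g⁻¹ = z := fun g hg z hz => by
    rw [← mem_centralizer_iff.1 (h.Z₂ hg) z hz, mul_inv_cancel_right]
  have hRhP : ∀ t ∈ Rh, t ∈ P₂ := fun t ht => hR.le (hRhR ht)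
  have hinter : ∀ t ∈ Rh, t ≠ 1 → ∀ d ∈ V ⊓ o2 P₂, t⁻¹ * d * t ∈ V ⊓ o2 P₂ → d ∈ zc S := by
    intro t ht ht1
    obtain ⟨F', hF'⟩ := exists_fr h hPD hRh3 ht (hXD t ht ht1)
    exact hF'.inter
  let _ : Fintype Rh := Fintype.ofFinite Rh
  let E : Rh → Subgroup G := fun t => (V ⊓ o2 P₂).map (MulAut.conj (t : G)).toMonoidHom
  have hcnt := count (Z := zc S) E hF.card hc2
    (fun t => by
      rintro _ ⟨d, hd, rfl⟩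
      exact hF.conj_le (hRhP ρ hρ) (hp3 ρ hρ) (hRhP t t.2) (hcomm t t.2 ρ hρ)
        (hZD.trans hF.D_le) (hZc t (hRhP t t.2)) (hF.D_le hd))
    (fun t z hz => ⟨z, hZD hz, hZc t (hRhP t t.2) z hz⟩)
    (fun t => by
      change Nat.card ((V ⊓ o2 P₂).map (MulAut.conj (t : G)).toMonoidHom) = 8
      rw [card_map_of_injective (MulAut.conj (t : G)).injective, hc8])
    (fun t t' htt' => by
      rintro g ⟨⟨d, hd, hdg⟩, ⟨d', hd', hdg'⟩⟩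
      have e1 : (t : G) * d * (t : G)⁻¹ = g := hdg
      have e2 : (t' : G) * d' * (t' : G)⁻¹ = g := hdg'
      have h1 : (t : G)⁻¹ * t' ∈ Rh := mul_mem (inv_mem t.2) t'.2
      have h2 : (t : G)⁻¹ * t' ≠ 1 := by
        intro h3
        exact htt' (Subtype.ext (inv_mul_eq_one.1 h3))
      have h3 := hinter _ h1 h2 d hd (by
        have e3 : ((t : G)⁻¹ * t')⁻¹ * d * ((t : G)⁻¹ * t') =
            (t' : G)⁻¹ * ((t : G) * d * (t : G)⁻¹) * t' := by group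
        rw [e3, e1, ← e2]
        have e4 : (t' : G)⁻¹ * ((t' : G) * d' * (t' : G)⁻¹) * t' = d' := by group
        rw [e4]
        exact hd')
      rw [← e1, hZc t (hRhP t t.2) d h3]
      exact h3)
  have hcard : Nat.card Rh = 3 := by
    have h1 : Nat.card Rh ≤ 5 := by
      rw [Nat.card_eq_fintype_card]
      exact hcnt.1
    obtain ⟨n, hn⟩ := IsPGroup.iff_card.mp hRh3
    rcases n with _ | _ | n
    · exfalso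
      rw [pow_zero, card_eq_one] at hn
      rw [hn] at hρ
      exact hρ1 (mem_bot.1 hρ)
    · exact hn
    · exfalso
      have h2 : 3 ^ (n + 2) ≥ 3 ^ 2 := Nat.pow_le_pow_right (by norm_num) (by omega)
      rw [← hn] at h2
      omega
  have hzp : zpowers ρ = Rh := by
    refine eq_of_le_of_card_ge (zpowers_le.2 hρ) ?_
    rw [hcard, Nat.card_zpowers, orderOf_eq_prime (hp3 ρ hρ) hρ1]
  refine ⟨ρ, hRhR hρ, hp3 ρ hρ, fun hQ => hρ1 (hone ρ hρ hQ), fun g hg => ?_⟩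
  obtain ⟨t, ht, htQ⟩ := hdec g hg
  have e : g = (g * t⁻¹) * t := by group
  rw [e, hzp]
  exact mul_mem (mem_sup_left htQ) (mem_sup_right ht)

end Cfsg.Agent.MinSimple.CaseDFive
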