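import Cfsg.Agent.MinSimple.CaseDMin
import Cfsg.Agent.Lib.ProductSet

/-!
# Case (d) of (E1): consequences of the `L`-structure when `|D| = 8`, `|Z| = 2`

`LX Q V D Z B V' a x r`: the data of steps (1)-(4): `L = V V'`, `V' = V ^ x`, `B = D ^ x`,
`F = D B = L ∩ Q`, `Z = V ∩ V'`.

* `fpf`: `x` acts fixed-point-freely on `F / Z`.
* `three`: `r = 3`.
* `cube`: `d d^x d^{x²} ∈ Z` for `d ∈ D`.
* `self`: `[d, d^x] = 1` for `d ∈ D`.
-/

set_option autoImplicit false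

namespace Cfsg.Agent.MinSimple.CaseDThree

open Subgroup Cfsg Cfsg.Agent.ZN Cfsg.Agent.MinSimple.CaseDDefs Cfsg.Agent.MinSimple.VModule
open scoped commutatorElement

universe u

variable {G : Type u} [Group G]

/-- The output of steps (1)-(4) for one `x`. -/
structure LX (Q V D Z B V' : Subgroup G) (a x : G) (r : ℕ) : Prop where
  ld : LD V D Z B V'
  V'_eq : V' = V.map (MulAut.conj x).toMonoidHom
  B_eq : B = D.map (MulAut.conj x).toMonoidHom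
  xL : x ∈ V ⊔ V'
  FQ : (V ⊔ V') ⊓ Q = D ⊔ B
  QL : ∀ q ∈ Q, ∀ l ∈ V ⊔ V', q * l * q⁻¹ * l⁻¹ ∈ D ⊔ B
  LN : V ⊔ V' ≤ normalizer (Q : Set G)
  r_prime : r.Prime
  r_ne : r ≠ 2
  xr : x ^ r ∈ Q
  xQ : x ∉ Q
  aV : a ∈ V
  aD : a ∉ D
  inv : a * x * a⁻¹ * x ∈ Q
  cardD : Nat.card D = 8
  cardZ : Nat.card Z = 2
  nc : ∃ d ∈ D, ∃ e ∈ B, d * e ≠ e * d

/-- The elements of `L` commuting with `g` modulo `Z`. -/
def cz (L Z : Subgroup G) (hZ : L ≤ centralizer (Z : Set G)) (g : G) : Subgroup G where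
  carrier := {h | h ∈ L ∧ h * g * h⁻¹ * g⁻¹ ∈ Z}
  one_mem' := ⟨one_mem _, by simp⟩
  mul_mem' := by
    rintro h k ⟨hL, hh⟩ ⟨kL, hk⟩
    refine ⟨mul_mem hL kL, ?_⟩
    have h1 := mem_centralizer_iff.1 (hZ hL) _ hk
    have e : h * k * g * (h * k)⁻¹ * g⁻¹ =
        (h * (k * g * k⁻¹ * g⁻¹)) * (g * h⁻¹ * g⁻¹) := by group
    rw [e, ← h1]
    have e2 : k * g * k⁻¹ * g⁻¹ * h * (g * h⁻¹ * g⁻¹) =
        (k * g * k⁻¹ * g⁻¹) * (h * g * h⁻¹ * g⁻¹) := by group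
    rw [e2]
    exact mul_mem hk hh
  inv_mem' := by
    rintro h ⟨hL, hh⟩
    refine ⟨inv_mem hL, ?_⟩
    have h1 := mem_centralizer_iff.1 (hZ hL) _ hh
    have e : h⁻¹ * g * h⁻¹⁻¹ * g⁻¹ = (h⁻¹ * ((h * g * h⁻¹ * g⁻¹) * h))⁻¹ := by group
    rw [e, h1, inv_mul_cancel_left]
    exact inv_mem hh

theorem mem_cz {L Z : Subgroup G} {hZ : L ≤ centralizer (Z : Set G)} {g h : G} :
    h ∈ cz L Z hZ g ↔ h ∈ L ∧ h * g * h⁻¹ * g⁻¹ ∈ Z := Iff.rfl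

theorem mem_cz_comm {L Z : Subgroup G} {hZ : L ≤ centralizer (Z : Set G)} {g h : G} (hg : g ∈ L)
    (hh : h ∈ cz L Z hZ g) : g ∈ cz L Z hZ h := by
  refine ⟨hg, ?_⟩
  have e : g * h * g⁻¹ * h⁻¹ = (h * g * h⁻¹ * g⁻¹)⁻¹ := by group
  rw [e]
  exact inv_mem hh.2

section LX

variable {Q V D Z B V' : Subgroup G} {a x : G} {r : ℕ}

theorem LX.Z_le (h : LX Q V D Z B V' a x r) : Z ≤ V ⊓ V' := h.ld.inf_eq.ge

/-- `L` centralises `Z`. -/
theorem LX.cenZ (h : LX Q V D Z B V' a x r) : V ⊔ V' ≤ centralizer (Z : Set G) := by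
  refine sup_le ?_ ?_
  · intro v hv
    exact mem_centralizer_iff.2 fun z hz => h.ld.Vcomm _ (h.Z_le hz).1 _ hv
  · intro v hv
    exact mem_centralizer_iff.2 fun z hz => h.ld.V'comm _ (h.Z_le hz).2 _ hv

theorem LX.F_le (h : LX Q V D Z B V' a x r) : D ⊔ B ≤ V ⊔ V' := sup_le_sup h.ld.V₀_le h.ld.B_le

theorem LX.Z_le_F (h : LX Q V D Z B V' a x r) : Z ≤ D ⊔ B := h.ld.Z₀_le.trans le_sup_left

/-- `[D, B] ≤ Z`. -/
theorem LX.comm_DB (h : LX Q V D Z B V' a x r) : ∀ d ∈ D, ∀ e ∈ B, d * e * d⁻¹ * e⁻¹ ∈ Z := by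
  intro d hd e he
  rw [← h.ld.inf_eq]
  exact ⟨h.ld.V₀_le (h.ld.nrm d (h.ld.V₀_le hd) e he),
    h.ld.B_le (h.ld.nrm' d hd e (h.ld.B_le he))⟩

/-- `F ≤ cz g` for `g ∈ F`. -/
theorem LX.F_le_cz (h : LX Q V D Z B V' a x r) {g : G} (hg : g ∈ D ⊔ B) :
    D ⊔ B ≤ cz (V ⊔ V') Z h.cenZ g := by
  have hDD : ∀ d ∈ D, D ⊔ B ≤ cz (V ⊔ V') Z h.cenZ d := by
    intro d hd
    refine sup_le ?_ ?_
    · intro e he
      refine ⟨mem_sup_left (h.ld.V₀_le he), ?_⟩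
      rw [h.ld.Vcomm _ (h.ld.V₀_le he) _ (h.ld.V₀_le hd)]
      simp
    · intro e he
      refine mem_cz_comm (mem_sup_right (h.ld.B_le he)) ?_
      exact ⟨mem_sup_left (h.ld.V₀_le hd), h.comm_DB d hd e he⟩
  have hBB : ∀ d ∈ B, D ⊔ B ≤ cz (V ⊔ V') Z h.cenZ d := by
    intro d hd
    refine sup_le ?_ ?_
    · intro e he
      exact ⟨mem_sup_left (h.ld.V₀_le he), h.comm_DB e he d hd⟩
    · intro e he
      refine ⟨mem_sup_right (h.ld.B_le he), ?_⟩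
      rw [h.ld.V'comm _ (h.ld.B_le he) _ (h.ld.B_le hd)]
      simp
  have h1 : ∀ f ∈ D ⊔ B, D ⊔ B ≤ cz (V ⊔ V') Z h.cenZ f := by
    intro f hf g hg
    have h2 : f ∈ cz (V ⊔ V') Z h.cenZ g := by
      refine (sup_le (c := cz (V ⊔ V') Z h.cenZ g) ?_ ?_) hf
      · intro d hd
        exact mem_cz_comm (mem_sup_left (h.ld.V₀_le hd)) (hDD d hd hg)
      · intro d hd
        exact mem_cz_comm (mem_sup_right (h.ld.B_le hd)) (hBB d hd hg)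
    exact mem_cz_comm (h.F_le hg) h2
  exact h1 g hg

/-- `F` is normal in `L`. -/
theorem LX.F_normal (h : LX Q V D Z B V' a x r) {l g : G} (hl : l ∈ V ⊔ V') (hg : g ∈ D ⊔ B) :
    l * g * l⁻¹ ∈ D ⊔ B := by
  rw [← h.FQ] at hg ⊢
  exact mem_inf.2 ⟨mul_mem (mul_mem hl hg.1) (inv_mem hl),
    (mem_normalizer_iff.1 (h.LN hl) g).1 hg.2⟩

theorem LX.D_le_normalizer (h : LX Q V D Z B V' a x r) : D ≤ normalizer (B : Set G) := by
  intro d hd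
  have key : ∀ d ∈ D, ∀ e ∈ B, d * e * d⁻¹ ∈ B := by
    intro d hd e he
    have e1 : d * e * d⁻¹ = (d * e * d⁻¹ * e⁻¹) * e := by group
    rw [e1]
    exact mul_mem (h.ld.Z₀_leB (h.comm_DB d hd e he)) he
  rw [mem_normalizer_iff]
  intro e
  refine ⟨key d hd e, fun he => ?_⟩
  have h2 := key d⁻¹ (D.inv_mem hd) _ he
  have e1 : d⁻¹ * (d * e * d⁻¹) * d⁻¹⁻¹ = e := by group
  rwa [e1] at h2

theorem LX.mul_eq (h : LX Q V D Z B V' a x r) {g : G} (hg : g ∈ D ⊔ B) :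
    ∃ d ∈ D, ∃ e ∈ B, d * e = g := by
  rw [← SetLike.mem_coe, coe_mul_of_left_le_normalizer_right _ _ h.D_le_normalizer] at hg
  obtain ⟨d, hd, e, he, hde⟩ := hg
  exact ⟨d, hd, e, he, hde⟩

/-- Squares of elements of `F` lie in `Z`. -/
theorem LX.sq (h : LX Q V D Z B V' a x r) {g : G} (hg : g ∈ D ⊔ B) : g * g ∈ Z := by
  obtain ⟨d, hd, e, he, rfl⟩ := h.mul_eq hg
  have h1 := h.comm_DB d hd e he
  have h2 := h.ld.Vsq d (h.ld.V₀_le hd)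
  have h3 := h.ld.V'sq e (h.ld.B_le he)
  have h4 : d⁻¹ = d := inv_eq_of_mul_eq_one_left h2
  have h5 : e⁻¹ = e := inv_eq_of_mul_eq_one_left h3
  rw [h4, h5] at h1
  have e1 : d * e * (d * e) = d * e * d * e := by group
  rw [e1]
  exact h1

/-- **The key claim**: `g ∈ F` commuting with `x` and `a` modulo `Z` lies in `Z`. -/
theorem LX.key (h : LX Q V D Z B V' a x r) {g : G} (hg : g ∈ D ⊔ B)
    (hx : x ∈ cz (V ⊔ V') Z h.cenZ g) (ha : a ∈ cz (V ⊔ V') Z h.cenZ g) : g ∈ Z := by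
  obtain ⟨d, hd, e, he, rfl⟩ := h.mul_eq hg
  have h1 : d⁻¹ ∈ cz (V ⊔ V') Z h.cenZ a := by
    refine inv_mem ⟨mem_sup_left (h.ld.V₀_le hd), ?_⟩
    rw [h.ld.Vcomm _ (h.ld.V₀_le hd) _ h.aV]
    simp
  have h2 : e ∈ cz (V ⊔ V') Z h.cenZ a := by
    have := mul_mem h1 (mem_cz_comm (h.F_le hg) ha)
    rwa [inv_mul_cancel_left] at this
  have h3 : a ∈ cz (V ⊔ V') Z h.cenZ e := mem_cz_comm (mem_sup_left h.aV) h2
  have heZ : e ∈ Z := h.ld.inj a h.aV h.aD e he h3.2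
  have hgD : d * e ∈ D := mul_mem hd (h.ld.Z₀_le heZ)
  have h4 : x * a * x⁻¹ ∈ cz (V ⊔ V') Z h.cenZ (d * e) := mul_mem (mul_mem hx ha) (inv_mem hx)
  have h5 : x * a * x⁻¹ ∈ V' := h.V'_eq ▸ ⟨a, h.aV, rfl⟩
  have h6 : x * a * x⁻¹ ∉ B := by
    rw [h.B_eq]
    rintro ⟨a', ha', he'⟩
    have e1 : x * a' * x⁻¹ = x * a * x⁻¹ := he'
    exact h.aD ((mul_left_cancel (mul_right_cancel e1)) ▸ ha')
  exact h.ld.inj' _ h5 h6 _ hgD (mem_cz_comm (h.F_le hg) h4).2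

/-- **(P1)** `x` acts fixed-point-freely on `F / Z`. -/
theorem LX.fpf (h : LX Q V D Z B V' a x r) {g : G} (hg : g ∈ D ⊔ B)
    (hx : x * g * x⁻¹ * g⁻¹ ∈ Z) : g ∈ Z := by
  have hx' : x ∈ cz (V ⊔ V') Z h.cenZ g := ⟨h.xL, hx⟩
  have haL : a ∈ V ⊔ V' := mem_sup_left h.aV
  have haa : a * a = 1 := h.ld.Vsq a h.aV
  have hai : a⁻¹ = a := inv_eq_of_mul_eq_one_left haa
  obtain ⟨k, hk⟩ : ∃ k, k = a * g * a⁻¹ * g⁻¹ := ⟨_, rfl⟩
  have hkF : k ∈ D ⊔ B := hk ▸ (D ⊔ B).mul_mem (h.F_normal haL hg) ((D ⊔ B).inv_mem hg)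
  have hkx : x ∈ cz (V ⊔ V') Z h.cenZ k := by
    -- `a x a⁻¹ = q x⁻¹`
    have h1 : a * x * a⁻¹ * x ∈ D ⊔ B := by
      rw [← h.FQ]
      exact mem_inf.2 ⟨mul_mem (mul_mem (mul_mem haL h.xL) (inv_mem haL)) h.xL, h.inv⟩
    have h2 : a * x * a⁻¹ ∈ cz (V ⊔ V') Z h.cenZ g := by
      have := mul_mem (h.F_le_cz hg h1) (inv_mem hx')
      rwa [mul_inv_cancel_right] at this
    have h3 : a * g * a⁻¹ ∈ cz (V ⊔ V') Z h.cenZ x := by
      refine ⟨mul_mem (mul_mem haL (h.F_le hg)) (inv_mem haL), ?_⟩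
      have h4 := (mem_cz_comm (h.F_le hg) h2).2
      have h5 := mem_centralizer_iff.1 (h.cenZ haL) _ h4
      have e : a * g * a⁻¹ * x * (a * g * a⁻¹)⁻¹ * x⁻¹ =
          a * (g * (a⁻¹ * x * a) * g⁻¹ * (a⁻¹ * x * a)⁻¹) * a⁻¹ := by group
      rw [e]
      have e2 : a⁻¹ * x * a = a * x * a⁻¹ := by rw [hai]
      rw [e2, ← h5, mul_inv_cancel_right]
      exact h4
    have h4 : g ∈ cz (V ⊔ V') Z h.cenZ x := mem_cz_comm (h.F_le hg) hx'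
    exact mem_cz_comm h.xL (hk ▸ mul_mem h3 (inv_mem h4))
  have hka : a ∈ cz (V ⊔ V') Z h.cenZ k := by
    refine ⟨haL, ?_⟩
    have e : a * k * a⁻¹ * k⁻¹ = (a * a) * g * (a * a)⁻¹ * (a * g⁻¹ * a⁻¹) * k⁻¹ := by
      rw [hk]; group
    rw [e, haa]
    have e2 : 1 * g * 1⁻¹ * (a * g⁻¹ * a⁻¹) * k⁻¹ = k⁻¹ * k⁻¹ := by
      rw [hk]; group
    rw [e2]
    exact h.sq (inv_mem hkF)
  have hkZ := h.key hkF hkx hka
  exact h.key hg hx' ⟨haL, hk ▸ hkZ⟩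

theorem LX.xrF (h : LX Q V D Z B V' a x r) : x ^ r ∈ D ⊔ B := by
  rw [← h.FQ]
  exact mem_inf.2 ⟨pow_mem h.xL r, h.xr⟩

theorem LX.inv_pow (h : LX Q V D Z B V' a x r) (i : ℕ) : a * x ^ i * a⁻¹ * x ^ i ∈ D ⊔ B := by
  have haL : a ∈ V ⊔ V' := mem_sup_left h.aV
  induction i with
  | zero => simp
  | succ i ih =>
    have h1 : a * x * a⁻¹ * x ∈ D ⊔ B := by
      rw [← h.FQ]
      exact mem_inf.2 ⟨mul_mem (mul_mem (mul_mem haL h.xL) (inv_mem haL)) h.xL, h.inv⟩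
    have h2 := h.F_normal (pow_mem h.xL i |> inv_mem) h1
    have e : a * x ^ (i + 1) * a⁻¹ * x ^ (i + 1) =
        (a * x ^ i * a⁻¹ * x ^ i) * ((x ^ i)⁻¹ * (a * x * a⁻¹ * x) * (x ^ i)⁻¹⁻¹) := by
      rw [pow_succ]
      have : x * x ^ i = x ^ i * x := (pow_mul_comm' x i).symm
      calc a * (x ^ i * x) * a⁻¹ * (x ^ i * x) = a * x ^ i * x * a⁻¹ * (x ^ i * x) := by group
        _ = a * x ^ i * x * a⁻¹ * (x * x ^ i) := by rw [this]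
        _ = _ := by group
    rw [e]
    exact mul_mem ih h2

/-- **(P2)** -/
theorem LX.inter (h : LX Q V D Z B V' a x r) {i : ℕ} (hi : ¬ r ∣ i) {g : G} (hg : g ∈ D)
    (hg' : (x ^ i)⁻¹ * g * x ^ i ∈ D) : g ∈ Z := by
  have haL : a ∈ V ⊔ V' := mem_sup_left h.aV
  have hgF : g ∈ D ⊔ B := mem_sup_left hg
  have h1 : x ^ i * a * (x ^ i)⁻¹ * a⁻¹ ∈ cz (V ⊔ V') Z h.cenZ g := by
    refine mul_mem ?_ (inv_mem ?_)
    · refine ⟨mul_mem (mul_mem (pow_mem h.xL i) haL) (inv_mem (pow_mem h.xL i)), ?_⟩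
      have h2 := h.ld.Vcomm _ (h.ld.V₀_le hg') _ h.aV
      have e : x ^ i * a * (x ^ i)⁻¹ * g * (x ^ i * a * (x ^ i)⁻¹)⁻¹ * g⁻¹ =
          x ^ i * (a * ((x ^ i)⁻¹ * g * x ^ i)) * a⁻¹ * (x ^ i)⁻¹ * g⁻¹ := by group
      rw [e, ← h2]
      have e2 : x ^ i * ((x ^ i)⁻¹ * g * x ^ i * a) * a⁻¹ * (x ^ i)⁻¹ * g⁻¹ = 1 := by group
      rw [e2]
      exact one_mem _
    · refine ⟨haL, ?_⟩
      rw [h.ld.Vcomm _ h.aV _ (h.ld.V₀_le hg)]
      simp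
  have h2 : x ^ i * x ^ i ∈ cz (V ⊔ V') Z h.cenZ g := by
    have h3 := mul_mem h1 (h.F_le_cz hgF (h.inv_pow i))
    have e : x ^ i * a * (x ^ i)⁻¹ * a⁻¹ * (a * x ^ i * a⁻¹ * x ^ i) = x ^ i * x ^ i := by group
    rwa [e] at h3
  have h3 : x ^ r ∈ cz (V ⊔ V') Z h.cenZ g := h.F_le_cz hgF h.xrF
  have h4 : x ∈ cz (V ⊔ V') Z h.cenZ g := by
    have hco : Nat.Coprime (i + i) r := by
      rw [Nat.coprime_comm, h.r_prime.coprime_iff_not_dvd, ← two_mul]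
      intro hd
      rcases h.r_prime.dvd_mul.1 hd with h5 | h5
      · exact h.r_ne ((Nat.prime_dvd_prime_iff_eq h.r_prime Nat.prime_two).1 h5)
      · exact hi h5
    obtain ⟨s, t, hst⟩ := Nat.isCoprime_iff_coprime.2 hco
    have e : x = (x ^ (i + i)) ^ s * (x ^ r) ^ t := by
      rw [← zpow_natCast, ← zpow_natCast, ← zpow_mul, ← zpow_mul, ← zpow_add]
      rw [show ((i + i : ℕ) : ℤ) * s + (r : ℤ) * t = 1 by rw [← hst]; ring, zpow_one]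
    rw [pow_add] at e
    have h5 := mul_mem (zpow_mem h2 s) (zpow_mem h3 t)
    rwa [← e] at h5
  exact h.fpf hgF h4.2

theorem LX.cardB (h : LX Q V D Z B V' a x r) : Nat.card B = 8 := by
  rw [h.B_eq, card_map_of_injective (MulAut.conj x).injective, h.cardD]

theorem LX.inf_DB (h : LX Q V D Z B V' a x r) : D ⊓ B = Z := by
  refine le_antisymm ?_ (le_inf h.ld.Z₀_le h.ld.Z₀_leB)
  rw [← h.ld.inf_eq]
  exact inf_le_inf h.ld.V₀_le h.ld.B_le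

theorem LX.cardF (h : LX Q V D Z B V' a x r) : Nat.card (D ⊔ B : Subgroup G) = 32 := by
  have h1 := Lib.ProductSet.card_mul_card_inf D B
  rw [← coe_mul_of_left_le_normalizer_right _ _ h.D_le_normalizer, h.inf_DB, h.cardD, h.cardB,
    h.cardZ] at h1
  change Nat.card (D ⊔ B : Subgroup G) * 2 = 8 * 8 at h1
  omega

theorem LX.conj_mem (h : LX Q V D Z B V' a x r) (i : ℕ) {d : G} (hd : d ∈ D) :
    x ^ i * d * (x ^ i)⁻¹ ∈ D ⊔ B :=
  h.F_normal (pow_mem h.xL i) (mem_sup_left hd)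

end LX

/-- Counting: at most five subgroups of order `8` of a group of order `32` meet pairwise in a given
subgroup of order `2`. -/
theorem count [Finite G] {F Z : Subgroup G} {ι : Type*} [Fintype ι] (E : ι → Subgroup G)
    (hF : Nat.card F = 32) (hZ : Nat.card Z = 2) (hEF : ∀ i, E i ≤ F) (hZE : ∀ i, Z ≤ E i)
    (hE : ∀ i, Nat.card (E i) = 8) (hd : ∀ i j, i ≠ j → E i ⊓ E j ≤ Z) :
    Fintype.card ι ≤ 5 ∧ (Fintype.card ι = 5 → ∀ f ∈ F, f ∈ Z ∨ ∃ i, f ∈ E i) := by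
  classical
  have hfG : Fintype G := Fintype.ofFinite G
  have hcard : ∀ A : Subgroup G, Z ≤ A → ((A : Set G) \ Z).ncard = Nat.card A - 2 := by
    intro A hA
    rw [Set.ncard_sdiff hA (Set.toFinite _), ← Nat.card_coe_set_eq, ← Nat.card_coe_set_eq]
    change Nat.card A - Nat.card Z = _
    rw [hZ]
  let W : ι → Finset G := fun i => ((E i : Set G) \ Z).toFinset
  have hW : ∀ i, (W i).card = 6 := by
    intro i
    rw [← Set.ncard_eq_toFinset_card', hcard _ (hZE i), hE]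
  have hdis : ((Finset.univ : Finset ι) : Set ι).PairwiseDisjoint W := by
    intro i _ j _ hij
    rw [Function.onFun, Finset.disjoint_left]
    intro g hg hg'
    rw [Set.mem_toFinset] at hg hg'
    exact hg.2 (hd i j hij ⟨hg.1, hg'.1⟩)
  have hU : (Finset.univ.biUnion W).card = Fintype.card ι * 6 := by
    rw [Finset.card_biUnion hdis, Finset.sum_congr rfl fun i _ => hW i]
    simp
  have hsub : Finset.univ.biUnion W ⊆ ((F : Set G) \ Z).toFinset := by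
    intro g hg
    rw [Finset.mem_biUnion] at hg
    obtain ⟨i, _, hg⟩ := hg
    rw [Set.mem_toFinset] at hg ⊢
    exact ⟨hEF i hg.1, hg.2⟩
  have hF30 : (((F : Set G) \ Z).toFinset).card = 30 ∨ IsEmpty ι := by
    rcases isEmpty_or_nonempty ι with h | ⟨⟨i⟩⟩
    · exact Or.inr h
    · left
      rw [← Set.ncard_eq_toFinset_card', hcard _ ((hZE i).trans (hEF i)), hF]
  rcases hF30 with hF30 | hem
  · have h1 := Finset.card_le_card hsub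
    rw [hU, hF30] at h1
    refine ⟨by omega, fun h5 f hf => ?_⟩
    have h2 : Finset.univ.biUnion W = ((F : Set G) \ Z).toFinset :=
      Finset.eq_of_subset_of_card_le hsub (by rw [hU, hF30, h5])
    by_cases hfZ : f ∈ Z
    · exact Or.inl hfZ
    · right
      have h3 : f ∈ Finset.univ.biUnion W := by
        rw [h2, Set.mem_toFinset]
        exact ⟨hf, hfZ⟩
      rw [Finset.mem_biUnion] at h3
      obtain ⟨i, _, h3⟩ := h3
      rw [Set.mem_toFinset] at h3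
      exact ⟨i, h3.1⟩
  · have h0 : Fintype.card ι = 0 := Fintype.card_eq_zero
    exact ⟨by omega, fun h5 => by omega⟩

section LX

variable {Q V D Z B V' : Subgroup G} {a x : G} {r : ℕ}

/-- Not all elements of `F` have square `1`. -/
theorem LX.not_sq (h : LX Q V D Z B V' a x r) : ¬ ∀ f ∈ D ⊔ B, f * f = 1 := by
  intro hf
  obtain ⟨d, hd, e, he, hde⟩ := h.nc
  apply hde
  have h1 := hf _ (mul_mem (mem_sup_left hd) (mem_sup_right he))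
  have h2 := hf _ (mem_sup_left hd)
  have h3 := hf _ (mem_sup_right he)
  calc d * e = (d * e)⁻¹ := (inv_eq_of_mul_eq_one_left h1).symm
    _ = e⁻¹ * d⁻¹ := mul_inv_rev d e
    _ = e * d := by rw [inv_eq_of_mul_eq_one_left h2, inv_eq_of_mul_eq_one_left h3]

/-- **(P3)** `r = 3`. -/
theorem LX.three [Finite G] (h : LX Q V D Z B V' a x r) : r = 3 := by
  by_contra hr3
  have hr5 : 5 ≤ r := by
    have h2 := h.r_prime.two_le
    have h1 := h.r_ne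
    by_contra hlt
    have h4 : r = 4 := by omega
    have h5 := h.r_prime
    rw [h4] at h5
    exact absurd h5 (by norm_num)
  have hcz : ∀ i : ℕ, ∀ z ∈ Z, x ^ i * z * (x ^ i)⁻¹ = z := by
    intro i z hz
    rw [← mem_centralizer_iff.1 (h.cenZ (pow_mem h.xL i)) z hz, mul_inv_cancel_right]
  let E : Fin 5 → Subgroup G := fun i => D.map (MulAut.conj (x ^ (i : ℕ))).toMonoidHom
  have hlt : ∀ i j : Fin 5, i < j → E i ⊓ E j ≤ Z := by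
    rintro i j hij g ⟨⟨d, hd, hdg⟩, ⟨d', hd', hdg'⟩⟩
    have e1 : x ^ (i : ℕ) * d * (x ^ (i : ℕ))⁻¹ = g := hdg
    have e2 : x ^ (j : ℕ) * d' * (x ^ (j : ℕ))⁻¹ = g := hdg'
    have hij' : (i : ℕ) < j := hij
    have e3 : x ^ (j : ℕ) = x ^ (i : ℕ) * x ^ ((j : ℕ) - i) := by
      rw [← pow_add]
      congr 1
      omega
    have e4 : (x ^ ((j : ℕ) - i))⁻¹ * d * x ^ ((j : ℕ) - i) = d' := by
      have e5 : d = (x ^ (i : ℕ))⁻¹ * (x ^ (j : ℕ) * d' * (x ^ (j : ℕ))⁻¹) * x ^ (i : ℕ) := by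
        rw [e2, ← e1]; group
      rw [e5, e3]
      group
    have hndvd : ¬ r ∣ (j : ℕ) - i := by
      intro hdv
      have h1 := Nat.le_of_dvd (by omega) hdv
      have h2 := j.2
      omega
    have hdZ := h.inter hndvd hd (by rw [e4]; exact hd')
    rw [← e1, hcz i d hdZ]
    exact hdZ
  have hcnt := count (Z := Z) (ι := Fin 5) E h.cardF h.cardZ
    (fun i => by
      rintro _ ⟨d, hd, rfl⟩
      exact h.conj_mem i hd)
    (fun i z hz => ⟨z, h.ld.Z₀_le hz, hcz i z hz⟩)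
    (fun i => by
      change Nat.card (D.map (MulAut.conj (x ^ (i : ℕ))).toMonoidHom) = 8
      rw [card_map_of_injective (MulAut.conj (x ^ (i : ℕ))).injective, h.cardD])
    (fun i j hij => by
      rcases lt_or_gt_of_ne hij with h1 | h1
      · exact hlt i j h1
      · rw [inf_comm]
        exact hlt j i h1)
  apply h.not_sq
  intro f hf
  rcases hcnt.2 (Fintype.card_fin 5) f hf with h1 | ⟨i, d, hd, hdf⟩
  · exact h.ld.Vsq f (h.ld.V₀_le (h.ld.Z₀_le h1))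
  · have e1 : x ^ (i : ℕ) * d * (x ^ (i : ℕ))⁻¹ = f := hdf
    rw [← e1]
    calc x ^ (i : ℕ) * d * (x ^ (i : ℕ))⁻¹ * (x ^ (i : ℕ) * d * (x ^ (i : ℕ))⁻¹)
        = x ^ (i : ℕ) * (d * d) * (x ^ (i : ℕ))⁻¹ := by group
      _ = 1 := by rw [h.ld.Vsq d (h.ld.V₀_le hd)]; group

/-- **(P4)** `d d^x d^{x²} ∈ Z`. -/
theorem LX.cube [Finite G] (h : LX Q V D Z B V' a x r) {d : G} (hd : d ∈ D) :
    d * (x * d * x⁻¹) * (x ^ 2 * d * (x ^ 2)⁻¹) ∈ Z := by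
  have h3 := h.three
  subst h3
  have h1 := h.conj_mem 1 hd
  have h2 := h.conj_mem 2 hd
  rw [pow_one] at h1
  have hdF : d ∈ D ⊔ B := mem_sup_left hd
  have hg : d * (x * d * x⁻¹) * (x ^ 2 * d * (x ^ 2)⁻¹) ∈ D ⊔ B := mul_mem (mul_mem hdF h1) h2
  apply h.fpf hg
  -- `x g x⁻¹ g⁻¹ = d⁻¹ (g ζ g⁻¹)…`
  have hx3 : x ^ 3 * d * (x ^ 3)⁻¹ * d⁻¹ ∈ Z := (h.F_le_cz hdF h.xrF).2
  have hcom : d⁻¹ * (d * (x * d * x⁻¹) * (x ^ 2 * d * (x ^ 2)⁻¹)) * d⁻¹⁻¹ *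
      (d * (x * d * x⁻¹) * (x ^ 2 * d * (x ^ 2)⁻¹))⁻¹ ∈ Z := (h.F_le_cz hg (inv_mem hdF)).2
  have e : x * (d * (x * d * x⁻¹) * (x ^ 2 * d * (x ^ 2)⁻¹)) * x⁻¹ *
      (d * (x * d * x⁻¹) * (x ^ 2 * d * (x ^ 2)⁻¹))⁻¹ =
      (x * d * x⁻¹ * (x ^ 2 * d * (x ^ 2)⁻¹)) * (x ^ 3 * d * (x ^ 3)⁻¹ * d⁻¹) *
      (x * d * x⁻¹ * (x ^ 2 * d * (x ^ 2)⁻¹))⁻¹ *
      (d⁻¹ * (d * (x * d * x⁻¹) * (x ^ 2 * d * (x ^ 2)⁻¹)) * d⁻¹⁻¹ *
      (d * (x * d * x⁻¹) * (x ^ 2 * d * (x ^ 2)⁻¹))⁻¹) := by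
    group
  rw [e]
  refine mul_mem ?_ hcom
  have h5 := mem_centralizer_iff.1 (h.cenZ (h.F_le (mul_mem h1 h2))) _ hx3
  rw [← h5, mul_inv_cancel_right]
  exact hx3

/-- **(P5)** `d` commutes with `d ^ x`. -/
theorem LX.self [Finite G] (h : LX Q V D Z B V' a x r) {d : G} (hd : d ∈ D) :
    d * (x * d * x⁻¹) = (x * d * x⁻¹) * d := by
  have hdd := h.ld.Vsq d (h.ld.V₀_le hd)
  have h1 := h.cube hd
  obtain ⟨e, he⟩ : ∃ e, e = x * d * x⁻¹ := ⟨_, rfl⟩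
  obtain ⟨f, hf⟩ : ∃ f, f = x ^ 2 * d * (x ^ 2)⁻¹ := ⟨_, rfl⟩
  have hef : f = x * e * x⁻¹ := by rw [hf, he, pow_two]; group
  rw [← he, ← hf] at h1
  have hee : e * e = 1 := by
    rw [he]
    calc x * d * x⁻¹ * (x * d * x⁻¹) = x * (d * d) * x⁻¹ := by group
      _ = 1 := by rw [hdd]; group
  have hff : f * f = 1 := by
    rw [hef]
    calc x * e * x⁻¹ * (x * e * x⁻¹) = x * (e * e) * x⁻¹ := by group
      _ = 1 := by rw [hee]; group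
  -- `d e f = ζ`
  have hz := h.ld.Vsq _ (h.ld.V₀_le (h.ld.Z₀_le h1))
  have hzd := h.ld.Vcomm _ (h.ld.V₀_le (h.ld.Z₀_le h1)) _ (h.ld.V₀_le hd)
  have h2 : e * f * (e * f) = 1 := by
    have e1 : e * f = d⁻¹ * (d * e * f) := by group
    have hdi : d⁻¹ = d := inv_eq_of_mul_eq_one_left hdd
    rw [e1, hdi]
    calc d * (d * e * f) * (d * (d * e * f)) = d * ((d * e * f) * d) * (d * e * f) := by group
      _ = d * (d * (d * e * f)) * (d * e * f) := by rw [hzd]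
      _ = (d * d) * ((d * e * f) * (d * e * f)) := by group
      _ = 1 := by rw [hdd, hz, one_mul]
  have h3 : e * f = f * e := by
    calc e * f = (e * f)⁻¹ := (inv_eq_of_mul_eq_one_left h2).symm
      _ = f⁻¹ * e⁻¹ := mul_inv_rev e f
      _ = f * e := by rw [inv_eq_of_mul_eq_one_left hee, inv_eq_of_mul_eq_one_left hff]
  rw [← he]
  -- conjugate by `x⁻¹`
  have h4 : x * (d * e) * x⁻¹ = x * (e * d) * x⁻¹ := by
    calc x * (d * e) * x⁻¹ = (x * d * x⁻¹) * (x * e * x⁻¹) := by group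
      _ = e * f := by rw [← he, ← hef]
      _ = f * e := h3
      _ = (x * e * x⁻¹) * (x * d * x⁻¹) := by rw [← he, ← hef]
      _ = _ := by group
  exact mul_left_cancel (mul_right_cancel h4)

end LX

end Cfsg.Agent.MinSimple.CaseDThree
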