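import Cfsg.Agent.MinSimple.Basic
import Cfsg.Agent.MinSimple.CaseDDefs
import Cfsg.Agent.MinSimple.LemmaH

/-!
# Core theorem T, case (d): the choice of `x`

`exists_xd` : Lemma H applied to the Fitting subgroup of `P₂ / O₂(P₂)`.
-/

set_option autoImplicit false

namespace Cfsg.Agent.MinSimple.CaseDX

open Subgroup Cfsg Cfsg.Agent.ZN Cfsg.Agent.MinSimple.VModule Cfsg.Agent.MinSimple.CaseDDefs

universe u

variable {G : Type u} [Group G]

/-- The Fitting subgroup of a group with `O₂ = 1` has odd order. -/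
theorem odd_card_fitting {Y : Type*} [Group Y] [Finite Y] (h : pCore 2 Y = ⊥) :
    Odd (Nat.card (fittingSubgroup Y)) := by
  have hf : Fact (Nat.Prime 2) := ⟨Nat.prime_two⟩
  have h2 : fittingSubgroup Y ≤ pPrimeCore 2 Y := by
    rw [Lib.Cores.fittingSubgroup_eq_iSup_pCore]
    refine iSup_le fun p => ?_
    have hp : Fact (p : ℕ).Prime := ⟨p.2⟩
    by_cases hp2 : (p : ℕ) = 2
    · rw [hp2, h]
      exact bot_le
    · refine Lib.Cores.le_pPrimeCore (Lib.Cores.pCore_normal _) ?_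
      obtain ⟨n, hn⟩ := IsPGroup.iff_card.mp (Lib.Cores.pCore_isPGroup (G := Y) (p : ℕ))
      rw [hn]
      exact Nat.Coprime.pow_left n ((Nat.coprime_primes p.2 Nat.prime_two).mpr hp2)
  have h3 : Odd (Nat.card (pPrimeCore 2 Y)) :=
    Nat.coprime_two_right.mp (Lib.Cores.pPrimeCore_coprime 2)
  exact h3.of_dvd_nat (card_dvd_of_le h2)

/-- Lemma H for `K / O₂(K)`. -/
theorem exists_quotient {K : Type*} [Group K] [Finite K] (hs : Group.IsSolvable K)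
    {V : Subgroup K} (hVc : ∀ v ∈ V, ∀ w ∈ V, v * w = w * v) (hV2 : ∀ v ∈ V, v * v = 1)
    (hV : ¬ V ≤ pCore 2 K) :
    ∃ (V₀ : Subgroup K) (a x : K) (r : ℕ), r.Prime ∧ r ≠ 2 ∧ x ∉ pCore 2 K ∧ x ^ r ∈ pCore 2 K ∧
      V₀ ≤ V ∧ V ⊓ pCore 2 K ≤ V₀ ∧ V₀.relIndex V = 2 ∧
      (∀ v ∈ V₀, v * x * v⁻¹ * x⁻¹ ∈ pCore 2 K) ∧ a ∈ V ∧ a * x * a⁻¹ * x ∈ pCore 2 K := by
  have hf : Fact (Nat.Prime 2) := ⟨Nat.prime_two⟩
  have hN : (pCore 2 K).Normal := Lib.Cores.pCore_normal 2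
  set π := QuotientGroup.mk' (pCore 2 K) with hπ
  have hker : ∀ k : K, π k = 1 ↔ k ∈ pCore 2 K := fun k => QuotientGroup.eq_one_iff k
  set A := V.map π with hA
  set F := fittingSubgroup (K ⧸ pCore 2 K) with hF
  have hbot : pCore 2 (K ⧸ pCore 2 K) = ⊥ := Lib.Cores.pCore_quotient_pCore 2
  have hFodd : Odd (Nat.card F) := odd_card_fitting hbot
  have hFn : F.Normal := Lib.Cores.fittingSubgroup_normal
  have hAc : ∀ a ∈ A, ∀ b ∈ A, a * b = b * a := by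
    rintro _ ⟨a, ha, rfl⟩ _ ⟨b, hb, rfl⟩
    rw [← map_mul, ← map_mul, hVc a ha b hb]
  have hA2 : ∀ a ∈ A, a ^ 2 = 1 := by
    rintro _ ⟨a, ha, rfl⟩
    rw [pow_two, ← map_mul, hV2 a ha, map_one]
  -- `A` acts faithfully on `F`
  obtain ⟨b, hb, hbF⟩ : ∃ b ∈ A, b ∉ centralizer (F : Set (K ⧸ pCore 2 K)) := by
    by_contra hcon
    push Not at hcon
    refine hV fun v hv => ?_
    have h1 : π v ∈ F := Cfsg.Agent.S0044.result (hcon (π v) ⟨v, hv, rfl⟩)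
    have h2 : π v ^ 2 = 1 := hA2 _ ⟨v, hv, rfl⟩
    have h3 : orderOf (π v) ∣ 2 := orderOf_dvd_of_pow_eq_one h2
    have h4 : orderOf (π v) ∣ Nat.card F := by
      have := orderOf_dvd_natCard (⟨π v, h1⟩ : F)
      rwa [Subgroup.orderOf_mk] at this
    have h5 : orderOf (π v) = 1 := by
      rcases (Nat.dvd_prime Nat.prime_two).mp h3 with h | h
      · exact h
      · exfalso
        rw [h] at h4
        exact (Nat.not_even_iff_odd.mpr hFodd) (even_iff_two_dvd.mpr h4)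
    exact (hker v).mp (orderOf_eq_one_iff.mp h5)
  obtain ⟨A₁, hA₁, hbA₁, hidx, -, hcov, y, hyF, hyr, hyA, hby⟩ :=
    LemmaH.exists_inverted (A := A) (F := F)
      (fun a _ => by rw [normalizer_eq_top_iff.mpr hFn]; exact mem_top a) hAc hA2 hFodd hb hbF
  obtain ⟨a, haV, rfl⟩ := hb
  obtain ⟨x, rfl⟩ := QuotientGroup.mk'_surjective (pCore 2 K) y
  have hro : orderOf (π x) ≠ 2 := by
    intro h
    have h4 : orderOf (π x) ∣ Nat.card F := by
      have := orderOf_dvd_natCard (⟨π x, hyF⟩ : F)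
      rwa [Subgroup.orderOf_mk] at this
    rw [h] at h4
    exact (Nat.not_even_iff_odd.mpr hFodd) (even_iff_two_dvd.mpr h4)
  refine ⟨V ⊓ A₁.comap π, a, x, orderOf (π x), hyr, hro, ?_, ?_, inf_le_left, ?_, ?_, ?_, haV, ?_⟩
  · intro h
    have h1 : orderOf (π x) = 1 := orderOf_eq_one_iff.mpr ((hker x).mpr h)
    exact hyr.one_lt.ne' h1
  · rw [← hker, map_pow]
    exact pow_orderOf_eq_one _
  · rintro v ⟨hv1, hv2⟩
    refine ⟨hv1, ?_⟩
    change π v ∈ A₁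
    rw [(hker v).mpr hv2]
    exact one_mem _
  · change ((V ⊓ A₁.comap π).subgroupOf V).index = 2
    rw [index_eq_two_iff]
    refine ⟨⟨a, haV⟩, fun v => ?_⟩
    rw [mem_subgroupOf, mem_subgroupOf]
    have hva : π ((v : K) * a) = π v * π a := map_mul _ _ _
    rcases hcov (π v) ⟨v, v.2, rfl⟩ with h1 | h1
    · refine Or.inr ⟨⟨v.2, h1⟩, fun h2 => hbA₁ ?_⟩
      have h3 : π ((v : K) * a) ∈ A₁ := h2.2
      rw [hva] at h3
      have := mul_mem (inv_mem h1) h3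
      rwa [inv_mul_cancel_left] at this
    · refine Or.inl ⟨⟨mul_mem v.2 haV, ?_⟩, fun h2 => hbA₁ ?_⟩
      · change π ((v : K) * a) ∈ A₁
        rw [hva]
        exact h1
      · have := mul_mem (inv_mem (show π (v : K) ∈ A₁ from h2.2)) h1
        rwa [inv_mul_cancel_left] at this
  · rintro v ⟨hv1, hv2⟩
    have h1 : π v * π x = π x * π v := hyA (π v) hv2
    rw [← hker, map_mul, map_mul, map_mul, map_inv, map_inv, h1]
    group
  · have h1 : π a * π x * (π a)⁻¹ = (π x)⁻¹ := hby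
    rw [← hker, map_mul, map_mul, map_mul, map_inv, h1]
    group

/-- **Step (1) of case (d)**: the choice of `x`. -/
theorem exists_xd [Finite G] {S P P₂ V : Subgroup G} (h : CaseDDefs.Ctx S P P₂ V) :
    ∃ (V₀ : Subgroup G) (a x : G) (r : ℕ), XD P₂ V V₀ a x r := by
  have hVP : V ≤ P₂ := h.VS.trans h.SP₂
  have hsol := h.solP₂
  obtain ⟨W, a, x, r, h1, h2, h3, h4, h5, h6, h7, h8, h9, h10⟩ :=
    exists_quotient (K := P₂) h.solP₂ (V := V.subgroupOf P₂)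
      (fun v hv w hw => Subtype.ext (h.Vcomm v hv w hw))
      (fun v hv => Subtype.ext (h.Vsq v hv))
      (fun hle => h.Vnle fun v hv => ⟨⟨v, hVP hv⟩, hle (mem_subgroupOf.mpr hv), rfl⟩)
  have hmem : ∀ k : P₂, (k : G) ∈ o2 P₂ ↔ k ∈ pCore 2 P₂ := by
    intro k
    rw [o2_def, mem_map]
    constructor
    · rintro ⟨k', hk', hkk⟩
      rwa [show k = k' from (Subtype.ext hkk).symm]
    · intro hk
      exact ⟨k, hk, rfl⟩
  have hcoe : ∀ v : G, v ∈ W.map P₂.subtype → ∃ w : P₂, w ∈ W ∧ (w : G) = v := by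
    rintro _ ⟨w, hw, rfl⟩
    exact ⟨w, hw, rfl⟩
  have hWV : W.map P₂.subtype ≤ V := by
    rintro _ ⟨w, hw, rfl⟩
    exact h5 hw
  refine ⟨W.map P₂.subtype, a, x, r, ⟨h1, h2, x.2, ?_, ?_, hWV, ?_, ?_, ?_, h9, ?_⟩⟩
  · rw [hmem]
    exact h3
  · have := (hmem (x ^ r)).mpr h4
    exact this
  · rintro v ⟨hv1, hv2⟩
    exact ⟨⟨v, hVP hv1⟩, h6 ⟨hv1, (hmem ⟨v, hVP hv1⟩).mp hv2⟩, rfl⟩
  · have h11 := relIndex_map_map_of_injective W (V.subgroupOf P₂) P₂.subtype_injective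
    rw [subgroupOf_map_subtype, inf_eq_left.mpr hVP] at h11
    rw [h11]
    exact h7
  · rintro _ ⟨w, hw, rfl⟩
    exact (hmem _).mpr (h8 w hw)
  · exact (hmem _).mpr h10

end Cfsg.Agent.MinSimple.CaseDX
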