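import Cfsg.Agent.MinSimple.CaseDivFam

/-!
# The case division: the conclusion

Under the hypotheses `Div S`, if there is a block over `bau S`: either `S` lies in a unique maximal
2-local subgroup or `Omega S V x U z` holds (`U = uu S`).
-/

set_option autoImplicit false

namespace Cfsg.Agent.MinSimple.CaseDiv

open Subgroup Cfsg Cfsg.Agent.ZN Cfsg.Agent.MinSimple
open Cfsg.Agent.MinSimple.DBlkApi Cfsg.Agent.MinSimple.LemX

universe u

variable {G : Type u} [Group G] [Finite G] {S : Sylow 2 G} {n : ℕ} {L : Fin n → Subgroup G}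
  {k : Fin n → ℕ} {V : Fin n → Subgroup G} {x : Fin n → G}

/-- `Ω₁(Z(S)) ∩ rl B L = 1` if `C_G(Ω₁(Z(S))) ≰ M`. -/
theorem Div.zc_inf_rl (h : Div S)
    (hC : ¬ centralizer (zc (S : Subgroup G) : Set G) ≤ normalizer (uu S : Set G))
    {L : Subgroup G} {k : ℕ} (hk : IsDBlk (bau (S : Subgroup G)) L k) {r : G}
    (hr : r ∈ zc (S : Subgroup G)) (hr' : r ∈ rl (bau (S : Subgroup G)) L) : r = 1 := by
  by_contra hr1
  apply hC
  refine (centralizer_le ?_).trans (h.centralizer_rl_le hk hr' hr1)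
  rw [Set.singleton_subset_iff]
  exact hr

theorem zc_le_zc_bau (S : Sylow 2 G) : zc (S : Subgroup G) ≤ zc (bau (S : Subgroup G)) := by
  rw [zc_bau]; exact zc_le_zj _

/-- `Ω₁(Z(S)) = ⟨z⟩` if `C_G(Ω₁(Z(S))) ≰ M`. -/
theorem Div.zc_eq (h : Div S)
    (hC : ¬ centralizer (zc (S : Subgroup G) : Set G) ≤ normalizer (uu S : Set G))
    {L : Subgroup G} {k : ℕ} (hk : IsDBlk (bau (S : Subgroup G)) L k) :
    ∃ z : G, z ≠ 1 ∧ zc (S : Subgroup G) = zpowers z ∧ ∀ w ∈ zc (S : Subgroup G), w ≠ 1 → w = z := by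
  have hS : (S : Subgroup G) ≠ ⊥ := by
    intro h0
    have h1 := uu_ne_bot hk
    apply h1
    have h2 := (uu_le_bau (S := S)).trans (bau_le (S : Subgroup G))
    rw [h0] at h2
    exact le_bot_iff.mp h2
  obtain ⟨⟨z, hz⟩, hz1⟩ := Subgroup.ne_bot_iff_exists_ne_one.mp (ZN.zc_ne_bot S.isPGroup' hS)
  have hz1' : z ≠ 1 := fun h0 => hz1 (Subtype.ext h0)
  have hu : ∀ w ∈ zc (S : Subgroup G), w ≠ 1 → w = z := by
    intro w hw hw1
    have h1 : w ∉ rl (bau (S : Subgroup G)) L := fun h0 => hw1 (h.zc_inf_rl hC hk hw h0)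
    have h2 : z ∉ rl (bau (S : Subgroup G)) L := fun h0 => hz1' (h.zc_inf_rl hC hk hz h0)
    have h3 := Block.mul_mem_of_relIndex_two hk.rl_index (zc_le_zc_bau S hw) (zc_le_zc_bau S hz)
      h1 h2
    have h4 := h.zc_inf_rl hC hk (mul_mem hw hz) h3
    have h5 := zc_sq hz
    rw [pow_two] at h5
    calc w = w * (z * z) := by rw [h5, mul_one]
      _ = (w * z) * z := by group
      _ = z := by rw [h4, one_mul]
  refine ⟨z, hz1', ?_, hu⟩
  apply le_antisymm
  · intro w hw
    rw [zpowers_eq (zc_sq hz)]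
    by_cases hw1 : w = 1
    · exact Or.inl hw1
    · exact Or.inr (hu w hw hw1)
  · rw [zpowers_le]; exact hz

/-- A nontrivial subgroup of `Ω₁(Z(B))` normalized by `S` contains `z`. -/
theorem mem_of_invariant {z : G} (hu : ∀ w ∈ zc (S : Subgroup G), w ≠ 1 → w = z)
    {D : Subgroup G} (hD : D ≤ zc (bau (S : Subgroup G))) (hn : (S : Subgroup G) ≤ normalizer (D : Set G))
    (hne : D ≠ ⊥) : z ∈ D := by
  have hf : Fact (Nat.Prime 2) := ⟨Nat.prime_two⟩
  have h1 := PLocal.OffenderStep.inf_centralizer_ne_bot D (S : Subgroup G)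
    ((isPGroup_zc _).to_le hD) S.isPGroup' hn hne
  obtain ⟨⟨d, hd⟩, hd1⟩ := Subgroup.ne_bot_iff_exists_ne_one.mp h1
  have hd1' : d ≠ 1 := fun h0 => hd1 (Subtype.ext h0)
  have h2 : d ∈ zc (S : Subgroup G) := mem_zc.mpr
    ⟨bau_le _ (zc_le _ (hD hd.1)), fun b hb => mem_centralizer_iff.mp hd.2 b hb, zc_sq (hD hd.1)⟩
  rw [← hu d h2 hd1']
  exact hd.1

/-- The points of an `S`-invariant set of indices generate a subgroup normalized by `S`. -/
theorem Fam.le_normalizer_closure (h : Div S) (F : Fam S L k V x) {A : Set (Fin n)}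
    (hA : ∀ s ∈ (S : Subgroup G), ∀ i ∈ A, ∀ j,
      (V i).map (MulAut.conj s).toMonoidHom = V j → j ∈ A) :
    (S : Subgroup G) ≤ normalizer (closure (x '' A) : Set G) := by
  intro s hs
  refine VModule.mem_normalizer_of_map_le ?_
  rw [MonoidHom.map_closure, closure_le]
  rintro _ ⟨_, ⟨i, hi, rfl⟩, rfl⟩
  obtain ⟨j, hj⟩ := F.perm h (le_normalizer_uu S hs) i
  have h1 : (MulAut.conj s).toMonoidHom (x i) = x j := F.conj_x hs hj
  rw [h1]
  exact subset_closure ⟨j, hA s hs i hi j hj, rfl⟩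

omit [Finite G] in
theorem Fam.closure_le (F : Fam S L k V x) (A : Set (Fin n)) :
    closure (x '' A) ≤ zc (bau (S : Subgroup G)) := by
  rw [Subgroup.closure_le]
  rintro _ ⟨i, -, rfl⟩
  exact F.xz i

/-- `S` is transitive on the lines if `C_G(Ω₁(Z(S))) ≰ M`. -/
theorem Fam.trans (h : Div S) (F : Fam S L k V x)
    (hC : ¬ centralizer (zc (S : Subgroup G) : Set G) ≤ normalizer (uu S : Set G))
    (i j : Fin n) : ∃ s ∈ (S : Subgroup G), (V i).map (MulAut.conj s).toMonoidHom = V j := by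
  by_contra hcon
  obtain ⟨z, hz1, hzc, hu⟩ := h.zc_eq hC (F.blk i)
  set A : Set (Fin n) := {j | ¬ ∃ s ∈ (S : Subgroup G),
    (V i).map (MulAut.conj s).toMonoidHom = V j} with hA
  have hjA : j ∈ A := hcon
  have hinv : ∀ s ∈ (S : Subgroup G), ∀ a ∈ A, ∀ b,
      (V a).map (MulAut.conj s).toMonoidHom = V b → b ∈ A := by
    rintro s hs a ha b hab ⟨s', hs', hb⟩
    apply ha
    refine ⟨s⁻¹ * s', mul_mem (inv_mem hs) hs', ?_⟩
    have h1 : (V b).map (MulAut.conj s⁻¹).toMonoidHom = V a := by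
      rw [← hab, Subgroup.map_map]
      ext v
      constructor
      · rintro ⟨w, hw, rfl⟩
        have : ((MulAut.conj s⁻¹).toMonoidHom.comp (MulAut.conj s).toMonoidHom) w = w := by
          simp [mul_assoc]
        rwa [this]
      · intro hv
        exact ⟨v, hv, by simp [mul_assoc]⟩
    rw [← h1, ← hb, Subgroup.map_map]
    congr 1
    ext v
    simp [mul_assoc]
  have hne : closure (x '' A) ≠ ⊥ := by
    intro h0
    have h1 : x j ∈ closure (x '' A) := subset_closure ⟨j, hjA, rfl⟩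
    rw [h0, mem_bot] at h1
    exact F.x1 j h1
  have h1 := mem_of_invariant hu (F.closure_le A) (F.le_normalizer_closure h hinv) hne
  have hzS : z ∈ zc (S : Subgroup G) := by rw [hzc]; exact mem_zpowers z
  refine hz1 (h.zc_inf_rl hC (F.blk i) hzS ((Subgroup.closure_le _).mpr ?_ h1))
  rintro _ ⟨a, ha, rfl⟩
  refine F.mem_rl h ?_
  rintro rfl
  exact ha ⟨1, one_mem _, by ext v; simp⟩

/-- `Ω₁(Z(B)) = ⟨x 0, …, x (n - 1)⟩` if `C_G(Ω₁(Z(S))) ≰ M`. -/
theorem Fam.zc_eq (h : Div S) (F : Fam S L k V x) {L₀ : Subgroup G} {k₀ : ℕ}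
    (hk₀ : IsDBlk (bau (S : Subgroup G)) L₀ k₀)
    (hC : ¬ centralizer (zc (S : Subgroup G) : Set G) ≤ normalizer (uu S : Set G)) :
    zc (bau (S : Subgroup G)) = closure (Set.range x) := by
  classical
  obtain ⟨z, hz1, hzc, hu⟩ := h.zc_eq hC hk₀
  have hzS : z ∈ zc (S : Subgroup G) := by rw [hzc]; exact mem_zpowers z
  apply le_antisymm
  · set B := bau (S : Subgroup G) with hB
    -- the subgroup of the elements centralized by all blocks is trivial
    let R : Subgroup G := ⨅ L : {L : Subgroup G // ∃ k, IsDBlk B L k}, rl B (L : Subgroup G)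
    have hRmem : ∀ r : G, r ∈ R ↔ ∀ (L : Subgroup G) (k : ℕ), IsDBlk B L k → r ∈ rl B L := by
      intro r
      rw [mem_iInf]
      exact ⟨fun h1 L k hk => h1 ⟨L, k, hk⟩, fun h1 ⟨L, k, hk⟩ => h1 L k hk⟩
    have hRle : R ≤ zc B := fun r hr => rl_le_zc _ _ ((hRmem r).mp hr L₀ k₀ hk₀)
    have hRn : (S : Subgroup G) ≤ normalizer (R : Set G) := by
      intro s hs
      refine VModule.mem_normalizer_of_map_le ?_
      rintro _ ⟨r, hr, rfl⟩
      rw [hRmem]
      intro L₁ k₁ hk₁
      have hsB : s ∈ normalizer (B : Set G) := le_normalizer_bau _ hs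
      have h1 := LemXPerm.isDBlk_conj hk₁ (inv_mem hsB)
      have h2 := (hRmem r).mp hr _ _ h1
      refine ⟨Four.conj_mem (normalizer_le_normalizer_zc _ hsB) h2.1, ?_⟩
      change _ ∈ centralizer (L₁ : Set G)
      rw [mem_centralizer_iff]
      intro l hl
      have h3 := mem_centralizer_iff.mp h2.2 (s⁻¹ * l * s) ⟨l, hl, by simp⟩
      change l * (s * r * s⁻¹) = s * r * s⁻¹ * l
      calc l * (s * r * s⁻¹) = s * ((s⁻¹ * l * s) * r) * s⁻¹ := by group
        _ = s * (r * (s⁻¹ * l * s)) * s⁻¹ := by rw [h3]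
        _ = s * r * s⁻¹ * l := by group
    have hR : R = ⊥ := by
      by_contra hne
      have h1 := mem_of_invariant hu hRle hRn hne
      exact hz1 (h.zc_inf_rl hC hk₀ hzS ((hRmem z).mp h1 L₀ k₀ hk₀))
    intro a ha
    have key : ∀ s : Finset (Fin n), ∃ d ∈ closure (Set.range x), ∀ i ∈ s, d * a ∈ rl B (L i) := by
      intro s
      induction s using Finset.induction_on with
      | empty => exact ⟨1, one_mem _, fun i hi => absurd hi (Finset.notMem_empty i)⟩
      | insert j s hj ih =>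
        obtain ⟨d, hd, hda⟩ := ih
        have hdz : d * a ∈ zc B := by
          refine mul_mem ((Subgroup.closure_le _).mpr ?_ hd) ha
          rintro _ ⟨i, rfl⟩
          exact F.xz i
        rcases mem_zc_cases (F.blk j) (F.pt j) hdz with h1 | h1
        · refine ⟨d, hd, fun i hi => ?_⟩
          rcases Finset.mem_insert.mp hi with rfl | hi
          · exact h1
          · exact hda i hi
        · refine ⟨x j * d, mul_mem (subset_closure ⟨j, rfl⟩) hd, fun i hi => ?_⟩
          rw [mul_assoc]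
          rcases Finset.mem_insert.mp hi with rfl | hi
          · exact h1
          · refine mul_mem (F.mem_rl h ?_) (hda i hi)
            rintro rfl
            exact hj hi
    obtain ⟨d, hd, hda⟩ := key Finset.univ
    have h1 : d * a ∈ R := by
      rw [hRmem]
      intro L₁ k₁ hk₁
      obtain ⟨i, hi⟩ := F.surj L₁ k₁ hk₁
      rw [rl_eq_rl S hk₁ (F.blk i) (by rw [hi, F.vl i])]
      exact hda i (Finset.mem_univ i)
    rw [hR, mem_bot] at h1
    rw [eq_inv_of_mul_eq_one_right h1]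
    exact inv_mem hd
  · rw [Subgroup.closure_le]
    rintro _ ⟨i, rfl⟩
    exact F.xz i

/-- `z = x 0 ⋯ x (n - 1)`. -/
theorem Fam.z_eq (h : Div S) (F : Fam S L k V x) (i₀ : Fin n)
    (hC : ¬ centralizer (zc (S : Subgroup G) : Set G) ≤ normalizer (uu S : Set G)) {z : G}
    (hu : ∀ w ∈ zc (S : Subgroup G), w ≠ 1 → w = z) : z = (List.ofFn x).prod := by
  classical
  set B := bau (S : Subgroup G) with hB
  have hcomm : ∀ i j, Commute (x i) (x j) := fun i j => by
    have := zc_comm (F.xz j) (zc_le _ (F.xz i))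
    exact this
  symm
  apply hu
  · have hpB : (List.ofFn x).prod ∈ zc B := by
      refine Subgroup.list_prod_mem _ fun y hy => ?_
      obtain ⟨i, rfl⟩ := (List.mem_ofFn' _ _).mp hy
      exact F.xz i
    refine mem_zc.mpr ⟨bau_le _ (zc_le _ hpB), fun s hs => ?_, zc_sq hpB⟩
    refine Four.conj_eq_iff_comm.mp ?_
    -- the permutation of the indices induced by `s`
    choose σ hσ using fun i => F.perm h (le_normalizer_uu S hs) i
    have hσinj : Function.Injective σ := by
      intro a b hab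
      apply F.inj
      have h1 := (hσ a).trans ((congrArg V hab).trans (hσ b).symm)
      exact Subgroup.map_injective (MulAut.conj s).injective h1
    have hx : ∀ i, s * x i * s⁻¹ = x (σ i) := fun i => F.conj_x hs (hσ i)
    let π : Equiv.Perm (Fin n) := Equiv.ofBijective σ (Finite.injective_iff_bijective.mp hσinj)
    have h1 : s * (List.ofFn x).prod * s⁻¹ = (List.ofFn (x ∘ π)).prod := by
      have h2 : s * (List.ofFn x).prod * s⁻¹ = MulAut.conj s (List.ofFn x).prod := rfl
      rw [h2, map_list_prod, List.map_ofFn]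
      congr 1
      congr 1
      funext i
      exact hx i
    rw [h1]
    refine List.Perm.prod_eq' (Equiv.Perm.ofFn_comp_perm π x) ?_
    rw [List.pairwise_ofFn]
    exact fun i j _ => hcomm _ _
  · intro h0
    obtain ⟨m, rfl⟩ : ∃ m, n = m + 1 := ⟨n - 1, by have := i₀.2; omega⟩
    rw [List.ofFn_succ, List.prod_cons] at h0
    have h1 : (List.ofFn fun i : Fin m => x i.succ).prod ∈ rl B (L 0) := by
      refine Subgroup.list_prod_mem _ fun y hy => ?_
      obtain ⟨i, rfl⟩ := (List.mem_ofFn' _ _).mp hy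
      exact F.mem_rl h (Fin.succ_ne_zero i)
    apply F.notMem_rl 0
    rw [eq_inv_of_mul_eq_one_left h0]
    exact inv_mem h1

/-- **The case (Omega).** -/
theorem omega (h : Div S) {L₀ : Subgroup G} {k₀ : ℕ}
    (hk₀ : IsDBlk (bau (S : Subgroup G)) L₀ k₀)
    (hC : ¬ centralizer (zc (S : Subgroup G) : Set G) ≤ normalizer (uu S : Set G)) :
    ∃ (n : ℕ) (V : Fin n → Subgroup G) (x : Fin n → G) (z : G), Omega S V x (uu S) z := by
  obtain ⟨n, L, k, V, x, F⟩ := exists_fam S
  obtain ⟨z, hz1, hzc, hu⟩ := h.zc_eq hC hk₀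
  obtain ⟨i₀, -⟩ := F.surj L₀ k₀ hk₀
  have hzS : z ∈ zc (S : Subgroup G) := by rw [hzc]; exact mem_zpowers z
  have hz2 : z ^ 2 = 1 := zc_sq hzS
  have hCz : ¬ centralizer ({z} : Set G) ≤ normalizer (uu S : Set G) := by
    intro h0
    apply hC
    refine (centralizer_le ?_).trans h0
    rw [Set.singleton_subset_iff]
    exact hzS
  have hzeq := F.z_eq h i₀ hC hu
  refine ⟨n, V, x, z, ?_⟩
  exact
    { two_le := by
        by_contra hn
        have hn1 : n = 1 := by have := i₀.2; omega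
        subst hn1
        have h1 : z = x 0 := by rw [hzeq]; simp [List.ofFn_succ]
        apply hCz
        rw [h1]
        exact h.centralizer_pt_le (F.blk 0) (F.pt 0)
      U_eq := F.uu_eq
      indep := F.indep h
      card := F.card
      comm := F.comm h
      sq := F.sq h
      blk := fun i => ⟨L i, k i, F.blk i, F.vl i, F.pt i, h.blk_le (F.blk i),
        fun j hj => F.mem_rl h hj⟩
      surj := fun L' k' hk' => ⟨h.blk_le hk', F.surj L' k' hk'⟩
      S_le := le_normalizer_uu S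
      zj_le := h.centralizer_zc_le hk₀
      nb_le := normalizer_bau_le S
      perm := fun m hm i => F.perm h hm i
      trans := F.trans h hC
      y := fun i => by
        obtain ⟨y, hy, h1, -, h2⟩ := F.exists_y h i
        exact ⟨y, h.blk_le (F.blk i) hy, h1, h2⟩
      t := F.exists_t h
      zj := F.zc_eq h hk₀ hC
      zc := hzc
      z_eq := hzeq
      local_le := fun X _ hX ⟨L', k', hL', hk'⟩ => h.le_of_o2 hX hk' hL'
      cent_le := fun i u hu' hu1 => F.cent_le h i hu' hu1
      not_le := hCz }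

/-- **The case division.** -/
theorem result (h : Div S) (hne : ∃ (L : Subgroup G) (k : ℕ), IsDBlk (bau (S : Subgroup G)) L k) :
    (∃ M : Subgroup G, IsMaximalTwoLocal M ∧
      ∀ N : Subgroup G, IsTwoLocal N → (S : Subgroup G) ≤ N → N ≤ M) ∨
    ∃ (n : ℕ) (V : Fin n → Subgroup G) (x : Fin n → G) (U : Subgroup G) (z : G),
      Omega S V x U z := by
  obtain ⟨L₀, k₀, hk₀⟩ := hne
  by_cases hC : centralizer (zc (S : Subgroup G) : Set G) ≤ normalizer (uu S : Set G)
  · exact Or.inl (h.unique hk₀ hC)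
  · obtain ⟨n, V, x, z, hO⟩ := omega h hk₀ hC
    exact Or.inr ⟨n, V, x, uu S, z, hO⟩

end Cfsg.Agent.MinSimple.CaseDiv
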