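import Cfsg.Agent.MinSimple.DBlkApi
import Cfsg.Agent.MinSimple.Geo

/-!
# The reduction of (C2): the four cases

`Amb G`: the standing hypotheses (characteristic 2 type, solvable 2-locals, no normal subgroup of
index 2, 2-rank at least 3). For a Sylow 2-subgroup `S` of `G` the reduction
(`Cfsg.Agent.MinSimple.Reduce.main`) gives one of

* `S` lies in a unique maximal 2-local subgroup;
* `∃ T V z, Geo T V z` (case (E1'), `|V| = 4`);
* `∃ n V x U z, Omega S V x U z` (`V x : Fin n → _`, `n ≥ 2`);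
* there is no dihedral block over `bau S`.
-/

set_option autoImplicit false

namespace Cfsg.Agent.MinSimple

open Subgroup Cfsg Cfsg.Agent.ZN Cfsg.Agent.MinSimple.DBlkApi

universe u

variable {G : Type u} [Group G]

/-- The standing hypotheses of (C2). -/
structure Amb (G : Type u) [Group G] : Prop where
  char2 : IsCharacteristicTwoType G
  solv : ∀ N : Subgroup G, IsTwoLocal N → Group.IsSolvable ↥N
  index : ∀ N : Subgroup G, N.Normal → N.index ≠ 2
  rank : ¬ PRankLE 2 2 G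

/-- The case (Omega) of the reduction: `U = V 0 × ... × V (n - 1)`, `n ≥ 2`, `M = N_G(U)`,
`zc (bau S) = ⟨x 0⟩ × ... × ⟨x (n - 1)⟩`, `zc S = ⟨z⟩`, `z = x 0 ⋯ x (n - 1)`, `C_G(z) ≰ M`. -/
structure Omega (S : Sylow 2 G) {n : ℕ} (V : Fin n → Subgroup G) (x : Fin n → G)
    (U : Subgroup G) (z : G) : Prop where
  two_le : 2 ≤ n
  U_eq : U = ⨆ i, V i
  indep : iSupIndep V
  card : ∀ i, Nat.card (V i) = 4
  comm : ∀ a ∈ U, ∀ b ∈ U, a * b = b * a
  sq : ∀ a ∈ U, a ^ 2 = 1
  /-- every `V i` comes from a block over `bau S`, contained in `M` -/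
  blk : ∀ i, ∃ (L : Subgroup G) (k : ℕ), IsDBlk (bau (S : Subgroup G)) L k ∧
    vl (bau (S : Subgroup G)) L = V i ∧ IsPt (bau (S : Subgroup G)) L (x i) ∧
      L ≤ normalizer (U : Set G) ∧ ∀ j, j ≠ i → x j ∈ rl (bau (S : Subgroup G)) L
  /-- all blocks over `bau S` -/
  surj : ∀ (L : Subgroup G) (k : ℕ), IsDBlk (bau (S : Subgroup G)) L k →
    L ≤ normalizer (U : Set G) ∧ ∃ i, vl (bau (S : Subgroup G)) L = V i
  S_le : (S : Subgroup G) ≤ normalizer (U : Set G)
  zj_le : centralizer (zc (bau (S : Subgroup G)) : Set G) ≤ normalizer (U : Set G)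
  nb_le : normalizer (bau (S : Subgroup G) : Set G) ≤ normalizer (U : Set G)
  perm : ∀ m ∈ normalizer (U : Set G), ∀ i, ∃ j, (V i).map (MulAut.conj m).toMonoidHom = V j
  trans : ∀ i j, ∃ s ∈ (S : Subgroup G), (V i).map (MulAut.conj s).toMonoidHom = V j
  /-- `E i` contains an element acting fixed-point-freely on `V i` and trivially on the other `V j` -/
  y : ∀ i, ∃ y ∈ normalizer (U : Set G), (∀ v ∈ V i, y * v * y⁻¹ = v → v = 1) ∧
    ∀ j, j ≠ i → ∀ v ∈ V j, y * v = v * y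
  /-- `E i` contains an element of `jj S` moving `V i` and centralising the other `V j` -/
  t : ∀ i, ∃ t ∈ jj (S : Subgroup G), (∃ v ∈ V i, t * v * t⁻¹ ≠ v) ∧
    ∀ j, j ≠ i → ∀ v ∈ V j, t * v = v * t
  zj : zc (bau (S : Subgroup G)) = closure (Set.range x)
  zc : zc (S : Subgroup G) = zpowers z
  z_eq : z = (List.ofFn x).prod
  /-- a 2-local overgroup of `bau S` containing a block over `bau S` is in `M` -/
  local_le : ∀ X : Subgroup G, bau (S : Subgroup G) ≤ X → o2 X ≠ ⊥ →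
    (∃ (L : Subgroup G) (k : ℕ), L ≤ X ∧ IsDBlk (bau (S : Subgroup G)) L k) →
      X ≤ normalizer (U : Set G)
  /-- `C_G(u) ≤ M` for the elements `u ≠ 1` of `U` of non-full support -/
  cent_le : ∀ i, ∀ u ∈ (⨆ j : {j : Fin n // j ≠ i}, V j : Subgroup G), u ≠ 1 →
    centralizer ({u} : Set G) ≤ normalizer (U : Set G)
  not_le : ¬ centralizer ({z} : Set G) ≤ normalizer (U : Set G)

end Cfsg.Agent.MinSimple
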