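import Cfsg.Agent.MinSimple.LemXGen
import Cfsg.Agent.MinSimple.SamePt
import Cfsg.Agent.MinSimple.ReduceDefs

/-!
# The case division: all lines in one 2-local

`S` Sylow 2-subgroup of `G`, `B = bau S`. `Div S`: every 2-local subgroup is solvable and of
characteristic 2, the lines of the blocks over `B` commute, and for every block `L` over `B` with
point `z` the groups `N_G(V_L)`, `C_G(z)` lie in a common 2-local subgroup. Then all blocks over `B`
lie in `M = N_G(U)`, `U = uu S` the subgroup generated by all lines, `M` permutes the lines, contains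
`C_G(z)` for all points `z`, `C_G(Ω₁(Z(B)))`, `N_G(B)` and all 2-local overgroups of `B` containing a
block over `B`.
-/

set_option autoImplicit false

namespace Cfsg.Agent.MinSimple.CaseDiv

open Subgroup Cfsg Cfsg.Agent.ZN Cfsg.Agent.MinSimple
open Cfsg.Agent.MinSimple.DBlkApi Cfsg.Agent.MinSimple.LemX

universe u

variable {G : Type u} [Group G]

/-- The hypotheses of the case division. -/
structure Div (S : Sylow 2 G) : Prop where
  char2 : IsCharacteristicTwoType G
  solv : ∀ N : Subgroup G, IsTwoLocal N → Group.IsSolvable ↥N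
  comm : SamePt.AllComm (bau (S : Subgroup G))
  loc : ∀ (L : Subgroup G) (k : ℕ), IsDBlk (bau (S : Subgroup G)) L k →
    ∀ z : G, IsPt (bau (S : Subgroup G)) L z → ∃ U : Subgroup G, IsPGroup 2 U ∧ U ≠ ⊥ ∧
      normalizer (vl (bau (S : Subgroup G)) L : Set G) ≤ normalizer (U : Set G) ∧
      centralizer ({z} : Set G) ≤ normalizer (U : Set G)

/-- The subgroup generated by all lines of the blocks over `bau S`. -/
def uu (S : Sylow 2 G) : Subgroup G :=
  ⨆ L : {L : Subgroup G // ∃ k, IsDBlk (bau (S : Subgroup G)) L k},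
    vl (bau (S : Subgroup G)) (L : Subgroup G)

theorem vl_le_uu {S : Sylow 2 G} {L : Subgroup G} {k : ℕ}
    (hk : IsDBlk (bau (S : Subgroup G)) L k) : vl (bau (S : Subgroup G)) L ≤ uu S :=
  le_iSup (fun L : {L : Subgroup G // ∃ k, IsDBlk (bau (S : Subgroup G)) L k} =>
    vl (bau (S : Subgroup G)) (L : Subgroup G)) ⟨L, k, hk⟩

theorem uu_le {S : Sylow 2 G} {H : Subgroup G}
    (hH : ∀ (L : Subgroup G) (k : ℕ), IsDBlk (bau (S : Subgroup G)) L k →
      vl (bau (S : Subgroup G)) L ≤ H) : uu S ≤ H :=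
  iSup_le fun L => by
    obtain ⟨L, k, hk⟩ := L
    exact hH L k hk

theorem uu_le_bau {S : Sylow 2 G} : uu S ≤ bau (S : Subgroup G) :=
  uu_le fun _ _ hk => vl_le_B hk

theorem isPGroup_bau' (S : Sylow 2 G) : IsPGroup 2 (bau (S : Subgroup G)) :=
  isPGroup_bau S.isPGroup'

theorem isPGroup_uu (S : Sylow 2 G) : IsPGroup 2 (uu S) := (isPGroup_bau' S).to_le uu_le_bau

theorem uu_ne_bot {S : Sylow 2 G} {L : Subgroup G} {k : ℕ}
    (hk : IsDBlk (bau (S : Subgroup G)) L k) : uu S ≠ ⊥ := by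
  intro h
  have h1 := vl_le_uu hk
  rw [h, le_bot_iff] at h1
  have h2 := hk.card_vl
  rw [h1, card_bot] at h2
  omega

/-- An element permuting the lines normalizes `uu S`. -/
theorem mem_normalizer_uu [Finite G] {S : Sylow 2 G} {g : G}
    (hg : ∀ (L : Subgroup G) (k : ℕ), IsDBlk (bau (S : Subgroup G)) L k →
      (vl (bau (S : Subgroup G)) L).map (MulAut.conj g).toMonoidHom ≤ uu S) :
    g ∈ normalizer (uu S : Set G) := by
  refine VModule.mem_normalizer_of_map_le ?_
  conv_lhs => rw [uu]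
  rw [Subgroup.map_iSup]
  refine iSup_le fun L => ?_
  obtain ⟨L, k, hk⟩ := L
  exact hg L k hk

theorem normalizer_bau_le [Finite G] (S : Sylow 2 G) :
    normalizer (bau (S : Subgroup G) : Set G) ≤ normalizer (uu S : Set G) := by
  intro g hg
  refine mem_normalizer_uu fun L k hk => ?_
  rw [LemXPerm.vl_map_conj hg]
  exact vl_le_uu (LemXPerm.isDBlk_conj hk hg)

theorem le_normalizer_uu [Finite G] (S : Sylow 2 G) :
    (S : Subgroup G) ≤ normalizer (uu S : Set G) :=
  (le_normalizer_bau _).trans (normalizer_bau_le S)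

variable [Finite G] {S : Sylow 2 G}

section base

/-- A Sylow 2-subgroup over `bau S` of a 2-local subgroup over `bau S`. -/
theorem Div.exists_loc (h : Div S) {U : Subgroup G} (hU : IsPGroup 2 U) (hU1 : U ≠ ⊥)
    (hB : bau (S : Subgroup G) ≤ normalizer (U : Set G)) :
    ∃ T : Subgroup G, Loc (normalizer (U : Set G)) T ∧ bau T = bau (S : Subgroup G) := by
  obtain ⟨T, hT, hBT⟩ := ChoiceSit.exists_syl (isPGroup_bau' S) hB
  exact ⟨T, SamePt.loc_normalizer h.char2 h.solv hU hU1 hT, SamePt.bau_eq S hT.2.1 hBT⟩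

variable {L L' : Subgroup G} {k k' : ℕ} {z z' : G}

theorem Div.indep_of_local (h : Div S) {U : Subgroup G} (hU : IsPGroup 2 U) (hU1 : U ≠ ⊥)
    (hLU : L ≤ normalizer (U : Set G)) (hLU' : L' ≤ normalizer (U : Set G))
    (hk : IsDBlk (bau (S : Subgroup G)) L k) (hk' : IsDBlk (bau (S : Subgroup G)) L' k')
    (hne : vl (bau (S : Subgroup G)) L ≠ vl (bau (S : Subgroup G)) L')
    (hz' : IsPt (bau (S : Subgroup G)) L' z') : z' ∈ rl (bau (S : Subgroup G)) L := by
  obtain ⟨T, hT, hb⟩ := h.exists_loc hU hU1 (hk.le.trans hLU)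
  rw [← hb] at hk hk' hne hz' ⊢
  exact LemXPerm.indep hT ⟨hLU, k, hk⟩ ⟨hLU', k', hk'⟩ hne hz'

theorem Div.vl_eq (h : Div S) (hk : IsDBlk (bau (S : Subgroup G)) L k)
    (hk' : IsDBlk (bau (S : Subgroup G)) L' k') (hz : IsPt (bau (S : Subgroup G)) L z)
    (hz' : IsPt (bau (S : Subgroup G)) L' z) :
    vl (bau (S : Subgroup G)) L = vl (bau (S : Subgroup G)) L' :=
  SamePt.vl_eq_of_pt h.char2 h.solv S hk hk' hz hz' (h.comm _ _ _ _ hk hk')

omit [Finite G] in
theorem le_centralizer_of_mem_rl {B L : Subgroup G} {r : G} (hr : r ∈ rl B L) :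
    L ≤ centralizer ({r} : Set G) := fun l hl => by
  rw [mem_centralizer_singleton_iff]
  exact rl_comm hr hl

/-- Two blocks over `bau S` with different lines lie in a common 2-local subgroup. -/
theorem Div.exists_common (h : Div S) (hk : IsDBlk (bau (S : Subgroup G)) L k)
    (hk' : IsDBlk (bau (S : Subgroup G)) L' k')
    (hne : vl (bau (S : Subgroup G)) L ≠ vl (bau (S : Subgroup G)) L') :
    ∃ U : Subgroup G, IsPGroup 2 U ∧ U ≠ ⊥ ∧ L ≤ normalizer (U : Set G) ∧
      L' ≤ normalizer (U : Set G) := by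
  obtain ⟨z, hz⟩ := exists_pt hk
  obtain ⟨z', hz'⟩ := exists_pt hk'
  have hzz : z ≠ z' := by
    rintro rfl
    exact hne (h.vl_eq hk hk' hz hz')
  by_cases h1 : z ∈ rl (bau (S : Subgroup G)) L'
  · obtain ⟨U, hU, hU1, hV, hC⟩ := h.loc L k hk z hz
    exact ⟨U, hU, hU1, (le_normalizer_vl _ L).trans hV, (le_centralizer_of_mem_rl h1).trans hC⟩
  by_cases h2 : z' ∈ rl (bau (S : Subgroup G)) L
  · obtain ⟨U, hU, hU1, hV, hC⟩ := h.loc L' k' hk' z' hz'
    exact ⟨U, hU, hU1, (le_centralizer_of_mem_rl h2).trans hC, (le_normalizer_vl _ L').trans hV⟩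
  -- `z z' ∈ rl B L ∩ rl B L'`
  have h3 : z * z' ∈ rl (bau (S : Subgroup G)) L :=
    (mem_zc_cases hk hz hz'.2.1).resolve_left h2
  have h4 : z' * z ∈ rl (bau (S : Subgroup G)) L' :=
    (mem_zc_cases hk' hz' hz.2.1).resolve_left h1
  have hcomm : z * z' = z' * z := zc_comm hz'.2.1 (zc_le _ hz.2.1)
  rw [← hcomm] at h4
  have h5 : (z * z') ^ 2 = 1 := zc_sq (rl_le_zc _ _ h3)
  have h6 : z * z' ≠ 1 := by
    intro h0
    apply hzz
    calc z = z * (z' * z') := by rw [hz'.mul_self, mul_one]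
      _ = (z * z') * z' := by group
      _ = z' := by rw [h0, one_mul]
  refine ⟨zpowers (z * z'), Basic.isPGroup_zpowers h5, fun h0 => h6 (zpowers_eq_bot.mp h0),
    ?_, ?_⟩
  · rw [Basic.normalizer_zpowers_eq h5]
    exact le_centralizer_of_mem_rl h3
  · rw [Basic.normalizer_zpowers_eq h5]
    exact le_centralizer_of_mem_rl h4

/-- The point of another line lies in `rl B L`. -/
theorem Div.indep (h : Div S) (hk : IsDBlk (bau (S : Subgroup G)) L k)
    (hk' : IsDBlk (bau (S : Subgroup G)) L' k')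
    (hne : vl (bau (S : Subgroup G)) L ≠ vl (bau (S : Subgroup G)) L')
    (hz' : IsPt (bau (S : Subgroup G)) L' z') : z' ∈ rl (bau (S : Subgroup G)) L := by
  obtain ⟨U, hU, hU1, h1, h2⟩ := h.exists_common hk hk' hne
  exact h.indep_of_local hU hU1 h1 h2 hk hk' hne hz'

/-- Every block over `bau S` lies in every 2-local subgroup containing `N_G(V_L)`, `C_G(z_L)`. -/
theorem Div.le_of_local (h : Div S) {H : Subgroup G} (hk : IsDBlk (bau (S : Subgroup G)) L k)
    (hz : IsPt (bau (S : Subgroup G)) L z)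
    (hV : normalizer (vl (bau (S : Subgroup G)) L : Set G) ≤ H)
    (hC : centralizer ({z} : Set G) ≤ H)
    (hk' : IsDBlk (bau (S : Subgroup G)) L' k') : L' ≤ H := by
  by_cases hne : vl (bau (S : Subgroup G)) L = vl (bau (S : Subgroup G)) L'
  · rw [hne] at hV
    exact (le_normalizer_vl _ L').trans hV
  · have h1 := h.indep hk' hk (fun h => hne h.symm) hz
    exact (le_centralizer_of_mem_rl h1).trans hC

/-- A 2-local subgroup containing all blocks over `bau S` normalizes `uu S`. -/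
theorem Div.local_le_of_all (h : Div S) {U : Subgroup G} (hU : IsPGroup 2 U) (hU1 : U ≠ ⊥)
    (hk : IsDBlk (bau (S : Subgroup G)) L k)
    (hall : ∀ (L : Subgroup G) (k : ℕ), IsDBlk (bau (S : Subgroup G)) L k →
      L ≤ normalizer (U : Set G)) : normalizer (U : Set G) ≤ normalizer (uu S : Set G) := by
  obtain ⟨T, hT, hb⟩ := h.exists_loc hU hU1 (hk.le.trans (hall L k hk))
  intro g hg
  refine mem_normalizer_uu fun L' k' hk' => ?_
  have hL' : L' ∈ blocks (normalizer (U : Set G)) T := ⟨hall L' k' hk', k', by rwa [hb]⟩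
  obtain ⟨L'', ⟨-, k'', hk''⟩, h2⟩ := LemXPerm.perm hT hL' hg
  rw [hb] at h2 hk''
  rw [h2]
  exact vl_le_uu hk''

/-- `N_G(V_L), C_G(z_L) ≤ N_G(uu S)`. -/
theorem Div.normalizer_vl_le (h : Div S) (hk : IsDBlk (bau (S : Subgroup G)) L k)
    (hz : IsPt (bau (S : Subgroup G)) L z) :
    normalizer (vl (bau (S : Subgroup G)) L : Set G) ≤ normalizer (uu S : Set G) ∧
      centralizer ({z} : Set G) ≤ normalizer (uu S : Set G) := by
  obtain ⟨U, hU, hU1, hV, hC⟩ := h.loc L k hk z hz
  have h1 := h.local_le_of_all hU hU1 hk fun L' k' hk' => h.le_of_local hk hz hV hC hk'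
  exact ⟨hV.trans h1, hC.trans h1⟩

theorem Div.centralizer_pt_le (h : Div S) (hk : IsDBlk (bau (S : Subgroup G)) L k)
    (hz : IsPt (bau (S : Subgroup G)) L z) :
    centralizer ({z} : Set G) ≤ normalizer (uu S : Set G) := (h.normalizer_vl_le hk hz).2

/-- All blocks lie in `N_G(uu S)`. -/
theorem Div.blk_le (h : Div S) (hk : IsDBlk (bau (S : Subgroup G)) L k) :
    L ≤ normalizer (uu S : Set G) := by
  obtain ⟨z, hz⟩ := exists_pt hk
  exact (le_normalizer_vl _ L).trans (h.normalizer_vl_le hk hz).1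

theorem Div.centralizer_zc_le (h : Div S) (hk : IsDBlk (bau (S : Subgroup G)) L k) :
    centralizer (zc (bau (S : Subgroup G)) : Set G) ≤ normalizer (uu S : Set G) := by
  obtain ⟨z, hz⟩ := exists_pt hk
  refine (centralizer_le ?_).trans (h.centralizer_pt_le hk hz)
  rw [Set.singleton_subset_iff]
  exact hz.2.1

/-- A 2-local subgroup over `bau S` containing a block over `bau S` normalizes `uu S`. -/
theorem Div.local_le (h : Div S) {U : Subgroup G} (hU : IsPGroup 2 U) (hU1 : U ≠ ⊥)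
    (hk : IsDBlk (bau (S : Subgroup G)) L k) (hLU : L ≤ normalizer (U : Set G)) :
    normalizer (U : Set G) ≤ normalizer (uu S : Set G) := by
  obtain ⟨T, hT, hb⟩ := h.exists_loc hU hU1 (hk.le.trans hLU)
  obtain ⟨z, hz⟩ := exists_pt hk
  refine LemXGen.gen_le_of_pt hT (L₀ := L) ⟨hLU, k, by rwa [hb]⟩ (z := z) (by rwa [hb]) ?_ ?_ ?_
  · exact inf_le_right.trans (h.centralizer_pt_le hk hz)
  · rw [hb]
    exact inf_le_right.trans (normalizer_bau_le S)
  · rintro L' ⟨-, k', hk'⟩
    rw [hb] at hk'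
    exact h.blk_le hk'

/-- A subgroup `X` over a block over `bau S` with `O₂(X) ≠ 1` normalizes `uu S`. -/
theorem Div.le_of_o2 (h : Div S) {X : Subgroup G} (hX : o2 X ≠ ⊥)
    (hk : IsDBlk (bau (S : Subgroup G)) L k) (hLX : L ≤ X) : X ≤ normalizer (uu S : Set G) :=
  (le_normalizer_o2 X).trans
    (h.local_le (isPGroup_o2 X) hX hk (hLX.trans (le_normalizer_o2 X)))

/-- `C_G(r) ≤ N_G(uu S)` for `1 ≠ r ∈ rl B L`. -/
theorem Div.centralizer_rl_le (h : Div S) (hk : IsDBlk (bau (S : Subgroup G)) L k) {r : G}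
    (hr : r ∈ rl (bau (S : Subgroup G)) L) (hr1 : r ≠ 1) :
    centralizer ({r} : Set G) ≤ normalizer (uu S : Set G) := by
  have h5 : r ^ 2 = 1 := zc_sq (rl_le_zc _ _ hr)
  have h1 := h.local_le (Basic.isPGroup_zpowers h5) (fun h0 => hr1 (zpowers_eq_bot.mp h0)) hk
    (by rw [Basic.normalizer_zpowers_eq h5]; exact le_centralizer_of_mem_rl hr)
  rwa [Basic.normalizer_zpowers_eq h5] at h1

end base

/-! ### Minimal parabolics -/

/-- `N_G(J(S)) ≤ N_G(uu S)`. -/
theorem Div.normalizer_jj_le (h : Div S) {L : Subgroup G} {k : ℕ}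
    (hk : IsDBlk (bau (S : Subgroup G)) L k) :
    normalizer (jj (S : Subgroup G) : Set G) ≤ normalizer (uu S : Set G) := by
  intro g hg
  obtain ⟨c, hc, n, hn, rfl⟩ := LemXPerm.exists_mul_of_mem_normalizer_jj (X := ⊤) le_top
    S.isPGroup' (Basic.not_dvd_relIndex S le_top) (mem_top g) hg
  refine mul_mem (h.centralizer_zc_le hk ?_) (normalizer_bau_le S hn.2)
  rw [zc_bau]
  exact hc.2

/-- A minimal parabolic over `S` not centralizing `Ω₁(Z(S))` normalizes `uu S`. -/
theorem Div.minPar_le (h : Div S) {L : Subgroup G} {k : ℕ}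
    (hk : IsDBlk (bau (S : Subgroup G)) L k) {P : Subgroup G}
    (hP : MinParabolic.IsMinPar (S : Subgroup G) P) (hP2 : o2 P ≠ ⊥)
    (hc : ¬ P ≤ centralizer (zc (S : Subgroup G) : Set G)) : P ≤ normalizer (uu S : Set G) := by
  have hf : Fact (Nat.Prime 2) := ⟨Nat.prime_two⟩
  have hsyl := Basic.not_dvd_relIndex S hP.le
  have hloc : Loc P (S : Subgroup G) :=
    { solv := Basic.solvable_of_o2_ne_bot h.solv hP2
      char2 := Basic.char2_of_o2_ne_bot h.char2 S hP.le hP2
      two := S.isPGroup'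
      TX := hP.le
      syl := hsyl }
  by_cases hne : blocks P (S : Subgroup G) = ∅
  · have h1 := LemXGen.jj_le_of_blocks_eq_empty hloc hne
    set W := zl (S : Subgroup G) P with hW
    have hWn : P ≤ normalizer (W : Set G) := ZN.le_normalizer_zl _ _
    set C := P ⊓ centralizer (W : Set G) with hC
    have hCn : P ≤ normalizer (C : Set G) :=
      (le_inf le_normalizer (hWn.trans (DBlkReduce.nc _))).trans inf_normalizer_le_normalizer_inf
    rcases hP.sup_eq_or_inf_le S.isPGroup' hsyl (N := C) inf_le_left hCn with h2 | h2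
    · exfalso
      apply hc
      rw [← h2]
      refine sup_le (inf_le_right.trans (centralizer_le ZN.zc_le_zl)) (le_centralizer_zc _)
    · have h3 : jj (S : Subgroup G) ≤ o2 P :=
        (le_inf (jj_le _) (le_inf ((jj_le _).trans hP.le) h1)).trans h2
      have h4 : jj (o2 P) = jj (S : Subgroup G) := ZN.jj_eq_of_le h3 hloc.o2_le
      refine le_trans ?_ (h.normalizer_jj_le hk)
      rw [← h4]
      exact (le_normalizer_o2 P).trans (normalizer_le_normalizer_jj _)
  · obtain ⟨L', hL', k', hk'⟩ := Set.nonempty_iff_ne_empty.mpr hne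
    exact h.le_of_o2 hP2 hk' hL'

/-- If `C_G(Ω₁(Z(S)))` normalizes `uu S`, then all 2-local subgroups over `S` do. -/
theorem Div.unique_of_le (h : Div S) {L : Subgroup G} {k : ℕ}
    (hk : IsDBlk (bau (S : Subgroup G)) L k)
    (hC : centralizer (zc (S : Subgroup G) : Set G) ≤ normalizer (uu S : Set G))
    {N : Subgroup G} (hN : o2 N ≠ ⊥) (hSN : (S : Subgroup G) ≤ N) :
    N ≤ normalizer (uu S : Set G) := by
  refine Basic.le_of_forall_minPar S ?_ ?_ hN hSN
  · exact (normalizer_le_normalizer_bau _).trans (normalizer_bau_le S)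
  · intro P hP hP2
    by_cases hc : P ≤ centralizer (zc (S : Subgroup G) : Set G)
    · exact hc.trans hC
    · exact h.minPar_le hk hP hP2 hc

/-- If `C_G(Ω₁(Z(S)))` normalizes `uu S`, then `S` lies in a unique maximal 2-local subgroup. -/
theorem Div.unique (h : Div S) {L : Subgroup G} {k : ℕ}
    (hk : IsDBlk (bau (S : Subgroup G)) L k)
    (hC : centralizer (zc (S : Subgroup G) : Set G) ≤ normalizer (uu S : Set G)) :
    ∃ M : Subgroup G, IsMaximalTwoLocal M ∧
      ∀ N : Subgroup G, IsTwoLocal N → (S : Subgroup G) ≤ N → N ≤ M := by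
  refine ⟨normalizer (uu S : Set G), ⟨⟨uu S, isPGroup_uu S, uu_ne_bot hk, rfl⟩, ?_⟩, ?_⟩
  · intro K hK hle
    exact le_antisymm (h.unique_of_le hk hC (Basic.IsTwoLocal.o2_ne_bot hK)
      ((le_normalizer_uu S).trans hle)) hle
  · intro N hN hSN
    exact h.unique_of_le hk hC (Basic.IsTwoLocal.o2_ne_bot hN) hSN

end Cfsg.Agent.MinSimple.CaseDiv
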