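import Cfsg.Agent.MinSimple.CaseDivRl

/-!
# The case division: the family of lines

`Fam S L k V x`: a family of blocks `L i` over `bau S` with lines `V i` and points `x i`, one for each
line. Under the hypotheses `Div S` of the case division: the `V i` are independent, `x j ∈ rl B (L i)`
for `j ≠ i`, `M = N_G(uu S)` permutes the `V i`, and the elements `y i`, `t i` acting on `V i` and
trivially on the other `V j`.
-/

set_option autoImplicit false

namespace Cfsg.Agent.MinSimple.CaseDiv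

open Subgroup Cfsg Cfsg.Agent.ZN Cfsg.Agent.MinSimple
open Cfsg.Agent.MinSimple.DBlkApi Cfsg.Agent.MinSimple.LemX

universe u

variable {G : Type u} [Group G]

/-- A family of blocks over `bau S`, one for each line. -/
structure Fam (S : Sylow 2 G) {n : ℕ} (L : Fin n → Subgroup G) (k : Fin n → ℕ)
    (V : Fin n → Subgroup G) (x : Fin n → G) : Prop where
  blk : ∀ i, IsDBlk (bau (S : Subgroup G)) (L i) (k i)
  vl : ∀ i, vl (bau (S : Subgroup G)) (L i) = V i
  pt : ∀ i, IsPt (bau (S : Subgroup G)) (L i) (x i)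
  inj : Function.Injective V
  surj : ∀ (L' : Subgroup G) (k' : ℕ), IsDBlk (bau (S : Subgroup G)) L' k' →
    ∃ i, ZN.vl (bau (S : Subgroup G)) L' = V i

theorem exists_fam [Finite G] (S : Sylow 2 G) : ∃ (n : ℕ) (L : Fin n → Subgroup G)
    (k : Fin n → ℕ) (V : Fin n → Subgroup G) (x : Fin n → G), Fam S L k V x := by
  classical
  let P : Set (Subgroup G) := {W | ∃ (L : Subgroup G) (k : ℕ),
    IsDBlk (bau (S : Subgroup G)) L k ∧ vl (bau (S : Subgroup G)) L = W}
  obtain ⟨n, ⟨e⟩⟩ := Finite.exists_equiv_fin P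
  have h1 : ∀ i : Fin n, ∃ (L : Subgroup G) (k : ℕ),
    IsDBlk (bau (S : Subgroup G)) L k ∧ vl (bau (S : Subgroup G)) L = (e.symm i : Subgroup G) :=
    fun i => (e.symm i).2
  choose L k hk hv using h1
  choose x hx using fun i => exists_pt (hk i)
  exact ⟨n, L, k, fun i => (e.symm i : Subgroup G), x, hk, hv, hx,
    fun i j hij => e.symm.injective (Subtype.ext hij),
    fun L' k' hk' => ⟨e ⟨_, L', k', hk', rfl⟩, by simp⟩⟩

variable [Finite G] {S : Sylow 2 G} {n : ℕ} {L : Fin n → Subgroup G} {k : Fin n → ℕ}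
  {V : Fin n → Subgroup G} {x : Fin n → G}

omit [Finite G] in
theorem Fam.uu_eq (F : Fam S L k V x) : uu S = ⨆ i, V i := by
  apply le_antisymm
  · refine uu_le fun L' k' hk' => ?_
    obtain ⟨i, hi⟩ := F.surj L' k' hk'
    rw [hi]
    exact le_iSup V i
  · refine iSup_le fun i => ?_
    rw [← F.vl i]
    exact vl_le_uu (F.blk i)

omit [Finite G] in
theorem Fam.le_uu (F : Fam S L k V x) (i : Fin n) : V i ≤ uu S := by
  rw [F.uu_eq]; exact le_iSup V i

omit [Finite G] in
theorem Fam.card (F : Fam S L k V x) (i : Fin n) : Nat.card (V i) = 4 := by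
  rw [← F.vl i]; exact (F.blk i).card_vl

omit [Finite G] in
theorem Fam.xV (F : Fam S L k V x) (i : Fin n) : x i ∈ V i := by
  rw [← F.vl i]; exact (F.pt i).1

omit [Finite G] in
theorem Fam.x1 (F : Fam S L k V x) (i : Fin n) : x i ≠ 1 := (F.pt i).2.2

omit [Finite G] in
theorem Fam.xz (F : Fam S L k V x) (i : Fin n) : x i ∈ zc (bau (S : Subgroup G)) := (F.pt i).2.1

omit [Finite G] in
theorem Fam.vsq (F : Fam S L k V x) (i : Fin n) : ∀ v ∈ V i, v ^ 2 = 1 := by
  rw [← F.vl i]; exact vl_sq (F.blk i)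

omit [Finite G] in
theorem Fam.LV (F : Fam S L k V x) (i : Fin n) : L i ≤ normalizer (V i : Set G) := by
  have h1 := le_normalizer_vl (bau (S : Subgroup G)) (L i)
  rwa [F.vl i] at h1

/-- `x j ∈ rl B (L i)` for `j ≠ i`. -/
theorem Fam.mem_rl (h : Div S) (F : Fam S L k V x) {i j : Fin n} (hij : j ≠ i) :
    x j ∈ rl (bau (S : Subgroup G)) (L i) := by
  refine h.indep (F.blk i) (F.blk j) ?_ (F.pt j)
  rw [F.vl i, F.vl j]
  exact fun h0 => hij (F.inj h0).symm

omit [Finite G] in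
theorem Fam.notMem_rl (F : Fam S L k V x) (i : Fin n) :
    x i ∉ rl (bau (S : Subgroup G)) (L i) := pt_notMem_rl (F.blk i) (F.pt i)

/-- `M = N_G(uu S)` with its Sylow 2-subgroup `S`. -/
theorem Div.loc_uu (h : Div S) {L : Subgroup G} {k : ℕ}
    (hk : IsDBlk (bau (S : Subgroup G)) L k) : Loc (normalizer (uu S : Set G)) (S : Subgroup G) where
  solv := h.solv _ ⟨uu S, isPGroup_uu S, uu_ne_bot hk, rfl⟩
  char2 := Basic.char2_normalizer h.char2 (isPGroup_uu S) (uu_ne_bot hk)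
  two := S.isPGroup'
  TX := le_normalizer_uu S
  syl := Basic.not_dvd_relIndex S (le_normalizer_uu S)

theorem Fam.mem_blocks (h : Div S) (F : Fam S L k V x) (i : Fin n) :
    L i ∈ blocks (normalizer (uu S : Set G)) (S : Subgroup G) := ⟨h.blk_le (F.blk i), k i, F.blk i⟩

/-- The family of four-groups of Lemma X for `M` contains the `V i`. -/
theorem Fam.exists_gff (h : Div S) (F : Fam S L k V x) (i₀ : Fin n) :
    ∃ (W J : Subgroup G) (m : ℕ) (V' : Fin m → Subgroup G) (σ : Fin n → Fin m),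
      PlanePair.GFF (normalizer (uu S : Set G)) (S : Subgroup G) W J V' ∧
      Function.Injective σ ∧ (∀ i, V i = V' (σ i)) := by
  have hloc := h.loc_uu (F.blk i₀)
  obtain ⟨m, V', hV'⟩ := LemX.exists_gff hloc ⟨L i₀, F.mem_blocks h i₀⟩
  have h1 : ∀ i, ∃ j, V i = V' j := by
    intro i
    obtain ⟨j, hj, -⟩ := exists_plane hV' (h.blk_le (F.blk i)) (F.blk i)
      (vl_le_mod (h.blk_le (F.blk i)) (F.blk i))
    exact ⟨j, by rw [← F.vl i, hj]⟩
  choose σ hσ using h1
  exact ⟨_, _, m, V', σ, hV', fun i j hij => F.inj (by rw [hσ i, hσ j, hij]), hσ⟩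

theorem Fam.indep (h : Div S) (F : Fam S L k V x) : iSupIndep V := by
  rcases isEmpty_or_nonempty (Fin n) with h0 | ⟨⟨i₀⟩⟩
  · exact fun i => h0.elim i
  obtain ⟨W, J, m, V', σ, hV', hσ, hv⟩ := F.exists_gff h i₀
  have h1 : iSupIndep V' := hV'.indep.comp (Option.some_injective _)
  have h2 := h1.comp hσ
  have h3 : V = V' ∘ σ := funext hv
  rwa [h3]

theorem Fam.comm (h : Div S) (F : Fam S L k V x) : ∀ a ∈ uu S, ∀ b ∈ uu S, a * b = b * a := by
  have h1 : uu S ≤ centralizer (uu S : Set G) := by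
    rw [F.uu_eq]
    refine iSup_le fun i => le_centralizer_iff.mp (iSup_le fun j => ?_)
    rw [← F.vl i, ← F.vl j]
    intro a ha
    rw [mem_centralizer_iff]
    exact fun b hb => h.comm _ _ _ _ (F.blk i) (F.blk j) b hb a ha
  exact fun a ha b hb => mem_centralizer_iff.mp (h1 hb) a ha

theorem Fam.sq (h : Div S) (F : Fam S L k V x) : ∀ a ∈ uu S, a ^ 2 = 1 := by
  have hc := F.comm h
  have h1 : ∀ a ∈ uu S, a ∈ uu S ∧ a ^ 2 = 1 := by
    intro a ha
    let H : Subgroup G :=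
      { carrier := {a | a ∈ uu S ∧ a ^ 2 = 1}
        one_mem' := ⟨one_mem _, one_pow 2⟩
        mul_mem' := by
          rintro a b ⟨ha, ha2⟩ ⟨hb, hb2⟩
          refine ⟨mul_mem ha hb, ?_⟩
          have h2 : Commute a b := hc a ha b hb
          rw [h2.mul_pow, ha2, hb2, one_mul]
        inv_mem' := by
          rintro a ⟨ha, ha2⟩
          exact ⟨inv_mem ha, by rw [inv_pow, ha2, inv_one]⟩ }
    have h2 : uu S ≤ H := by
      conv_lhs => rw [F.uu_eq]
      exact iSup_le fun i v hv => ⟨F.le_uu i hv, F.vsq i v hv⟩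
    exact h2 ha
  exact fun a ha => (h1 a ha).2

/-- `M` permutes the lines. -/
theorem Fam.perm (h : Div S) (F : Fam S L k V x) {m : G} (hm : m ∈ normalizer (uu S : Set G))
    (i : Fin n) : ∃ j, (V i).map (MulAut.conj m).toMonoidHom = V j := by
  obtain ⟨L', ⟨-, k', hk'⟩, h2⟩ :=
    LemXPerm.perm (h.loc_uu (F.blk i)) (F.mem_blocks h i) hm
  obtain ⟨j, hj⟩ := F.surj L' k' hk'
  exact ⟨j, by rw [← F.vl i, h2, hj]⟩

/-- An element acting fixed-point-freely on `V i` and trivially on the other `V j`. -/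
theorem Fam.exists_y (h : Div S) (F : Fam S L k V x) (i : Fin n) :
    ∃ y ∈ L i, (∀ v ∈ V i, y * v * y⁻¹ = v → v = 1) ∧ (∀ v ∈ V i, y ^ 3 * v * (y ^ 3)⁻¹ = v) ∧
      ∀ j, j ≠ i → ∀ v ∈ V j, y * v = v * y := by
  obtain ⟨y, hy, hy1, -, -, hfix, hcube⟩ := (F.blk i).dih
  rw [F.vl i] at hfix hcube
  obtain ⟨W, J, m, V', σ, hV', hσ, hv⟩ := F.exists_gff h i
  refine ⟨y, hy, hfix, hcube, fun j hj v hvj => ?_⟩
  have h1 : L i ≤ normalizer (V' (σ j) : Set G) :=
    LemX.nV hV' (h.blk_le (F.blk i)) (F.blk i) (σ j)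
  rw [← hv j] at h1
  have h2 : y * x j * y⁻¹ = x j := rl_conj (F.mem_rl h hj) hy
  have h3 := Four.sq_mem_cent (F.card j) (F.vsq j) (F.xV j) (F.x1 j) (h1 hy) h2
  have h4 : y ∈ centralizer (V j : Set G) := mem_of_sq_mem hy1 h3
  exact (mem_centralizer_iff.mp h4 v hvj).symm

/-- An element of `jj S` acting nontrivially on `V i` and trivially on the other `V j`. -/
theorem Fam.exists_t (h : Div S) (F : Fam S L k V x) (i : Fin n) :
    ∃ t ∈ jj (S : Subgroup G), (∃ v ∈ V i, t * v * t⁻¹ ≠ v) ∧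
      ∀ j, j ≠ i → ∀ v ∈ V j, t * v = v * t := by
  obtain ⟨W, J, m, V', σ, hV', hσ, hv⟩ := F.exists_gff h i
  obtain ⟨t, ht, h1, h2⟩ := hV'.t (σ i)
  refine ⟨t, ht, by rwa [hv i], fun j hj v hvj => ?_⟩
  rw [hv j] at hvj
  exact h2 (σ j) (fun h0 => hj (hσ h0)) v hvj

/-- `S` permutes the points along with the lines. -/
theorem Fam.conj_x (F : Fam S L k V x) {s : G} (hs : s ∈ (S : Subgroup G)) {i j : Fin n}
    (hij : (V i).map (MulAut.conj s).toMonoidHom = V j) : s * x i * s⁻¹ = x j := by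
  refine (F.pt j).unique (F.blk j) ⟨?_, ?_, fun h0 => F.x1 i (conj_eq_one_iff.mp h0)⟩
  · rw [F.vl j, ← hij]
    exact ⟨x i, F.xV i, rfl⟩
  · exact Four.conj_mem (normalizer_le_normalizer_zc _ (le_normalizer_bau _ hs)) (F.xz i)

/-! ### Centralizers of elements of non-full support -/

/-- Elements of `∏_{j ∈ s} V j` are conjugate in `M` to products of points. -/
theorem Fam.exists_conj (h : Div S) (F : Fam S L k V x) (s : Finset (Fin n)) :
    ∀ u ∈ ⨆ j ∈ s, V j, ∃ m ∈ normalizer (uu S : Set G),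
      (∀ j, j ∉ s → ∀ v ∈ V j, m * v * m⁻¹ = v) ∧
      m * u * m⁻¹ ∈ closure (x '' (s : Set (Fin n))) := by
  classical
  induction s using Finset.induction_on with
  | empty =>
    intro u hu
    have h1 : u = 1 := by simpa using hu
    exact ⟨1, one_mem _, fun j _ v _ => by group, by rw [h1]; simp [one_mem]⟩
  | insert a s ha ih =>
    intro u hu
    rw [Finset.iSup_insert] at hu
    have hsU : (⨆ j ∈ s, V j) ≤ uu S := iSup₂_le fun j _ => F.le_uu j
    rw [BlkFam.mem_sup_of_comm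
      (fun r hr v hv => F.comm h r (F.le_uu a hr) v (hsU hv))] at hu
    obtain ⟨v, hv, w, hw, rfl⟩ := hu
    obtain ⟨m, hm, hm1, hm2⟩ := ih w hw
    have hmv := hm1 a ha v hv
    -- an element `p` with `p v p⁻¹ ∈ {1, x a}`, trivial on the other `V j`
    obtain ⟨p, hp, hpv, hpj⟩ : ∃ p ∈ normalizer (uu S : Set G),
        (p * v * p⁻¹ = 1 ∨ p * v * p⁻¹ = x a) ∧ ∀ j, j ≠ a → ∀ v ∈ V j, p * v * p⁻¹ = v := by
      by_cases hv1 : v = 1
      · exact ⟨1, one_mem _, Or.inl (by rw [hv1]; group), fun j _ v _ => by group⟩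
      obtain ⟨y, hy, hfix, hcube, hj⟩ := F.exists_y h a
      have hyM := h.blk_le (F.blk a) hy
      have hj' : ∀ j, j ≠ a → ∀ v ∈ V j, y * v * y⁻¹ = v := fun j h0 v hv =>
        Four.conj_eq_iff_comm.mpr (hj j h0 v hv)
      have hyV : y ∉ centralizer (V a : Set G) := fun h0 =>
        F.x1 a (hfix _ (F.xV a) (Four.mem_cent_iff.1 h0 _ (F.xV a)))
      rcases Four.cyc_trans (F.card a) (F.vsq a) (F.LV a hy) hyV (Four.mem_cent_iff.2 hcube) hv hv1
        (F.xV a) (F.x1 a) with h1 | h1 | h1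
      · exact ⟨1, one_mem _, Or.inr (by rw [h1]; group), fun j _ v _ => by group⟩
      · exact ⟨y, hyM, Or.inr h1.symm, hj'⟩
      · refine ⟨y⁻¹, inv_mem hyM, Or.inr (by rw [h1]; group), fun j h0 v hv => ?_⟩
        calc y⁻¹ * v * y⁻¹⁻¹ = y⁻¹ * (y * v * y⁻¹) * y := by rw [hj' j h0 v hv]; group
          _ = v := by group
    refine ⟨p * m, mul_mem hp hm, fun j hj v' hv' => ?_, ?_⟩
    · rw [Finset.mem_insert, not_or] at hj
      calc p * m * v' * (p * m)⁻¹ = p * (m * v' * m⁻¹) * p⁻¹ := by group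
        _ = v' := by rw [hm1 j hj.2 v' hv', hpj j hj.1 v' hv']
    · have hw' : p * (m * w * m⁻¹) * p⁻¹ = m * w * m⁻¹ := by
        have h1 : closure (x '' (s : Set (Fin n))) ≤ centralizer ({p} : Set G) := by
          rw [closure_le]
          rintro _ ⟨j, hj, rfl⟩
          have hja : j ≠ a := by
            rintro rfl
            exact ha hj
          change x j ∈ centralizer ({p} : Set G)
          rw [mem_centralizer_singleton_iff]
          exact (Four.conj_eq_iff_comm.mp (hpj j hja _ (F.xV j))).symm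
        have h2 := mem_centralizer_singleton_iff.mp (h1 hm2)
        exact Four.conj_eq_iff_comm.mpr h2.symm
      have e : p * m * (v * w) * (p * m)⁻¹ = (p * (m * v * m⁻¹) * p⁻¹) *
          (p * (m * w * m⁻¹) * p⁻¹) := by group
      rw [e, hw', hmv]
      have hsub : closure (x '' (s : Set (Fin n))) ≤
          closure (x '' ((insert a s : Finset (Fin n)) : Set (Fin n))) := by
        refine closure_mono (Set.image_mono ?_)
        rw [Finset.coe_insert]
        exact Set.subset_insert _ _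
      refine mul_mem ?_ (hsub hm2)
      rcases hpv with h1 | h1
      · rw [h1]; exact one_mem _
      · rw [h1]
        exact subset_closure ⟨a, by simp, rfl⟩

/-- `C_G(u) ≤ M` for `1 ≠ u ∈ ∏_{j ≠ i} V j`. -/
theorem Fam.cent_le (h : Div S) (F : Fam S L k V x) (i : Fin n) {u : G}
    (hu : u ∈ (⨆ j : {j : Fin n // j ≠ i}, V j : Subgroup G)) (hu1 : u ≠ 1) :
    centralizer ({u} : Set G) ≤ normalizer (uu S : Set G) := by
  classical
  have h1 : u ∈ ⨆ j ∈ Finset.univ.erase i, V j := by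
    refine (iSup_le fun j => ?_ : (⨆ j : {j : Fin n // j ≠ i}, V j : Subgroup G) ≤ _) hu
    exact le_iSup₂_of_le (j : Fin n) (Finset.mem_erase.mpr ⟨j.2, Finset.mem_univ _⟩) le_rfl
  obtain ⟨m, hm, -, hm2⟩ := F.exists_conj h _ u h1
  have h2 : m * u * m⁻¹ ∈ rl (bau (S : Subgroup G)) (L i) := by
    refine (closure_le _).mpr ?_ hm2
    rintro _ ⟨j, hj, rfl⟩
    have : j ≠ i := (Finset.mem_erase.mp (Finset.mem_coe.mp hj)).1
    exact F.mem_rl h this
  have h3 : m * u * m⁻¹ ≠ 1 := fun h0 => hu1 (conj_eq_one_iff.mp h0)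
  have h4 := h.centralizer_rl_le (F.blk i) h2 h3
  intro g hg
  rw [mem_centralizer_singleton_iff] at hg
  have h5 : m * g * m⁻¹ ∈ normalizer (uu S : Set G) := by
    refine h4 ?_
    rw [mem_centralizer_singleton_iff]
    calc m * g * m⁻¹ * (m * u * m⁻¹) = m * (g * u) * m⁻¹ := by group
      _ = m * (u * g) * m⁻¹ := by rw [hg]
      _ = m * u * m⁻¹ * (m * g * m⁻¹) := by group
  have e : g = m⁻¹ * (m * g * m⁻¹) * m := by group
  rw [e]
  exact mul_mem (mul_mem (inv_mem hm) h5) hm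

end Cfsg.Agent.MinSimple.CaseDiv
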