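import Cfsg.Agent.MinSimple.CaseDivBase

/-!
# The case division: `rl B L` is determined by `vl B L`

`S` Sylow 2-subgroup of `G`, `B = bau S`. Two blocks `L`, `L'` over `B` with the same line `V` have
the same centralizer `rl B L` in `Ω₁(Z(B))`: with `K = ⟨L, L'⟩` and `W = Ω₁(Z(B)) V`, the group
`C_K(V) / C_K(W)` is a 2-group, so its elements are induced by elements normalizing `B`; for
`n ∈ C_K(V)` and `r ∈ rl B L` the commutator `[n, r]` lies in `⟨z⟩ ∩ ⟨z ^ l⟩ = 1`.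
-/

set_option autoImplicit false

namespace Cfsg.Agent.MinSimple.CaseDiv

open Subgroup Cfsg Cfsg.Agent.ZN Cfsg.Agent.MinSimple
open Cfsg.Agent.MinSimple.DBlkApi Cfsg.Agent.MinSimple.LemX
open scoped commutatorElement

universe u

variable {G : Type u} [Group G]

/-- `D = (C ∩ D)(T ∩ D)`, elementwise, for normal subgroups `C, D` of `X` with `D / (C ∩ D)` a 2-group. -/
theorem exists_mul_of_pow [Finite G] {X T C D : Subgroup G} (hTX : T ≤ X) (hT : IsPGroup 2 T)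
    (hTs : ¬ 2 ∣ T.relIndex X) (hDX : D ≤ X) (hD : X ≤ normalizer (D : Set G))
    (hC : X ≤ normalizer (C : Set G)) (h : ∀ x ∈ D, ∃ k : ℕ, x ^ 2 ^ k ∈ C) {x : G} (hx : x ∈ D) :
    ∃ c ∈ C, ∃ t ∈ T, x = c * t := by
  have hf : Fact (Nat.Prime 2) := ⟨Nat.prime_two⟩
  have h1 : IsPGroup 2 (T.subgroupOf X) := hT.comap_of_injective _ X.subtype_injective
  have hn : (D.subgroupOf X).Normal := normal_subgroupOf_of_le_normalizer hD
  have hXC : X ≤ normalizer ((X ⊓ C : Subgroup G) : Set G) :=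
    (le_inf le_normalizer hC).trans inf_normalizer_le_normalizer_inf
  have hn2 : ((X ⊓ C).subgroupOf X).Normal := normal_subgroupOf_of_le_normalizer hXC
  have h2 := Lib.SylowNormalInf.le_sup_inf (h1.toSylow hTs : Sylow 2 X)
    (D.subgroupOf X) ((X ⊓ C).subgroupOf X) (fun x hx => by
      obtain ⟨k, hk⟩ := h x hx
      exact ⟨k, (x ^ 2 ^ k).2, hk⟩)
  have h3 : (⟨x, hDX hx⟩ : X) ∈ (D.subgroupOf X) := hx
  have h4 := h2 h3
  rw [mem_sup_of_normal_left] at h4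
  obtain ⟨c, hc, t, ht, hct⟩ := h4
  exact ⟨c, hc.2, t, ht.1, (congrArg Subtype.val hct).symm⟩

/-- `L` induces the full automorphism group on its line. -/
theorem exists_same_action {B L : Subgroup G} {k : ℕ} {z : G} (hk : IsDBlk B L k)
    (hz : IsPt B L z) {g : G} (hg : g ∈ normalizer (vl B L : Set G)) :
    ∃ l ∈ L, l⁻¹ * g ∈ centralizer (vl B L : Set G) := by
  obtain ⟨y, hy, -, -, -, hfix, hcube⟩ := hk.dih
  have hsq := vl_sq hk
  have hcard := hk.card_vl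
  have hLV := le_normalizer_vl B L
  have hyV : y ∉ centralizer (vl B L : Set G) := fun h0 =>
    hz.2.2 (hfix z hz.1 (Four.mem_cent_iff.1 h0 z hz.1))
  have hy3 : y ^ 3 ∈ centralizer (vl B L : Set G) := Four.mem_cent_iff.2 hcube
  have hgz : g * z * g⁻¹ ∈ vl B L := Four.conj_mem hg hz.1
  have hgz1 : g * z * g⁻¹ ≠ 1 := fun h0 => hz.2.2 (conj_eq_one_iff.mp h0)
  -- an element `l₁` of `L` with `l₁ z l₁⁻¹ = g z g⁻¹`
  obtain ⟨l₁, hl₁, hl⟩ : ∃ l ∈ L, l * z * l⁻¹ = g * z * g⁻¹ := by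
    rcases Four.cyc_trans hcard hsq (hLV hy) hyV hy3 hz.1 hz.2.2 hgz hgz1 with h1 | h1 | h1
    · exact ⟨1, one_mem _, by rw [h1]; group⟩
    · exact ⟨y, hy, h1.symm⟩
    · exact ⟨y⁻¹, inv_mem hy, by rw [h1]; group⟩
  set h := l₁⁻¹ * g with hh
  have hhz : h * z * h⁻¹ = z := by
    calc h * z * h⁻¹ = l₁⁻¹ * (g * z * g⁻¹) * l₁ := by rw [hh]; group
      _ = l₁⁻¹ * (l₁ * z * l₁⁻¹) * l₁ := by rw [hl]
      _ = z := by group
  have hhV : h ∈ normalizer (vl B L : Set G) := mul_mem (inv_mem (hLV hl₁)) hg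
  obtain ⟨v, hv, hv1, hvz⟩ := Four.exists_other hcard z
  rcases Four.fix_dichotomy hcard hsq hz.1 hv hz.2.2 hv1 hvz.symm hhV hhz with h1 | h1
  · exact ⟨l₁, hl₁, Four.cent_of_two hcard hsq hz.1 hv hz.2.2 hv1 hvz.symm hhz h1⟩
  · obtain ⟨b, hb, hbQ⟩ := exists_b hk
    have h2 := conj_eq hk hz hv hv1 hvz hb hbQ
    have h3 := hz.conj hb
    refine ⟨l₁ * b, mul_mem hl₁ (hk.le hb), ?_⟩
    have e : (l₁ * b)⁻¹ * g = b⁻¹ * h := by rw [hh]; group
    rw [e]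
    refine Four.cent_of_two hcard hsq hz.1 hv hz.2.2 hv1 hvz.symm ?_ ?_
    · calc b⁻¹ * h * z * (b⁻¹ * h)⁻¹ = b⁻¹ * (h * z * h⁻¹) * b := by group
        _ = b⁻¹ * (b * z * b⁻¹) * b := by rw [hhz, h3]
        _ = z := by group
    · calc b⁻¹ * h * v * (b⁻¹ * h)⁻¹ = b⁻¹ * (h * v * h⁻¹) * b := by group
        _ = b⁻¹ * (b * v * b⁻¹) * b := by rw [h1, h2]
        _ = v := by group

/-- the elements acting trivially on `W / V`. -/
def quo (W V : Subgroup G) : Subgroup G where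
  carrier := {g | g ∈ normalizer (W : Set G) ∧ ∀ w ∈ W, g * w * g⁻¹ * w⁻¹ ∈ V}
  one_mem' := ⟨one_mem _, fun w _ => by simp⟩
  mul_mem' := by
    rintro g h ⟨hg, hg'⟩ ⟨hh, hh'⟩
    refine ⟨mul_mem hg hh, fun w hw => ?_⟩
    have h1 := hg' _ (Four.conj_mem hh hw)
    have e : g * h * w * (g * h)⁻¹ * w⁻¹ =
        (g * (h * w * h⁻¹) * g⁻¹ * (h * w * h⁻¹)⁻¹) * (h * w * h⁻¹ * w⁻¹) := by group
    rw [e]
    exact V.mul_mem h1 (hh' w hw)
  inv_mem' := by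
    rintro g ⟨hg, hg'⟩
    refine ⟨inv_mem hg, fun w hw => ?_⟩
    have h1 := hg' _ (Four.conj_mem' hg hw)
    have e : g⁻¹ * w * g⁻¹⁻¹ * w⁻¹ = (g * (g⁻¹ * w * g) * g⁻¹ * (g⁻¹ * w * g)⁻¹)⁻¹ := by group
    rw [e]
    exact V.inv_mem h1

theorem le_quo (B L : Subgroup G) : L ≤ quo (zl B L) (vl B L) := fun l hl =>
  ⟨le_normalizer_zl B L hl, fun w hw => by
    have h1 : ⁅w⁻¹, l⁆ ∈ vl B L := commutator_mem_commutator (inv_mem hw) hl
    have h2 : ⁅w, l⁻¹⁆ ∈ vl B L := commutator_mem_commutator hw (inv_mem hl)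
    have h3 : w * l⁻¹ * w⁻¹ * l ∈ vl B L := by
      have e : ⁅w, l⁻¹⁆ = w * l⁻¹ * w⁻¹ * l := by rw [commutatorElement_def]; group
      rwa [e] at h2
    have h4 := Four.conj_mem (le_normalizer_vl B L hl) (inv_mem h3)
    have h5 : l * (w * l⁻¹ * w⁻¹ * l)⁻¹ * l⁻¹ = w * l * w⁻¹ * l⁻¹ := by group
    rw [h5] at h4
    have e : l * w * l⁻¹ * w⁻¹ = (w * l * w⁻¹ * l⁻¹)⁻¹ := by group
    rw [e]
    exact inv_mem h4⟩

variable [Finite G]

/-- **`rl B L` is determined by `vl B L`.** -/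
theorem rl_le_rl (S : Sylow 2 G) {L L' : Subgroup G} {k k' : ℕ}
    (hk : IsDBlk (bau (S : Subgroup G)) L k) (hk' : IsDBlk (bau (S : Subgroup G)) L' k')
    (hV : vl (bau (S : Subgroup G)) L = vl (bau (S : Subgroup G)) L') :
    rl (bau (S : Subgroup G)) L ≤ rl (bau (S : Subgroup G)) L' := by
  set B := bau (S : Subgroup G) with hB
  obtain ⟨z, hz⟩ := exists_pt hk
  -- `W = zl B L = zl B L'`
  have hW : zl B L = zl B L' := by
    have aux : ∀ {L₁ L₂ : Subgroup G} {k₁ : ℕ}, IsDBlk B L₁ k₁ → vl B L₁ = vl B L₂ →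
        zl B L₁ ≤ zl B L₂ := by
      intro L₁ L₂ k₁ h1 h2
      rw [← h1.sup_eq]
      exact sup_le ((rl_le_zc _ _).trans zc_le_zl) (h2 ▸ vl_le_zl B L₂)
    exact le_antisymm (aux hk hV) (aux hk' hV.symm)
  set K := L ⊔ L' with hK
  have hLK : L ≤ K := le_sup_left
  have hL'K : L' ≤ K := le_sup_right
  have hKV : K ≤ normalizer (vl B L : Set G) :=
    sup_le (le_normalizer_vl B L) (by rw [hV]; exact le_normalizer_vl B L')
  have hKW : K ≤ quo (zl B L) (vl B L) :=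
    sup_le (le_quo B L) (by rw [hV, hW]; exact le_quo B L')
  obtain ⟨T, hT, hBT⟩ := ChoiceSit.exists_syl (isPGroup_bau' S) (hk.le.trans hLK)
  have hTB := SamePt.le_normalizer S hT.2.1 hBT
  set N := K ⊓ centralizer (vl B L : Set G) with hN
  have hKN : K ≤ normalizer (N : Set G) :=
    (le_inf le_normalizer (hKV.trans (DBlkReduce.nc _))).trans inf_normalizer_le_normalizer_inf
  have hKC : K ≤ normalizer (centralizer (zl B L : Set G) : Set G) :=
    (hKW.trans (fun g hg => hg.1)).trans (DBlkReduce.nc _)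
  -- the squares of the elements of `N` centralize `W`
  have hsq : ∀ n ∈ N, ∃ k : ℕ, n ^ 2 ^ k ∈ centralizer (zl B L : Set G) := by
    intro n hn
    refine ⟨1, ?_⟩
    rw [pow_one, pow_two, Four.mem_cent_iff]
    intro w hw
    have h1 : n * w * n⁻¹ * w⁻¹ ∈ vl B L := (hKW hn.1).2 w hw
    have h2 := Four.mem_cent_iff.1 hn.2 _ h1
    have h3 := vl_sq hk _ h1
    rw [pow_two] at h3
    set v := n * w * n⁻¹ * w⁻¹ with hv
    have h4 : n * w * n⁻¹ = v * w := by rw [hv]; group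
    calc n * n * w * (n * n)⁻¹ = n * (n * w * n⁻¹) * n⁻¹ := by group
      _ = n * (v * w) * n⁻¹ := by rw [h4]
      _ = (n * v * n⁻¹) * (n * w * n⁻¹) := by group
      _ = v * v * w := by rw [h2, h4]; group
      _ = w := by rw [h3, one_mul]
  -- the commutators `[n, r]`, `r ∈ Ω₁(Z(B))`
  have hcom : ∀ n ∈ N, ∀ r ∈ zc B, n * r * n⁻¹ * r⁻¹ = 1 ∨ n * r * n⁻¹ * r⁻¹ = z := by
    intro n hn r hr
    obtain ⟨c, hc, t, ht, rfl⟩ := exists_mul_of_pow hT.1 hT.2.1 (ChoiceSit.syl_not_dvd hT)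
      inf_le_left hKN hKC hsq hn
    have h1 : t * r * t⁻¹ ∈ zc B := Four.conj_mem (normalizer_le_normalizer_zc B (hTB ht)) hr
    have h2 : (c * t) * r * (c * t)⁻¹ = t * r * t⁻¹ := by
      calc (c * t) * r * (c * t)⁻¹ = c * (t * r * t⁻¹) * c⁻¹ := by group
        _ = t * r * t⁻¹ := Four.mem_cent_iff.1 hc _ (zc_le_zl h1)
    refine eq_of_mem hk hz ((hKW hn.1).2 r (zc_le_zl hr)) ?_
    rw [h2]
    exact mul_mem h1 (inv_mem hr)
  obtain ⟨l, hl, hlz⟩ := moves hk hz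
  -- `N` centralizes `rl B L`
  have hNr : ∀ n ∈ N, ∀ r ∈ rl B L, n * r * n⁻¹ = r := by
    intro n hn r hr
    have hr' := rl_le_zc _ _ hr
    have h1 := hcom n hn r hr'
    have h2 := hcom (l⁻¹ * n * l) (Four.conj_mem' (hKN (hLK hl)) hn) r hr'
    have h3 : l * r * l⁻¹ = r := rl_conj hr hl
    have h4 : l⁻¹ * r * l = r := by
      calc l⁻¹ * r * l = l⁻¹ * (l * r * l⁻¹) * l := by rw [h3]
        _ = r := by group
    have h5 : n * r * n⁻¹ * r⁻¹ =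
        l * ((l⁻¹ * n * l) * r * (l⁻¹ * n * l)⁻¹ * r⁻¹) * l⁻¹ := by
      calc n * r * n⁻¹ * r⁻¹ = n * (l * r * l⁻¹) * n⁻¹ * (l * r * l⁻¹)⁻¹ := by rw [h3]
        _ = _ := by group
    have h6 : n * r * n⁻¹ * r⁻¹ = 1 := by
      rcases h1 with h1 | h1
      · exact h1
      · rcases h2 with h2 | h2
        · rw [h5, h2]; group
        · exfalso
          apply hlz
          rw [h2, h1] at h5
          exact h5.symm
    calc n * r * n⁻¹ = (n * r * n⁻¹ * r⁻¹) * r := by group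
      _ = r := by rw [h6, one_mul]
  intro r hr
  refine ⟨rl_le_zc _ _ hr, mem_centralizer_iff.2 fun l' hl' => ?_⟩
  obtain ⟨l₁, hl₁, hc⟩ := exists_same_action hk hz (hKV (hL'K hl'))
  have h1 := hNr _ ⟨K.mul_mem (K.inv_mem (hLK hl₁)) (hL'K hl'), hc⟩ r hr
  have h2 := rl_conj hr hl₁
  refine Four.conj_eq_iff_comm.1 ?_
  calc l' * r * l'⁻¹ = l₁ * ((l₁⁻¹ * l') * r * (l₁⁻¹ * l')⁻¹) * l₁⁻¹ := by group
    _ = r := by rw [h1, h2]

theorem rl_eq_rl (S : Sylow 2 G) {L L' : Subgroup G} {k k' : ℕ}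
    (hk : IsDBlk (bau (S : Subgroup G)) L k) (hk' : IsDBlk (bau (S : Subgroup G)) L' k')
    (hV : vl (bau (S : Subgroup G)) L = vl (bau (S : Subgroup G)) L') :
    rl (bau (S : Subgroup G)) L = rl (bau (S : Subgroup G)) L' :=
  le_antisymm (rl_le_rl S hk hk' hV) (rl_le_rl S hk' hk hV.symm)

end Cfsg.Agent.MinSimple.CaseDiv
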