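import Cfsg.Agent.MinSimple.PushOneModel
import Cfsg.Agent.S0111
import Mathlib.GroupTheory.Nilpotent
import Mathlib.GroupTheory.Sylow

set_option autoImplicit false

/-! # Core theorem T, case C1, `k = 1`, `T ≃ D₈ × Z₂`

Let `S` be a Sylow 2-subgroup of the finite group `G`, `a, c, s ∈ S`, `b = s⁻¹ a s`, `v = (a b)²`, such that
`T = ⟨a, b, c⟩` is `D₈ × Z₂` with `s² ∈ T`, `c ^ s = c v`, `a` conjugate to `v`, and every 2-subgroup centralising `c`
has order at most 16.  Then `S = ⟨T, s⟩ ≃ Hol(Z₈)` and by Thompson's transfer lemma `G` has a normal subgroup of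
index two. -/

namespace Cfsg.Agent.MinSimple.PushOne

open PushOneModel

variable {G : Type*} [Group G]

/-- The normalised relations (`s` an involution). -/
structure Rel (a c s v : G) : Prop where
  a2 : a * a = 1
  c2 : c * c = 1
  s2 : s * s = 1
  ac : a * c = c * a
  bc : (s * a * s) * c = c * (s * a * s)
  v_def : v = (a * (s * a * s)) * (a * (s * a * s))
  va : v * a = a * v
  v1 : v ≠ 1
  cs : s * c * s = c * v

section hom

theorem X_add {x : G} (hx : x ^ 8 = 1) (i j : ZMod 8) :
    x ^ ((i + j).val) = x ^ i.val * x ^ j.val := by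
  rw [ZMod.val_add, ← pow_eq_pow_mod _ hx, pow_add]

theorem X_mul {x : G} (hx : x ^ 8 = 1) (i j : ZMod 8) :
    x ^ ((i * j).val) = x ^ (i.val * j.val) := by
  rw [ZMod.val_mul, ← pow_eq_pow_mod _ hx]

theorem A_add {x : G} (hx : x ^ 2 = 1) (i j : ZMod 2) :
    x ^ ((i + j).val) = x ^ i.val * x ^ j.val := by
  rw [ZMod.val_add, ← pow_eq_pow_mod _ hx, pow_add]

theorem conj_pow' {h x : G} {m : ℕ} (hh : h * x = x ^ m * h) (n : ℕ) : h * x ^ n = x ^ (m * n) * h := by
  induction n with
  | zero => simp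
  | succ n ih =>
    rw [pow_succ, ← mul_assoc, ih, mul_assoc, hh, ← mul_assoc, ← pow_add]
    congr 2

variable {a c x : G} (hx : x ^ 8 = 1) (ha : a ^ 2 = 1) (hc : c ^ 2 = 1) (hac : a * c = c * a)
  (hax : a * x = x ^ 7 * a) (hcx : c * x = x ^ 5 * c)

include hx hax hcx in
theorem swap (j k : ZMod 2) (n : ℕ) :
    a ^ j.val * c ^ k.val * x ^ n = x ^ ((u j k).val * n) * (a ^ j.val * c ^ k.val) := by
  fin_cases j <;> fin_cases k
  · have h1 : (u (0 : ZMod 2) (0 : ZMod 2)).val = 1 := by decide
    change a ^ (0 : ZMod 2).val * c ^ (0 : ZMod 2).val * x ^ n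
      = x ^ ((u (0 : ZMod 2) (0 : ZMod 2)).val * n) * (a ^ (0 : ZMod 2).val * c ^ (0 : ZMod 2).val)
    rw [h1, show (0 : ZMod 2).val = 0 from rfl, pow_zero, pow_zero, one_mul, one_mul, one_mul, mul_one]
  · have h1 : (u (0 : ZMod 2) (1 : ZMod 2)).val = 5 := by decide
    change a ^ (0 : ZMod 2).val * c ^ (1 : ZMod 2).val * x ^ n
      = x ^ ((u (0 : ZMod 2) (1 : ZMod 2)).val * n) * (a ^ (0 : ZMod 2).val * c ^ (1 : ZMod 2).val)
    rw [h1, show (0 : ZMod 2).val = 0 from rfl, show (1 : ZMod 2).val = 1 from rfl, pow_zero, one_mul, pow_one]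
    exact conj_pow' hcx n
  · have h1 : (u (1 : ZMod 2) (0 : ZMod 2)).val = 7 := by decide
    change a ^ (1 : ZMod 2).val * c ^ (0 : ZMod 2).val * x ^ n
      = x ^ ((u (1 : ZMod 2) (0 : ZMod 2)).val * n) * (a ^ (1 : ZMod 2).val * c ^ (0 : ZMod 2).val)
    rw [h1, show (0 : ZMod 2).val = 0 from rfl, show (1 : ZMod 2).val = 1 from rfl, pow_zero, mul_one, pow_one]
    exact conj_pow' hax n
  · have h1 : (u (1 : ZMod 2) (1 : ZMod 2)).val = 3 := by decide
    change a ^ (1 : ZMod 2).val * c ^ (1 : ZMod 2).val * x ^ n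
      = x ^ ((u (1 : ZMod 2) (1 : ZMod 2)).val * n) * (a ^ (1 : ZMod 2).val * c ^ (1 : ZMod 2).val)
    rw [h1, show (1 : ZMod 2).val = 1 from rfl, pow_one, pow_one, mul_assoc, conj_pow' hcx n, ← mul_assoc,
      conj_pow' hax (5 * n), mul_assoc]
    congr 1
    rw [show 7 * (5 * n) = 3 * n + 8 * (4 * n) by ring, pow_add, pow_mul x 8, hx, one_pow, mul_one]

/-- The homomorphism from the model. -/
def hom : M →* G where
  toFun p := x ^ p.i.val * (a ^ p.j.val * c ^ p.k.val)
  map_one' := by simp [one_def]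
  map_mul' p q := by
    rw [mul_def]
    simp only
    rw [X_add hx, X_mul hx, A_add ha, A_add hc]
    have hs := swap hx hax hcx p.j p.k q.i.val
    have hcomm : ∀ m n : ℕ, c ^ m * a ^ n = a ^ n * c ^ m := fun m n =>
      ((show Commute c a from hac.symm).pow_pow m n)
    calc x ^ p.i.val * x ^ ((u p.j p.k).val * q.i.val) * (a ^ p.j.val * a ^ q.j.val * (c ^ p.k.val * c ^ q.k.val))
        = x ^ p.i.val * x ^ ((u p.j p.k).val * q.i.val) * (a ^ p.j.val * (a ^ q.j.val * c ^ p.k.val) * c ^ q.k.val) := by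
          group
      _ = x ^ p.i.val * x ^ ((u p.j p.k).val * q.i.val) * (a ^ p.j.val * (c ^ p.k.val * a ^ q.j.val) * c ^ q.k.val) := by
          rw [hcomm]
      _ = x ^ p.i.val * (x ^ ((u p.j p.k).val * q.i.val) * (a ^ p.j.val * c ^ p.k.val)) * (a ^ q.j.val * c ^ q.k.val) := by
          simp only [mul_assoc]
      _ = x ^ p.i.val * (a ^ p.j.val * c ^ p.k.val * x ^ q.i.val) * (a ^ q.j.val * c ^ q.k.val) := by rw [hs]
      _ = x ^ p.i.val * (a ^ p.j.val * c ^ p.k.val) * (x ^ q.i.val * (a ^ q.j.val * c ^ q.k.val)) := by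
          simp only [mul_assoc]

theorem hom_a : hom hx ha hc hac hax hcx aM = a := by
  change x ^ (0 : ZMod 8).val * (a ^ (1 : ZMod 2).val * c ^ (0 : ZMod 2).val) = a
  rw [show (0 : ZMod 8).val = 0 from rfl, show (0 : ZMod 2).val = 0 from rfl, show (1 : ZMod 2).val = 1 from rfl]
  simp

theorem hom_c : hom hx ha hc hac hax hcx cM = c := by
  change x ^ (0 : ZMod 8).val * (a ^ (0 : ZMod 2).val * c ^ (1 : ZMod 2).val) = c
  rw [show (0 : ZMod 8).val = 0 from rfl, show (0 : ZMod 2).val = 0 from rfl, show (1 : ZMod 2).val = 1 from rfl]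
  simp

theorem hom_x : hom hx ha hc hac hax hcx xM = x := by
  change x ^ (1 : ZMod 8).val * (a ^ (0 : ZMod 2).val * c ^ (0 : ZMod 2).val) = x
  rw [show (1 : ZMod 8).val = 1 from rfl, show (0 : ZMod 2).val = 0 from rfl]
  simp

theorem hom_v : hom hx ha hc hac hax hcx vM = x ^ 4 := by
  change x ^ (4 : ZMod 8).val * (a ^ (0 : ZMod 2).val * c ^ (0 : ZMod 2).val) = x ^ 4
  rw [show (4 : ZMod 8).val = 4 from rfl, show (0 : ZMod 2).val = 0 from rfl]
  simp

theorem hom_s : hom hx ha hc hac hax hcx sM = x * a := by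
  change x ^ (1 : ZMod 8).val * (a ^ (1 : ZMod 2).val * c ^ (0 : ZMod 2).val) = x * a
  rw [show (1 : ZMod 8).val = 1 from rfl, show (0 : ZMod 2).val = 0 from rfl, show (1 : ZMod 2).val = 1 from rfl]
  simp

theorem hom_injective (h4 : x ^ 4 ≠ 1) : Function.Injective (hom hx ha hc hac hax hcx) := by
  rw [injective_iff_map_eq_one]
  intro p hp
  by_contra hne
  have hv : hom hx ha hc hac hax hcx vM ≠ 1 := by rw [hom_v]; exact h4
  rcases core_v p hne with h | ⟨q, h⟩ | ⟨q, r, h⟩
  · exact hv (h ▸ hp)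
  · apply hv; rw [← h]; simp [hp]
  · apply hv; rw [← h]; simp [hp]

end hom

namespace Rel

variable {a c s v : G}

theorem bb (h : Rel a c s v) : (s * a * s) * (s * a * s) = 1 := by
  calc (s * a * s) * (s * a * s) = s * a * (s * s) * a * s := by group
    _ = s * (a * a) * s := by rw [h.s2]; group
    _ = 1 := by rw [h.a2, mul_one, h.s2]

theorem baba (h : Rel a c s v) : ((s * a * s) * a) * ((s * a * s) * a) = v := by
  have h1 : v * a = a * v := h.va
  have h2 : v = (a * (s * a * s)) * (a * (s * a * s)) := h.v_def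
  have h3 : a * (v * a) = v := by rw [h1, ← mul_assoc, h.a2, one_mul]
  calc ((s * a * s) * a) * ((s * a * s) * a)
      = (a * a) * ((s * a * s) * a) * ((s * a * s) * a) := by rw [h.a2, one_mul]
    _ = a * (((a * (s * a * s)) * (a * (s * a * s))) * a) := by group
    _ = a * (v * a) := by rw [← h2]
    _ = v := h3

theorem x2 (h : Rel a c s v) : (s * a) ^ 2 = (s * a * s) * a := by
  rw [pow_two]; group

theorem x4 (h : Rel a c s v) : (s * a) ^ 4 = v := by
  rw [show 4 = 2 * 2 from rfl, pow_mul, h.x2, pow_two, h.baba]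

theorem vv (h : Rel a c s v) : v * v = 1 := by
  have h1 := h.baba
  have h2 := h.v_def
  calc v * v = ((a * (s * a * s)) * (a * (s * a * s))) * (((s * a * s) * a) * ((s * a * s) * a)) := by
        rw [h1, ← h2]
    _ = (a * (s * a * s)) * a * ((s * a * s) * (s * a * s)) * a * ((s * a * s) * a) := by group
    _ = (a * (s * a * s)) * (a * a) * ((s * a * s) * a) := by rw [h.bb]; group
    _ = a * ((s * a * s) * (s * a * s)) * a := by rw [h.a2]; group
    _ = 1 := by rw [h.bb, mul_one, h.a2]

theorem x8 (h : Rel a c s v) : (s * a) ^ 8 = 1 := by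
  rw [show 8 = 4 * 2 from rfl, pow_mul, h.x4, pow_two, h.vv]

theorem hax (h : Rel a c s v) : a * (s * a) = (s * a) ^ 7 * a := by
  have h1 : (s * a) ^ 7 = a * s := by
    have h8 := h.x8
    rw [show 8 = 7 + 1 from rfl, pow_succ] at h8
    rw [← inv_eq_of_mul_eq_one_left h8, mul_inv_rev, inv_eq_of_mul_eq_one_left h.a2,
      inv_eq_of_mul_eq_one_left h.s2]
  rw [h1]; group

theorem vs (h : Rel a c s v) : v * s = s * v := by
  have h1 : s * v * s = v := by
    calc s * v * s = s * ((a * (s * a * s)) * (a * (s * a * s))) * s := by rw [← h.v_def]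
      _ = ((s * a * s) * (a * ((s * a * s) * (a * (s * s))))) := by group
      _ = ((s * a * s) * a) * ((s * a * s) * a) := by rw [h.s2]; group
      _ = v := h.baba
  calc v * s = s * v * s * s := by rw [h1]
    _ = s * v := by rw [mul_assoc, h.s2, mul_one]

theorem vc (h : Rel a c s v) : v * c = c * v := by
  have h1 : Commute a c := h.ac
  have h2 : Commute (s * a * s) c := h.bc
  have h3 : Commute v c := by
    rw [h.v_def]
    exact (h1.mul_left h2).mul_left (h1.mul_left h2)
  exact h3

theorem hcx (h : Rel a c s v) : c * (s * a) = (s * a) ^ 5 * c := by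
  have h1 : (s * a) ^ 5 = v * (s * a) := by rw [pow_succ, h.x4]
  have h2 : c * s = s * (c * v) := by
    calc c * s = (s * s) * (c * s) := by rw [h.s2, one_mul]
      _ = s * (s * c * s) := by group
      _ = s * (c * v) := by rw [h.cs]
  rw [h1]
  calc c * (s * a) = (c * s) * a := by group
    _ = s * (c * v) * a := by rw [h2]
    _ = s * (v * c) * a := by rw [h.vc]
    _ = (s * v) * (c * a) := by group
    _ = (v * s) * (a * c) := by rw [h.vs, h.ac]
    _ = v * (s * a) * c := by group

/-- The embedding of the model. -/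
def f (h : Rel a c s v) : M →* G :=
  hom h.x8 (by rw [pow_two, h.a2]) (by rw [pow_two, h.c2]) h.ac h.hax h.hcx

theorem f_a (h : Rel a c s v) : h.f aM = a := hom_a _ _ _ _ _ _
theorem f_c (h : Rel a c s v) : h.f cM = c := hom_c _ _ _ _ _ _
theorem f_v (h : Rel a c s v) : h.f vM = v :=
  Eq.trans (hom_v _ _ _ _ _ _) h.x4
theorem f_s (h : Rel a c s v) : h.f sM = s := by
  have : h.f sM = (s * a) * a := hom_s _ _ _ _ _ _
  rw [this, mul_assoc, h.a2, mul_one]
theorem f_inj (h : Rel a c s v) : Function.Injective h.f :=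
  hom_injective _ _ _ _ _ _ (by rw [h.x4]; exact h.v1)

theorem f_mem (h : Rel a c s v) (S : Subgroup G) (ha : a ∈ S) (hc : c ∈ S) (hs : s ∈ S) (p : M) : h.f p ∈ S :=
  mul_mem (pow_mem (mul_mem hs ha) _) (mul_mem (pow_mem ha _) (pow_mem hc _))

section main

variable [Finite G] (S : Sylow 2 G)

theorem card_range (h : Rel a c s v) : Nat.card h.f.range = 32 := by
  rw [Nat.card_congr (MonoidHom.ofInjective h.f_inj).symm.toEquiv, Nat.card_eq_fintype_card, card_M]

/-- the centraliser of `c` in `S` lies in the image of the model. -/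
theorem centralizer_le (h : Rel a c s v) (ha : a ∈ (S : Subgroup G)) (hc : c ∈ (S : Subgroup G))
    (hs : s ∈ (S : Subgroup G))
    (hC : ∀ P : Subgroup G, IsPGroup 2 P → (∀ x ∈ P, x * c = c * x) → Nat.card P ≤ 16)
    {g : G} (hg : g ∈ (S : Subgroup G)) (hgc : g * c = c * g) : g ∈ h.f.range := by
  classical
  set P : Subgroup G := (S : Subgroup G) ⊓ Subgroup.centralizer {c} with hP
  have hP2 : IsPGroup 2 P := S.isPGroup'.to_le inf_le_left
  have hPc : Nat.card P ≤ 16 := hC P hP2 fun x hx => (Subgroup.mem_centralizer_singleton_iff.1 hx.2)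
  set K : Subgroup M := Subgroup.centralizer {cM} with hK
  have hKc : Nat.card K = 16 := by
    rw [Nat.card_eq_fintype_card, Fintype.card_subtype]
    rw [← card_centralizer_c]
    congr 1
    ext z
    simp [hK, Subgroup.mem_centralizer_singleton_iff]
  have hle : K.map h.f ≤ P := by
    rintro _ ⟨z, hz, rfl⟩
    refine ⟨h.f_mem _ ha hc hs z, Subgroup.mem_centralizer_singleton_iff.2 ?_⟩
    have : z * cM = cM * z := Subgroup.mem_centralizer_singleton_iff.1 hz
    have h2 := congrArg h.f this
    rwa [map_mul, map_mul, h.f_c] at h2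
  have hmc : Nat.card (K.map h.f) = 16 := by
    rw [← hKc]
    exact (Nat.card_congr (K.equivMapOfInjective h.f h.f_inj).toEquiv).symm
  have heq : K.map h.f = P := Subgroup.eq_of_le_of_card_ge hle (by rw [hmc]; exact hPc)
  have : g ∈ P := ⟨hg, Subgroup.mem_centralizer_singleton_iff.2 hgc⟩
  rw [← heq] at this
  obtain ⟨z, _, hz⟩ := this
  exact ⟨z, hz⟩

theorem normalizer_le (h : Rel a c s v) (ha : a ∈ (S : Subgroup G)) (hc : c ∈ (S : Subgroup G))
    (hs : s ∈ (S : Subgroup G))
    (hC : ∀ P : Subgroup G, IsPGroup 2 P → (∀ x ∈ P, x * c = c * x) → Nat.card P ≤ 16)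
    {g : G} (hg : g ∈ (S : Subgroup G)) (hgN : ∀ n ∈ h.f.range, g * n * g⁻¹ ∈ h.f.range) : g ∈ h.f.range := by
  classical
  have hex : ∀ z : M, ∃ y : M, h.f y = g * h.f z * g⁻¹ := fun z => hgN _ ⟨z, rfl⟩
  choose φ hφ using hex
  have hinj : Function.Injective φ := by
    intro z w hzw
    apply h.f_inj
    have h1 := hφ z
    rw [hzw, hφ w] at h1
    exact (mul_left_cancel (mul_right_cancel h1)).symm
  have hsurj : Function.Surjective φ := Finite.surjective_of_injective hinj
  set y := φ cM with hy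
  have hyc : h.f y = g * c * g⁻¹ := by rw [hy, hφ, h.f_c]
  have hy2 : y * y = 1 := by
    apply h.f_inj
    rw [map_mul, hyc, map_one]
    calc g * c * g⁻¹ * (g * c * g⁻¹) = g * (c * c) * g⁻¹ := by group
      _ = 1 := by rw [h.c2]; group
  have hy1 : y ≠ 1 := by
    intro h1
    have h2 : g * c * g⁻¹ = 1 := by rw [← hyc, h1, map_one]
    have h3 : c = 1 := by
      have := congrArg (fun t => g⁻¹ * t * g) h2
      simpa [mul_assoc] using this
    have h4 : h.f cM = h.f 1 := h.f_c.trans (h3.trans (map_one h.f).symm)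
    exact absurd (h.f_inj h4) (by decide)
  have hcard : (Finset.univ.filter fun z : M => z * y = y * z).card = 16 := by
    rw [← card_centralizer_c]
    symm
    apply Finset.card_bij (fun z _ => φ z)
    · intro z hz
      simp only [Finset.mem_filter, Finset.mem_univ, true_and] at hz ⊢
      apply h.f_inj
      rw [map_mul, map_mul, hφ, hyc]
      have h2 := congrArg h.f hz
      rw [map_mul, map_mul, h.f_c] at h2
      calc g * h.f z * g⁻¹ * (g * c * g⁻¹) = g * (h.f z * c) * g⁻¹ := by group
        _ = g * (c * h.f z) * g⁻¹ := by rw [h2]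
        _ = g * c * g⁻¹ * (g * h.f z * g⁻¹) := by group
    · intro z _ w _ hzw
      exact hinj hzw
    · intro w hw
      simp only [Finset.mem_filter, Finset.mem_univ, true_and] at hw
      obtain ⟨z, rfl⟩ := hsurj w
      refine ⟨z, ?_, rfl⟩
      simp only [Finset.mem_filter, Finset.mem_univ, true_and]
      apply h.f_inj
      have h2 := congrArg h.f hw
      rw [map_mul, map_mul, hφ, hyc] at h2
      rw [map_mul, map_mul, h.f_c]
      have h3 := congrArg (fun t => g⁻¹ * t * g) h2
      simpa [mul_assoc] using h3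
  rcases centralizer_sixteen y hy2 hy1 hcard with h1 | h1
  · have h2 : g * c * g⁻¹ = c := by rw [← hyc, h1, h.f_c]
    exact h.centralizer_le S ha hc hs hC hg (mul_inv_eq_iff_eq_mul.1 h2)
  · have h2 : g * c * g⁻¹ = c * v := by rw [← hyc, h1, map_mul, h.f_c, h.f_v]
    have h3 : (s * g) * c = c * (s * g) := by
      have h4 : g * c = (s * c * s) * g := by rw [h.cs, ← h2]; group
      calc (s * g) * c = s * (g * c) := by group
        _ = (s * s) * c * (s * g) := by rw [h4]; group
        _ = c * (s * g) := by rw [h.s2, one_mul]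
    have h5 : s * g ∈ h.f.range := h.centralizer_le S ha hc hs hC (mul_mem hs hg) h3
    have h6 : s ∈ h.f.range := ⟨sM, h.f_s⟩
    have h7 := mul_mem h6 h5
    rwa [← mul_assoc, h.s2, one_mul] at h7

/-- `S` is the image of the model. -/
theorem range_eq (h : Rel a c s v) (ha : a ∈ (S : Subgroup G)) (hc : c ∈ (S : Subgroup G))
    (hs : s ∈ (S : Subgroup G))
    (hC : ∀ P : Subgroup G, IsPGroup 2 P → (∀ x ∈ P, x * c = c * x) → Nat.card P ≤ 16) :
    h.f.range = (S : Subgroup G) := by
  have hle : h.f.range ≤ (S : Subgroup G) := by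
    rintro _ ⟨p, rfl⟩
    exact h.f_mem _ ha hc hs p
  by_contra hne
  have hlt : h.f.range < (S : Subgroup G) := lt_of_le_of_ne hle hne
  haveI : Group.IsNilpotent (S : Subgroup G) := S.isPGroup'.isNilpotent
  have hnc := Group.normalizerCondition_of_isNilpotent (G := (S : Subgroup G))
  have h1 : (h.f.range).subgroupOf (S : Subgroup G) < ⊤ := by
    rw [lt_top_iff_ne_top]
    intro htop
    rw [Subgroup.subgroupOf_eq_top] at htop
    exact hne (le_antisymm hle htop)
  obtain ⟨g, hg1, hg2⟩ := SetLike.exists_of_lt (hnc _ h1)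
  apply hg2
  rw [Subgroup.mem_subgroupOf]
  apply h.normalizer_le S ha hc hs hC g.2
  intro n hn
  have h3 := (Subgroup.mem_normalizer_iff.1 hg1 ⟨n, hle hn⟩).1 (by rw [Subgroup.mem_subgroupOf]; exact hn)
  rw [Subgroup.mem_subgroupOf] at h3
  exact h3

end main

end Rel

/-- the subgroup `SD₁₆` of the model. -/
def SD : Subgroup M where
  carrier := {p | inQ p}
  mul_mem' {p q} hp hq := inQ_mul p q hp hq
  one_mem' := inQ_one
  inv_mem' {p} hp := inQ_inv p hp

theorem card_SD : Nat.card SD = 16 := by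
  have : Nat.card SD = Nat.card {p : M // inQ p} := rfl
  rw [this, Nat.card_eq_fintype_card]
  decide +kernel

/-- **C1, k = 1**, normalised form. -/
theorem Rel.exists_index_two [Finite G] (S : Sylow 2 G) {a c s v : G} (h : Rel a c s v)
    (ha : a ∈ (S : Subgroup G)) (hc : c ∈ (S : Subgroup G)) (hs : s ∈ (S : Subgroup G))
    (hfus : ∃ g : G, g * a * g⁻¹ = v)
    (hC : ∀ P : Subgroup G, IsPGroup 2 P → (∀ x ∈ P, x * c = c * x) → Nat.card P ≤ 16) :
    ∃ N : Subgroup G, N.Normal ∧ N.index = 2 := by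
  have hS := h.range_eq S ha hc hs hC
  have hScard : Nat.card (S : Subgroup G) = 32 := by rw [← hS]; exact h.card_range
  set Q : Subgroup G := SD.map h.f with hQ
  have hQle : Q ≤ (S : Subgroup G) := by
    rw [← hS]; rintro _ ⟨p, _, rfl⟩; exact ⟨p, rfl⟩
  have hQcard : Nat.card Q = 16 := by
    rw [← card_SD]
    exact (Nat.card_congr (SD.equivMapOfInjective h.f h.f_inj).toEquiv).symm
  have hrel : Q.relIndex (S : Subgroup G) = 2 := by
    have h1 := (Q.subgroupOf (S : Subgroup G)).card_mul_index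
    rw [Nat.card_congr (Subgroup.subgroupOfEquivOfLe hQle).toEquiv, hQcard, hScard] at h1
    have h2 : Q.relIndex (S : Subgroup G) = (Q.subgroupOf (S : Subgroup G)).index := rfl
    rw [h2]
    omega
  have hc1 : c ≠ 1 := by
    intro h1
    have h4 : h.f cM = h.f 1 := h.f_c.trans (h1.trans (map_one h.f).symm)
    exact absurd (h.f_inj h4) (by decide)
  have hord : orderOf c = 2 := orderOf_eq_prime (by rw [pow_two, h.c2]) hc1
  have hcQ : c ∉ Q := by
    rintro ⟨p, hp, hpc⟩
    have : p = cM := h.f_inj (by rw [hpc, h.f_c])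
    exact not_inQ_c (this ▸ hp)
  rcases Cfsg.Agent.S0111.result S Q hQle hrel c hord hc hcQ with ⟨N, hN, hN2, _⟩ | ⟨g, p, hp, hg⟩
  · exact ⟨N, hN, hN2⟩
  · exfalso
    -- `c` is conjugate to `v`
    have hp2 : p * p = 1 := by
      apply h.f_inj
      rw [map_mul, hg, map_one]
      calc g * c * g⁻¹ * (g * c * g⁻¹) = g * (c * c) * g⁻¹ := by group
        _ = 1 := by rw [h.c2]; group
    have hp1 : p ≠ 1 := by
      intro h1
      rw [h1, map_one] at hg
      apply hc1
      have := congrArg (fun t => g⁻¹ * t * g) hg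
      simpa [mul_assoc] using this.symm
    have hcv : ∃ k : G, k * c * k⁻¹ = v := by
      rcases inQ_involution p hp hp2 hp1 with h1 | ⟨q, h1⟩
      · exact ⟨g, by rw [← hg, h1, h.f_v]⟩
      · obtain ⟨r, hr⟩ := hfus
        refine ⟨r * (h.f q)⁻¹ * g, ?_⟩
        have h2 : h.f q * a * (h.f q)⁻¹ = g * c * g⁻¹ := by
          rw [← hg, ← h1]; simp [h.f_a]
        calc r * (h.f q)⁻¹ * g * c * (r * (h.f q)⁻¹ * g)⁻¹
            = r * (h.f q)⁻¹ * (g * c * g⁻¹) * (h.f q) * r⁻¹ := by group
          _ = r * a * r⁻¹ := by rw [← h2]; group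
          _ = v := hr
    obtain ⟨k, hk⟩ := hcv
    have h1 := hC ((S : Subgroup G).map (MulAut.conj k⁻¹).toMonoidHom) (S.isPGroup'.map _) (by
      rintro _ ⟨t, ht, rfl⟩
      have ht' : t ∈ h.f.range := by rw [hS]; exact ht
      obtain ⟨p, rfl⟩ := ht'
      have h2 : h.f p * v = v * h.f p := by
        have := congrArg h.f (v_central p)
        rwa [map_mul, map_mul, h.f_v] at this
      have h3 : c = k⁻¹ * v * k := by rw [← hk]; group
      simp only [MulEquiv.coe_toMonoidHom, MulAut.conj_apply, inv_inv]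
      calc k⁻¹ * h.f p * k * c = k⁻¹ * h.f p * k * (k⁻¹ * v * k) := congrArg (fun t => k⁻¹ * h.f p * k * t) h3
        _ = k⁻¹ * (h.f p * v) * k := by group
        _ = k⁻¹ * (v * h.f p) * k := by rw [h2]
        _ = k⁻¹ * v * k * (k⁻¹ * h.f p * k) := by group
        _ = c * (k⁻¹ * h.f p * k) := congrArg (fun t => t * (k⁻¹ * h.f p * k)) h3.symm)
    have h2 : Nat.card ((S : Subgroup G).map (MulAut.conj k⁻¹).toMonoidHom) = 32 := by
      rw [← hScard]
      exact (Nat.card_congr ((S : Subgroup G).equivMapOfInjective _ (MulAut.conj k⁻¹).injective).toEquiv).symm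
    omega

section normalise

variable {a b c s v : G}

/-- Relations of `T = ⟨a, b, c⟩`. -/
structure TRel (a b c v : G) : Prop where
  a2 : a * a = 1
  b2 : b * b = 1
  c2 : c * c = 1
  ac : a * c = c * a
  bc : b * c = c * b
  v_def : v = (a * b) * (a * b)
  va : v * a = a * v

namespace TRel

theorem baba (h : TRel a b c v) : (b * a) * (b * a) = v := by
  have h3 : a * (v * a) = v := by rw [h.va, ← mul_assoc, h.a2, one_mul]
  calc (b * a) * (b * a) = (a * a) * (b * a) * (b * a) := by rw [h.a2, one_mul]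
    _ = a * (((a * b) * (a * b)) * a) := by group
    _ = a * (v * a) := by rw [← h.v_def]
    _ = v := h3

theorem vb (h : TRel a b c v) : v * b = b * v := by
  calc v * b = (a * b) * (a * b) * b := by rw [← h.v_def]
    _ = a * b * a * (b * b) := by group
    _ = (b * b) * (a * b * a) := by rw [h.b2]; group
    _ = b * ((b * a) * (b * a)) := by group
    _ = b * v := by rw [h.baba]

theorem vc (h : TRel a b c v) : v * c = c * v := by
  have h1 : Commute a c := h.ac
  have h2 : Commute b c := h.bc
  have h3 : Commute v c := by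
    rw [h.v_def]; exact (h1.mul_left h2).mul_left (h1.mul_left h2)
  exact h3

theorem vv (h : TRel a b c v) : v * v = 1 := by
  calc v * v = ((a * b) * (a * b)) * ((b * a) * (b * a)) := by rw [← h.v_def, h.baba]
    _ = (a * b) * a * (b * b) * a * (b * a) := by group
    _ = (a * b) * (a * a) * (b * a) := by rw [h.b2]; group
    _ = a * (b * b) * a := by rw [h.a2]; group
    _ = 1 := by rw [h.b2, mul_one, h.a2]

theorem ba (h : TRel a b c v) : b * a = a * b * v := by
  calc b * a = (a * b) * ((b * a) * (b * a)) := by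
        calc b * a = (a * a) * (b * a) := by rw [h.a2, one_mul]
          _ = a * (b * b) * a * (b * a) := by rw [h.b2]; group
          _ = (a * b) * ((b * a) * (b * a)) := by group
    _ = a * b * v := by rw [h.baba]

/-- elements of `T` in normal form. -/
def NF (a b c v g : G) : Prop :=
  ∃ d e f : G, (d = 1 ∨ d = a ∨ d = b ∨ d = a * b) ∧ (e = 1 ∨ e = v) ∧ (f = 1 ∨ f = c) ∧ g = d * e * f

theorem nf_mul_v (h : TRel a b c v) {g : G} (hg : NF a b c v g) : NF a b c v (g * v) := by
  obtain ⟨d, e, f, hd, he, hf, rfl⟩ := hg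
  have hfv : f * v = v * f := by
    rcases hf with rfl | rfl
    · simp
    · exact h.vc.symm
  rcases he with rfl | rfl
  · exact ⟨d, v, f, hd, Or.inr rfl, hf, by rw [mul_one, mul_assoc, hfv, mul_assoc]⟩
  · exact ⟨d, 1, f, hd, Or.inl rfl, hf, by
      rw [mul_assoc, hfv, ← mul_assoc, mul_assoc d, h.vv]⟩

theorem nf_mul_c (h : TRel a b c v) {g : G} (hg : NF a b c v g) : NF a b c v (g * c) := by
  obtain ⟨d, e, f, hd, he, hf, rfl⟩ := hg
  rcases hf with rfl | rfl
  · exact ⟨d, e, c, hd, he, Or.inr rfl, by rw [mul_one]⟩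
  · exact ⟨d, e, 1, hd, he, Or.inl rfl, by rw [mul_assoc, h.c2]⟩

theorem nf_mul_a (h : TRel a b c v) {g : G} (hg : NF a b c v g) : NF a b c v (g * a) := by
  obtain ⟨d, e, f, hd, he, hf, rfl⟩ := hg
  have hfa : f * a = a * f := by
    rcases hf with rfl | rfl
    · simp
    · exact h.ac.symm
  have hea : e * a = a * e := by
    rcases he with rfl | rfl
    · simp
    · exact h.va
  have h1 : d * e * f * a = (d * a) * e * f := by
    rw [mul_assoc, hfa, ← mul_assoc, mul_assoc d, hea, ← mul_assoc]
  rw [h1]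
  rcases hd with hd | hd | hd | hd <;> rw [hd]
  · exact ⟨a, e, f, by simp, he, hf, by rw [one_mul]⟩
  · exact ⟨1, e, f, by simp, he, hf, by rw [h.a2]⟩
  · have h2 : b * a * e * f = (a * b * e * f) * v := by
      have hfv : f * v = v * f := by
        rcases hf with rfl | rfl
        · simp
        · exact h.vc.symm
      have hev : e * v = v * e := by
        rcases he with rfl | rfl
        · simp
        · rfl
      rw [h.ba]
      calc a * b * v * e * f = a * b * (v * e) * f := by group
        _ = a * b * e * (v * f) := by rw [← hev]; group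
        _ = a * b * e * f * v := by rw [← hfv]; group
    rw [h2]
    exact h.nf_mul_v ⟨a * b, e, f, by simp, he, hf, rfl⟩
  · have h2 : a * b * a * e * f = (b * e * f) * v := by
      have hfv : f * v = v * f := by
        rcases hf with rfl | rfl
        · simp
        · exact h.vc.symm
      have hev : e * v = v * e := by
        rcases he with rfl | rfl
        · simp
        · rfl
      calc a * b * a * e * f = a * (b * a) * e * f := by group
        _ = (a * a) * b * (v * e) * f := by rw [h.ba]; group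
        _ = b * e * (v * f) := by rw [h.a2, ← hev]; group
        _ = b * e * f * v := by rw [← hfv]; group
    rw [h2]
    exact h.nf_mul_v ⟨b, e, f, by simp, he, hf, rfl⟩

theorem nf_mul_b (h : TRel a b c v) {g : G} (hg : NF a b c v g) : NF a b c v (g * b) := by
  obtain ⟨d, e, f, hd, he, hf, rfl⟩ := hg
  have hfb : f * b = b * f := by
    rcases hf with rfl | rfl
    · simp
    · exact h.bc.symm
  have heb : e * b = b * e := by
    rcases he with rfl | rfl
    · simp
    · exact h.vb
  have h1 : d * e * f * b = (d * b) * e * f := by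
    rw [mul_assoc, hfb, ← mul_assoc, mul_assoc d, heb, ← mul_assoc]
  rw [h1]
  rcases hd with hd | hd | hd | hd <;> rw [hd]
  · exact ⟨b, e, f, by simp, he, hf, by rw [one_mul]⟩
  · exact ⟨a * b, e, f, by simp, he, hf, rfl⟩
  · exact ⟨1, e, f, by simp, he, hf, by rw [h.b2]⟩
  · exact ⟨a, e, f, by simp, he, hf, by rw [mul_assoc a b b, h.b2, mul_one]⟩

theorem nf_of_mem (h : TRel a b c v) {g : G} (hg : g ∈ Subgroup.closure {a, b, c}) : NF a b c v g := by
  have hai : a⁻¹ = a := inv_eq_of_mul_eq_one_left h.a2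
  have hbi : b⁻¹ = b := inv_eq_of_mul_eq_one_left h.b2
  have hci : c⁻¹ = c := inv_eq_of_mul_eq_one_left h.c2
  refine Subgroup.closure_induction_right (p := fun g _ => NF a b c v g) ?_ ?_ ?_ hg
  · exact ⟨1, 1, 1, by simp, by simp, by simp, by simp⟩
  · intro x _ y hy ih
    rcases hy with rfl | rfl | rfl
    · exact h.nf_mul_a ih
    · exact h.nf_mul_b ih
    · exact h.nf_mul_c ih
  · intro x _ y hy ih
    rcases hy with rfl | rfl | rfl
    · rw [hai]; exact h.nf_mul_a ih
    · rw [hbi]; exact h.nf_mul_b ih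
    · rw [hci]; exact h.nf_mul_c ih

/-- an element of `T` centralising `T` and fixed by `s` is `1` or `v`. -/
theorem eq_of_central (h : TRel a b c v) (hv1 : v ≠ 1) {t : G} (ht : t ∈ Subgroup.closure {a, b, c})
    (hta : t * a = a * t) (htb : t * b = b * t) : ∃ e f : G, (e = 1 ∨ e = v) ∧ (f = 1 ∨ f = c) ∧ t = e * f := by
  obtain ⟨d, e, f, hd, he, hf, rfl⟩ := h.nf_of_mem ht
  have hfa : f * a = a * f := by
    rcases hf with rfl | rfl
    · simp
    · exact h.ac.symm
  have hea : e * a = a * e := by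
    rcases he with rfl | rfl
    · simp
    · exact h.va
  have hfb : f * b = b * f := by
    rcases hf with rfl | rfl
    · simp
    · exact h.bc.symm
  have heb : e * b = b * e := by
    rcases he with rfl | rfl
    · simp
    · exact h.vb
  have hda : d * a = a * d := by
    have h1 : d * e * f * a = (d * a) * (e * f) := by
      rw [mul_assoc, hfa, ← mul_assoc, mul_assoc d, hea, ← mul_assoc, mul_assoc (d * a)]
    have h2 : a * (d * e * f) = (a * d) * (e * f) := by group
    rw [h1, h2] at hta
    exact mul_right_cancel hta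
  have hdb : d * b = b * d := by
    have h1 : d * e * f * b = (d * b) * (e * f) := by
      rw [mul_assoc, hfb, ← mul_assoc, mul_assoc d, heb, ← mul_assoc, mul_assoc (d * b)]
    have h2 : b * (d * e * f) = (b * d) * (e * f) := by group
    rw [h1, h2] at htb
    exact mul_right_cancel htb
  have hab : a * b ≠ b * a := by
    intro h1
    apply hv1
    rw [h.v_def]
    calc (a * b) * (a * b) = (a * b) * (b * a) := by rw [← h1]
      _ = a * (b * b) * a := by group
      _ = 1 := by rw [h.b2, mul_one, h.a2]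
  rcases hd with rfl | rfl | rfl | rfl
  · exact ⟨e, f, he, hf, by rw [one_mul]⟩
  · exact absurd hdb hab
  · exact absurd hda.symm hab
  · exfalso
    apply hab
    have h1 : a * (b * a) = a * (a * b) := by rw [← mul_assoc]; exact hda
    exact (mul_left_cancel h1).symm

end TRel

/-- **C1, k = 1**, the case `s : a ↔ b`. -/
theorem exists_index_two_of_swap [Finite G] (S : Sylow 2 G) (h : TRel a b c v) (hv1 : v ≠ 1)
    (ha : a ∈ (S : Subgroup G)) (hc : c ∈ (S : Subgroup G)) (hs : s ∈ (S : Subgroup G))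
    (hab : s⁻¹ * a * s = b) (hba : s⁻¹ * b * s = a) (hcs : s⁻¹ * c * s = c * v)
    (hs2 : s * s ∈ Subgroup.closure {a, b, c})
    (hfus : ∃ g : G, g * a * g⁻¹ = v)
    (hC : ∀ P : Subgroup G, IsPGroup 2 P → (∀ x ∈ P, x * c = c * x) → Nat.card P ≤ 16) :
    ∃ N : Subgroup G, N.Normal ∧ N.index = 2 := by
  have e1 : a * s = s * b := by rw [← hab]; group
  have e2 : b * s = s * a := by rw [← hba]; group
  have e3 : c * s = s * (c * v) := by rw [← hcs]; group
  have hvs : v * s = s * v := by
    calc v * s = a * b * (a * (b * s)) := by rw [h.v_def]; group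
      _ = a * b * ((a * s) * a) := by rw [e2]; group
      _ = a * (b * s) * (b * a) := by rw [e1]; group
      _ = (a * s) * a * (b * a) := by rw [e2]; group
      _ = s * ((b * a) * (b * a)) := by rw [e1]; group
      _ = s * v := by rw [h.baba]
  have hta : (s * s) * a = a * (s * s) := by
    calc (s * s) * a = s * (s * a) := by group
      _ = s * (b * s) := by rw [e2]
      _ = (s * b) * s := by group
      _ = (a * s) * s := by rw [e1]
      _ = a * (s * s) := by group
  have htb : (s * s) * b = b * (s * s) := by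
    calc (s * s) * b = s * (s * b) := by group
      _ = s * (a * s) := by rw [e1]
      _ = (s * a) * s := by group
      _ = (b * s) * s := by rw [e2]
      _ = b * (s * s) := by group
  obtain ⟨e, f, he, hf, het⟩ := h.eq_of_central hv1 hs2 hta htb
  have hes : e * s = s * e := by
    rcases he with rfl | rfl
    · simp
    · exact hvs
  have hf1 : f = 1 := by
    rcases hf with hf | hf
    · exact hf
    · exfalso
      have h1 : (e * f) * s = s * (e * f) := by rw [← het]; group
      rw [hf] at h1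
      have h2 : (e * c) * s = s * (e * c) * v := by
        calc (e * c) * s = e * (c * s) := by group
          _ = (e * s) * (c * v) := by rw [e3]; group
          _ = s * (e * c) * v := by rw [hes]; group
      rw [h2] at h1
      apply hv1
      have h3 : s * (e * c) * v = s * (e * c) * 1 := by rw [h1, mul_one]
      exact mul_left_cancel h3
  rw [hf1, mul_one] at het
  rcases he with he | he
  · -- `s * s = 1`
    rw [he] at het
    have hsi : s⁻¹ = s := inv_eq_of_mul_eq_one_left het
    rw [hsi] at hab hba hcs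
    refine Rel.exists_index_two S (a := a) (c := c) (s := s) (v := v) ?_ ha hc hs hfus hC
    exact ⟨h.a2, h.c2, het, h.ac, by rw [hab]; exact h.bc, by rw [hab]; exact h.v_def, h.va, hv1, hcs⟩
  · -- `s * s = v`
    rw [he] at het
    have h1 : (s * c) * (s * c) = 1 := by
      calc (s * c) * (s * c) = s * (c * s) * c := by group
        _ = (s * s) * (c * v) * c := by rw [e3]; group
        _ = v * (v * c) * c := by rw [het, ← h.vc]
        _ = (v * v) * (c * c) := by group
        _ = 1 := by rw [h.vv, h.c2, one_mul]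
    have hsi : (s * c)⁻¹ = s * c := inv_eq_of_mul_eq_one_left h1
    have h2 : (s * c) * a * (s * c) = b := by
      have : (s * c) * a * (s * c) = (s * c)⁻¹ * a * (s * c) := by rw [hsi]
      rw [this, mul_inv_rev]
      calc c⁻¹ * s⁻¹ * a * (s * c) = c⁻¹ * (s⁻¹ * a * s) * c := by group
        _ = c⁻¹ * (b * c) := by rw [hab]; group
        _ = b := by rw [h.bc]; group
    have h3 : (s * c) * c * (s * c) = c * v := by
      have : (s * c) * c * (s * c) = (s * c)⁻¹ * c * (s * c) := by rw [hsi]
      rw [this, mul_inv_rev]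
      calc c⁻¹ * s⁻¹ * c * (s * c) = c⁻¹ * (s⁻¹ * c * s) * c := by group
        _ = c⁻¹ * (c * (v * c)) := by rw [hcs]; group
        _ = c * v := by rw [h.vc]; group
    refine Rel.exists_index_two S (a := a) (c := c) (s := s * c) (v := v) ?_ ha hc (mul_mem hs hc) hfus hC
    exact ⟨h.a2, h.c2, h1, h.ac, by rw [h2]; exact h.bc, by rw [h2]; exact h.v_def, h.va, hv1, h3⟩

/-- **C1, k = 1** (core theorem T): `T = ⟨a, a ^ s, c⟩ ≃ D₈ × Z₂`, `s ∈ N_S(T)`, `s ^ 2 ∈ T`, `c ^ s = c v`. -/
theorem exists_index_two [Finite G] (S : Sylow 2 G)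
    (ha : a ∈ (S : Subgroup G)) (hc : c ∈ (S : Subgroup G)) (hs : s ∈ (S : Subgroup G))
    (ha2 : a * a = 1) (hc2 : c * c = 1) (hac : a * c = c * a)
    (hbc : (s⁻¹ * a * s) * c = c * (s⁻¹ * a * s))
    (hv : v = (a * (s⁻¹ * a * s)) * (a * (s⁻¹ * a * s)))
    (hva : v * a = a * v) (hv1 : v ≠ 1) (hcs : s⁻¹ * c * s = c * v)
    (hs2 : s * s ∈ Subgroup.closure {a, s⁻¹ * a * s, c})
    (hfus : ∃ g : G, g * a * g⁻¹ = v)
    (hC : ∀ P : Subgroup G, IsPGroup 2 P → (∀ x ∈ P, x * c = c * x) → Nat.card P ≤ 16) :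
    ∃ N : Subgroup G, N.Normal ∧ N.index = 2 := by
  obtain ⟨b, hb⟩ : ∃ b : G, s⁻¹ * a * s = b := ⟨_, rfl⟩
  rw [hb] at hbc hv hs2
  have hb2 : b * b = 1 := by
    rw [← hb]
    calc s⁻¹ * a * s * (s⁻¹ * a * s) = s⁻¹ * (a * a) * s := by group
      _ = 1 := by rw [ha2]; group
  have h : TRel a b c v := ⟨ha2, hb2, hc2, hac, hbc, hv, hva⟩
  -- `b ^ s = a ^ (s ^ 2)` is `a` or `a v`
  have hbs : s⁻¹ * b * s = (s * s)⁻¹ * a * (s * s) := by rw [← hb]; group
  obtain ⟨d, e, f, hd, he, hf, ht⟩ := h.nf_of_mem hs2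
  have hfa : f⁻¹ * a * f = a := by
    rcases hf with rfl | rfl
    · simp
    · rw [mul_assoc, hac, ← mul_assoc]; group
  have hea : e⁻¹ * a * e = a := by
    rcases he with rfl | rfl
    · simp
    · rw [mul_assoc, ← hva]; group
  have hfv : f⁻¹ * v * f = v := by
    rcases hf with rfl | rfl
    · simp
    · rw [mul_assoc, h.vc]; group
  have hev : e⁻¹ * v * e = v := by
    rcases he with rfl | rfl
    · simp
    · group
  have haba : b * a * b = a * v := by
    rw [h.ba, mul_assoc (a * b), h.vb, ← mul_assoc, mul_assoc a b b, hb2, mul_one]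
  have hda : d⁻¹ * a * d = a ∨ d⁻¹ * a * d = a * v := by
    have hai : a⁻¹ = a := inv_eq_of_mul_eq_one_left ha2
    have hbi : b⁻¹ = b := inv_eq_of_mul_eq_one_left hb2
    rcases hd with rfl | rfl | rfl | rfl
    · left; simp
    · left; simp
    · right; rw [hbi]; exact haba
    · right
      rw [mul_inv_rev, hai, hbi]
      calc b * a * a * (a * b) = b * (a * a) * a * b := by group
        _ = b * a * b := by rw [ha2, mul_one]
        _ = a * v := haba
  have hconj : (s * s)⁻¹ * a * (s * s) = f⁻¹ * (e⁻¹ * (d⁻¹ * a * d) * e) * f := by rw [ht]; group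
  rcases hda with hda | hda
  · have h1 : s⁻¹ * b * s = a := by rw [hbs, hconj, hda, hea, hfa]
    exact exists_index_two_of_swap S h hv1 ha hc hs hb h1 hcs hs2 hfus hC
  · have h1 : s⁻¹ * b * s = a * v := by
      rw [hbs, hconj, hda]
      have h2 : e⁻¹ * (a * v) * e = a * v := by
        calc e⁻¹ * (a * v) * e = (e⁻¹ * a * e) * (e⁻¹ * v * e) := by group
          _ = a * v := by rw [hea, hev]
      rw [h2]
      calc f⁻¹ * (a * v) * f = (f⁻¹ * a * f) * (f⁻¹ * v * f) := by group
        _ = a * v := by rw [hfa, hfv]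
    -- replace `s` by `s a` and `b` by `b v`
    have hai : a⁻¹ = a := inv_eq_of_mul_eq_one_left ha2
    have hvab : ∀ x : G, v * x = x * v → (x * v) * (x * v) = x * x := by
      intro x hx
      calc (x * v) * (x * v) = x * (v * x) * v := by group
        _ = x * x * (v * v) := by rw [hx]; group
        _ = x * x := by rw [h.vv, mul_one]
    have hvs : s⁻¹ * v * s = v := by
      have h2 : s⁻¹ * v * s = ((s⁻¹ * a * s) * (s⁻¹ * b * s)) * ((s⁻¹ * a * s) * (s⁻¹ * b * s)) := by
        rw [hv]; group
      rw [h2, hb, h1]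
      calc b * (a * v) * (b * (a * v)) = ((b * a) * v) * ((b * a) * v) := by group
        _ = (b * a) * (b * a) := hvab _ (by rw [← mul_assoc, h.vb, mul_assoc, hva, mul_assoc])
        _ = v := h.baba
    have haba' : a * b * a = b * v := by
      calc a * b * a = a * (b * a) := by group
        _ = (a * a) * b * v := by rw [h.ba]; group
        _ = b * v := by rw [ha2, one_mul]
    have g1 : (s * a)⁻¹ * a * (s * a) = b * v := by
      rw [mul_inv_rev, hai]
      calc a * s⁻¹ * a * (s * a) = a * (s⁻¹ * a * s) * a := by group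
        _ = b * v := by rw [hb, haba']
    have g2 : (s * a)⁻¹ * (b * v) * (s * a) = a := by
      rw [mul_inv_rev, hai]
      calc a * s⁻¹ * (b * v) * (s * a) = a * ((s⁻¹ * b * s) * (s⁻¹ * v * s)) * a := by group
        _ = (a * a) * (v * v) * a := by rw [h1, hvs]; group
        _ = a := by rw [ha2, h.vv, one_mul, one_mul]
    have g3 : (s * a)⁻¹ * c * (s * a) = c * v := by
      rw [mul_inv_rev, hai]
      calc a * s⁻¹ * c * (s * a) = a * (s⁻¹ * c * s) * a := by group
        _ = (a * c) * (v * a) := by rw [hcs]; group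
        _ = c * (a * a) * v := by rw [hac, hva]; group
        _ = c * v := by rw [ha2, mul_one]
    have hT : TRel a (b * v) c v := by
      refine ⟨ha2, ?_, hc2, hac, ?_, ?_, hva⟩
      · rw [hvab b h.vb, hb2]
      · calc b * v * c = b * (v * c) := by group
          _ = (b * c) * v := by rw [h.vc]; group
          _ = c * (b * v) := by rw [hbc]; group
      · have h2 : (a * (b * v)) * (a * (b * v)) = ((a * b) * v) * ((a * b) * v) := by group
        rw [h2, hvab (a * b) (by rw [← mul_assoc, hva, mul_assoc, h.vb, ← mul_assoc, mul_assoc])]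
        exact hv
    have hcl : Subgroup.closure {a, b, c} ≤ Subgroup.closure {a, b * v, c} := by
      rw [Subgroup.closure_le]
      have m1 : a ∈ Subgroup.closure {a, b * v, c} := Subgroup.subset_closure (by simp)
      have m2 : b * v ∈ Subgroup.closure {a, b * v, c} := Subgroup.subset_closure (by simp)
      have m3 : c ∈ Subgroup.closure {a, b * v, c} := Subgroup.subset_closure (by simp)
      have m4 : v ∈ Subgroup.closure {a, b * v, c} := by
        have h3 := mul_mem (mul_mem m1 m2) (mul_mem m1 m2)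
        rwa [← hT.v_def] at h3
      have m5 : b ∈ Subgroup.closure {a, b * v, c} := by
        have := mul_mem m2 (inv_mem m4)
        simpa using this
      rintro x (rfl | rfl | rfl)
      · exact m1
      · exact m5
      · exact m3
    have hs2' : (s * a) * (s * a) ∈ Subgroup.closure {a, b * v, c} := by
      apply hcl
      have h2 : (s * a) * (s * a) = (s * s) * (b * a) := by
        rw [← hb]; group
      rw [h2]
      exact mul_mem hs2 (mul_mem (Subgroup.subset_closure (by simp)) (Subgroup.subset_closure (by simp)))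
    exact exists_index_two_of_swap S hT hv1 ha hc (mul_mem hs ha) g1 g2 g3 hs2' hfus hC

end normalise

end Cfsg.Agent.MinSimple.PushOne
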