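import Cfsg.Agent.MinSimple.CaseOneCfg
import Cfsg.Agent.MinSimple.PushOne
import Cfsg.Agent.MinSimple.SelfCentFour
import Cfsg.Agent.Classification.ZNEndA

/-!
# Unique maximal 2-local subgroup: the end

`G` of characteristic 2 type with solvable 2-local subgroups, `O₂(G) = 1`, without normal subgroups of index 2
and without strongly embedded subgroups. If `M` is a 2-local subgroup containing all 2-local subgroups over
the Sylow 2-subgroup `S`, then `G` has 2-rank at most 2.
-/

set_option autoImplicit false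

namespace Cfsg.Agent.MinSimple.CaseOne

open Subgroup Cfsg Cfsg.Agent.ZN Cfsg.Agent.ZN.ChoiceBase Cfsg.Agent.ZN.ChoiceSit
open Cfsg.Agent.ZN.CaseTwo (Cand Max)
open Cfsg.Agent.MinSimple.CaseOneAP Cfsg.Agent.MinSimple.CaseOneCfg

universe u

variable {G : Type u} [Group G]

/-- The final situation. -/
structure Fin (M T L : Subgroup G) (s : G) (k : ℕ) (z t : G) : Prop where
  cfg : Cfg M T s
  notM : ¬ L ≤ M
  sit : CaseOneAP.Sit (T ⊔ zpowers s) T (bau T) L k z t
  tT : t ∉ T
  sol : ∀ N : Subgroup G, IsTwoLocal N → Group.IsSolvable N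

namespace Fin

variable {M T L : Subgroup G} {s : G} {k : ℕ} {z t : G}

theorem mem_zc_cases (h : Fin M T L s k z t) {x : G} (hx : x ∈ zc (bau T)) :
    x ∈ rl (bau T) L ∨ x * z ∈ rl (bau T) L := by
  by_cases hxr : x ∈ rl (bau T) L
  · exact Or.inl hxr
  · right
    refine CaseOneAP.mul_mem_of_relIndex h.sit.blk.rl_index hx h.sit.data.zZ hxr fun hz => ?_
    have : z ∈ rl (bau T) L ⊓ vl (bau T) L := ⟨hz, h.sit.zvl⟩
    rw [h.sit.blk.disj, mem_bot] at this
    exact h.sit.z1 this

theorem z_notMem (h : Fin M T L s k z t) : z ∉ rl (bau T) L := fun hz => by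
  have : z ∈ rl (bau T) L ⊓ vl (bau T) L := ⟨hz, h.sit.zvl⟩
  rw [h.sit.blk.disj, mem_bot] at this
  exact h.sit.z1 this

theorem zz (h : Fin M T L s k z t) : z * z = 1 :=
  CaseOneAP.vl_sq h.sit.blk h.sit.zvl

/-- A centraliser of a nontrivial element `c` of `rl`: the local subgroup `N_G(⟨c⟩)`. -/
theorem local_c [Finite G] (h : Fin M T L s k z t) {c : G} (hc : c ∈ rl (bau T) L) (hc1 : c ≠ 1) :
    IsTwoLocal (normalizer (zpowers c : Set G)) ∧ ¬ normalizer (zpowers c : Set G) ≤ M := by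
  refine ⟨⟨zpowers c, ?_, fun h0 => hc1 (zpowers_eq_bot.1 h0), rfl⟩, fun hle => h.notM ?_⟩
  · exact h.sit.blk.two.to_le (zpowers_le.2 (FinalBridge.zc_le _ hc.1))
  · refine le_trans ?_ hle
    refine le_trans ?_ (centralizer_le_normalizer _)
    intro l hl
    rw [mem_centralizer_iff]
    intro y hy
    obtain ⟨n, rfl⟩ := mem_zpowers_iff.1 hy
    have h1 : l * c = c * l := mem_centralizer_iff.1 hc.2 l hl
    exact (((show Commute l c from h1).zpow_right n).eq).symm

theorem mem_norm_of_comm {x c : G} (h : x * c = c * x) :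
    x ∈ normalizer (zpowers c : Set G) := by
  refine centralizer_le_normalizer _ ?_
  rw [mem_centralizer_iff]
  intro y hy
  obtain ⟨n, rfl⟩ := mem_zpowers_iff.1 hy
  exact (((show Commute x c from h).zpow_right n).eq).symm

theorem BT (_h : Fin M T L s k z t) : bau T ≤ T := ChoiceBase.bau_le T

theorem zc_zj [Finite G] (T : Subgroup G) : zc (bau T) = zj T := ChoiceBase.zc_bau T

/-- Elements of `T` centralising `Z` lie in `B`. -/
theorem mem_bau_of [Finite G] {x : G} (hx : x ∈ T) (hc : ∀ y ∈ zc (bau T), x * y = y * x) :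
    x ∈ bau T := by
  rw [ChoiceBase.mem_bau]
  refine ⟨hx, fun y hy => ?_⟩
  rw [← ChoiceBase.zc_bau] at hy
  exact (hc y hy).symm

theorem tct [Finite G] (h : Fin M T L s k z t) {c : G} (hc : c ∈ rl (bau T) L) (hc1 : c ≠ 1) :
    t * c * t⁻¹ = c * z := by
  have h1 : t * c * t⁻¹ ∈ zc (bau T) := h.sit.data.AnZ t h.sit.tA c hc.1
  have h2 : t * c * t⁻¹ ∉ rl (bau T) L := by
    intro hh
    have h3 := h.sit.rl_inf h.sol hh (by
      have e : t⁻¹ * (t * c * t⁻¹) * t = c := by group
      rw [e]; exact hc)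
    apply hc1
    have e : c = t⁻¹ * (t * c * t⁻¹) * t := by group
    rw [e, h3]; group
  have h3 := (h.mem_zc_cases h1).resolve_left h2
  have h4 : t * c * t⁻¹ * z ≠ 1 := by
    intro hh
    have h5 : t * c * t⁻¹ = z := by
      calc t * c * t⁻¹ = t * c * t⁻¹ * (z * z) := by rw [h.zz, mul_one]
        _ = (t * c * t⁻¹ * z) * z := by group
        _ = z := by rw [hh, one_mul]
    have h6 : c = z := by
      calc c = t⁻¹ * (t * c * t⁻¹) * t := by group
        _ = t⁻¹ * (t * z * t⁻¹) * t := by rw [h5, h.sit.tz]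
        _ = z := by group
    exact h.z_notMem (h6 ▸ hc)
  have h5 := h.sit.rl_unique h.sol h3 hc h4 hc1
  calc t * c * t⁻¹ = t * c * t⁻¹ * (z * z) := by rw [h.zz, mul_one]
    _ = (t * c * t⁻¹ * z) * z := by group
    _ = c * z := by rw [h5]

/-- Elements of `A` centralising `Z` lie in `B` (case `rl ≠ 1`). -/
theorem cent_le [Finite G] (h : Fin M T L s k z t) {c : G} (hc : c ∈ rl (bau T) L) (hc1 : c ≠ 1)
    {x : G} (hx : x ∈ T ⊔ zpowers s) (hxc : ∀ y ∈ zc (bau T), x * y = y * x) : x ∈ bau T := by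
  obtain ⟨hX, hXM⟩ := h.local_c hc hc1
  set T₀ : Subgroup G := (T ⊔ zpowers s) ⊓ centralizer (zc (bau T) : Set G) with hT₀
  have hBT₀ : bau T ≤ T₀ := by
    refine le_inf ((ChoiceBase.bau_le T).trans le_sup_left) fun b hb => ?_
    rw [mem_centralizer_iff]
    exact fun y hy => ((FinalBridge.mem_zc.1 hy).2.2 b hb).symm
  have hcand : Cand M T₀ := by
    refine ⟨h.cfg.A_two.to_le inf_le_left, fun h0 => ?_, inf_le_left.trans h.cfg.A_le, _, hX, hXM, ?_⟩
    · apply CaseTwo.jj_ne_bot h.cfg.two h.cfg.ne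
      exact le_bot_iff.1 ((ChoiceBase.jj_le_bau T).trans (hBT₀.trans h0.le))
    · intro y hy
      exact mem_norm_of_comm ((mem_centralizer_iff.1 hy.2 c hc.1).symm)
  obtain ⟨-, hj, hb, -⟩ := of_key_le hBT₀ (h.cfg.max.2 _ hcand)
  have hxT₀ : x ∈ T₀ := ⟨hx, mem_centralizer_iff.2 fun y hy => (hxc y hy).symm⟩
  rw [← hb]
  refine mem_bau_of hxT₀ ?_
  rw [hb]
  exact hxc

/-- `T = B`. -/
theorem T_eq [Finite G] (h : Fin M T L s k z t) : T = bau T := by
  refine le_antisymm (fun x hx => ?_) (ChoiceBase.bau_le T)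
  have hxA : x ∈ T ⊔ zpowers s := (le_sup_left : T ≤ T ⊔ zpowers s) hx
  by_cases hr : ∀ c ∈ rl (bau T) L, c = 1
  · -- `Z = ⟨z⟩`
    have hZ : ∀ y ∈ zc (bau T), y = 1 ∨ y = z := by
      intro y hy
      rcases h.mem_zc_cases hy with h1 | h1
      · exact Or.inl (hr y h1)
      · right
        have h2 := hr _ h1
        calc y = y * (z * z) := by rw [h.zz, mul_one]
          _ = (y * z) * z := by group
          _ = z := by rw [h2, one_mul]
    refine mem_bau_of hx fun y hy => ?_
    rcases hZ y hy with rfl | rfl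
    · rw [mul_one, one_mul]
    · have h1 := h.sit.data.AnZ x hxA y hy
      rcases hZ _ h1 with h2 | h2
      · exfalso
        apply h.sit.z1
        have e : y = x⁻¹ * (x * y * x⁻¹) * x := by group
        rw [e, h2]; group
      · exact mul_inv_eq_iff_eq_mul.1 h2
  · push Not at hr
    obtain ⟨c, hc, hc1⟩ := hr
    have htc := h.tct hc hc1
    have hcc : c * c = 1 := by
      have := (FinalBridge.mem_zc.1 hc.1).2.1
      rwa [pow_two] at this
    -- elements of `Z`
    have hZ : ∀ y ∈ zc (bau T), y = 1 ∨ y = z ∨ y = c ∨ y = c * z := by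
      intro y hy
      have hcz : ∀ w ∈ rl (bau T) L, w = 1 ∨ w = c := fun w hw => by
        by_cases hw1 : w = 1
        · exact Or.inl hw1
        · exact Or.inr (h.sit.rl_unique h.sol hw hc hw1 hc1)
      rcases h.mem_zc_cases hy with h1 | h1
      · rcases hcz y h1 with h2 | h2
        · exact Or.inl h2
        · exact Or.inr (Or.inr (Or.inl h2))
      · have e : y = (y * z) * z := by
          calc y = y * (z * z) := by rw [h.zz, mul_one]
            _ = (y * z) * z := by group
        rcases hcz _ h1 with h2 | h2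
        · rw [h2, one_mul] at e
          exact Or.inr (Or.inl e)
        · rw [h2] at e
          exact Or.inr (Or.inr (Or.inr e))
    -- `A` centralises `z`
    have hAz : ∀ a ∈ T ⊔ zpowers s, a * z = z * a := by
      have hp : Fact (Nat.Prime 2) := ⟨Nat.prime_two⟩
      have hZne : zc (bau T) ≠ ⊥ := by
        intro h0
        have : z ∈ zc (bau T) := h.sit.data.zZ
        rw [h0, mem_bot] at this
        exact h.sit.z1 this
      have hZn : T ⊔ zpowers s ≤ normalizer (zc (bau T) : Set G) := by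
        rw [le_normalizer_iff]
        exact fun a ha y hy => h.sit.data.AnZ a ha y hy
      obtain ⟨w, hw, hw1, hwc⟩ := Classification.ZNEndA.exists_fixed (p := 2)
        (W := zc (bau T)) (Q := T ⊔ zpowers s)
        (h.sit.blk.two.to_le (FinalBridge.zc_le _)) hZne h.cfg.A_two hZn
      · have h1 := hwc t h.sit.tA
        have h2 : t * w * t⁻¹ = w := by rw [h1]; group
        rcases hZ w hw with h3 | h3 | h3 | h3
        · exact absurd h3 hw1
        · rw [h3] at hwc
          exact hwc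
        · exfalso
          rw [h3, htc] at h2
          exact h.sit.z1 (by
            have := congrArg (fun x => c⁻¹ * x) h2
            simpa [← mul_assoc] using this)
        · exfalso
          rw [h3] at h2
          have h4 : t * (c * z) * t⁻¹ = c := by
            calc t * (c * z) * t⁻¹ = (t * c * t⁻¹) * (t * z * t⁻¹) := by group
              _ = c * (z * z) := by rw [htc, h.sit.tz]; group
              _ = c := by rw [h.zz, mul_one]
          rw [h4] at h2
          apply h.sit.z1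
          have h5 : c * 1 = c * z := by rw [mul_one]; exact h2
          exact (mul_left_cancel h5).symm
    -- conclusion
    by_contra hxB
    have h1 : x * c * x⁻¹ ∈ zc (bau T) := h.sit.data.AnZ x hxA c hc.1
    have hxz := hAz x hxA
    have h2 : x * c * x⁻¹ = c * z := by
      rcases hZ _ h1 with h3 | h3 | h3 | h3
      · exfalso
        apply hc1
        have e : c = x⁻¹ * (x * c * x⁻¹) * x := by group
        rw [e, h3]; group
      · exfalso
        apply h.z_notMem
        have e : c = x⁻¹ * (x * c * x⁻¹) * x := by group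
        rw [h3] at e
        have e2 : x⁻¹ * z * x = z := by
          calc x⁻¹ * z * x = x⁻¹ * (z * x) := by group
            _ = x⁻¹ * (x * z) := by rw [hxz]
            _ = z := by group
        rw [e2] at e
        exact e ▸ hc
      · exfalso
        apply hxB
        refine h.cent_le hc hc1 hxA fun y hy => ?_
        have hxc : x * c = c * x := mul_inv_eq_iff_eq_mul.1 h3
        rcases hZ y hy with rfl | rfl | rfl | rfl
        · rw [mul_one, one_mul]
        · exact hxz
        · exact hxc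
        · calc x * (c * z) = (x * c) * z := by group
            _ = c * (x * z) := by rw [hxc]; group
            _ = c * z * x := by rw [hxz]; group
      · exact h3
    apply h.tT
    have h3 : t⁻¹ * x ∈ bau T := by
      refine h.cent_le hc hc1 (mul_mem (inv_mem h.sit.tA) hxA) fun y hy => ?_
      have hgz : (t⁻¹ * x) * z = z * (t⁻¹ * x) := hAz _ (mul_mem (inv_mem h.sit.tA) hxA)
      have hgc : (t⁻¹ * x) * c = c * (t⁻¹ * x) := by
        have e1 : x * c = c * z * x := mul_inv_eq_iff_eq_mul.1 h2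
        have e2 : t * c = c * z * t := mul_inv_eq_iff_eq_mul.1 htc
        calc (t⁻¹ * x) * c = t⁻¹ * (x * c) := by group
          _ = t⁻¹ * (c * z) * x := by rw [e1]; group
          _ = t⁻¹ * (c * z * t) * t⁻¹ * x := by group
          _ = t⁻¹ * (t * c) * t⁻¹ * x := by rw [e2]
          _ = c * (t⁻¹ * x) := by group
      rcases hZ y hy with rfl | rfl | rfl | rfl
      · rw [mul_one, one_mul]
      · exact hgz
      · exact hgc
      · calc (t⁻¹ * x) * (c * z) = ((t⁻¹ * x) * c) * z := by group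
          _ = c * ((t⁻¹ * x) * z) := by rw [hgc]; group
          _ = c * z * (t⁻¹ * x) := by rw [hgz]; group
    have h4 : t = x * (t⁻¹ * x)⁻¹ := by group
    rw [h4]
    exact mul_mem hx (inv_mem (h.BT h3))

/-- The case `rl = 1`: 2-rank at most 2. -/
theorem pRankLE [Finite G] (h : Fin M T L s k z t) (hr : ∀ c ∈ rl (bau T) L, c = 1) :
    PRankLE 2 2 G := by
  obtain ⟨S₁, hS1, hS2, hS3, -⟩ := h.cfg.syl
  have hzv : zl (bau T) L = vl (bau T) L := by
    rw [← h.sit.blk.sup_eq]
    have : rl (bau T) L = ⊥ := by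
      rw [eq_bot_iff]
      intro c hc
      rw [hr c hc]
      exact one_mem _
    rw [this, bot_sup_eq]
  have hcard : Nat.card (zl (bau T) L) = 4 := by rw [hzv]; exact h.sit.blk.card_vl
  have hzB : zl (bau T) L ≤ bau T := DBlkBasic.zl_le_B h.sit.blk
  have hX : IsTwoLocal (normalizer (zl (bau T) L : Set G)) := by
    refine ⟨_, h.sit.blk.two.to_le hzB, fun h0 => ?_, rfl⟩
    rw [h0, card_bot] at hcard
    omega
  have hLX : L ≤ normalizer (zl (bau T) L : Set G) := FinalBridge.le_normalizer_zl _ _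
  have hXM : ¬ normalizer (zl (bau T) L : Set G) ≤ M := fun hh => h.notM (hLX.trans hh)
  have hTX : T ≤ normalizer (zl (bau T) L : Set G) := by
    intro x hx
    exact hLX (h.sit.blk.le (h.T_eq.le hx))
  have hsyl := h.cfg.syl_of hX hTX hXM
  refine SelfCentFour.pRankLE S₁ (hzB.trans (h.BT.trans hS2)) hcard
    (fun v hv => DBlkBasic.zl_mul_self h.sit.blk hv) ?_
  rintro x ⟨hxS, hxc⟩
  have hxX : x ∈ normalizer (zl (bau T) L : Set G) := centralizer_le_normalizer _ hxc
  have h1 := hsyl.2.2 (T ⊔ zpowers x) (sup_le hTX (zpowers_le.2 hxX))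
    (S₁.isPGroup'.to_le (sup_le hS2 (zpowers_le.2 hxS))) le_sup_left
  have hxT : x ∈ T := by
    rw [← h1]
    exact (le_sup_right : zpowers x ≤ T ⊔ zpowers x) (mem_zpowers x)
  have hxB : x ∈ bau T := by rw [← h.T_eq]; exact hxT
  rw [← h.sit.o2_eq h.sol]
  exact DBlkBasic.mem_o2 h.sit.blk hxB fun v hv => (mem_centralizer_iff.1 hxc v hv).symm

/-- The case `rl ≠ 1`: a normal subgroup of index 2. -/
theorem exists_index_two [Finite G] (h : Fin M T L s k z t) {c : G} (hc : c ∈ rl (bau T) L)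
    (hc1 : c ≠ 1) : ∃ N : Subgroup G, N.Normal ∧ N.index = 2 := by
  have hp : Fact (Nat.Prime 2) := ⟨Nat.prime_two⟩
  obtain ⟨S₁, hS1, hS2, hS3, -⟩ := h.cfg.syl
  have hb := h.sit.blk
  obtain ⟨y, hy, -, -, -, hf, -⟩ := hb.dih
  set a := y * z * y⁻¹ with ha
  have hav : a ∈ vl (bau T) L := CaseOneAP.vl_conj hy h.sit.zvl
  have ha1 : a ≠ 1 := by
    intro h1
    apply h.sit.z1
    have e : z = y⁻¹ * a * y := by rw [ha]; group
    rw [e, h1]; group
  have haz : z ≠ a := fun h1 => h.sit.z1 (hf z h.sit.zvl h1.symm)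
  have haB : a ∈ bau T := h.sit.zl_leB (CaseOneAP.vl_le hb hav)
  have hbB : t * a * t⁻¹ ∈ bau T := h.sit.conjB haB
  have hsupS : T ⊔ zpowers s ≤ S₁ := sup_le hS2 (zpowers_le.2 hS3)
  have hcc : c * c = 1 := by
    have := (FinalBridge.mem_zc.1 hc.1).2.1
    rwa [pow_two] at this
  have hcB : c ∈ bau T := FinalBridge.zc_le _ hc.1
  -- `a` and `a ^ t` do not commute
  have hnc : a * (t * a * t⁻¹) ≠ (t * a * t⁻¹) * a := by
    intro heq
    obtain ⟨v, hv, u, hu, hne⟩ := h.sit.nc_vl
    have h1 : vl (bau T) L ≤ centralizer ({t * a * t⁻¹} : Set G) := by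
      refine CaseOneAP.vl_le_of_mem hb h.sit.zvl hav ?_ ?_ h.sit.z1 ha1 haz
      · rw [mem_centralizer_singleton_iff]
        exact (h.sit.data.BcZ _ hbB z h.sit.data.zZ).symm
      · rw [mem_centralizer_singleton_iff]
        exact heq
    have h2 : v * (t * a * t⁻¹) = (t * a * t⁻¹) * v := mem_centralizer_singleton_iff.1 (h1 hv)
    have hvB : v ∈ bau T := h.sit.zl_leB (CaseOneAP.vl_le hb hv)
    have h3 : vl (bau T) L ≤ centralizer ({t⁻¹ * v * t} : Set G) := by
      refine CaseOneAP.vl_le_of_mem hb h.sit.zvl hav ?_ ?_ h.sit.z1 ha1 haz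
      · rw [mem_centralizer_singleton_iff]
        exact (h.sit.data.BcZ _ (h.sit.conjB' hvB) z h.sit.data.zZ).symm
      · rw [mem_centralizer_singleton_iff]
        calc a * (t⁻¹ * v * t) = t⁻¹ * ((t * a * t⁻¹) * v) * t := by group
          _ = t⁻¹ * (v * (t * a * t⁻¹)) * t := by rw [h2]
          _ = t⁻¹ * v * t * a := by group
    have h4 : u * (t⁻¹ * v * t) = (t⁻¹ * v * t) * u := mem_centralizer_singleton_iff.1 (h3 hu)
    apply hne
    calc v * (t * u * t⁻¹) = t * ((t⁻¹ * v * t) * u) * t⁻¹ := by group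
      _ = t * (u * (t⁻¹ * v * t)) * t⁻¹ := by rw [h4]
      _ = t * u * t⁻¹ * v := by group
  have haa : a * a = 1 := CaseOneAP.vl_sq hb hav
  have hbb : (t * a * t⁻¹) * (t * a * t⁻¹) = 1 := by
    calc (t * a * t⁻¹) * (t * a * t⁻¹) = t * (a * a) * t⁻¹ := by group
      _ = 1 := by rw [haa]; group
  have hzab : z = (a * (t * a * t⁻¹)) * (a * (t * a * t⁻¹)) := by
    have h1 := h.sit.data.comm a (CaseOneAP.vl_le hb hav) (t * a * t⁻¹) hbB hnc
    have e1 : a⁻¹ = a := inv_eq_of_mul_eq_one_left haa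
    have e2 : (t * a * t⁻¹)⁻¹ = t * a * t⁻¹ := inv_eq_of_mul_eq_one_left hbb
    rw [← h1, e1, e2]
    group
  have hTB := h.T_eq
  -- `B ≤ ⟨a, a ^ t, c⟩`
  have hgen : bau T ≤ closure {a, t * a * t⁻¹, c} := by
    have m1 : a ∈ closure {a, t * a * t⁻¹, c} := subset_closure (by simp)
    have m2 : t * a * t⁻¹ ∈ closure {a, t * a * t⁻¹, c} := subset_closure (by simp)
    have m3 : c ∈ closure {a, t * a * t⁻¹, c} := subset_closure (by simp)
    have m4 : z ∈ closure {a, t * a * t⁻¹, c} := by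
      rw [hzab]
      exact mul_mem (mul_mem m1 m2) (mul_mem m1 m2)
    have h1 : vl (bau T) L ≤ closure {a, t * a * t⁻¹, c} :=
      CaseOneAP.vl_le_of_mem hb h.sit.zvl hav m4 m1 h.sit.z1 ha1 haz
    have h2 : rl (bau T) L ≤ closure {a, t * a * t⁻¹, c} := by
      intro x hx
      by_cases hx1 : x = 1
      · rw [hx1]; exact one_mem _
      · rw [h.sit.rl_unique h.sol hx hc hx1 hc1]
        exact m3
    have h3 : zl (bau T) L ≤ closure {a, t * a * t⁻¹, c} := by
      rw [← hb.sup_eq]
      exact sup_le h2 h1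
    have hbQ : t * a * t⁻¹ ∉ o2 L := fun hh =>
      hnc (h.sit.data.VcQ _ hh a (CaseOneAP.vl_le hb hav)).symm
    intro x hx
    by_cases hxQ : x ∈ o2 L
    · rw [h.sit.o2_eq h.sol] at hxQ
      exact h3 hxQ
    · have h4 : x * (t * a * t⁻¹) ∈ o2 L :=
        CaseOneAP.mul_mem_of_relIndex hb.o2_index hx hbB hxQ hbQ
      rw [h.sit.o2_eq h.sol] at h4
      have h5 := mul_mem (h3 h4) (inv_mem m2)
      rwa [mul_inv_cancel_right] at h5
  obtain ⟨hX, hXM⟩ := h.local_c hc hc1
  have hTX : T ≤ normalizer (zpowers c : Set G) := by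
    intro x hx
    rw [hTB] at hx
    exact mem_norm_of_comm ((FinalBridge.mem_zc.1 hc.1).2.2 x hx)
  have hsyl := h.cfg.syl_of hX hTX hXM
  have hcardT : Nat.card T = 16 := by
    have h1 := FinalBridge.card_mul_relIndex hb.o2_le
    rw [hb.o2_index, h.sit.o2_eq h.sol] at h1
    have h2 : Nat.card ↥(rl (bau T) L ⊔ vl (bau T) L) =
        Nat.card (rl (bau T) L) * Nat.card (vl (bau T) L) := by
      refine FinalBridge.card_sup_of_comm (fun x hx y hy => ?_) hb.disj
      exact hb.zl_comm x (FinalBridge.zc_le_zl _ _ (rl_le _ _ hx)) y (CaseOneAP.vl_le hb hy)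
    rw [hb.sup_eq, hb.card_vl] at h2
    have h3 : rl (bau T) L = zpowers c := by
      apply le_antisymm
      · intro x hx
        by_cases hx1 : x = 1
        · rw [hx1]; exact one_mem _
        · rw [h.sit.rl_unique h.sol hx hc hx1 hc1]
          exact mem_zpowers c
      · exact zpowers_le.2 hc
    have h4 : Nat.card (rl (bau T) L) = 2 := by
      rw [h3, Nat.card_zpowers]
      exact orderOf_eq_prime (by rw [pow_two]; exact hcc) hc1
    rw [h4] at h2
    rw [h2] at h1
    rw [hTB, ← h1]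
  refine PushOne.exists_index_two S₁ (a := a) (c := c) (s := t⁻¹) (v := z)
    (hS2 (h.BT haB)) (hS2 (h.BT hcB)) ((S₁ : Subgroup G).inv_mem (hsupS h.sit.tA)) haa hcc
    ?_ ?_ ?_ ?_ h.sit.z1 ?_ ?_ ⟨y⁻¹, by rw [ha]; group⟩ ?_
  · exact (FinalBridge.mem_zc.1 hc.1).2.2 a haB
  · rw [inv_inv]
    exact (FinalBridge.mem_zc.1 hc.1).2.2 _ hbB
  · rw [inv_inv]; exact hzab
  · exact ((FinalBridge.mem_zc.1 h.sit.data.zZ).2.2 a haB).symm
  · rw [inv_inv]; exact h.tct hc hc1
  · rw [inv_inv]
    apply hgen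
    rw [← hTB]
    exact h.cfg.idx h.sit.tA (inv_mem h.sit.tA) h.tT fun hh => h.tT (by simpa using inv_mem hh)
  · intro P hP hPc
    have hPX : P ≤ normalizer (zpowers c : Set G) := fun x hx => mem_norm_of_comm (hPc x hx)
    obtain ⟨S', hS', hPS'⟩ := exists_syl hP hPX
    obtain ⟨g, -, hg⟩ := syl_conj hsyl hS'
    calc Nat.card P ≤ Nat.card S' := card_le_of_le hPS'
      _ = Nat.card T := by rw [← hg, card_cj]
      _ ≤ 16 := hcardT.le

end Fin

/-- **C1**: the case of a unique maximal 2-local subgroup (with the block lemma as hypothesis). -/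
theorem result_of_block [Finite G] (hc : IsCharacteristicTwoType G)
    (hL : ∀ N : Subgroup G, IsTwoLocal N → Group.IsSolvable N) (hO : pCore 2 G = ⊥)
    (hidx : ∀ N : Subgroup G, N.Normal → N.index ≠ 2)
    (hse : ∀ K : Subgroup G, ¬ IsStronglyEmbedded K) (S : Sylow 2 G) {M : Subgroup G}
    (hM : IsTwoLocal M) (hSM : (S : Subgroup G) ≤ M)
    (hall : ∀ X : Subgroup G, IsTwoLocal X → (S : Subgroup G) ≤ X → X ≤ M)
    (hblk : ∀ X T M : Subgroup G, Group.IsSolvable X → X ⊓ centralizer (o2 X : Set G) ≤ o2 X →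
      IsPGroup 2 T → T ≤ X → ¬ 2 ∣ T.relIndex X → T ≤ M →
      X ⊓ centralizer (zc T : Set G) ≤ M → X ⊓ normalizer (bau T : Set G) ≤ M → ¬ X ≤ M →
      ∃ (L : Subgroup G) (k : ℕ), GoodBlk M T L k) : PRankLE 2 2 G := by
  obtain ⟨T, s, hs⟩ := exists_cfg hc hO hse S hM hSM hall
  obtain ⟨X, hX, hXM, hTX⟩ := hs.exists_local
  have hsyl := hs.syl_of hX hTX hXM
  obtain ⟨L, k, hk⟩ := hblk X T M (hL X hX) (ChoiceSit.self_cent hc hX) hs.two hTX
    (syl_not_dvd hsyl) hs.TM (inf_le_right.trans (hs.cent_zc_le hc hX hTX hXM))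
    (inf_le_right.trans hs.normalizer_bau_le) hXM
  obtain ⟨z, t, hst, htT⟩ := hk.exists_sit hs
  have hfin : Fin M T L s k z t := ⟨hs, hk.notM, hst, htT, hL⟩
  by_cases hr : ∀ c ∈ rl (bau T) L, c = 1
  · exact hfin.pRankLE hr
  · push Not at hr
    obtain ⟨c, hc, hc1⟩ := hr
    obtain ⟨N, hN, hN2⟩ := hfin.exists_index_two hc hc1
    exact absurd hN2 (hidx N hN)

end Cfsg.Agent.MinSimple.CaseOne
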