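import Cfsg.Prelude.Def_CaseTheorems
import Cfsg.Prelude.Def_Involutions
import Cfsg.Agent.S0214
import Cfsg.Agent.ZN.ChoiceSit

/-!
# The unique maximal 2-local case: choice of `T`, `Y`, `s`

`G` of characteristic 2 type with solvable 2-local subgroups, `M` a proper subgroup containing every 2-local
subgroup over the Sylow 2-subgroup `S`, not strongly embedded.  We choose a 2-subgroup `T` of `M` of maximal
order lying in a 2-local type subgroup not contained in `M`, and `Y` minimal with these properties over `T`.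

* `Loc2 X`: `X` normalizes a nontrivial 2-subgroup.
* `Config M T Y s`: the chosen configuration.
* `exists_config`: its existence.
-/

set_option autoImplicit false

namespace Cfsg.Agent.MinSimple.Choice97

open Subgroup Cfsg Cfsg.Agent.ZN Cfsg.Agent.ZN.ChoiceBase Cfsg.Agent.ZN.ChoiceSit

universe u

variable {G : Type u} [Group G]

/-- `X` normalizes a nontrivial 2-subgroup. -/
def Loc2 (X : Subgroup G) : Prop := ∃ R : Subgroup G, IsPGroup 2 R ∧ R ≠ ⊥ ∧ X ≤ normalizer (R : Set G)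

theorem Loc2.mono {X Y : Subgroup G} (h : Loc2 Y) (hXY : X ≤ Y) : Loc2 X := by
  obtain ⟨R, h1, h2, h3⟩ := h
  exact ⟨R, h1, h2, hXY.trans h3⟩

theorem Loc2.of_isTwoLocal {X : Subgroup G} (h : IsTwoLocal X) : Loc2 X := by
  obtain ⟨R, h1, h2, rfl⟩ := h
  exact ⟨R, h1, h2, le_rfl⟩

theorem loc2_normalizer {R : Subgroup G} (h : IsPGroup 2 R) (hR : R ≠ ⊥) :
    Loc2 (normalizer (R : Set G)) := ⟨R, h, hR, le_rfl⟩

theorem Loc2.exists_isTwoLocal {X : Subgroup G} (h : Loc2 X) :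
    ∃ N : Subgroup G, IsTwoLocal N ∧ X ≤ N := by
  obtain ⟨R, h1, h2, h3⟩ := h
  exact ⟨_, ⟨R, h1, h2, rfl⟩, h3⟩

theorem Loc2.solvable (hL : ∀ N : Subgroup G, IsTwoLocal N → Group.IsSolvable N) {X : Subgroup G}
    (h : Loc2 X) : Group.IsSolvable X := by
  obtain ⟨N, hN, hXN⟩ := h.exists_isTwoLocal
  have := hL N hN
  exact Group.isSolvable_of_isSolvable_injective (Subgroup.inclusion_injective hXN)

/-- Normalizers grow in 2-groups: an element `s` of `P` outside `T` normalizing `T` with `s² ∈ T`. -/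
theorem exists_normalizing [Finite G] {T P : Subgroup G} (hP : IsPGroup 2 P) (hTP : T < P) :
    ∃ s ∈ P, s ∈ normalizer (T : Set G) ∧ s ∉ T ∧ s * s ∈ T := by
  classical
  have hPn : Group.IsNilpotent P := hP.isNilpotent
  have hlt : T.subgroupOf P < ⊤ := by
    rw [lt_top_iff_ne_top]
    intro h
    rw [subgroupOf_eq_top] at h
    exact not_le_of_gt hTP h
  have hnc : NormalizerCondition P := Group.normalizerCondition_of_isNilpotent
  have h1 := hnc _ hlt
  obtain ⟨x, hx1, hx2⟩ := SetLike.exists_of_lt h1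
  -- the 2-power order modulo `T`
  have hx1' : (x : G) ∈ normalizer (T : Set G) := by
    rw [mem_normalizer_iff] at hx1 ⊢
    intro h
    constructor
    · intro hh
      have := (hx1 ⟨h, hTP.le hh⟩).1 hh
      exact this
    · intro hh
      have hmem : h ∈ P := by
        have h2 : (x : G)⁻¹ * ((x : G) * h * (x : G)⁻¹) * (x : G) ∈ P :=
          P.mul_mem (P.mul_mem (P.inv_mem x.2) (hTP.le hh)) x.2
        have e : (x : G)⁻¹ * ((x : G) * h * (x : G)⁻¹) * (x : G) = h := by group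
        rwa [e] at h2
      exact (hx1 ⟨h, hmem⟩).2 hh
  have hx2' : (x : G) ∉ T := fun h => hx2 h
  obtain ⟨n, hn⟩ := hP x
  have hn' : (x : G) ^ 2 ^ n ∈ T := by
    have := congrArg (Subtype.val : P → G) hn
    rw [Subgroup.coe_pow, Subgroup.coe_one] at this
    rw [this]
    exact T.one_mem
  -- least `k` with `x^(2^k) ∈ T`
  have hex : ∃ k, (x : G) ^ 2 ^ k ∈ T := ⟨n, hn'⟩
  set k := Nat.find hex with hk
  have hk1 : (x : G) ^ 2 ^ k ∈ T := Nat.find_spec hex
  have hk0 : k ≠ 0 := by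
    intro h0
    rw [h0] at hk1
    simp only [pow_zero, pow_one] at hk1
    exact hx2' hk1
  obtain ⟨j, hj⟩ := Nat.exists_eq_succ_of_ne_zero hk0
  refine ⟨(x : G) ^ 2 ^ j, P.pow_mem x.2 _, pow_mem hx1' _, ?_, ?_⟩
  · exact Nat.find_min hex (by omega)
  · rw [← pow_add, ← two_mul, ← pow_succ', ← Nat.succ_eq_add_one, ← hj]
    exact hk1

/-- The configuration of the unique maximal 2-local case. -/
structure Config (M T Y : Subgroup G) (s : G) : Prop where
  two : IsPGroup 2 T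
  ne : T ≠ ⊥
  TM : T ≤ M
  syl : Syl T Y
  loc : Loc2 Y
  solv : Group.IsSolvable Y
  self_cent : Y ⊓ centralizer ((o2 Y : Subgroup G) : Set G) ≤ o2 Y
  notM : ¬ Y ≤ M
  min : ∀ X, T ≤ X → X < Y → X ≤ M
  sM : s ∈ M
  sN : s ∈ normalizer (T : Set G)
  sT : s ∉ T
  sq : s * s ∈ T
  core : ∀ K : Subgroup G, IsPGroup 2 K → K ≠ ⊥ → T ≤ normalizer (K : Set G) →
    s ∈ normalizer (K : Set G) → normalizer (K : Set G) ≤ M
  max : ∀ X : Subgroup G, Loc2 X → ¬ X ≤ M → ∀ P : Subgroup G, IsPGroup 2 P → P ≤ X → P ≤ M →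
    Nat.card P ≤ Nat.card T
  exists_sylow : ∃ S₁ : Sylow 2 G, (S₁ : Subgroup G) ≤ M ∧ T ≤ S₁ ∧ s ∈ S₁

/-- The 2-group generated by `T` and an element normalizing it. -/
theorem isPGroup_sup_zpowers [Finite G] {T S : Subgroup G} {s : G} (hS : IsPGroup 2 S) (hTS : T ≤ S)
    (hs : s ∈ S) : IsPGroup 2 (T ⊔ zpowers s : Subgroup G) :=
  hS.to_le (sup_le hTS ((zpowers_le).2 hs))

theorem lt_sup_zpowers {T : Subgroup G} {s : G} (hs : s ∉ T) : T < T ⊔ zpowers s := by
  refine lt_of_le_of_ne le_sup_left fun h => hs ?_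
  rw [h]
  exact (le_sup_right : zpowers s ≤ T ⊔ zpowers s) (mem_zpowers s)

theorem card_lt_of_lt [Finite G] {H K : Subgroup G} (h : H < K) : Nat.card H < Nat.card K := by
  refine lt_of_le_of_ne (card_le_of_le h.le) fun h1 => ?_
  exact h.ne (eq_of_le_of_card_ge h.le h1.ge)

/-- The maximality of `T` makes it a Sylow 2-subgroup of every local subgroup over `T` not in `M`. -/
theorem syl_of_max [Finite G] {M T X : Subgroup G} (hT2 : IsPGroup 2 T) (hTX : T ≤ X) (hTM : T ≤ M)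
    (hNT : normalizer (T : Set G) ≤ M)
    (hmax : ∀ X : Subgroup G, Loc2 X → ¬ X ≤ M → ∀ P : Subgroup G, IsPGroup 2 P → P ≤ X → P ≤ M →
      Nat.card P ≤ Nat.card T) (hX : Loc2 X) (hXM : ¬ X ≤ M) : Syl T X := by
  refine ⟨hTX, hT2, fun Q hQX hQ hTQ => ?_⟩
  by_contra hQT
  obtain ⟨x, hxQ, hxN, hxT, -⟩ := exists_normalizing hQ (lt_of_le_of_ne hTQ (Ne.symm hQT))
  have h1 : Nat.card ↥(T ⊔ zpowers x) ≤ Nat.card T :=
    hmax X hX hXM _ (isPGroup_sup_zpowers hQ hTQ hxQ)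
      ((sup_le hTQ ((zpowers_le).2 hxQ)).trans hQX)
      (sup_le hTM ((zpowers_le).2 (hNT hxN)))
  exact absurd (card_lt_of_lt (lt_sup_zpowers hxT)) (not_lt.2 h1)

theorem exists_config [Finite G] (hc : IsCharacteristicTwoType G)
    (hL : ∀ N : Subgroup G, IsTwoLocal N → Group.IsSolvable N) (S : Sylow 2 G) (M : Subgroup G)
    (hM : M ≠ ⊤) (hSM : ∀ N : Subgroup G, IsTwoLocal N → (S : Subgroup G) ≤ N → N ≤ M)
    (hse : ¬ IsStronglyEmbedded M) : ∃ (T Y : Subgroup G) (s : G), Config M T Y s := by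
  classical
  have hp : Fact (Nat.Prime 2) := ⟨Nat.prime_two⟩
  -- the Sylow subgroup is nontrivial and lies in `M`
  have hS0 : (S : Subgroup G) ≠ ⊥ := by
    intro h
    have h1 : 2 ∣ Nat.card G := hc.1.two_dvd
    have h2 := S.not_dvd_index
    rw [h, index_bot] at h2
    exact h2 h1
  have hSM' : (S : Subgroup G) ≤ M :=
    le_normalizer.trans (hSM _ ⟨S, S.isPGroup', hS0, rfl⟩ le_normalizer)
  -- a 2-subgroup whose normalizer is not in `M`
  obtain ⟨X₀, hX₀2, hX₀0, hX₀S, hX₀N⟩ : ∃ X : Subgroup G, IsPGroup 2 X ∧ X ≠ ⊥ ∧ X ≤ S ∧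
      ¬ normalizer (X : Set G) ≤ M := by
    by_contra hcon
    push Not at hcon
    apply hse
    have hP0 : ((S.subtype hSM' : Sylow 2 M) : Subgroup M) ≠ ⊥ := by
      intro h
      rw [Sylow.coe_subtype, Subgroup.subgroupOf_eq_bot, disjoint_iff, inf_eq_left.2 hSM'] at h
      exact hS0 h
    refine (Cfsg.Agent.S0214.result M hM (S.subtype hSM') hP0).2 ?_
    intro X hXS hX0
    refine hcon _ ?_ ?_ ?_
    · exact ((S.subtype hSM').isPGroup'.to_le hXS).map _
    · intro h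
      exact hX0 ((Subgroup.map_eq_bot_iff_of_injective _ M.subtype_injective).1 h)
    · rintro _ ⟨x, hx, rfl⟩
      have := hXS hx
      rw [Sylow.coe_subtype] at this
      exact this
  -- the choice of `T`
  obtain ⟨T, ⟨hT2, hTM, X, hX, hTX, hXM⟩, hTmax⟩ := Set.exists_max_image
    {T : Subgroup G | IsPGroup 2 T ∧ T ≤ M ∧ ∃ X : Subgroup G, Loc2 X ∧ T ≤ X ∧ ¬ X ≤ M}
    (fun T => Nat.card T) (Set.toFinite _)
    ⟨X₀, hX₀2, hX₀S.trans hSM', _, loc2_normalizer hX₀2 hX₀0, le_normalizer, hX₀N⟩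
  have hmax : ∀ X : Subgroup G, Loc2 X → ¬ X ≤ M → ∀ P : Subgroup G, IsPGroup 2 P → P ≤ X → P ≤ M →
      Nat.card P ≤ Nat.card T := fun X hX hXM P hP hPX hPM => hTmax P ⟨hP, hPM, X, hX, hPX, hXM⟩
  have hT0 : T ≠ ⊥ := by
    rintro rfl
    have h1 := hmax _ (loc2_normalizer hX₀2 hX₀0) hX₀N X₀ hX₀2 le_normalizer (hX₀S.trans hSM')
    rw [Subgroup.card_bot] at h1
    exact hX₀0 (Subgroup.card_eq_one.1 (le_antisymm h1 Nat.card_pos))
  -- a Sylow subgroup over `T` in `M`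
  obtain ⟨S₁', hS₁', hTS₁'⟩ := exists_syl hT2 hTM
  obtain ⟨x, hxM, hx⟩ := syl_conj (⟨hSM', S.isPGroup', fun Q _ hQ2 hQ => S.is_maximal' hQ2 hQ⟩ :
    Syl (S : Subgroup G) M) hS₁'
  have hS₁e : ((x • S : Sylow 2 G) : Subgroup G) = S₁' := by
    rw [← hx, Sylow.coe_subgroup_smul]
    rfl
  have hS₁M : ((x • S : Sylow 2 G) : Subgroup G) ≤ M := hS₁e.le.trans hS₁'.1
  have hTS₁ : T ≤ ((x • S : Sylow 2 G) : Subgroup G) := hTS₁'.trans hS₁e.ge
  have hne : T ≠ ((x • S : Sylow 2 G) : Subgroup G) := by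
    intro h
    obtain ⟨R, hR2, hR0, hXR⟩ := hX
    apply hXM
    refine hXR.trans ?_
    have h1 : normalizer ((cj x⁻¹ R : Subgroup G) : Set G) ≤ M := by
      refine hSM _ ⟨cj x⁻¹ R, isPGroup_cj _ hR2, ?_, rfl⟩ ?_
      · intro h2
        apply hR0
        have := congrArg (cj x) h2
        rw [cj_cj_inv] at this
        rw [this]
        exact Subgroup.map_bot _
      · rw [← cj_normalizer]
        have h3 : cj x⁻¹ T ≤ cj x⁻¹ (normalizer (R : Set G)) := cj_mono _ (hTX.trans hXR)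
        rw [h, hS₁e, ← hx, cj_inv_cj] at h3
        exact h3
    rw [← cj_normalizer] at h1
    have h2 := cj_mono x h1
    rw [cj_cj_inv] at h2
    refine h2.trans ?_
    rw [cj_eq_of_mem_normalizer (le_normalizer hxM)]
  obtain ⟨s, hsS, hsN, hsT, hsq⟩ := exists_normalizing (x • S : Sylow 2 G).isPGroup'
    (lt_of_le_of_ne hTS₁ hne)
  have hcore : ∀ K : Subgroup G, IsPGroup 2 K → K ≠ ⊥ → T ≤ normalizer (K : Set G) →
      s ∈ normalizer (K : Set G) → normalizer (K : Set G) ≤ M := by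
    intro K hK2 hK0 hTK hsK
    by_contra hKM
    have h1 : Nat.card ↥(T ⊔ zpowers s) ≤ Nat.card T :=
      hmax _ (loc2_normalizer hK2 hK0) hKM _ (isPGroup_sup_zpowers (x • S : Sylow 2 G).isPGroup' hTS₁ hsS)
        (sup_le hTK ((zpowers_le).2 hsK)) (sup_le hTM ((zpowers_le).2 (hS₁M hsS)))
    exact absurd (card_lt_of_lt (lt_sup_zpowers hsT)) (not_lt.2 h1)
  have hNT : normalizer (T : Set G) ≤ M := hcore T hT2 hT0 le_normalizer hsN
  -- the choice of `Y`
  obtain ⟨Y, ⟨hY, hTY, hYM⟩, hYmin⟩ := Set.exists_min_image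
    {Y : Subgroup G | Loc2 Y ∧ T ≤ Y ∧ ¬ Y ≤ M} (fun Y => Nat.card Y) (Set.toFinite _)
    ⟨X, hX, hTX, hXM⟩
  have hsylY : Syl T Y := syl_of_max hT2 hTY hTM hNT hmax hY hYM
  refine ⟨T, Y, s, hT2, hT0, hTM, hsylY, hY, hY.solvable hL, ?_, hYM, ?_, hS₁M hsS, hsN, hsT, hsq, hcore,
    hmax, x • S, hS₁M, hTS₁, hsS⟩
  · -- characteristic 2
    obtain ⟨N, hN, hYN⟩ := hY.exists_isTwoLocal
    have hNM : ¬ N ≤ M := fun h => hYM (hYN.trans h)
    have hsylN : Syl T N := syl_of_max hT2 (hTY.trans hYN) hTM hNT hmax (Loc2.of_isTwoLocal hN) hNM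
    have h1 : o2 N ≤ o2 Y :=
      le_o2 (isPGroup_o2 N) ((o2_le_syl hsylN).trans hTY) (hYN.trans (le_normalizer_o2 N))
    refine le_trans (le_trans ?_ (self_cent hc hN)) h1
    exact inf_le_inf hYN (centralizer_le h1)
  · intro Z hTZ hZY
    by_contra hZM
    have h1 := hYmin Z ⟨hY.mono hZY.le, hTZ, hZM⟩
    exact absurd (card_lt_of_lt hZY) (not_lt.2 h1)

/-! ### Consequences -/

namespace Config

variable {M T Y : Subgroup G} {s : G}

theorem TY (h : Config M T Y s) : T ≤ Y := h.syl.1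

theorem not_dvd [Finite G] (h : Config M T Y s) : ¬ 2 ∣ T.relIndex Y := syl_not_dvd h.syl

/-- `N_G(C) ≤ M` for a nontrivial subgroup `C` of `T` normalized by `N_G(T)`. -/
theorem normalizer_le (h : Config M T Y s) {C : Subgroup G} (hC : IsPGroup 2 C) (hne : C ≠ ⊥)
    (hn : normalizer (T : Set G) ≤ normalizer (C : Set G)) : normalizer (C : Set G) ≤ M :=
  h.core C hC hne (le_normalizer.trans hn) (hn h.sN)

theorem normalizer_T_le (h : Config M T Y s) : normalizer (T : Set G) ≤ M :=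
  h.normalizer_le h.two h.ne le_rfl

/-- No nontrivial subgroup `C` of `T` normalized by `N_G(T)` is normal in `Y`. -/
theorem not_le_normalizer (h : Config M T Y s) {C : Subgroup G} (hC : IsPGroup 2 C) (hne : C ≠ ⊥)
    (hn : normalizer (T : Set G) ≤ normalizer (C : Set G)) : ¬ Y ≤ normalizer (C : Set G) :=
  fun hY => h.notM (hY.trans (h.normalizer_le hC hne hn))

/-- No nontrivial 2-subgroup is normalized by `Y` and `s`. -/
theorem eq_bot (h : Config M T Y s) {K : Subgroup G} (hK : IsPGroup 2 K)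
    (hY : Y ≤ normalizer (K : Set G)) (hs : s ∈ normalizer (K : Set G)) : K = ⊥ := by
  by_contra hne
  exact h.notM (hY.trans (h.core K hK hne (h.TY.trans hY) hs))

/-- `T` is a Sylow 2-subgroup of every local subgroup over `T` not contained in `M`. -/
theorem syl_of_loc [Finite G] (h : Config M T Y s) {X : Subgroup G} (hTX : T ≤ X) (hX : Loc2 X)
    (hXM : ¬ X ≤ M) : Syl T X := syl_of_max h.two hTX h.TM h.normalizer_T_le h.max hX hXM

end Config

end Cfsg.Agent.MinSimple.Choice97
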