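import Cfsg.Agent.MinSimple.DBlkDefs
import Cfsg.Agent.ZN.Facts
import Cfsg.Agent.ZN.Four
import Cfsg.Agent.ZN.BlkFam

/-!
# Consequences of the definition of dihedral blocks
-/

set_option autoImplicit false

namespace Cfsg.Agent.MinSimple.DBlkBasic

open Subgroup Cfsg
open Cfsg.Agent.ZN Cfsg.Agent.ZN.Four

universe u

variable {G : Type u} [Group G] {B L : Subgroup G} {k : ℕ}

theorem zl_le_L (h : IsDBlk B L k) : zl B L ≤ L :=
  zl_le ((zc_le B).trans h.le) le_normalizer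

theorem zl_isPGroup (h : IsDBlk B L k) : IsPGroup 2 (zl B L) := fun x =>
  ⟨1, by rw [pow_one]; exact Subtype.ext (h.zl_sq x x.2)⟩

theorem zl_le_o2 (h : IsDBlk B L k) : zl B L ≤ o2 L :=
  le_o2 (zl_le_L h) (zl_isPGroup h) (le_normalizer_zl B L)

theorem zl_le_B (h : IsDBlk B L k) : zl B L ≤ B := (zl_le_o2 h).trans h.o2_le

theorem zc_le_o2 (h : IsDBlk B L k) : zc B ≤ o2 L := zc_le_zl.trans (zl_le_o2 h)

theorem vl_le_o2 (h : IsDBlk B L k) : vl B L ≤ o2 L := (vl_le_zl B L).trans (zl_le_o2 h)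

theorem vl_sq (h : IsDBlk B L k) : ∀ v ∈ vl B L, v ^ 2 = 1 := fun v hv =>
  h.zl_sq v (vl_le_zl B L hv)

theorem zl_mul_self (h : IsDBlk B L k) {v : G} (hv : v ∈ zl B L) : v * v = 1 := by
  rw [← pow_two]; exact h.zl_sq v hv

theorem zl_inv (h : IsDBlk B L k) {v : G} (hv : v ∈ zl B L) : v⁻¹ = v :=
  inv_eq_of_mul_eq_one_left (zl_mul_self h hv)

theorem o2_comm (h : IsDBlk B L k) {q v : G} (hq : q ∈ o2 L) (hv : v ∈ zl B L) :
    q * v = v * q := by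
  rw [← h.cent_zl] at hq
  exact (mem_centralizer_iff.1 hq.2 v hv).symm

theorem mem_o2 (h : IsDBlk B L k) {b : G} (hb : b ∈ B) (hc : ∀ v ∈ zl B L, b * v = v * b) :
    b ∈ o2 L := by
  rw [← h.cent_zl]
  exact mem_inf.2 ⟨hb, mem_centralizer_iff.2 fun v hv => (hc v hv).symm⟩

theorem mem_o2_of_vl (h : IsDBlk B L k) {b : G} (hb : b ∈ B) (hc : ∀ v ∈ vl B L, b * v = v * b) :
    b ∈ o2 L := by
  rw [← h.cent_vl]
  exact mem_inf.2 ⟨hb, mem_centralizer_iff.2 fun v hv => (hc v hv).symm⟩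

theorem o2_two (h : IsDBlk B L k) {s t : G} (hs : s ∈ B) (ht : t ∈ B) (hs' : s ∉ o2 L)
    (ht' : t ∉ o2 L) : s * t ∈ o2 L := by
  obtain ⟨a, ha, hab⟩ := Subgroup.relIndex_eq_two_iff.1 h.o2_index
  have h1 := hab s hs
  have h2 := hab t⁻¹ (inv_mem ht)
  have ht'' : t⁻¹ ∉ o2 L := fun h => ht' (by simpa using inv_mem h)
  rcases h1 with ⟨h1, -⟩ | ⟨h1, -⟩
  · rcases h2 with ⟨h2, -⟩ | ⟨h2, -⟩
    · have h3 := mul_mem h1 (inv_mem h2)
      have h4 : s * a * (t⁻¹ * a)⁻¹ = s * t := by group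
      rwa [h4] at h3
    · exact absurd h2 ht''
  · exact absurd h1 hs'

theorem zl_eq_sup (h : IsDBlk B L k) : zl B L = zc B ⊔ vl B L := by
  apply le_antisymm
  · rw [← h.sup_eq]
    exact sup_le_sup_right (rl_le_zc B L) _
  · exact sup_le zc_le_zl (vl_le_zl B L)

theorem mem_zl_iff (h : IsDBlk B L k) {v : G} :
    v ∈ zl B L ↔ ∃ c ∈ zc B, ∃ w ∈ vl B L, v = c * w := by
  rw [zl_eq_sup h]
  exact BlkFam.mem_sup_of_comm fun r hr w hw =>
    h.zl_comm r (zc_le_zl hr) w (vl_le_zl B L hw)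

/-- The central involution `z` of the block: `vl B L ∩ Ω₁(Z(B)) = ⟨z⟩`. -/
theorem exists_z (h : IsDBlk B L k) : ∃ z : G, z ∈ zc B ∧ z ∈ vl B L ∧ z ≠ 1 ∧ z ∉ rl B L ∧
    ∀ v ∈ vl B L, v ∈ zc B → v = 1 ∨ v = z := by
  obtain ⟨a, ha, hab⟩ := Subgroup.relIndex_eq_two_iff.1 h.rl_index
  -- an element of `zc B` outside `rl`
  obtain ⟨c, hc, hcr⟩ : ∃ c ∈ zc B, c ∉ rl B L := by
    rcases hab 1 (one_mem _) with ⟨-, h1⟩ | ⟨-, h1⟩
    · exact absurd (one_mem _) h1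
    · exact ⟨a, ha, by simpa using h1⟩
  have htwo : ∀ s ∈ zc B, ∀ t ∈ zc B, s ∉ rl B L → t ∉ rl B L → s * t ∈ rl B L := by
    intro s hs t ht hs' ht'
    have ht'' : t⁻¹ ∉ rl B L := fun h => ht' (by simpa using inv_mem h)
    rcases hab s hs with ⟨h1, -⟩ | ⟨h1, -⟩
    · rcases hab t⁻¹ (inv_mem ht) with ⟨h2, -⟩ | ⟨h2, -⟩
      · have h3 := mul_mem h1 (inv_mem h2)
        have h4 : s * a * (t⁻¹ * a)⁻¹ = s * t := by group
        rwa [h4] at h3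
      · exact absurd h2 ht''
    · exact absurd h1 hs'
  have hczl : c ∈ rl B L ⊔ vl B L := by
    rw [h.sup_eq]; exact zc_le_zl hc
  rw [BlkFam.mem_sup_of_comm (fun r hr w hw =>
    h.zl_comm r (rl_le_zl B L hr) w (vl_le_zl B L hw))] at hczl
  obtain ⟨r, hr, z, hz, hcz⟩ := hczl
  have hzeq : z = r⁻¹ * c := by rw [hcz]; group
  have hzzc : z ∈ zc B := by
    rw [hzeq]; exact mul_mem (inv_mem (rl_le_zc B L hr)) hc
  have hz1 : z ≠ 1 := by
    intro h1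
    apply hcr
    rw [hcz, h1, mul_one]; exact hr
  have hdisj : ∀ v ∈ vl B L, v ∈ rl B L → v = 1 := by
    intro v hv hvr
    have : v ∈ rl B L ⊓ vl B L := mem_inf.2 ⟨hvr, hv⟩
    rw [h.disj] at this
    exact mem_bot.1 this
  refine ⟨z, hzzc, hz, hz1, fun hzr => hz1 (hdisj z hz hzr), ?_⟩
  intro v hv hvz
  by_cases hv1 : v = 1
  · left; exact hv1
  · right
    have h1 := htwo v hvz z hzzc (fun h => hv1 (hdisj v hv h)) (fun h => hz1 (hdisj z hz h))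
    have h2 := hdisj _ (mul_mem hv hz) h1
    have h3 : v = z⁻¹ := eq_inv_of_mul_eq_one_left h2
    rw [h3, zl_inv h (vl_le_zl B L hz)]

section z

variable {z : G}

/-- The commutator of an element of `zl` and an element of `B` not commuting is `z`. -/
theorem comm_eq (h : IsDBlk B L k) (hz : z ∈ zc B) (hzv : z ∈ vl B L) (hz1 : z ≠ 1)
    (hzu : ∀ v ∈ vl B L, v ∈ zc B → v = 1 ∨ v = z) {v b : G} (hv : v ∈ zl B L) (hb : b ∈ B)
    (hne : v * b ≠ b * v) : v * b * v⁻¹ * b⁻¹ = z := by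
  obtain ⟨c, hc, w, hw, rfl⟩ := (mem_zl_iff h).1 hv
  have hbc : b * c = c * b := zc_comm hc hb
  have hbz : b * z * b⁻¹ = z := by rw [zc_comm hz hb]; group
  have hbn := le_normalizer_vl B L (h.le hb)
  have hwc : w * c = c * w := h.zl_comm w (vl_le_zl B L hw) c (zc_le_zl hc)
  have hwb : w * b ≠ b * w := by
    intro h1
    apply hne
    calc c * w * b = c * (w * b) := by group
      _ = c * (b * w) := by rw [h1]
      _ = (c * b) * w := by group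
      _ = b * (c * w) := by rw [← hbc]; group
  have hw1 : w ≠ 1 := by rintro rfl; exact hwb (by simp)
  have hwz : z ≠ w := by
    rintro rfl
    exact hwb (zc_comm hz hb).symm
  have hbw : b * w * b⁻¹ = z * w := by
    rcases fix_dichotomy h.card_vl (vl_sq h) hzv hw hz1 hw1 hwz hbn hbz with h1 | h1
    · exfalso; apply hwb
      calc w * b = (b * w * b⁻¹) * b := by rw [h1]
        _ = b * w := by group
    · exact h1
  have hww : w * w = 1 := zl_mul_self h (vl_le_zl B L hw)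
  have hwi : w⁻¹ = w := zl_inv h (vl_le_zl B L hw)
  have hzw : w * z = z * w := h.zl_comm w (vl_le_zl B L hw) z (zc_le_zl hz)
  calc c * w * b * (c * w)⁻¹ * b⁻¹ = c * w * (b * w⁻¹ * b⁻¹) * (b * c * b⁻¹)⁻¹ := by group
    _ = c * w * (b * w * b⁻¹) * c⁻¹ := by rw [hwi, hbc]; group
    _ = c * (w * z) * w * c⁻¹ := by rw [hbw]; group
    _ = c * z * (w * w) * c⁻¹ := by rw [hzw]; group
    _ = z := by
      rw [hww, mul_one, h.zl_comm c (zc_le_zl hc) z (zc_le_zl hz)]; group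

theorem ncomm (h : IsDBlk B L k) (hz : z ∈ zc B) (hzv : z ∈ vl B L) (hz1 : z ≠ 1)
    {v b : G} (hv : v ∈ zl B L) (hvz : v ∉ zc B) (hb : b ∈ B) (hbQ : b ∉ o2 L) :
    v * b ≠ b * v := by
  intro hcm
  obtain ⟨c, hc, w, hw, rfl⟩ := (mem_zl_iff h).1 hv
  have hbc : b * c = c * b := zc_comm hc hb
  have hbz : b * z * b⁻¹ = z := by rw [zc_comm hz hb]; group
  have hwb : b * w * b⁻¹ = w := by
    have h1 : b * w = w * b := by
      calc b * w = c⁻¹ * (c * b) * w := by group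
        _ = c⁻¹ * (b * (c * w)) := by rw [← hbc]; group
        _ = c⁻¹ * (c * w * b) := by rw [hcm]
        _ = w * b := by group
    rw [h1]; group
  have hw1 : w ≠ 1 := by
    rintro rfl
    exact hvz (by rw [mul_one]; exact hc)
  have hwz : z ≠ w := by
    rintro rfl
    exact hvz (mul_mem hc hz)
  apply hbQ
  have h1 := cent_of_two h.card_vl (vl_sq h) hzv hw hz1 hw1 hwz hbz hwb
  rw [← h.cent_vl]
  exact mem_inf.2 ⟨hb, h1⟩

theorem zfix (h : IsDBlk B L k) (hzv : z ∈ vl B L) (hz1 : z ≠ 1)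
    (hzu : ∀ v ∈ vl B L, v ∈ zc B → v = 1 ∨ v = z) {l : G} (hl : l ∈ L)
    (hlz : l * z * l⁻¹ ∈ zc B) : l * z * l⁻¹ = z := by
  have h1 : l * z * l⁻¹ ∈ vl B L := conj_mem (le_normalizer_vl B L hl) hzv
  rcases hzu _ h1 hlz with h2 | h2
  · exfalso; apply hz1
    calc z = l⁻¹ * (l * z * l⁻¹) * l := by group
      _ = 1 := by rw [h2]; group
  · exact h2

theorem moves (h : IsDBlk B L k) (hzv : z ∈ vl B L) (hz1 : z ≠ 1) :
    ∃ l ∈ L, l * z * l⁻¹ ≠ z := by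
  obtain ⟨y, hy, -, -, -, h3, -⟩ := h.dih
  exact ⟨y, hy, fun h4 => hz1 (h3 z hzv h4)⟩

/-- `b yⁿ b⁻¹ yⁿ ∈ O₂(L)`. -/
theorem conj_pow (h : IsDBlk B L k) {y : G} (hy : y ∈ L)
    (h1 : ∀ b ∈ B, b ∉ o2 L → b * y * b⁻¹ * y ∈ o2 L) {b : G} (hb : b ∈ B) (hbQ : b ∉ o2 L)
    (n : ℕ) : b * y ^ n * b⁻¹ * y ^ n ∈ o2 L := by
  induction n with
  | zero => simp
  | succ n ih =>
    have hq := h1 b hb hbQ
    have hyn : (y ^ n) ∈ L := pow_mem hy n
    have h2 : (y ^ n)⁻¹ * (b * y * b⁻¹ * y) * y ^ n ∈ o2 L :=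
      conj_mem' (le_normalizer_o2 L hyn) hq
    have h3 : b * y ^ (n + 1) * b⁻¹ * y ^ (n + 1) =
        (b * y ^ n * b⁻¹ * y ^ n) * ((y ^ n)⁻¹ * (b * y * b⁻¹ * y) * y ^ n) := by
      rw [pow_succ' y n, ← pow_succ' y n, pow_succ y n]
      have e : y ^ n * y = y * y ^ n := by rw [← pow_succ, ← pow_succ']
      calc b * (y ^ n * y) * b⁻¹ * (y ^ n * y) = b * (y ^ n * y) * b⁻¹ * (y * y ^ n) := by rw [e]
        _ = (b * y ^ n * b⁻¹ * y ^ n) * ((y ^ n)⁻¹ * (b * y * b⁻¹ * y) * y ^ n) := by group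
    rw [h3]
    exact mul_mem ih h2

/-- `L = ⟨u, Bˡ⟩` for `u ∈ B - O₂(L)` and `l` moving `z`. -/
theorem gen (h : IsDBlk B L k) (hz : z ∈ zc B) (hzv : z ∈ vl B L) {u : G} (hu : u ∈ B)
    (huQ : u ∉ o2 L) {l : G} (hl : l ∈ L) (hlz : l * z * l⁻¹ ≠ z) {H : Subgroup G} (huH : u ∈ H)
    (hH : ∀ b ∈ B, l * b * l⁻¹ ∈ H) : L ≤ H := by
  obtain ⟨y, hy, hy0, hy1, hy2, -, hy4⟩ := h.dih
  have hQH : o2 L ≤ H := by
    intro q hq
    have h1 := conj_mem' (le_normalizer_o2 L hl) hq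
    have h2 := hH _ (h.o2_le h1)
    have h3 : l * (l⁻¹ * q * l) * l⁻¹ = q := by group
    rwa [h3] at h2
  obtain ⟨n, b0, hb0, rfl⟩ := hy2 l hl
  have hyn : ∀ b ∈ B, y ^ n * b * (y ^ n)⁻¹ ∈ H := by
    intro b hb
    have h1 := hH (b0⁻¹ * b * b0) (mul_mem (mul_mem (inv_mem hb0) hb) hb0)
    have h2 : y ^ n * b0 * (b0⁻¹ * b * b0) * (y ^ n * b0)⁻¹ = y ^ n * b * (y ^ n)⁻¹ := by group
    rwa [h2] at h1
  have hn3 : ¬ 3 ∣ n := by
    rintro ⟨m, rfl⟩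
    apply hlz
    have h1 : b0 * z * b0⁻¹ = z := by rw [zc_comm hz hb0]; group
    have h2 : ∀ m : ℕ, y ^ (3 * m) * z * (y ^ (3 * m))⁻¹ = z := by
      intro m
      induction m with
      | zero => simp
      | succ m ih =>
        have h3 : y ^ (3 * (m + 1)) = y ^ (3 * m) * y ^ 3 := by rw [← pow_add]; ring_nf
        rw [h3]
        calc y ^ (3 * m) * y ^ 3 * z * (y ^ (3 * m) * y ^ 3)⁻¹
            = y ^ (3 * m) * (y ^ 3 * z * (y ^ 3)⁻¹) * (y ^ (3 * m))⁻¹ := by group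
          _ = z := by rw [hy4 z hzv, ih]
    calc y ^ (3 * m) * b0 * z * (y ^ (3 * m) * b0)⁻¹
        = y ^ (3 * m) * (b0 * z * b0⁻¹) * (y ^ (3 * m))⁻¹ := by group
      _ = z := by rw [h1, h2]
  have hy2n : y ^ (2 * n) ∈ H := by
    have h1 := conj_pow h hy hy1 hu huQ n
    have h2 := hyn u hu
    have h3 : y ^ (2 * n) = (y ^ n * u * (y ^ n)⁻¹) * u⁻¹ * (u * y ^ n * u⁻¹ * y ^ n) := by
      rw [two_mul, pow_add]; group
    rw [h3]
    exact mul_mem (mul_mem h2 (inv_mem huH)) (hQH h1)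
  have hyH : y ∈ H := by
    have hcop : Nat.Coprime (2 * n) (3 ^ k) := by
      apply Nat.Coprime.pow_right
      rw [Nat.coprime_comm, Nat.Prime.coprime_iff_not_dvd Nat.prime_three]
      intro h1
      rcases (Nat.Prime.dvd_mul Nat.prime_three).1 h1 with h2 | h2
      · norm_num at h2
      · exact hn3 h2
    have hk : 1 ≤ 3 ^ k := Nat.one_le_pow _ _ (by norm_num)
    obtain ⟨m, hm⟩ := Nat.exists_mul_mod_eq_one_of_coprime hcop
      (Nat.one_lt_pow (by have := h.pos; omega) (by norm_num))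
    have h1 : y ^ (2 * n * m) = y := by
      rw [← Nat.mod_add_div (2 * n * m) (3 ^ k), hm.2, pow_add, pow_one, pow_mul, hy0, one_pow,
        mul_one]
    rw [← h1, pow_mul]
    exact pow_mem hy2n m
  have hBH : B ≤ H := by
    intro b hb
    by_cases hbQ : b ∈ o2 L
    · exact hQH hbQ
    · have huQ' : u⁻¹ ∉ o2 L := fun h => huQ (by simpa using inv_mem h)
      have h1 := o2_two h hb (inv_mem hu) hbQ huQ'
      have h2 : b = (b * u⁻¹) * u := by group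
      rw [h2]
      exact mul_mem (hQH h1) huH
  intro g hg
  obtain ⟨m, b, hb, rfl⟩ := hy2 g hg
  exact mul_mem (pow_mem hyH m) (hBH hb)

/-- every coset `kB` contains a conjugate of `g ∈ B - O₂(L)`. -/
theorem dihed (h : IsDBlk B L k) {g : G} (hg : g ∈ B) (hgQ : g ∉ o2 L) {c : G} (hc : c ∈ L) :
    ∃ l ∈ L, ∃ b ∈ B, l⁻¹ * g * l = c * b := by
  obtain ⟨y, hy, hy0, hy1, hy2, -, -⟩ := h.dih
  obtain ⟨n, b1, hb1, rfl⟩ := hy2 c hc
  obtain ⟨e, he⟩ : ∃ e, 3 ^ k = 2 * e + 1 := by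
    have h1 : Odd (3 ^ k) := Odd.pow (by decide)
    exact h1
  set m := n * e with hm
  have hym : y ^ m ∈ L := pow_mem hy m
  have hq := conj_pow h hy hy1 hg hgQ m
  -- `y⁻ᵐ g yᵐ = y⁻²ᵐ q₂ g`
  have hq2 : y ^ m * (g * y ^ m * g⁻¹ * y ^ m) * (y ^ m)⁻¹ ∈ o2 L :=
    conj_mem (le_normalizer_o2 L hym) hq
  have h2m : y ^ (2 * m + n) = 1 := by
    have : 2 * m + n = 3 ^ k * n := by rw [he, hm]; ring
    rw [this, pow_mul, hy0, one_pow]
  have hyn : y ^ n = (y ^ m * y ^ m)⁻¹ := by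
    rw [eq_inv_iff_mul_eq_one, ← pow_add, ← pow_add, ← h2m]
    congr 1; ring
  refine ⟨y ^ m, hym, b1⁻¹ * ((y ^ m * (g * y ^ m * g⁻¹ * y ^ m) * (y ^ m)⁻¹) * g),
    mul_mem (inv_mem hb1) (mul_mem (h.o2_le hq2) hg), ?_⟩
  rw [hyn]
  group

end z

end Cfsg.Agent.MinSimple.DBlkBasic
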