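import Cfsg.Agent.MinSimple.CaseOneAP
import Cfsg.Agent.MinSimple.Choice97
import Cfsg.Agent.MinSimple.DBlkBasic

/-!
# Unique maximal 2-local subgroup: the configuration

`Cfg M T s`: `T` is a 2-subgroup of `M` with lexicographically maximal key lying in a 2-local subgroup
not contained in `M`, `s` normalises `T`, `s ∉ T`, `s² ∈ T`, `T⟨s⟩` lies in a Sylow 2-subgroup `S₁ ≤ M` of `G`.
-/

set_option autoImplicit false

namespace Cfsg.Agent.MinSimple.CaseOneCfg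

open Subgroup Cfsg Cfsg.Agent.ZN Cfsg.Agent.ZN.ChoiceBase Cfsg.Agent.ZN.ChoiceSit
open Cfsg.Agent.ZN.CaseTwo (Cand Max)

universe u

variable {G : Type u} [Group G]

structure Cfg (M T : Subgroup G) (s : G) : Prop where
  max : Max M T
  sN : s ∈ normalizer (T : Set G)
  sT : s ∉ T
  sq : s * s ∈ T
  syl : ∃ S₁ : Sylow 2 G, (S₁ : Subgroup G) ≤ M ∧ T ≤ S₁ ∧ s ∈ S₁ ∧
    ∀ X : Subgroup G, IsTwoLocal X → (S₁ : Subgroup G) ≤ X → X ≤ M

theorem exists_cfg [Finite G] (hc : IsCharacteristicTwoType G) (hO : pCore 2 G = ⊥)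
    (hse : ∀ K : Subgroup G, ¬ IsStronglyEmbedded K) (S : Sylow 2 G) {M : Subgroup G}
    (hM : IsTwoLocal M) (hSM : (S : Subgroup G) ≤ M)
    (hall : ∀ X : Subgroup G, IsTwoLocal X → (S : Subgroup G) ≤ X → X ≤ M) :
    ∃ (T : Subgroup G) (s : G), Cfg M T s := by
  have hp : Fact (Nat.Prime 2) := ⟨Nat.prime_two⟩
  obtain ⟨T, hT⟩ := CaseTwo.exists_max (CaseTwo.exists_cand hc hO hse S hM hSM)
  obtain ⟨S₁, hS₁, hTS⟩ := exists_syl hT.1.1 hT.1.2.2.1
  obtain ⟨m, hm, hmS⟩ := syl_conj (CaseTwo.syl_of_sylow S hSM) hS₁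
  have hS₁e : ((m • S : Sylow 2 G) : Subgroup G) = S₁ := by
    rw [← hmS, Sylow.coe_subgroup_smul]
    rfl
  have hallS : ∀ X : Subgroup G, IsTwoLocal X → S₁ ≤ X → X ≤ M := by
    intro X hX hSX
    have h1 : cj m⁻¹ X ≤ M := by
      refine hall _ (isTwoLocal_cj _ hX) ?_
      rw [← cj_inv_cj m (S : Subgroup G), hmS]
      exact cj_mono _ hSX
    have h2 := cj_mono m h1
    rw [cj_cj_inv] at h2
    rwa [cj_eq_of_mem_normalizer (le_normalizer hm)] at h2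
  have hne : T ≠ S₁ := by
    rintro rfl
    obtain ⟨X, hX, hXM, hTX⟩ := hT.1.2.2.2
    exact hXM (hallS X hX hTX)
  obtain ⟨s, hs1, hs2, hs3, hs4⟩ := Choice97.exists_normalizing hS₁.2.1 (lt_of_le_of_ne hTS hne)
  refine ⟨T, s, hT, hs2, hs3, hs4, m • S, ?_, ?_, ?_, ?_⟩
  · rw [hS₁e]; exact hS₁.1
  · rw [hS₁e]; exact hTS
  · have : s ∈ ((m • S : Sylow 2 G) : Subgroup G) := by rw [hS₁e]; exact hs1
    exact this
  · rw [hS₁e]; exact hallS

namespace Cfg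

variable {M T : Subgroup G} {s : G}

theorem TM (h : Cfg M T s) : T ≤ M := h.max.1.2.2.1

theorem two (h : Cfg M T s) : IsPGroup 2 T := h.max.1.1

theorem ne (h : Cfg M T s) : T ≠ ⊥ := h.max.1.2.1

theorem A_le (h : Cfg M T s) : T ⊔ zpowers s ≤ M := by
  obtain ⟨S₁, h1, h2, h3, -⟩ := h.syl
  exact (sup_le h2 (zpowers_le.2 h3)).trans h1

theorem A_two (h : Cfg M T s) : IsPGroup 2 ↥(T ⊔ zpowers s) := by
  obtain ⟨S₁, h1, h2, h3, -⟩ := h.syl
  exact S₁.isPGroup'.to_le (sup_le h2 (zpowers_le.2 h3))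

theorem ne_A (h : Cfg M T s) : T ≠ T ⊔ zpowers s := by
  intro he
  apply h.sT
  rw [he]
  exact (le_sup_right : zpowers s ≤ T ⊔ zpowers s) (mem_zpowers s)

theorem A_norm (h : Cfg M T s) : T ⊔ zpowers s ≤ normalizer (T : Set G) :=
  sup_le le_normalizer (zpowers_le.2 h.sN)

/-- `N_G(C) ≤ M` if `C` is normalised by `T⟨s⟩`. -/
theorem normalizer_le [Finite G] (h : Cfg M T s) {C : Subgroup G} (hC : IsPGroup 2 C)
    (hC1 : C ≠ ⊥) (hn : T ⊔ zpowers s ≤ normalizer (C : Set G)) : normalizer (C : Set G) ≤ M :=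
  h.max.normalizer_le h.A_two le_sup_left h.ne_A h.A_le hC hC1 hn

theorem normalizer_T_le [Finite G] (h : Cfg M T s) : normalizer (T : Set G) ≤ M :=
  h.normalizer_le h.two h.ne h.A_norm

/-- `T` is a Sylow 2-subgroup of every 2-local subgroup over `T` not contained in `M`. -/
theorem syl_of [Finite G] (h : Cfg M T s) {X : Subgroup G} (hX : IsTwoLocal X) (hTX : T ≤ X)
    (hXM : ¬ X ≤ M) : Syl T X := by
  refine ⟨hTX, h.two, fun Q hQX hQ hTQ => ?_⟩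
  by_contra hne
  obtain ⟨x, hx1, hx2, hx3⟩ := CaseTwo.exists_normalizing hQ hTQ (Ne.symm hne)
  have h1 : Cand M (T ⊔ zpowers x) := by
    refine ⟨hQ.to_le (sup_le hTQ (zpowers_le.2 hx1)), fun h0 => h.ne (le_bot_iff.1 (h0 ▸ le_sup_left)),
      sup_le h.TM (zpowers_le.2 (h.normalizer_T_le hx3)), X, hX, hXM,
      sup_le hTX (zpowers_le.2 (hQX hx1))⟩
  have h2 := eq_of_key_le (le_sup_left : T ≤ T ⊔ zpowers x) (h.max.2 _ h1)
  apply hx2
  rw [h2]
  exact (le_sup_right : zpowers x ≤ T ⊔ zpowers x) (mem_zpowers x)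

theorem cent_zc_le [Finite G] (hc : IsCharacteristicTwoType G) (h : Cfg M T s) {X : Subgroup G}
    (hX : IsTwoLocal X) (hTX : T ≤ X) (hXM : ¬ X ≤ M) : centralizer (zc T : Set G) ≤ M := by
  have hp : Fact (Nat.Prime 2) := ⟨Nat.prime_two⟩
  obtain ⟨S₁, h1, h2, h3, h4⟩ := h.syl
  have hsyl := h.syl_of hX hTX hXM
  have h5 : zc (S₁ : Subgroup G) ≤ T := zc_le_syl hc hX hsyl h2
  have h6 : zc (S₁ : Subgroup G) ≤ zc T := by
    intro x hx
    have hx' := FinalBridge.mem_zc.1 hx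
    exact FinalBridge.mem_zc.2 ⟨h5 hx, hx'.2.1, fun y hy => hx'.2.2 y (h2 hy)⟩
  have hS1 : (S₁ : Subgroup G) ≠ ⊥ := fun h0 => h.ne (le_bot_iff.1 (h2.trans h0.le))
  have h7 : zc (S₁ : Subgroup G) ≠ ⊥   := ChoiceSit.zc_ne_bot S₁.isPGroup' hS1
  have h8 : IsTwoLocal (normalizer (zc (S₁ : Subgroup G) : Set G)) :=
    ⟨_, S₁.isPGroup'.to_le (ChoiceSit.zc_le _), h7, rfl⟩
  refine (centralizer_le h6).trans ((centralizer_le_normalizer _).trans (h4 _ h8 ?_))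
  refine le_trans ?_ (centralizer_le_normalizer _)
  intro x hx
  rw [mem_centralizer_iff]
  exact fun y hy => ((FinalBridge.mem_zc.1 hy).2.2 x hx).symm

theorem normalizer_bau_le [Finite G] (h : Cfg M T s) :
    normalizer (bau T : Set G) ≤ M := by
  refine h.normalizer_le (h.two.to_le (ChoiceBase.bau_le T)) ?_ (h.A_norm.trans (normalizer_le_bau T))
  intro h0
  exact CaseTwo.jj_ne_bot h.two h.ne (le_bot_iff.1 ((ChoiceBase.jj_le_bau T).trans h0.le))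

theorem exists_local (h : Cfg M T s) : ∃ X, IsTwoLocal X ∧ ¬ X ≤ M ∧ T ≤ X := h.max.1.2.2.2

theorem mem_A (h : Cfg M T s) {a : G} (ha : a ∈ T ⊔ zpowers s) : a ∈ T ∨ s⁻¹ * a ∈ T := by
  rw [sup_comm] at ha
  obtain ⟨x, hx, τ, hτ, rfl⟩ := Cfsg.Agent.OddOrderLocal.RankBasics.exists_mul_of_mem_sup
    (zpowers_le.2 h.sN) ha
  obtain ⟨n, rfl⟩ := mem_zpowers_iff.1 hx
  have h2 : s ^ (2 : ℤ) ∈ T := by
    have : s ^ (2 : ℤ) = s * s := by rw [zpow_ofNat, pow_two]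
    rw [this]
    exact h.sq
  rcases Int.even_or_odd' n with ⟨m, rfl | rfl⟩
  · left
    refine mul_mem ?_ hτ
    rw [zpow_mul]
    exact zpow_mem h2 m
  · right
    have e : s⁻¹ * (s ^ (2 * m + 1) * τ) = (s ^ (2 : ℤ)) ^ m * τ := by
      rw [← zpow_mul, add_comm, zpow_add, zpow_one]
      group
    rw [e]
    exact mul_mem (zpow_mem h2 m) hτ

theorem idx (h : Cfg M T s) {a b : G} (ha : a ∈ T ⊔ zpowers s) (hb : b ∈ T ⊔ zpowers s)
    (haT : a ∉ T) (hbT : b ∉ T) : a⁻¹ * b ∈ T := by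
  have h1 := (h.mem_A ha).resolve_left haT
  have h2 := (h.mem_A hb).resolve_left hbT
  have e : a⁻¹ * b = (s⁻¹ * a)⁻¹ * (s⁻¹ * b) := by group
  rw [e]
  exact mul_mem (inv_mem h1) h2

end Cfg

/-- A block over `B = bau T` not contained in `M`, with the two facts on its `T`-conjugates. -/
structure GoodBlk (M T L : Subgroup G) (k : ℕ) : Prop where
  blk : IsDBlk (bau T) L k
  notM : ¬ L ≤ M
  side : ∀ t ∈ T, ∀ l ∈ L, ∀ v ∈ zl (bau T) L, l * (t * v * t⁻¹) * l⁻¹ ∈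
    zl (bau T) L ⊔ (zl (bau T) L).map (MulAut.conj t).toMonoidHom
  indep : ∀ t ∈ T, ∀ z ∈ vl (bau T) L, z ∈ zc (bau T) → z ≠ 1 → t * z * t⁻¹ = z →
    ∀ v ∈ zl (bau T) L, t * v * t⁻¹ ∈ zl (bau T) L

theorem GoodBlk.data [Finite G] {M T L : Subgroup G} {s : G} {k : ℕ} (h : GoodBlk M T L k)
    (hs : Cfg M T s) {z : G} (hz : z ∈ zc (bau T)) (hzv : z ∈ vl (bau T) L) (hz1 : z ≠ 1)
    (hzu : ∀ v ∈ vl (bau T) L, v ∈ zc (bau T) → v = 1 ∨ v = z) :
    PushUp.Data (T ⊔ zpowers s) T L (bau T) (o2 L) (zl (bau T) L) (zc (bau T)) z where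
  TA := le_sup_left
  idx := fun a ha b hb haT hbT => hs.idx ha hb haT hbT
  BT := ChoiceBase.bau_le T
  BL := h.blk.le
  QB := h.blk.o2_le
  VQ := DBlkBasic.zl_le_o2 h.blk
  ZV := FinalBridge.zc_le_zl _ _
  AnB := fun a ha b hb => (mem_normalizer_iff.1 (normalizer_le_bau T (hs.A_norm ha)) b).1 hb
  AnZ := fun a ha b hb => FinalBridge.zc_conj (normalizer_le_bau T (hs.A_norm ha)) hb
  LnQ := fun l hl q hq => (mem_normalizer_iff.1 (FinalBridge.le_normalizer_o2 L hl) q).1 hq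
  LnV := fun l hl v hv => FinalBridge.zl_conj_of_mem hl hv
  BcZ := fun b hb y hy => (FinalBridge.mem_zc.1 hy).2.2 b hb
  Vsq := fun v hv => DBlkBasic.zl_mul_self h.blk hv
  QcV := fun b hb hc => DBlkBasic.mem_o2 h.blk hb hc
  VcQ := fun q hq v hv => DBlkBasic.o2_comm h.blk hq hv
  zZ := hz
  z1 := hz1
  comm := fun v hv b hb hne => DBlkBasic.comm_eq h.blk hz hzv hz1 hzu hv hb hne
  ncomm := fun v hv hvz b hb hbQ => DBlkBasic.ncomm h.blk hz hzv hz1 hv hvz hb hbQ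
  gen := fun u hu huQ l hl hlz H huH hH => DBlkBasic.gen h.blk hz hzv hu huQ hl hlz huH hH
  moves := DBlkBasic.moves h.blk hzv hz1
  zfix := fun l hl hlz => DBlkBasic.zfix h.blk hzv hz1 hzu hl hlz
  dihed := fun g hg hgQ c hc => DBlkBasic.dihed h.blk hg hgQ hc
  side := h.side
  indep := fun t ht htz => h.indep t ht z hzv hz hz1 htz
  core := by
    intro R hR hL hA
    by_contra hne
    apply h.notM
    refine le_trans (le_normalizer_iff.2 hL) (hs.normalizer_le (h.blk.two.to_le hR) hne ?_)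
    exact le_normalizer_iff.2 hA

/-- From the configuration to the situation after pushing up. -/
theorem GoodBlk.exists_sit [Finite G] {M T L : Subgroup G} {s : G} {k : ℕ} (h : GoodBlk M T L k)
    (hs : Cfg M T s) : ∃ z t : G, CaseOneAP.Sit (T ⊔ zpowers s) T (bau T) L k z t ∧ t ∉ T := by
  obtain ⟨z, hz, hzv, hz1, -, hzu⟩ := DBlkBasic.exists_z h.blk
  have hd := h.data hs hz hzv hz1 hzu
  obtain ⟨t, ht, v, hv, u, hu, hne⟩ := hd.exists_noncommuting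
  have htz := hd.noncomm_z ht hv hu hne
  refine ⟨z, t, ⟨h.blk, hd, hzv, ht, ⟨v, hv, u, hu, hne⟩, htz⟩, fun htT => hne ?_⟩
  exact h.blk.zl_comm _ hv _ (hd.indep t htT htz u hu)

end Cfsg.Agent.MinSimple.CaseOneCfg
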