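import Cfsg.Agent.MinSimple.CoreMain
import Cfsg.Agent.MinSimple.BTwoFinal

/-!
# `BTwoStmt` of `CoreMain`
-/

set_option autoImplicit false

namespace Cfsg.Agent.MinSimple.CoreBTwo

open Cfsg Cfsg.Agent.MinSimple.CoreMain

universe u

/-- (E1)(a) is impossible in the situation of core theorem T. -/
theorem bTwoStmt (G : Type u) [Group G] : BTwoStmt G := by
  intro hG T V z h
  have := hG.finite
  rcases BTwoFinal.main h with h1 | ⟨M, hM, hi⟩
  · exact hG.rank h1
  · exact hG.index_ne_two M hM hi

end Cfsg.Agent.MinSimple.CoreBTwo
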