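import Cfsg.Agent.ZN.ChoiceSit
import Cfsg.Agent.MinSimple.Basic

/-!
# The case "(Empty)": the TI theorem

`G` is a finite group of characteristic 2 type with Sylow 2-subgroup `S`, `J = J(S)`,
`Z_J = Ω₁Z(J)`, `B = C_S(Z_J)`.  Suppose that `J` centralizes `⟨Ω₁(Z(T))^X⟩` for all 2-local
subgroups `X ≥ B` with Sylow 2-subgroup `T ≥ B`.  Then there is a TI-subgroup `I` of `Z_J`
containing `Ω₁(Z(S))` such that `C_G(y) ≤ N_G(I)` for all `1 ≠ y ∈ I`.

* `jj_eq_of_jj_le'` : `J(T) = J(S)` for every 2-subgroup `T ≥ J(S)` of `G`;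
* `exists_conj_jj` : two conjugates of `J(S)` contained in `X` are conjugate in `X`;
* `jcl J X = ⟨J^X⟩`, `icl S X = C_{Z_J}(⟨J^X⟩)`;
* `exists_ti` : the theorem.
-/

set_option autoImplicit false

namespace Cfsg.Agent.MinSimple.EmptyTI

open Subgroup Cfsg Cfsg.Agent.ZN Cfsg.Agent.ZN.ChoiceBase Cfsg.Agent.ZN.ChoiceSit

universe u

variable {G : Type u} [Group G]

/-! ### Conjugates of `J(S)` -/

section Thompson

variable [Finite G]

/-- `J(T) = J(S)` for every 2-subgroup `T ≥ J(S)`. -/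
theorem jj_eq (S : Sylow 2 G) {T : Subgroup G} (hT : IsPGroup 2 T)
    (h : jj (S : Subgroup G) ≤ T) : jj T = jj (S : Subgroup G) := by
  obtain ⟨S', hS'⟩ := hT.exists_le_sylow
  obtain ⟨g, hg⟩ := MulAction.exists_smul_eq G S S'
  have hg2 : (S' : Subgroup G) = cj g (S : Subgroup G) := by
    rw [← hg, Sylow.coe_subgroup_smul]
    rfl
  have hmm : mm (S' : Subgroup G) = mm (S : Subgroup G) := by rw [hg2, mm_cj]
  have h1 : mm (S : Subgroup G) ≤ mm T := by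
    obtain ⟨A, hA⟩ := AA_nonempty (S : Subgroup G)
    rw [mm_eq hA]
    exact card_le_mm hA.1 ((le_jj hA).trans h)
  have h2 : mm T = mm (S : Subgroup G) := le_antisymm ((mm_mono hS').trans hmm.le) h1
  have h3 : jj (S : Subgroup G) ≤ jj T := by
    rw [ChoiceBase.jj_eq (S : Subgroup G)]
    refine sSup_le fun A hA => le_jj ?_
    rw [mem_AA_iff]
    exact ⟨hA.1, (le_jj hA).trans h, by rw [h2]; exact (mm_eq hA).le⟩
  have h4 : jj T ≤ jj (S' : Subgroup G) := jj_mono hS' (by rw [h2, hmm])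
  have h5 : Nat.card (jj (S' : Subgroup G)) = Nat.card (jj (S : Subgroup G)) := by
    rw [hg2, jj_cj, card_cj]
  exact (eq_of_le_of_card_ge h3 ((card_le_of_le h4).trans h5.le)).symm

theorem le_normalizer_jj (S : Sylow 2 G) {T : Subgroup G} (hT : IsPGroup 2 T)
    (h : jj (S : Subgroup G) ≤ T) : T ≤ normalizer (jj (S : Subgroup G) : Set G) := by
  rw [← jj_eq S hT h]
  exact le_normalizer.trans (normalizer_le_jj T)

/-- Conjugates of `J(S)` in `X` are conjugate in `X`. -/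
theorem exists_conj_jj (S : Sylow 2 G) {X : Subgroup G} (h1 : jj (S : Subgroup G) ≤ X) {g : G}
    (h2 : cj g (jj (S : Subgroup G)) ≤ X) :
    ∃ x ∈ X, cj x (jj (S : Subgroup G)) = cj g (jj (S : Subgroup G)) := by
  have hp : IsPGroup 2 (jj (S : Subgroup G)) := S.isPGroup'.to_le (jj_le _)
  obtain ⟨T₁, hT₁, hJ₁⟩ := exists_syl hp h1
  obtain ⟨T₂, hT₂, hJ₂⟩ := exists_syl (isPGroup_cj g hp) h2
  obtain ⟨x, hx, hxT⟩ := syl_conj hT₁ hT₂
  refine ⟨x, hx, ?_⟩
  have h3 : jj T₁ = jj (S : Subgroup G) := jj_eq S hT₁.2.1 hJ₁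
  have h4 : jj T₂ = cj g (jj (S : Subgroup G)) := by
    have h5 : jj (S : Subgroup G) ≤ cj g⁻¹ T₂ := by
      rw [← cj_le_iff]; exact hJ₂
    have h6 := jj_eq S (isPGroup_cj g⁻¹ hT₂.2.1) h5
    rw [jj_cj] at h6
    rw [← h6, cj_cj_inv]
  rw [← h4, ← hxT, jj_cj, h3]

end Thompson

/-! ### Conjugation closures -/

/-- `⟨J^X⟩` -/
def jcl (J X : Subgroup G) : Subgroup G := ⨆ g : X, cj (g : G) J

theorem cj_le_jcl {J X : Subgroup G} {g : G} (hg : g ∈ X) : cj g J ≤ jcl J X :=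
  le_iSup (fun g : X => cj (g : G) J) ⟨g, hg⟩

theorem le_jcl (J X : Subgroup G) : J ≤ jcl J X := by
  have := cj_le_jcl (J := J) (one_mem X)
  rwa [cj_one] at this

theorem jcl_le {J X K : Subgroup G} (h : ∀ g ∈ X, cj g J ≤ K) : jcl J X ≤ K :=
  iSup_le fun g => h g g.2

theorem jcl_mono {J X Y : Subgroup G} (h : X ≤ Y) : jcl J X ≤ jcl J Y :=
  jcl_le fun _ hg => cj_le_jcl (h hg)

theorem cj_iSup {ι : Sort*} (g : G) (f : ι → Subgroup G) : cj g (⨆ i, f i) = ⨆ i, cj g (f i) :=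
  Subgroup.map_iSup _ _

theorem jcl_cj (g : G) (J X : Subgroup G) : jcl (cj g J) (cj g X) = cj g (jcl J X) := by
  apply le_antisymm
  · refine jcl_le fun x hx => ?_
    have h1 := cj_mono g (cj_le_jcl (J := J) (mem_cj.1 hx))
    rw [cj_cj] at h1
    rw [cj_cj]
    have e : g * (g⁻¹ * x * g) = x * g := by group
    rwa [e] at h1
  · rw [cj_le_iff]
    refine jcl_le fun x hx => ?_
    rw [← cj_le_iff, cj_cj]
    have h1 := cj_le_jcl (J := cj g J) (X := cj g X) (g := g * x * g⁻¹) (by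
      rw [mem_cj]
      have e : g⁻¹ * (g * x * g⁻¹) * g = x := by group
      rwa [e])
    rw [cj_cj] at h1
    have e : g * x * g⁻¹ * g = g * x := by group
    rwa [e] at h1

theorem cj_jcl {J X : Subgroup G} {x : G} (hx : x ∈ X) : cj x (jcl J X) = jcl J X := by
  have key : ∀ y ∈ X, cj y (jcl J X) ≤ jcl J X := by
    intro y hy
    rw [cj_le_iff]
    refine jcl_le fun g hg => ?_
    rw [← cj_le_iff, cj_cj]
    exact cj_le_jcl (mul_mem hy hg)
  refine le_antisymm (key x hx) ?_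
  have h1 := cj_mono x (key x⁻¹ (inv_mem hx))
  rwa [cj_cj_inv] at h1

theorem le_normalizer_jcl (J X : Subgroup G) : X ≤ normalizer ((jcl J X : Subgroup G) : Set G) :=
  fun _ hx => mem_normalizer_iff_cj.2 (cj_jcl hx)

theorem jcl_le_self {J X : Subgroup G} (h : J ≤ X) : jcl J X ≤ X := by
  refine jcl_le fun g hg => ?_
  rintro _ ⟨y, hy, rfl⟩
  exact mul_mem (mul_mem hg (h hy)) (inv_mem hg)

/-- `⟨(J^g)^X⟩ = ⟨J^X⟩` for `J, J^g ≤ X`. -/
theorem jcl_conj [Finite G] (S : Sylow 2 G) {X : Subgroup G} (h1 : jj (S : Subgroup G) ≤ X) {g : G}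
    (h2 : cj g (jj (S : Subgroup G)) ≤ X) :
    jcl (cj g (jj (S : Subgroup G))) X = jcl (jj (S : Subgroup G)) X := by
  obtain ⟨x, hx, hxg⟩ := exists_conj_jj S h1 h2
  rw [← hxg]
  apply le_antisymm
  · refine jcl_le fun y hy => ?_
    rw [cj_cj]
    exact cj_le_jcl (mul_mem hy hx)
  · refine jcl_le fun y hy => ?_
    have h3 := cj_le_jcl (J := cj x (jj (S : Subgroup G))) (mul_mem hy (inv_mem hx))
    rw [cj_cj] at h3
    have e : y * x⁻¹ * x = y := by group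
    rwa [e] at h3

/-- `⟨J^{⟨J^X⟩}⟩ = ⟨J^X⟩` for `J ≤ X`. -/
theorem jcl_jcl [Finite G] (S : Sylow 2 G) {X : Subgroup G} (h : jj (S : Subgroup G) ≤ X) :
    jcl (jj (S : Subgroup G)) (jcl (jj (S : Subgroup G)) X) = jcl (jj (S : Subgroup G)) X := by
  refine le_antisymm (jcl_mono (jcl_le_self h)) (jcl_le fun g hg => ?_)
  obtain ⟨x, hx, hxg⟩ := exists_conj_jj S (le_jcl (jj (S : Subgroup G)) X)
    (cj_le_jcl (J := jj (S : Subgroup G)) hg)
  rw [← hxg]
  exact cj_le_jcl hx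

/-- `X = ⟨J^X⟩ N_X(J)` for `J ≤ X`. -/
theorem frattini_jcl [Finite G] (S : Sylow 2 G) {X : Subgroup G} (h : jj (S : Subgroup G) ≤ X) :
    X ≤ jcl (jj (S : Subgroup G)) X ⊔ (X ⊓ normalizer (jj (S : Subgroup G) : Set G)) := by
  obtain ⟨T, hT, hJT⟩ := exists_syl (S.isPGroup'.to_le (jj_le _)) h
  have h1 : jj T = jj (S : Subgroup G) := jj_eq S hT.2.1 hJT
  have h2 := Basic.frattini_jj hT.1 hT.2.1 (syl_not_dvd hT)
    (le_normalizer_jcl (jj (S : Subgroup G)) X) (by rw [h1]; exact le_jcl _ _)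
  rwa [h1] at h2

/-! ### `I_X = C_{Z_J}(⟨J^X⟩)` -/

/-- `C_{Z_J}(⟨J^X⟩)` -/
def icl (S X : Subgroup G) : Subgroup G := zj S ⊓ centralizer ((jcl (jj S) X : Subgroup G) : Set G)

theorem icl_le (S X : Subgroup G) : icl S X ≤ zj S := inf_le_left

theorem icl_comm {S X : Subgroup G} {x y : G} (hx : x ∈ icl S X) (hy : y ∈ jcl (jj S) X) :
    y * x = x * y := mem_centralizer_iff.1 hx.2 y hy

theorem zj_le_jj (S : Subgroup G) : zj S ≤ jj S := fun _ hx => (mem_zj.1 hx).1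

theorem isPGroup_zj {S : Subgroup G} (hS : IsPGroup 2 S) : IsPGroup 2 (zj S) :=
  hS.to_le ((zj_le_jj S).trans (jj_le S))

/-- An involution of `G` centralizing `J(S)` lies in `Z_J(S)`. -/
theorem mem_zj_of_comm [Finite G] (S : Sylow 2 G) {w : G} (hw : w ^ 2 = 1)
    (hc : ∀ j ∈ jj (S : Subgroup G), j * w = w * j) : w ∈ zj (S : Subgroup G) := by
  have hf : Fact (Nat.Prime 2) := ⟨Nat.prime_two⟩
  have hp : IsPGroup 2 (jj (S : Subgroup G)) := S.isPGroup'.to_le (jj_le _)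
  have hn : zpowers w ≤ normalizer (jj (S : Subgroup G) : Set G) := by
    refine le_trans ?_ (centralizer_le_normalizer _)
    rw [zpowers_le, mem_centralizer_iff]
    exact fun j hj => hc j hj
  have hT : IsPGroup 2 (zpowers w ⊔ jj (S : Subgroup G) : Subgroup G) :=
    IsPGroup.to_sup_of_normal_right' (Basic.isPGroup_zpowers hw) hp hn
  have h1 := jj_eq S hT le_sup_right
  have h2 : w ∈ jj (zpowers w ⊔ jj (S : Subgroup G) : Subgroup G) := by
    refine mem_jj_of_comm (mem_sup_left (mem_zpowers w)) hw ?_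
    rw [h1]
    exact hc
  rw [h1] at h2
  exact mem_zj.2 ⟨h2, hw, hc⟩

/-- `I_X = Ω₁Z(⟨J^X⟩)` -/
theorem icl_eq [Finite G] (S : Sylow 2 G) (X : Subgroup G) :
    icl (S : Subgroup G) X = zc (jcl (jj (S : Subgroup G)) X) := by
  ext x
  constructor
  · intro hx
    have h1 := mem_zj.1 hx.1
    exact mem_zc.2 ⟨le_jcl _ _ h1.1, h1.2.1, fun y hy => icl_comm hx hy⟩
  · intro hx
    have h1 := mem_zc.1 hx
    exact ⟨mem_zj_of_comm S h1.2.1 fun j hj => h1.2.2 j (le_jcl _ _ hj),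
      mem_centralizer_iff.2 fun y hy => h1.2.2 y hy⟩

theorem zc_cj (g : G) (T : Subgroup G) : zc (cj g T) = cj g (zc T) := by
  have key : ∀ (g : G) (T : Subgroup G), cj g (zc T) ≤ zc (cj g T) := by
    intro g T x hx
    have h1 := mem_zc.1 (mem_cj.1 hx)
    refine mem_zc.2 ⟨mem_cj.2 h1.1, ?_, fun y hy => ?_⟩
    · have e : x ^ 2 = g * (g⁻¹ * x * g) ^ 2 * g⁻¹ := by rw [pow_two, pow_two]; group
      rw [e, h1.2.1]; group
    · have h2 := h1.2.2 _ (mem_cj.1 hy)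
      have e1 : y * x = g * (g⁻¹ * y * g * (g⁻¹ * x * g)) * g⁻¹ := by group
      have e2 : x * y = g * (g⁻¹ * x * g * (g⁻¹ * y * g)) * g⁻¹ := by group
      rw [e1, e2, h2]
  refine le_antisymm ?_ (key g T)
  have h1 := cj_mono g (key g⁻¹ (cj g T))
  rwa [cj_cj_inv, cj_inv_cj] at h1

/-- `I_X` is normal in `X`. -/
theorem le_normalizer_icl [Finite G] (S : Sylow 2 G) (X : Subgroup G) :
    X ≤ normalizer ((icl (S : Subgroup G) X : Subgroup G) : Set G) := by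
  intro x hx
  rw [mem_normalizer_iff_cj, icl_eq, ← zc_cj, cj_jcl hx]

/-- The hypothesis "(Empty)": `J(S)` centralizes `⟨Ω₁(Z(T))^X⟩` for all 2-local `X ≥ B(S)`. -/
def IsEmpty (S : Subgroup G) : Prop :=
  ∀ X T : Subgroup G, IsTwoLocal X → bau S ≤ X → Syl T X → bau S ≤ T →
    ∀ x ∈ X, ∀ v ∈ zc T, ∀ j ∈ jj S, j * (x * v * x⁻¹) = (x * v * x⁻¹) * j

/-- (1) `Ω₁(Z(T)) ≤ I_X` -/
theorem zc_le_icl [Finite G] {S : Sylow 2 G} (hE : IsEmpty (S : Subgroup G)) {X T : Subgroup G}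
    (hX : IsTwoLocal X) (hBX : bau (S : Subgroup G) ≤ X) (hT : Syl T X)
    (hBT : bau (S : Subgroup G) ≤ T) : zc T ≤ icl (S : Subgroup G) X := by
  intro v hv
  have h1 := hE X T hX hBX hT hBT
  refine ⟨mem_zj_of_comm S (mem_zc.1 hv).2.1 fun j hj => ?_, ?_⟩
  · have := h1 1 (one_mem X) v hv j hj
    simpa using this
  · suffices h : jcl (jj (S : Subgroup G)) X ≤ centralizer ({v} : Set G) from
      mem_centralizer_iff.2 fun y hy => mem_centralizer_singleton_iff.1 (h hy)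
    refine jcl_le fun g hg => ?_
    intro y hy
    rw [mem_centralizer_singleton_iff]
    have h2 := h1 g⁻¹ (inv_mem hg) v hv _ (mem_cj.1 hy)
    have e1 : y * v = g * (g⁻¹ * y * g * (g⁻¹ * v * g⁻¹⁻¹)) * g⁻¹ := by group
    have e2 : v * y = g * (g⁻¹ * v * g⁻¹⁻¹ * (g⁻¹ * y * g)) * g⁻¹ := by group
    rw [e1, e2, h2]

/-- (1) `⟨Ω₁(Z(T))^X⟩ ≤ I_X` -/
theorem zl_le_icl [Finite G] {S : Sylow 2 G} (hE : IsEmpty (S : Subgroup G)) {X T : Subgroup G}
    (hX : IsTwoLocal X) (hBX : bau (S : Subgroup G) ≤ X) (hT : Syl T X)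
    (hBT : bau (S : Subgroup G) ≤ T) : zl T X ≤ icl (S : Subgroup G) X := by
  refine iSup_le fun g => ?_
  have h1 := cj_mono (g : G) (zc_le_icl hE hX hBX hT hBT)
  rwa [cj_eq_of_mem_normalizer (le_normalizer_icl S X g.2)] at h1

/-! ### Centralizers of elements of `Z_J` -/

theorem centralizer_cj (g y : G) :
    cj g (centralizer ({y} : Set G)) = centralizer ({g * y * g⁻¹} : Set G) := by
  ext x
  rw [mem_cj, mem_centralizer_singleton_iff, mem_centralizer_singleton_iff]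
  constructor
  · intro h
    have e1 : x * (g * y * g⁻¹) = g * (g⁻¹ * x * g * y) * g⁻¹ := by group
    have e2 : g * y * g⁻¹ * x = g * (y * (g⁻¹ * x * g)) * g⁻¹ := by group
    rw [e1, e2, h]
  · intro h
    have e1 : g⁻¹ * x * g * y = g⁻¹ * (x * (g * y * g⁻¹)) * g := by group
    have e2 : y * (g⁻¹ * x * g) = g⁻¹ * (g * y * g⁻¹ * x) * g := by group
    rw [e1, e2, h]

/-- `J_y = ⟨J^{C_G(y)}⟩` -/
abbrev jy (S : Subgroup G) (y : G) : Subgroup G := jcl (jj S) (centralizer ({y} : Set G))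

/-- `I_y = C_{Z_J}(J_y)` -/
abbrev iy (S : Subgroup G) (y : G) : Subgroup G := icl S (centralizer ({y} : Set G))

section

variable {S : Sylow 2 G} {y : G}

theorem bau_le_centralizer (hy : y ∈ zj (S : Subgroup G)) :
    bau (S : Subgroup G) ≤ centralizer ({y} : Set G) := fun x hx => by
  rw [mem_centralizer_singleton_iff]
  exact ((mem_bau.1 hx).2 y hy).symm

theorem jj_le_centralizer (hy : y ∈ zj (S : Subgroup G)) :
    jj (S : Subgroup G) ≤ centralizer ({y} : Set G) := (jj_le_bau _).trans (bau_le_centralizer hy)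

theorem isTwoLocal_centralizer (hy : y ∈ zj (S : Subgroup G)) (hy1 : y ≠ 1) :
    IsTwoLocal (centralizer ({y} : Set G)) :=
  ⟨zpowers y, Basic.isPGroup_zpowers (mem_zj.1 hy).2.1, fun h => hy1 (zpowers_eq_bot.1 h),
    (Basic.normalizer_zpowers_eq (mem_zj.1 hy).2.1).symm⟩

variable [Finite G]

omit [Finite G] in
theorem jy_le_centralizer (hy : y ∈ zj (S : Subgroup G)) :
    jy (S : Subgroup G) y ≤ centralizer ({y} : Set G) := jcl_le_self (jj_le_centralizer hy)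

omit [Finite G] in
theorem mem_iy (hy : y ∈ zj (S : Subgroup G)) : y ∈ iy (S : Subgroup G) y := by
  exact ⟨hy, mem_centralizer_iff.2 fun x hx =>
    mem_centralizer_singleton_iff.1 (jy_le_centralizer hy hx)⟩

/-- (2) -/
theorem jy_le_jy (hy : y ∈ zj (S : Subgroup G)) {w : G} (hw : w ∈ iy (S : Subgroup G) y) :
    jy (S : Subgroup G) y ≤ jy (S : Subgroup G) w := by
  have h1 : jy (S : Subgroup G) y ≤ centralizer ({w} : Set G) := fun x hx => by
    rw [mem_centralizer_singleton_iff]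
    exact icl_comm hw hx
  exact (jcl_jcl S (jj_le_centralizer hy)).ge.trans (jcl_mono h1)

theorem iy_le_iy (hy : y ∈ zj (S : Subgroup G)) {w : G} (hw : w ∈ iy (S : Subgroup G) y) :
    iy (S : Subgroup G) w ≤ iy (S : Subgroup G) y :=
  inf_le_inf_left _ (centralizer_le (jy_le_jy hy hw))

/-- The fusion lemma: `(J_y)^g = J_{y^g}` for `y, y^g ∈ Z_J`. -/
theorem cj_jy (hy : y ∈ zj (S : Subgroup G)) {g : G} (hg : g * y * g⁻¹ ∈ zj (S : Subgroup G)) :
    cj g (jy (S : Subgroup G) y) = jy (S : Subgroup G) (g * y * g⁻¹) := by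
  rw [jy, ← jcl_cj, centralizer_cj]
  refine jcl_conj S (jj_le_centralizer hg) ?_
  rw [← centralizer_cj]
  exact cj_mono g (jj_le_centralizer hy)

theorem cj_iy (hy : y ∈ zj (S : Subgroup G)) {g : G} (hg : g * y * g⁻¹ ∈ zj (S : Subgroup G)) :
    cj g (iy (S : Subgroup G) y) = iy (S : Subgroup G) (g * y * g⁻¹) := by
  rw [iy, icl_eq, ← zc_cj, cj_jy hy hg, ← icl_eq]

end

/-! ### Minimal `I_y` -/

/-- `I_y` is minimal. -/
structure IsMinI (S : Subgroup G) (y : G) : Prop where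
  mem : y ∈ zj S
  ne : y ≠ 1
  min : ∀ w ∈ zj S, w ≠ 1 → Nat.card (iy S y) ≤ Nat.card (iy S w)

theorem exists_isMinI [Finite G] (S : Sylow 2 G) (hS : (S : Subgroup G) ≠ ⊥) :
    ∃ y, IsMinI (S : Subgroup G) y := by
  have h1 : zj (S : Subgroup G) ≠ ⊥ := fun h =>
    Basic.zc_ne_bot S.isPGroup' hS (le_bot_iff.1 ((zc_le_zj _).trans h.le))
  obtain ⟨⟨w, hw⟩, hw1⟩ := ne_bot_iff_exists_ne_one.1 h1
  obtain ⟨y, hy, hmin⟩ := Set.exists_min_image {w : G | w ∈ zj (S : Subgroup G) ∧ w ≠ 1}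
    (fun w => Nat.card (iy (S : Subgroup G) w)) (Set.toFinite _)
    ⟨w, hw, fun h2 => hw1 (Subtype.ext h2)⟩
  exact ⟨y, hy.1, hy.2, fun w hw hw1 => hmin w ⟨hw, hw1⟩⟩

namespace IsMinI

variable [Finite G] {S : Sylow 2 G} {y : G}

omit [Finite G] in
theorem ne_bot (h : IsMinI (S : Subgroup G) y) : iy (S : Subgroup G) y ≠ ⊥ := fun h0 => by
  have h1 := mem_iy h.mem
  rw [h0, mem_bot] at h1
  exact h.ne h1

theorem iy_eq (h : IsMinI (S : Subgroup G) y) {w : G} (hw : w ∈ iy (S : Subgroup G) y)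
    (hw1 : w ≠ 1) : iy (S : Subgroup G) w = iy (S : Subgroup G) y :=
  eq_of_le_of_card_ge (iy_le_iy h.mem hw) (h.min w (icl_le _ _ hw) hw1)

/-- (3) `J_w = J_y` for `1 ≠ w ∈ I_y` -/
theorem jy_eq (h : IsMinI (S : Subgroup G) y) {w : G} (hw : w ∈ iy (S : Subgroup G) y)
    (hw1 : w ≠ 1) : jy (S : Subgroup G) w = jy (S : Subgroup G) y := by
  refine le_antisymm ?_ (jy_le_jy h.mem hw)
  refine jy_le_jy (icl_le _ _ hw) ?_
  rw [h.iy_eq hw hw1]
  exact mem_iy h.mem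

theorem centralizer_le_normalizer_jy (h : IsMinI (S : Subgroup G) y) {w : G}
    (hw : w ∈ iy (S : Subgroup G) y) (hw1 : w ≠ 1) :
    centralizer ({w} : Set G) ≤ normalizer ((jy (S : Subgroup G) y : Subgroup G) : Set G) := by
  rw [← h.jy_eq hw hw1]
  exact le_normalizer_jcl _ _

theorem normalizer_eq (h : IsMinI (S : Subgroup G) y) :
    normalizer ((jy (S : Subgroup G) y : Subgroup G) : Set G) =
      normalizer ((iy (S : Subgroup G) y : Subgroup G) : Set G) := by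
  apply le_antisymm
  · intro n hn
    rw [mem_normalizer_iff_cj] at hn ⊢
    rw [iy, icl_eq, ← zc_cj, hn]
  · intro n hn
    have h1 : n * y * n⁻¹ ∈ iy (S : Subgroup G) y := (mem_normalizer_iff.1 hn y).1 (mem_iy h.mem)
    have h2 : n * y * n⁻¹ ≠ 1 := fun h0 => h.ne (by
      have e : y = n⁻¹ * (n * y * n⁻¹) * n := by group
      rw [e, h0]; group)
    rw [mem_normalizer_iff_cj, cj_jy h.mem (icl_le _ _ h1), h.jy_eq h1 h2]

theorem centralizer_le_normalizer (h : IsMinI (S : Subgroup G) y) {w : G}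
    (hw : w ∈ iy (S : Subgroup G) y) (hw1 : w ≠ 1) :
    centralizer ({w} : Set G) ≤ normalizer ((iy (S : Subgroup G) y : Subgroup G) : Set G) := by
  rw [← h.normalizer_eq]
  exact h.centralizer_le_normalizer_jy hw hw1

/-- (4) If `w ∈ Z_J ∩ (I_y)^g`, `w ≠ 1`, then `(J_y)^g = J_w` and `(I_y)^g = I_w ≤ Z_J`. -/
theorem of_mem (h : IsMinI (S : Subgroup G) y) {g w : G} (hw : w ∈ zj (S : Subgroup G))
    (hwg : w ∈ cj g (iy (S : Subgroup G) y)) (hw1 : w ≠ 1) :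
    cj g (jy (S : Subgroup G) y) = jy (S : Subgroup G) w ∧
      cj g (iy (S : Subgroup G) y) = iy (S : Subgroup G) w := by
  have h1 := mem_cj.1 hwg
  have h2 : g⁻¹ * w * g ≠ 1 := fun h0 => hw1 (by
    have e : w = g * (g⁻¹ * w * g) * g⁻¹ := by group
    rw [e, h0]; group)
  have e : g * (g⁻¹ * w * g) * g⁻¹ = w := by group
  have h3 : cj g (jy (S : Subgroup G) (g⁻¹ * w * g)) = jy (S : Subgroup G) w := by
    have := cj_jy (S := S) (icl_le _ _ h1) (g := g) (by rwa [e])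
    rwa [e] at this
  rw [h.jy_eq h1 h2] at h3
  refine ⟨h3, ?_⟩
  rw [iy, icl_eq, ← zc_cj, h3, ← icl_eq]

theorem cj_le_zj (h : IsMinI (S : Subgroup G) y) {g : G}
    (hg : zj (S : Subgroup G) ⊓ cj g (iy (S : Subgroup G) y) ≠ ⊥) :
    cj g (iy (S : Subgroup G) y) ≤ zj (S : Subgroup G) := by
  obtain ⟨⟨w, hw⟩, hw1⟩ := ne_bot_iff_exists_ne_one.1 hg
  rw [(h.of_mem hw.1 hw.2 fun h0 => hw1 (Subtype.ext h0)).2]
  exact icl_le _ _

/-- (4) `I_y` is a TI-subgroup. -/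
theorem ti (h : IsMinI (S : Subgroup G) y) {g : G}
    (hg : iy (S : Subgroup G) y ⊓ cj g (iy (S : Subgroup G) y) ≠ ⊥) :
    cj g (iy (S : Subgroup G) y) = iy (S : Subgroup G) y := by
  obtain ⟨⟨w, hw⟩, hw1⟩ := ne_bot_iff_exists_ne_one.1 hg
  have hw2 : w ≠ 1 := fun h0 => hw1 (Subtype.ext h0)
  rw [(h.of_mem (icl_le _ _ hw.1) hw.2 hw2).2]
  exact h.iy_eq hw.1 hw2

theorem isTwoLocal (h : IsMinI (S : Subgroup G) y) :
    IsTwoLocal (normalizer ((iy (S : Subgroup G) y : Subgroup G) : Set G)) :=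
  ⟨_, (isPGroup_zj S.isPGroup').to_le (icl_le _ _), h.ne_bot, rfl⟩

theorem bau_le (h : IsMinI (S : Subgroup G) y) :
    bau (S : Subgroup G) ≤ normalizer ((iy (S : Subgroup G) y : Subgroup G) : Set G) :=
  (bau_le_centralizer h.mem).trans (h.centralizer_le_normalizer (mem_iy h.mem) h.ne)

theorem jcl_eq (h : IsMinI (S : Subgroup G) y) :
    jcl (jj (S : Subgroup G)) (normalizer ((iy (S : Subgroup G) y : Subgroup G) : Set G)) =
      jy (S : Subgroup G) y := by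
  apply le_antisymm
  · refine jcl_le fun g hg => ?_
    rw [← h.normalizer_eq, mem_normalizer_iff_cj] at hg
    rw [← hg]
    exact cj_mono g (le_jcl _ _)
  · exact jcl_mono (h.centralizer_le_normalizer (mem_iy h.mem) h.ne)

theorem icl_eq (h : IsMinI (S : Subgroup G) y) :
    icl (S : Subgroup G) (normalizer ((iy (S : Subgroup G) y : Subgroup G) : Set G)) =
      iy (S : Subgroup G) y := by
  rw [EmptyTI.icl_eq, h.jcl_eq, ← EmptyTI.icl_eq]

/-- `Ω₁(Z(T)) ≤ I_y` for a Sylow 2-subgroup `T ≥ B(S)` of `N_G(I_y)`. -/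
theorem zc_le (h : IsMinI (S : Subgroup G) y) (hE : IsEmpty (S : Subgroup G)) {T : Subgroup G}
    (hT : Syl T (normalizer ((iy (S : Subgroup G) y : Subgroup G) : Set G)))
    (hBT : bau (S : Subgroup G) ≤ T) : zc T ≤ iy (S : Subgroup G) y := by
  have h1 := zc_le_icl hE h.isTwoLocal h.bau_le hT hBT
  rwa [h.icl_eq] at h1

theorem cj (h : IsMinI (S : Subgroup G) y) {n : G}
    (hn : n ∈ normalizer (jj (S : Subgroup G) : Set G)) :
    IsMinI (S : Subgroup G) (n * y * n⁻¹) ∧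
      ChoiceBase.cj n (iy (S : Subgroup G) y) = iy (S : Subgroup G) (n * y * n⁻¹) := by
  have h1 : ChoiceBase.cj n (zj (S : Subgroup G)) = zj (S : Subgroup G) := by
    rw [← zj_cj]
    refine zj_congr ?_
    rw [jj_cj, mem_normalizer_iff_cj.1 hn]
  have h2 : n * y * n⁻¹ ∈ zj (S : Subgroup G) := by
    rw [← h1]
    exact ⟨y, h.mem, rfl⟩
  have h3 := cj_iy h.mem h2
  refine ⟨⟨h2, fun h0 => h.ne (by
      have e : y = n⁻¹ * (n * y * n⁻¹) * n := by group
      rw [e, h0]; group), fun w hw hw1 => ?_⟩, h3⟩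
  rw [← h3, card_cj]
  exact h.min w hw hw1

end IsMinI

theorem syl_of_le {S : Sylow 2 G} {X : Subgroup G} (h : (S : Subgroup G) ≤ X) :
    Syl (S : Subgroup G) X :=
  ⟨h, S.isPGroup', fun _ _ hQ hSQ => S.is_maximal' hQ hSQ⟩

/-- (5) Some minimal `I_y` is normalized by `S`. -/
theorem exists_le_normalizer [Finite G] (S : Sylow 2 G) (hS : (S : Subgroup G) ≠ ⊥)
    (hE : IsEmpty (S : Subgroup G)) :
    ∃ y, IsMinI (S : Subgroup G) y ∧
      (S : Subgroup G) ≤ normalizer ((iy (S : Subgroup G) y : Subgroup G) : Set G) := by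
  obtain ⟨y, hy⟩ := exists_isMinI S hS
  obtain ⟨T, hT, hBT⟩ := exists_syl (S.isPGroup'.to_le (bau_le _)) hy.bau_le
  obtain ⟨S₂, hS₂⟩ := hT.2.1.exists_le_sylow
  have hJ : jj (S : Subgroup G) ≤ (S₂ : Subgroup G) := ((jj_le_bau _).trans hBT).trans hS₂
  have hJ2 : jj (S₂ : Subgroup G) = jj (S : Subgroup G) := jj_eq S S₂.isPGroup' hJ
  have hne : (S₂ : Subgroup G) ≠ ⊥ := by
    intro h0
    have h1 := (zj_le_jj _).trans (hJ.trans h0.le) hy.mem
    exact hy.ne (mem_bot.1 h1)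
  obtain ⟨⟨z, hz⟩, hz1⟩ := ne_bot_iff_exists_ne_one.1 (Basic.zc_ne_bot S₂.isPGroup' hne)
  have hz1 : z ≠ 1 := fun h0 => hz1 (Subtype.ext h0)
  have hzj : z ∈ zj (S : Subgroup G) := by
    rw [← zj_congr hJ2]
    exact zc_le_zj _ hz
  have hzT : z ∈ zc T := by
    have h1 := mem_zc.1 hz
    exact mem_zc.2 ⟨hBT (jj_le_bau _ (zj_le_jj _ hzj)), h1.2.1, fun x hx => h1.2.2 x (hS₂ hx)⟩
  have hzI : z ∈ iy (S : Subgroup G) y := hy.zc_le hE hT hBT hzT
  have hS2 : (S₂ : Subgroup G) ≤ normalizer ((iy (S : Subgroup G) y : Subgroup G) : Set G) := by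
    refine le_trans ?_ (hy.centralizer_le_normalizer hzI hz1)
    intro x hx
    rw [mem_centralizer_singleton_iff]
    exact (mem_zc.1 hz).2.2 x hx
  obtain ⟨n, hn, hnS⟩ := syl_conj (syl_of_le (le_normalizer_jj S S₂.isPGroup' hJ))
    (syl_of_le (le_normalizer_jj S S.isPGroup' (jj_le _)))
  obtain ⟨h1, h2⟩ := hy.cj hn
  have h3 := cj_mono n hS2
  rw [hnS, cj_normalizer, h2] at h3
  exact ⟨_, h1, h3⟩

/-- **The TI theorem of the case (Empty).** -/
theorem exists_ti [Finite G] (S : Sylow 2 G) (hS : (S : Subgroup G) ≠ ⊥)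
    (hE : IsEmpty (S : Subgroup G)) :
    ∃ I : Subgroup G, I ≠ ⊥ ∧ I ≤ zj (S : Subgroup G) ∧ zc (S : Subgroup G) ≤ I ∧
      (∀ y ∈ I, y ≠ 1 → centralizer ({y} : Set G) ≤ normalizer (I : Set G)) ∧
      (∀ g : G, I ⊓ cj g I ≠ ⊥ → cj g I = I) ∧
      (∀ g : G, zj (S : Subgroup G) ⊓ cj g I ≠ ⊥ → cj g I ≤ zj (S : Subgroup G)) ∧
      (S : Subgroup G) ≤ normalizer (I : Set G) ∧
      I = zc (jcl (jj (S : Subgroup G)) (normalizer (I : Set G))) ∧
      normalizer ((jcl (jj (S : Subgroup G)) (normalizer (I : Set G)) : Subgroup G) : Set G) =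
        normalizer (I : Set G) ∧
      (∀ y ∈ I, y ≠ 1 → jcl (jj (S : Subgroup G)) (centralizer ({y} : Set G)) =
        jcl (jj (S : Subgroup G)) (normalizer (I : Set G))) := by
  obtain ⟨y, hy, hSy⟩ := exists_le_normalizer S hS hE
  refine ⟨iy (S : Subgroup G) y, hy.ne_bot, icl_le _ _, hy.zc_le hE (syl_of_le hSy) (bau_le _),
    fun w hw hw1 => hy.centralizer_le_normalizer hw hw1, fun g hg => hy.ti hg,
    fun g hg => hy.cj_le_zj hg, hSy, ?_, ?_, ?_⟩
  · rw [hy.jcl_eq, ← icl_eq]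
  · rw [hy.jcl_eq, hy.normalizer_eq]
  · intro w hw hw1
    rw [hy.jcl_eq]
    exact hy.jy_eq hw hw1

/-- The version for groups of characteristic 2 type. -/
theorem exists_ti_of_char2 [Finite G] (hc : IsCharacteristicTwoType G) (S : Sylow 2 G)
    (hE : IsEmpty (S : Subgroup G)) :
    ∃ I : Subgroup G, I ≠ ⊥ ∧ I ≤ zj (S : Subgroup G) ∧ zc (S : Subgroup G) ≤ I ∧
      (∀ y ∈ I, y ≠ 1 → centralizer ({y} : Set G) ≤ normalizer (I : Set G)) ∧
      (∀ g : G, I ⊓ cj g I ≠ ⊥ → cj g I = I) ∧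
      (∀ g : G, zj (S : Subgroup G) ⊓ cj g I ≠ ⊥ → cj g I ≤ zj (S : Subgroup G)) ∧
      (S : Subgroup G) ≤ normalizer (I : Set G) ∧
      I = zc (jcl (jj (S : Subgroup G)) (normalizer (I : Set G))) ∧
      normalizer ((jcl (jj (S : Subgroup G)) (normalizer (I : Set G)) : Subgroup G) : Set G) =
        normalizer (I : Set G) ∧
      (∀ y ∈ I, y ≠ 1 → jcl (jj (S : Subgroup G)) (centralizer ({y} : Set G)) =
        jcl (jj (S : Subgroup G)) (normalizer (I : Set G))) := by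
  refine exists_ti S (fun h0 => ?_) hE
  have hf : Fact (Nat.Prime 2) := ⟨Nat.prime_two⟩
  have h1 := S.not_dvd_index
  rw [h0, index_bot] at h1
  exact h1 hc.1.two_dvd

end Cfsg.Agent.MinSimple.EmptyTI
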