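import Cfsg.Agent.MinSimple.SamePt

/-!
# Critical pairs of two commuting blocks over the same `B`

Two groups `P false`, `P true` over `B = P false ∩ P true` (`SamePoint.PB`, points `D false`, `D true`),
`Z false` and `Z true` commuting, without common normal subgroup in `B`: there are `i`, `j` and an element `x`
with `⁅Z i, (Z j)^x⁆ = D i = (D j)^x`, `Z i ≤ B^x`, `(Z j)^x ≤ B`.
-/

set_option autoImplicit false

namespace Cfsg.Agent.MinSimple.CritPair

open Subgroup MulAction Pointwise Cfsg Cfsg.Agent.ZN Cfsg.Agent.MinSimple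
open Cfsg.Agent.MinSimple.VModule (mem_normalizer_of_map_le)
open Cfsg.Agent.MinSimple.CosetGraph Cfsg.Agent.MinSimple.CosetFam
open Cfsg.Agent.MinSimple.SamePoint (PB eq_of_le_of_card)
open scoped commutatorElement

variable {G : Type*} [Group G]

section Graph

variable [Finite G] {P Q Z D : Bool → Subgroup G} {B : Subgroup G}

/-- The critical pair. -/
theorem exists_pair (h : ∀ i, PB B (P i) (Q i) (Z i) (D i)) (hB : P false ⊓ P true = B)
    (core : ∀ N : Subgroup G, N ≤ B → P false ≤ normalizer (N : Set G) →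
      P true ≤ normalizer (N : Set G) → N = ⊥) (hZZ : ⁅Z false, Z true⁆ = ⊥) :
    ∃ (i j : Bool) (x : G), ⁅Z i, MulAut.conj x • Z j⁆ ≠ ⊥ ∧ MulAut.conj x • D j = D i ∧
      Z i ≤ MulAut.conj x • B ∧ MulAut.conj x • Z j ≤ B := by
  have hBi : ∀ i, P i ⊓ P (!i) = B := by
    intro i
    cases i
    · exact hB
    · rw [inf_comm]; exact hB
  have hZc : ∀ i, Z i ≤ centralizer (Z (!i) : Set G) := by
    intro i
    cases i
    · exact commutator_eq_bot_iff_le_centralizer.mp hZZ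
    · exact commutator_eq_bot_iff_le_centralizer.mp (by rw [commutator_comm]; exact hZZ)
  set Γ := coset P with hΓ
  have hfaith : Γ.Faithful := coset_faithful P fun N h1 h2 h3 h4 =>
    core N (by rw [← hB]; exact le_inf h1 h2) h3 h4
  have hZn : ∀ i, P i ≤ normalizer (Z i : Set G) := fun i => (h i).Zn
  have hQn : ∀ i, P i ≤ normalizer (Q i : Set G) := fun i => (h i).Qn
  set Zf := fam P Z with hZf
  set Qf := fam P Q with hQf
  have hZe : Eqv Zf := fam_eqv P hZn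
  have hQe : Eqv Qf := fam_eqv P hQn
  have hse' : Eqv (fun v : CV P => stabilizer G v) := Eqv.stabilizer
  have hse : ∀ (g : G) (v : CV P), stabilizer G (g • v) = MulAut.conj g • stabilizer G v :=
    fun g v => hse' g v
  have hZ1 : ∀ i, Zf (mk P i 1) = Z i := fam_mk_one P hZn
  have hQ1 : ∀ i, Qf (mk P i 1) = Q i := fam_mk_one P hQn
  -- the edge groups
  set E : CV P → CV P → Subgroup G := fun v w => stabilizer G v ⊓ stabilizer G w with hE
  have hEs : ∀ (g : G) (v w : CV P), E (g • v) (g • w) = MulAut.conj g • E v w := by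
    intro g v w
    change stabilizer G (g • v) ⊓ stabilizer G (g • w) = _
    rw [hse g v, hse g w, ← smul_inf]
  have hE1 : ∀ i, E (mk P i 1) (mk P (!i) 1) = B := by
    intro i
    change stabilizer G _ ⊓ stabilizer G _ = _
    rw [mk_one_stab, mk_one_stab, hBi]
  have hEc : ∀ v w, E v w = E w v := fun v w => inf_comm _ _
  -- the points
  set z : CV P → CV P → Subgroup G := fun v w => ⁅Zf v, E v w⁆ with hz
  have hzs : ∀ (g : G) (v w : CV P), z (g • v) (g • w) = MulAut.conj g • z v w := by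
    intro g v w
    change ⁅Zf (g • v), E (g • v) (g • w)⁆ = _
    rw [hZe g v, hEs]
    exact (Subgroup.map_commutator (Zf v) (E v w) (MulAut.conj g).toMonoidHom).symm
  have hz1 : ∀ i, z (mk P i 1) (mk P (!i) 1) = D i := by
    intro i
    change ⁅Zf _, E _ _⁆ = _
    rw [hZ1, hE1, (h i).comm]
  have hcard : ∀ {v w : CV P}, Γ.A v w → Nat.card (z v w) = 2 := by
    intro v w hvw
    refine forall_edge P (p := fun v w => Nat.card (z v w) = 2) ?_ ?_ hvw
    · intro g v w h1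
      rw [hzs]
      have := Nat.card_congr (Subgroup.equivSMul (MulAut.conj g) (z v w)).symm.toEquiv
      rw [this, h1]
    · intro i
      rw [hz1]; exact (h i).card
  have hZQ : ∀ v, Zf v ≤ Qf v := by
    refine forall_vertex P (p := fun v => Zf v ≤ Qf v) ?_ ?_
    · intro g v h1
      exact (hZe.le_iff hQe).mpr h1
    · intro i
      rw [hZ1, hQ1]; exact (h i).ZQ
  have hQE : ∀ {v w : CV P}, Γ.A v w → Qf v ≤ E v w := by
    intro v w hvw
    refine forall_edge P (p := fun v w => Qf v ≤ E v w) ?_ ?_ hvw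
    · intro g v w h1
      rw [hEs, hQe, pointwise_smul_le_pointwise_smul_iff]
      exact h1
    · intro i
      rw [hQ1, hE1]; exact (h i).Q_le
  have hQs : ∀ v, Qf v ≤ stabilizer G v := by
    refine forall_vertex P (p := fun v => Qf v ≤ stabilizer G v) ?_ ?_
    · intro g v h1
      exact (hQe.le_iff hse').mpr h1
    · intro i
      rw [hQ1, mk_one_stab]
      exact (h i).Q_le.trans (h i).le
  have hadj : ∀ v w, Γ.A v w → Zf v ≤ Qf w := by
    intro v w hvw
    refine forall_edge P (p := fun v w => Zf v ≤ Qf w) ?_ ?_ hvw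
    · intro g v w h1
      exact (hZe.le_iff hQe).mpr h1
    · intro i
      rw [hZ1, hQ1, ← (h (!i)).cent]
      exact le_inf ((h i).ZQ.trans (h i).Q_le) (hZc i)
  have hcent : ∀ {v w : CV P}, Γ.A v w → E v w ⊓ centralizer (Zf v : Set G) ≤ Qf v := by
    intro v w hvw
    refine forall_edge P (p := fun v w => E v w ⊓ centralizer (Zf v : Set G) ≤ Qf v) ?_ ?_ hvw
    · intro g v w h1
      rw [hEs, hZe, centralizer_conj, ← smul_inf, hQe, pointwise_smul_le_pointwise_smul_iff]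
      exact h1
    · intro i
      rw [hE1, hZ1, hQ1, (h i).cent]
  have hQc : ∀ v, Qf v ≤ centralizer (Zf v : Set G) := by
    refine forall_vertex P (p := fun v => Qf v ≤ centralizer (Zf v : Set G)) ?_ ?_
    · intro g v h1
      exact (hQe.le_iff hZe.centralizer).mpr h1
    · intro i
      rw [hQ1, hZ1, ← (h i).cent]
      exact inf_le_right
  have hZle : ∀ {v w : CV P}, Γ.A v w → z v w ≤ Zf v := by
    intro v w hvw
    refine (Subgroup.commutator_le).mpr fun a ha e he => ?_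
    have h1 : e ∈ normalizer (Zf v : Set G) := hZe.stab_le_normalizer v he.1
    rw [commutatorElement_def, mul_assoc, mul_assoc]
    refine (Zf v).mul_mem ha ?_
    rw [← mul_assoc]
    exact (mem_normalizer_iff.mp h1 a⁻¹).mp ((Zf v).inv_mem ha)
  -- critical pairs
  have hbase : Γ.A (mk P false 1) (mk P true 1) := coset_adj P false 1
  have hne : Zf (mk P false 1) ≠ ⊥ := by
    intro h0
    have h4 := hcard hbase
    have h5 : z (mk P false 1) (mk P true 1) = ⊥ := by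
      rw [eq_bot_iff, ← h0]; exact hZle hbase
    rw [h5, card_bot] at h4
    omega
  obtain ⟨b, hb⟩ := Γ.exists_crit hfaith hZe hQe hQs hbase hne
  have hb2 : 2 ≤ b := hb.two_le hZQ hadj
  obtain ⟨b, rfl⟩ : ∃ b', b = b' + 2 := ⟨b - 2, by omega⟩
  -- the commutator of a critical pair
  have hcrit : ∀ v p q w : CV P, Γ.A v p → Γ.W b p q → Γ.A q w → ¬ Zf v ≤ Qf w →
      (⁅Zf v, Zf w⁆ = z v p ∧ ⁅Zf v, Zf w⁆ = z w q) ∧ Zf v ≤ E w q ∧ Zf w ≤ E v p ∧
        ∃ u ∈ Zf w, u ∉ Qf v := by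
    intro v p q w hvp hpq hqw hn
    have h1 : Zf v ≤ Qf q := hb.min (b + 1) (by omega) v q (Wlk.cons hvp hpq)
    have h2 : Zf w ≤ Qf p := by
      refine hb.min (b + 1) (by omega) w p ?_
      exact Wlk.cons (Γ.symm hqw) (RGraph.W.symm hpq)
    have h3 : Zf v ≤ E w q := by
      rw [hEc]; exact h1.trans (hQE hqw)
    have h4 : Zf w ≤ E v p := by
      rw [hEc]; exact h2.trans (hQE (Γ.symm hvp))
    have h5 : ⁅Zf v, Zf w⁆ ≠ ⊥ := by
      intro h0
      rw [commutator_eq_bot_iff_le_centralizer] at h0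
      exact hn ((le_inf h3 h0).trans (hcent (Γ.symm hqw)))
    have h6 : ⁅Zf v, Zf w⁆ ≤ z v p := commutator_mono le_rfl h4
    have h7 : ⁅Zf v, Zf w⁆ ≤ z w q := by
      rw [commutator_comm]; exact commutator_mono le_rfl h3
    refine ⟨⟨eq_of_le_of_card (hcard hvp) h6 h5,
      eq_of_le_of_card (hcard (Γ.symm hqw)) h7 h5⟩, h3, h4, ?_⟩
    by_contra hcon
    push Not at hcon
    apply h5
    rw [commutator_comm, commutator_eq_bot_iff_le_centralizer]
    exact fun u hu => hQc v (hcon u hu)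
  obtain ⟨v, w, hw, hn⟩ := hb.ex
  obtain ⟨p, hvp, hpw⟩ := Wlk.succ_iff.mp hw
  obtain ⟨q, hpq, hqw⟩ := Wlk.succ_iff'.mp hpw
  obtain ⟨⟨hc1, hc2⟩, h3, h4, u, hu, huQ⟩ := hcrit v p q w hvp hpq hqw hn
  -- transport to the base edge
  have hE2 : ∀ {v w : CV P}, Γ.A v w → ∃ (g : G) (i : Bool), v = g • mk P i 1 ∧
      w = g • mk P (!i) 1 := by
    intro v w hvw
    refine forall_edge P (p := fun v w => ∃ (g : G) (i : Bool), v = g • mk P i 1 ∧
      w = g • mk P (!i) 1) ?_ ?_ hvw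
    · rintro g v w ⟨g', i, rfl, rfl⟩
      exact ⟨g * g', i, by rw [mul_smul], by rw [mul_smul]⟩
    · exact fun i => ⟨1, i, by rw [one_smul], by rw [one_smul]⟩
  obtain ⟨g, i, rfl, rfl⟩ := hE2 hvp
  obtain ⟨g', j, rfl, rfl⟩ := hE2 (Γ.symm hqw)
  have e1 : ∀ X : Subgroup G, MulAut.conj g⁻¹ • MulAut.conj g • X = X := fun X => by
    rw [conj_smul_conj_smul, inv_mul_cancel, map_one, one_smul]
  have e2 : ∀ X : Subgroup G, MulAut.conj g⁻¹ • MulAut.conj g' • X =
      MulAut.conj (g⁻¹ * g') • X := fun X => conj_smul_conj_smul _ _ _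
  rw [hZe, hZe, hZ1, hZ1] at hc1 hc2
  rw [hzs, hz1] at hc1 hc2
  rw [hZe, hZ1, hEs, hE1] at h3 h4
  refine ⟨i, j, g⁻¹ * g', ?_, ?_, ?_, ?_⟩
  · intro h0
    have h5 : MulAut.conj g⁻¹ • ⁅MulAut.conj g • Z i, MulAut.conj g' • Z j⁆ = D i := by
      rw [hc1, e1]
    have h6 : MulAut.conj g⁻¹ • ⁅MulAut.conj g • Z i, MulAut.conj g' • Z j⁆ =
        ⁅MulAut.conj g⁻¹ • MulAut.conj g • Z i, MulAut.conj g⁻¹ • MulAut.conj g' • Z j⁆ :=
      Subgroup.map_commutator _ _ _
    rw [h6, e1, e2, h0] at h5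
    have h7 := (h i).card
    rw [← h5, card_bot] at h7
    omega
  · rw [← e2, ← hc2, hc1, e1]
  · rw [← e2, ← e1 (Z i)]
    exact pointwise_smul_le_pointwise_smul_iff.mpr h3
  · rw [← e2, ← e1 B]
    exact pointwise_smul_le_pointwise_smul_iff.mpr h4

end Graph

open Cfsg.Agent.MinSimple.DBlkApi

/-- Two blocks over `B` with commuting four-groups and without common normal subgroup in `B`: there are
`L₁`, `L₂` among them (possibly equal) and `x` with `x z₂ x⁻¹ = z₁`, such that `vl B L₁` and `(vl B L₂)^x`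
do not commute. -/
theorem exists_conj [Finite G] {B L L' : Subgroup G} {k k' : ℕ} {z z' : G} (h : IsDBlk B L k)
    (h' : IsDBlk B L' k') (hz : IsPt B L z) (hz' : IsPt B L' z')
    (core : ∀ N : Subgroup G, N ≤ B → L ≤ normalizer (N : Set G) →
      L' ≤ normalizer (N : Set G) → N = ⊥)
    (hc : ∀ u ∈ vl B L, ∀ w ∈ vl B L', u * w = w * u) :
    ∃ (L₁ L₂ : Subgroup G) (z₁ z₂ x : G), (L₁ = L ∧ z₁ = z ∨ L₁ = L' ∧ z₁ = z') ∧
      (L₂ = L ∧ z₂ = z ∨ L₂ = L' ∧ z₂ = z') ∧ x * z₂ * x⁻¹ = z₁ ∧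
      ∃ u ∈ vl B L₁, ∃ w ∈ vl B L₂, u * (x * w * x⁻¹) ≠ (x * w * x⁻¹) * u := by
  have hcomm : ⁅zl B L', zl B L⁆ = ⊥ := by
    rw [commutator_eq_bot_iff_le_centralizer]
    intro w hw
    rw [mem_centralizer_iff]
    exact fun u hu => zl_commute h h' hc u hu w hw
  obtain ⟨i, j, x, h1, h2, h3, h4⟩ := exists_pair (P := fun i => cond i L L')
    (Q := fun i => cond i (o2 L) (o2 L')) (Z := fun i => cond i (zl B L) (zl B L'))
    (D := fun i => cond i (zpowers z) (zpowers z')) (B := B) (by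
      intro i
      cases i
      · exact toPB h' hz'
      · exact toPB h hz) (by
      rw [inf_comm]
      exact inf_eq h h' core) (fun N h1 h2 h3 => core N h1 h3 h2) hcomm
  have hk : ∀ i : Bool, ∃ k₁, IsDBlk B (cond i L L') k₁ ∧ IsPt B (cond i L L') (cond i z z') ∧
      (cond i L L' = L ∧ cond i z z' = z ∨ cond i L L' = L' ∧ cond i z z' = z') := by
    intro i
    cases i
    · exact ⟨k', h', hz', Or.inr ⟨rfl, rfl⟩⟩
    · exact ⟨k, h, hz, Or.inl ⟨rfl, rfl⟩⟩
  have hZ : ∀ i : Bool, (cond i (zl B L) (zl B L') : Subgroup G) = zl B (cond i L L') := by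
    intro i; cases i <;> rfl
  have hD : ∀ i : Bool, (cond i (zpowers z) (zpowers z') : Subgroup G) = zpowers (cond i z z') := by
    intro i; cases i <;> rfl
  simp only [hZ, hD] at h1 h2 h3 h4
  obtain ⟨k₁, hb1, hp1, hc1⟩ := hk i
  obtain ⟨k₂, hb2, hp2, hc2⟩ := hk j
  set L₁ : Subgroup G := cond i L L'
  set L₂ : Subgroup G := cond j L L'
  set z₁ : G := cond i z z'
  set z₂ : G := cond j z z'
  refine ⟨L₁, L₂, z₁, z₂, x, hc1, hc2, ?_, ?_⟩
  · have h5 : x * z₂ * x⁻¹ ∈ zpowers z₁ := by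
      rw [← h2]
      exact ⟨z₂, mem_zpowers _, rfl⟩
    rcases (zpowers_eq hp1.sq).mp h5 with h6 | h6
    · exact absurd (conj_eq_one_iff.mp h6) hp2.2.2
    · exact h6
  · by_contra hcon
    push Not at hcon
    apply h1
    rw [commutator_eq_bot_iff_le_centralizer]
    intro a ha
    rw [mem_centralizer_iff]
    rintro _ ⟨c, hc', rfl⟩
    obtain ⟨r, hr, v, hv, rfl⟩ := mem_zl hb1 ha
    obtain ⟨r', hr', v', hv', rfl⟩ := mem_zl hb2 hc'
    -- `r` is central in `B ≥ (zl B L₂)^x`, `r'^x` is central in `B^x ≥ zl B L₁`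
    have a1 : ∀ c ∈ zl B L₂, (x * c * x⁻¹) * r = r * (x * c * x⁻¹) := fun c hc' =>
      zc_comm (rl_le_zc B L₁ hr) (h4 ⟨c, hc', rfl⟩)
    have a2 : ∀ a ∈ zl B L₁, a * (x * r' * x⁻¹) = (x * r' * x⁻¹) * a := by
      intro a ha
      obtain ⟨b, hb, hba⟩ := h3 ha
      have e : x * b * x⁻¹ = a := hba
      rw [← e]
      have := zc_comm (rl_le_zc B L₂ hr') hb
      calc x * b * x⁻¹ * (x * r' * x⁻¹) = x * (b * r') * x⁻¹ := by group
        _ = x * (r' * b) * x⁻¹ := by rw [this]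
        _ = x * r' * x⁻¹ * (x * b * x⁻¹) := by group
    have e1 : x * (r' * v') * x⁻¹ = (x * r' * x⁻¹) * (x * v' * x⁻¹) := by group
    have b1 := a1 _ (vl_le_zl B L₂ hv')
    have b2 := a2 _ (vl_le_zl B L₁ hv)
    have b3 := a2 _ (rl_le_zl B L₁ hr)
    have b4 := hcon v hv v' hv'
    change x * (r' * v') * x⁻¹ * (r * v) = r * v * (x * (r' * v') * x⁻¹)
    rw [e1]
    calc (x * r' * x⁻¹) * (x * v' * x⁻¹) * (r * v)
        = (x * r' * x⁻¹) * ((x * v' * x⁻¹) * r) * v := by group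
      _ = (x * r' * x⁻¹) * r * ((x * v' * x⁻¹) * v) := by rw [b1]; group
      _ = r * (x * r' * x⁻¹) * (v * (x * v' * x⁻¹)) := by rw [← b3, ← b4]
      _ = r * ((x * r' * x⁻¹) * v) * (x * v' * x⁻¹) := by group
      _ = r * v * ((x * r' * x⁻¹) * (x * v' * x⁻¹)) := by rw [← b2]; group

variable [Finite G] (hG : IsCharacteristicTwoType G)
  (hL : ∀ N : Subgroup G, IsTwoLocal N → Group.IsSolvable N) (S : Sylow 2 G)

omit hG hL in
/-- Two conjugates of `bau S` in a common 2-group are equal. -/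
theorem cj_eq_of_le {T : Subgroup G} {y : G} (hT : IsPGroup 2 T)
    (h1 : bau (S : Subgroup G) ≤ T) (h2 : ChoiceBase.cj y (bau (S : Subgroup G)) ≤ T) :
    ChoiceBase.cj y (bau (S : Subgroup G)) = bau (S : Subgroup G) := by
  have e : ((y • S : Sylow 2 G) : Subgroup G) = ChoiceBase.cj y (S : Subgroup G) := rfl
  have e2 : bau ((y • S : Sylow 2 G) : Subgroup G) = ChoiceBase.cj y (bau (S : Subgroup G)) := by
    rw [e]
    exact bau_map _ (MulAut.conj y).injective _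
  have e3 := SamePt.bau_eq (y • S) hT (by rw [e2]; exact h2)
  rw [← e2, ← e3, SamePt.bau_eq S hT h1]

include hG hL in
/-- Two blocks over `B = bau S` without common local: one of them has a conjugate of its four-group under
the centralizer of its point which does not commute with it. -/
theorem exists_centralizer (hc : SamePt.AllComm (bau (S : Subgroup G))) {L L' : Subgroup G} {k k' : ℕ}
    {z z' : G} (h : IsDBlk (bau (S : Subgroup G)) L k) (h' : IsDBlk (bau (S : Subgroup G)) L' k')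
    (hz : IsPt (bau (S : Subgroup G)) L z) (hz' : IsPt (bau (S : Subgroup G)) L' z')
    (core : ∀ N : Subgroup G, N ≤ bau (S : Subgroup G) → L ≤ normalizer (N : Set G) →
      L' ≤ normalizer (N : Set G) → N = ⊥) :
    ∃ (L₁ : Subgroup G) (z₁ x : G), (L₁ = L ∧ z₁ = z ∨ L₁ = L' ∧ z₁ = z') ∧ x * z₁ * x⁻¹ = z₁ ∧
      ∃ u ∈ vl (bau (S : Subgroup G)) L₁, ∃ w ∈ vl (bau (S : Subgroup G)) L₁,
        u * (x * w * x⁻¹) ≠ (x * w * x⁻¹) * u := by
  set B := bau (S : Subgroup G) with hB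
  obtain ⟨L₁, L₂, z₁, z₂, x, hc1, hc2, hx, u, hu, w, hw, huw⟩ :=
    exists_conj h h' hz hz' core (hc L L' k k' h h')
  have hk : ∀ L₀ z₀, (L₀ = L ∧ z₀ = z ∨ L₀ = L' ∧ z₀ = z') →
      ∃ k₀, IsDBlk B L₀ k₀ ∧ IsPt B L₀ z₀ := by
    rintro L₀ z₀ (⟨rfl, rfl⟩ | ⟨rfl, rfl⟩)
    · exact ⟨k, h, hz⟩
    · exact ⟨k', h', hz'⟩
  obtain ⟨k₁, hb1, hp1⟩ := hk L₁ z₁ hc1
  obtain ⟨k₂, hb2, hp2⟩ := hk L₂ z₂ hc2
  -- `B` and `B^x` are in `C(z₁)`
  have hBz : B ≤ centralizer ({z₁} : Set G) := fun b hb => by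
    rw [mem_centralizer_singleton_iff]
    exact hp1.comm hb
  obtain ⟨T, hT, hBT⟩ := ChoiceSit.exists_syl hb1.two hBz
  have hBx : ChoiceBase.cj x B ≤ centralizer ({z₁} : Set G) := by
    rintro _ ⟨b, hb, rfl⟩
    rw [mem_centralizer_singleton_iff, ← hx]
    have := hp2.comm hb
    change x * b * x⁻¹ * (x * z₂ * x⁻¹) = x * z₂ * x⁻¹ * (x * b * x⁻¹)
    calc x * b * x⁻¹ * (x * z₂ * x⁻¹) = x * (b * z₂) * x⁻¹ := by group
      _ = x * (z₂ * b) * x⁻¹ := by rw [this]
      _ = x * z₂ * x⁻¹ * (x * b * x⁻¹) := by group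
  obtain ⟨T', hT', hBT'⟩ := ChoiceSit.exists_syl (ChoiceBase.isPGroup_cj x hb1.two) hBx
  obtain ⟨g, hg, hgT⟩ := ChoiceSit.syl_conj hT' hT
  have hy : ChoiceBase.cj (g * x) B = B := by
    refine cj_eq_of_le S hT.2.1 hBT ?_
    rw [← ChoiceBase.cj_cj, ← hgT]
    exact ChoiceBase.cj_mono g hBT'
  have hb3 := hb2.conj (g * x)
  have hp3 := SamePt.isPt_conj hp2 (g * x)
  have hgz : g * z₁ * g⁻¹ = z₁ := by
    have := mem_centralizer_singleton_iff.mp hg
    rw [this]; group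
  change IsDBlk (ChoiceBase.cj (g * x) B) _ _ at hb3
  change IsPt (ChoiceBase.cj (g * x) B) _ _ at hp3
  have e1 : g * x * z₂ * (g * x)⁻¹ = z₁ := by
    calc g * x * z₂ * (g * x)⁻¹ = g * (x * z₂ * x⁻¹) * g⁻¹ := by group
      _ = z₁ := by rw [hx, hgz]
  rw [hy] at hb3 hp3
  rw [e1] at hp3
  have hv : vl B (ChoiceBase.cj (g * x) L₂) = vl B L₁ :=
    SamePt.vl_eq_of_pt hG hL S hb3 hb1 hp3 hp1 (hc _ _ _ _ hb3 hb1)
  have hw' : g * x * w * (g * x)⁻¹ ∈ vl B L₁ := by
    rw [← hv]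
    have h1 : vl (ChoiceBase.cj (g * x) B) (ChoiceBase.cj (g * x) L₂) =
        ChoiceBase.cj (g * x) (vl B L₂) := vl_map _ (MulAut.conj (g * x)).injective B L₂
    rw [hy] at h1
    rw [h1]
    exact ⟨w, hw, rfl⟩
  refine ⟨L₁, z₁, g⁻¹, hc1, ?_, u, hu, _, hw', ?_⟩
  · have h1 : g⁻¹ * (g * z₁ * g⁻¹) * g = z₁ := by group
    rw [hgz] at h1
    rw [inv_inv]
    exact h1
  · have e2 : g⁻¹ * (g * x * w * (g * x)⁻¹) * g⁻¹⁻¹ = x * w * x⁻¹ := by group
    rw [e2]
    exact huw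

end Cfsg.Agent.MinSimple.CritPair
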