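import Cfsg.Agent.MinSimple.LemP
import Cfsg.Agent.MinSimple.CritPair

/-!
# Lemma P

Two blocks over `bau S` (`S` a Sylow 2-subgroup of the group `G` of characteristic 2 type with
solvable 2-locals, all lines of blocks over `bau S` commute) lie in a common 2-local.
-/

set_option autoImplicit false

namespace Cfsg.Agent.MinSimple.LemPEnd

open Subgroup Cfsg Cfsg.Agent.ZN Cfsg.Agent.MinSimple
open Cfsg.Agent.MinSimple.DBlkApi Cfsg.Agent.MinSimple.LemX Cfsg.Agent.MinSimple.SamePt
open Cfsg.Agent.MinSimple.LemP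

universe u

variable {G : Type u} [Group G] [Finite G] {S : Sylow 2 G} {L L' : Subgroup G} {k k' : ℕ}

theorem not_ctx (C : Ctx S L L' k k') : False := by
  obtain ⟨z, hz⟩ := exists_pt C.blk
  obtain ⟨z', hz'⟩ := exists_pt C.blk'
  obtain ⟨L₁, z₁, x, h1, hx, hnc⟩ := CritPair.exists_centralizer C.char C.sol S C.comm C.blk
    C.blk' hz hz' fun N hN h1 h2 => C.nonlocal N (C.blk.two.to_le hN) h1 h2
  rcases h1 with ⟨rfl, rfl⟩ | ⟨rfl, rfl⟩
  · exact C.false_of_crit C.blk C.blk' C.vne hz (Four.conj_eq_iff_comm.mp hx) hnc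
  · exact C.false_of_crit C.blk' C.blk C.vne.symm hz' (Four.conj_eq_iff_comm.mp hx) hnc

/-- **Lemma P.** -/
theorem exists_common (H : Hyp S) (h : IsDBlk (bau (S : Subgroup G)) L k)
    (h' : IsDBlk (bau (S : Subgroup G)) L' k') :
    ∃ U : Subgroup G, IsPGroup 2 U ∧ U ≠ ⊥ ∧ L ≤ normalizer (U : Set G) ∧
      L' ≤ normalizer (U : Set G) := by
  by_contra hcon
  push Not at hcon
  refine not_ctx (S := S) (L := L) (L' := L') (k := k) (k' := k') { H with
    blk := h, blk' := h', nonlocal := fun U hU h1 h2 => ?_ }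
  by_contra hU1
  exact hcon U hU hU1 h1 h2

/-- Two blocks over `bau S` with different lines: each point lies in the `rl` of the other block,
and each block normalizes the line of the other one. -/
theorem mem_rl (H : Hyp S) (h : IsDBlk (bau (S : Subgroup G)) L k)
    (h' : IsDBlk (bau (S : Subgroup G)) L' k')
    (hne : vl (bau (S : Subgroup G)) L ≠ vl (bau (S : Subgroup G)) L') {z : G}
    (hz : IsPt (bau (S : Subgroup G)) L' z) : z ∈ rl (bau (S : Subgroup G)) L := by
  obtain ⟨U, hU, hU1, h1, h2⟩ := exists_common H h h'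
  obtain ⟨T, hT, hb, -, -⟩ := H.exists_loc hU hU1 (h.le.trans h1)
  rw [← hb] at h h' hne hz ⊢
  exact LemXPerm.indep hT ⟨h1, k, h⟩ ⟨h2, k', h'⟩ hne hz

theorem le_normalizer_vl' (H : Hyp S) (h : IsDBlk (bau (S : Subgroup G)) L k)
    (h' : IsDBlk (bau (S : Subgroup G)) L' k') :
    L ≤ normalizer (vl (bau (S : Subgroup G)) L' : Set G) := by
  obtain ⟨U, hU, hU1, h1, h2⟩ := exists_common H h h'
  obtain ⟨T, hT, hb, -, -⟩ := H.exists_loc hU hU1 (h.le.trans h1)
  rw [← hb] at h h' ⊢
  obtain ⟨n, V, hV⟩ := exists_gff hT ⟨L, h1, k, h⟩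
  obtain ⟨i, hi, -, -, -⟩ := exists_plane hV h2 h' (vl_le_mod h2 h')
  rw [hi]
  exact LemX.nV hV h1 h i

/-- All blocks over `bau S` with the same line have the same `rl`, and two blocks over `bau S`
with different lines do not move the points of each other. -/
theorem commute_pt (H : Hyp S) (h : IsDBlk (bau (S : Subgroup G)) L k)
    (h' : IsDBlk (bau (S : Subgroup G)) L' k')
    (hne : vl (bau (S : Subgroup G)) L ≠ vl (bau (S : Subgroup G)) L') {z : G}
    (hz : IsPt (bau (S : Subgroup G)) L' z) : ∀ l ∈ L, l * z = z * l := fun _ hl =>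
  rl_comm (mem_rl H h h' hne hz) hl

end Cfsg.Agent.MinSimple.LemPEnd
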