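import Cfsg.Agent.MinSimple.LemXPerm
import Cfsg.Agent.MinSimple.DBlkNot
import Cfsg.Agent.MinSimple.FFBlock

/-!
# Lemma X, consequences: generation of `X` by its blocks

`X` solvable of characteristic 2 with Sylow 2-subgroup `T`, `W` a module for `X` (`IsMod X T W`: `W` is
normal in `X`, `W ≤ Ω₁(Z(O₂(X)))`, `O₂(X/C_X(W)) = 1`).  If `J(T)` does not centralize `W` then `X`
contains a block over `B(T)`, and `X` is contained in every subgroup `M` containing `C_X(W)`,
`X ∩ C(Ω₁Z(J(T)))`, `N_X(B(T))` and all blocks of `X` over `B(T)`.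
-/

set_option autoImplicit false

namespace Cfsg.Agent.MinSimple.LemXGen

open Subgroup Cfsg Cfsg.Agent.ZN Cfsg.Agent.MinSimple
open Cfsg.Agent.MinSimple.DBlkApi Cfsg.Agent.MinSimple.LemX Cfsg.Agent.MinSimple.LemXPerm

universe u

variable {G : Type u} [Group G]

/-- `W` is a module for `X`. -/
structure IsMod (X T W : Subgroup G) : Prop where
  loc : Loc X T
  nrm : X ≤ normalizer (W : Set G)
  le : W ≤ zc (o2 X)
  core : ∀ D : Subgroup G, D ≤ X → X ≤ normalizer (D : Set G) →
    (∀ d ∈ D, ∃ c ∈ centralizer (W : Set G), ∃ t ∈ T, d = c * t) → D ≤ centralizer (W : Set G)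

variable [Finite G] {X T W : Subgroup G}

theorem isMod_mod (hX : Loc X T) : IsMod X T (mod X T) where
  loc := hX
  nrm := le_normalizer_nc _ _
  le := mod_le hX
  core := fun _ _ hD h => mod_core hX hD h

theorem isMod_zl (hX : Loc X T) : IsMod X T (zl T X) where
  loc := hX
  nrm := ZN.le_normalizer_zl T X
  le := ZN.zl_le (VModule.zc_le_zc_o2 hX.TX hX.two hX.syl hX.char2)
    ((ZN.le_normalizer_o2 X).trans (normalizer_le_normalizer_zc _))
  core := by
    intro D hDX hD h
    refine Basic.le_centralizer_zl_of_pow hX.TX hX.two hX.syl hDX hD fun x hx => ?_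
    obtain ⟨c, hc, t, ht, rfl⟩ := h x hx
    obtain ⟨k, hk⟩ := hX.two ⟨t, ht⟩
    refine ⟨k, ?_⟩
    have hk' : t ^ 2 ^ k = 1 := congrArg Subtype.val hk
    have hact : ∀ n : ℕ, ∀ w ∈ zl T X, (c * t) ^ n * w * ((c * t) ^ n)⁻¹ = t ^ n * w * (t ^ n)⁻¹ := by
      intro n
      induction n with
      | zero => intro w _; simp
      | succ n ih =>
        intro w hw
        have h1 : t ^ n * w * (t ^ n)⁻¹ ∈ zl T X :=
          Four.conj_mem (ZN.le_normalizer_zl T X (pow_mem (hX.TX ht) n)) hw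
        have h2 : t * (t ^ n * w * (t ^ n)⁻¹) * t⁻¹ ∈ zl T X :=
          Four.conj_mem (ZN.le_normalizer_zl T X (hX.TX ht)) h1
        calc (c * t) ^ (n + 1) * w * ((c * t) ^ (n + 1))⁻¹
            = c * (t * ((c * t) ^ n * w * ((c * t) ^ n)⁻¹) * t⁻¹) * c⁻¹ := by
              rw [pow_succ' (c * t) n, mul_inv_rev, mul_inv_rev c t]
              simp only [mul_assoc]
          _ = c * (t * (t ^ n * w * (t ^ n)⁻¹) * t⁻¹) * c⁻¹ := by rw [ih w hw]
          _ = t * (t ^ n * w * (t ^ n)⁻¹) * t⁻¹ := Four.mem_cent_iff.1 hc _ h2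
          _ = t ^ (n + 1) * w * (t ^ (n + 1))⁻¹ := by
              rw [pow_succ' t n, mul_inv_rev]
              simp only [mul_assoc]
    rw [Four.mem_cent_iff]
    intro w hw
    rw [hact _ w hw, hk']
    group

/-- `N_X(T ∩ C(W))`. -/
def rdw (X T W : Subgroup G) : Subgroup G :=
  X ⊓ normalizer ((T ⊓ centralizer (W : Set G) : Subgroup G) : Set G)

omit [Finite G] in
theorem rdw_le (X T W : Subgroup G) : rdw X T W ≤ X := inf_le_left

namespace IsMod

omit [Finite G] in
theorem le_normalizer_centralizer (h : IsMod X T W) :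
    X ≤ normalizer (centralizer (W : Set G) : Set G) := h.nrm.trans (DBlkReduce.nc _)

omit [Finite G] in
theorem le_normalizer_inf (h : IsMod X T W) :
    X ≤ normalizer ((X ⊓ centralizer (W : Set G) : Subgroup G) : Set G) :=
  (le_inf le_normalizer h.le_normalizer_centralizer).trans inf_normalizer_le_normalizer_inf

omit [Finite G] in
theorem le_rdw (h : IsMod X T W) : T ≤ rdw X T W :=
  le_inf h.loc.TX ((le_inf le_normalizer (h.loc.TX.trans h.le_normalizer_centralizer)).trans
    inf_normalizer_le_normalizer_inf)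

theorem W_le_T (h : IsMod X T W) : W ≤ T := h.le.trans ((ZN.zc_le _).trans h.loc.o2_le)

omit [Finite G] in
theorem comm (h : IsMod X T W) : ∀ x ∈ W, ∀ y ∈ W, x * y = y * x := fun x hx y hy =>
  (mem_zc.mp (h.le hy)).2.1 x (ZN.zc_le _ (h.le hx))

omit [Finite G] in
theorem sq (h : IsMod X T W) : ∀ x ∈ W, x ^ 2 = 1 := fun _ hx => zc_sq (h.le hx)

theorem exists_mul (h : IsMod X T W) {x : G} (hx : x ∈ X) :
    ∃ c ∈ X ⊓ centralizer (W : Set G), ∃ n ∈ rdw X T W, x = c * n := by
  obtain ⟨c, hc, n, hn, rfl⟩ := exists_frattini h.loc.TX h.loc.two h.loc.syl h.le_normalizer_inf hx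
  rw [← inf_assoc, inf_eq_left.2 h.loc.TX] at hn
  exact ⟨c, hc, n, hn, rfl⟩

omit [Finite G] in
theorem not_dvd (h : IsMod X T W) : ¬ 2 ∣ T.relIndex (rdw X T W) :=
  DBlkReduce.not_dvd_of_le h.loc.syl h.le_rdw (rdw_le _ _ _)

/-- `O₂(N/C_N(W)) = 1`, `N = N_X(T ∩ C(W))`. -/
theorem core_rdw (h : IsMod X T W) {D : Subgroup G} (hDN : D ≤ rdw X T W)
    (hD : rdw X T W ≤ normalizer (D : Set G))
    (hd : ∀ d ∈ D, ∃ c ∈ centralizer (W : Set G), ∃ t ∈ T, d = c * t) :
    D ≤ centralizer (W : Set G) := by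
  set C := X ⊓ centralizer (W : Set G) with hC
  have hDX : D ≤ X := hDN.trans (rdw_le _ _ _)
  have hDC : D ≤ normalizer (C : Set G) := hDX.trans h.le_normalizer_inf
  have h1 : X ≤ normalizer ((D ⊔ C : Subgroup G) : Set G) := by
    intro x hx
    obtain ⟨c, hc, n, hn, rfl⟩ := h.exists_mul hx
    refine mul_mem (le_normalizer (mem_sup_right hc)) ?_
    refine VModule.mem_normalizer_of_map_le ?_
    rw [Subgroup.map_sup]
    refine sup_le_sup ?_ ?_
    · rw [map_conj_eq_of_mem_normalizer (hD hn)]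
    · rw [map_conj_eq_of_mem_normalizer (h.le_normalizer_inf (rdw_le _ _ _ hn))]
  refine le_sup_left.trans (h.core (D ⊔ C) (sup_le hDX inf_le_left) h1 fun x hx => ?_)
  obtain ⟨d, hdD, b, hb, rfl⟩ := FFBlock.mem_sup_of_le_normalizer hDC hx
  obtain ⟨c, hc, t, ht, rfl⟩ := hd d hdD
  refine ⟨c * (t * b * t⁻¹), mul_mem hc ?_, t, ht, by group⟩
  exact Four.conj_mem (h.le_normalizer_centralizer (h.loc.TX ht)) hb.2

theorem o2_rdw (h : IsMod X T W) : o2 (rdw X T W) = T ⊓ centralizer (W : Set G) := by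
  apply le_antisymm
  · have h1 : o2 (rdw X T W) ≤ T := ZN.o2_le_of_sylow h.le_rdw h.loc.two h.not_dvd
    refine le_inf h1 (h.core_rdw (ZN.o2_le _) (ZN.le_normalizer_o2 _) fun d hd => ?_)
    exact ⟨1, one_mem _, d, h1 hd, by group⟩
  · exact ZN.le_o2 (inf_le_left.trans h.le_rdw) (h.loc.two.to_le inf_le_left) inf_le_right

theorem loc_rdw (h : IsMod X T W) : Loc (rdw X T W) T where
  solv := by
    have := h.loc.solv
    exact Group.isSolvable_of_isSolvable_injective (inclusion_injective (rdw_le X T W))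
  char2 := Basic.char2_of_le h.loc.char2 (h.loc.o2_le.trans h.le_rdw) (rdw_le _ _ _)
  two := h.loc.two
  TX := h.le_rdw
  syl := h.not_dvd

/-- The data of the structure theorem for `N = N_X(T ∩ C(W))`. -/
theorem exists_ff0 (h : IsMod X T W) (hJ : ¬ jj T ≤ centralizer (W : Set G)) :
    ∃ (n : ℕ) (V : Fin n → Subgroup ↥(rdw X T W)),
      Baumann.FF0 (T.subgroupOf (rdw X T W)) (W.subgroupOf (rdw X T W)) V := by
  have hf : Fact (Nat.Prime 2) := ⟨Nat.prime_two⟩
  have ho := h.o2_rdw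
  have hl := h.loc_rdw
  have hcore := @IsMod.core_rdw G _ _ X T W h
  set N := rdw X T W with hN
  have hinj : Function.Injective N.subtype := N.subtype_injective
  have hTN : T ≤ N := h.le_rdw
  have hWN : W ≤ N := h.W_le_T.trans hTN
  have hTT : (T.subgroupOf N).map N.subtype = T := by
    rw [subgroupOf_map_subtype, inf_eq_left.2 hTN]
  have hWW : (W.subgroupOf N).map N.subtype = W := by
    rw [subgroupOf_map_subtype, inf_eq_left.2 hWN]
  have hT2 : IsPGroup 2 (T.subgroupOf N) := h.loc.two.of_equiv (subgroupOfEquivOfLe hTN).symm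
  have hTi : ¬ 2 ∣ (T.subgroupOf N).index := h.not_dvd
  obtain ⟨S, hS⟩ := FFBasic.exists_sylow hT2 hTi
  have hWn : (W.subgroupOf N).Normal :=
    normal_subgroupOf_of_le_normalizer ((rdw_le _ _ _).trans h.nrm)
  have hWe : IsElementaryAbelian 2 (W.subgroupOf N) := by
    rw [PLocal.ThompsonJ.isElementaryAbelian_iff]
    exact ⟨fun x hx y hy => Subtype.ext (h.comm x hx y hy), fun x hx => Subtype.ext (h.sq x hx)⟩
  have hWe' := PLocal.ThompsonJ.isElementaryAbelian_iff.1 hWe
  have hCn : (centralizer (W.subgroupOf N : Set ↥N)).Normal := inferInstance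
  have hWO : ∀ D : Subgroup ↥N, D.Normal → centralizer (W.subgroupOf N : Set ↥N) ≤ D →
      (∃ k : ℕ, (centralizer (W.subgroupOf N : Set ↥N)).relIndex D = 2 ^ k) →
      D = centralizer (W.subgroupOf N : Set ↥N) := by
    rintro D hD hCD ⟨k, hk⟩
    refine le_antisymm ?_ hCD
    have h1 : ∀ x ∈ D, ∃ k : ℕ, x ^ 2 ^ k ∈ centralizer (W.subgroupOf N : Set ↥N) := by
      intro x hx
      refine ⟨k, ?_⟩
      have h2 := Subgroup.pow_index_mem
        ((centralizer (W.subgroupOf N : Set ↥N)).subgroupOf D) ⟨x, hx⟩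
      rw [relIndex] at hk
      rw [hk] at h2
      exact h2
    have h2 := Lib.SylowNormalInf.le_sup_inf S D (centralizer (W.subgroupOf N : Set ↥N)) h1
    have h3 : D.map N.subtype ≤ centralizer (W : Set G) := by
      refine hcore (map_subtype_le D) ?_ ?_
      · have h4 := (le_normalizer_map_iff N.subtype hinj ⊤ D).2
          (by rw [normalizer_eq_top_iff.2 hD])
        rwa [← MonoidHom.range_eq_map, Subgroup.range_subtype] at h4
      · rintro _ ⟨d, hd, rfl⟩
        have h4 := h2 hd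
        rw [mem_sup_of_normal_left] at h4
        obtain ⟨c, hc, t, ht, hct⟩ := h4
        refine ⟨(c : G), ?_, (t : G), ?_, (congrArg Subtype.val hct).symm⟩
        · rw [mem_centralizer_iff]
          intro w hw
          exact congrArg Subtype.val (mem_centralizer_iff.mp hc ⟨w, hWN hw⟩ hw)
        · have h5 : t ∈ T.subgroupOf N := by rw [← hS]; exact ht.1
          exact h5
    rw [← hWW, le_centralizer_map_iff N.subtype hinj] at h3
    exact h3
  have hnJ : ¬ thompsonSubgroup 2 ↥N ≤ centralizer (W.subgroupOf N : Set ↥N) := by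
    intro hcon
    apply hJ
    rw [← hWW, ← hTT, jj_map N.subtype hinj, le_centralizer_map_iff N.subtype hinj]
    exact (DBlkNot.jj_le_thompson hT2 hTi).trans hcon
  have hcT : T.subgroupOf N ⊓ centralizer (W.subgroupOf N : Set ↥N) = pCore 2 ↥N := by
    apply Subgroup.map_injective hinj
    rw [← centralizer_map_inf N.subtype hinj, hTT, hWW, ← ho]
    rfl
  have hO : pCore 2 (↥N ⧸ centralizer (W.subgroupOf N : Set ↥N)) = ⊥ := by
    set C := centralizer (W.subgroupOf N : Set ↥N) with hC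
    set D : Subgroup ↥N := (pCore 2 (↥N ⧸ C)).comap (QuotientGroup.mk' C) with hD
    have hn : (pCore 2 (↥N ⧸ C)).Normal := Lib.Cores.pCore_normal 2
    have hDn : D.Normal := hn.comap _
    have hCD : C ≤ D := by
      intro x hx
      rw [hD, mem_comap]
      have : QuotientGroup.mk' C x = 1 := by
        rw [QuotientGroup.mk'_apply, QuotientGroup.eq_one_iff]; exact hx
      rw [this]; exact one_mem _
    have hmap : D.map (QuotientGroup.mk' C) = pCore 2 (↥N ⧸ C) :=
      Subgroup.map_comap_eq_self_of_surjective (QuotientGroup.mk'_surjective C) _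
    have hrel : C.relIndex D = Nat.card (pCore 2 (↥N ⧸ C)) := by
      have h1 := Subgroup.relIndex_ker (QuotientGroup.mk' C) (K := D)
      rw [QuotientGroup.ker_mk'] at h1
      rw [h1, hmap]
    obtain ⟨k, hk⟩ := IsPGroup.iff_card.1 (Lib.Cores.pCore_isPGroup (G := ↥N ⧸ C) 2)
    have h2 := hWO D hDn hCD ⟨k, hrel.trans hk⟩
    rw [← hmap, h2, Subgroup.map_eq_bot_iff, QuotientGroup.ker_mk']
  have hcQ : centralizer (pCore 2 ↥N : Set ↥N) ≤ pCore 2 ↥N := (Basic.char2_iff N).2 hl.char2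
  have hWcent : pCore 2 ↥N ≤ centralizer (W.subgroupOf N : Set ↥N) := by
    rw [← hcT]; exact inf_le_right
  have hWQ : W.subgroupOf N ≤ pCore 2 ↥N := by
    rw [← hcT]
    refine le_inf (comap_mono h.W_le_T) fun x hx => ?_
    rw [mem_centralizer_iff]
    exact fun y hy => hWe'.1 y hy x hx
  obtain ⟨n, V, hF⟩ := FFMod.exists_ffw hl.solv (T.subgroupOf N) hT2 hTi (W.subgroupOf N) hWn hWe
    hWO hnJ
  have hmax := MaxQ.exists_max hT2 hTi hWn hWe'.1 hWe'.2 hcT hF.card hF.indep hF.sup hF.nrm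
  exact ⟨n, V, ⟨hT2, hTi, hF.nonempty, hWn, hWe'.1, hWe'.2, hcQ, hWQ, hWcent, hcT, hF.card,
    hF.indep, hF.sup, hF.perm, hF.nrm, hF.d, hF.t,
    MaxQ.comm_le hl.solv hT2 hTi hWe'.1 hWe'.2 hO hcT hmax, hmax⟩⟩

/-- **Existence of a block.** -/
theorem exists_blk (h : IsMod X T W) (hJ : ¬ jj T ≤ centralizer (W : Set G)) :
    ∃ L ∈ blocks X T, vl (bau T) L ≤ W := by
  have h00 := h.exists_ff0 hJ
  have hNX := rdw_le X T W
  have hTN : T ≤ rdw X T W := h.le_rdw
  have hWN : W ≤ rdw X T W := h.W_le_T.trans hTN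
  set N := rdw X T W with hN
  obtain ⟨n, V, h0⟩ := h00
  obtain ⟨i⟩ := h0.nonempty
  obtain ⟨L, k, y, hL, -, hvl, -⟩ := FFBlock.exists_isDBlk h0 i
  have hinj : Function.Injective N.subtype := N.subtype_injective
  have hTT : (T.subgroupOf N).map N.subtype = T := by
    rw [subgroupOf_map_subtype, inf_eq_left.2 hTN]
  have hWW : (W.subgroupOf N).map N.subtype = W := by
    rw [subgroupOf_map_subtype, inf_eq_left.2 hWN]
  have hBB : (bau (T.subgroupOf N)).map N.subtype = bau T := by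
    rw [← bau_map N.subtype hinj, hTT]
  refine ⟨L.map N.subtype, ⟨(map_subtype_le _).trans hNX, k, ?_⟩, ?_⟩
  · have h3 := hL.map N.subtype hinj
    rwa [hBB] at h3
  · rw [← hBB, vl_map N.subtype hinj, hvl, ← hWW]
    exact Subgroup.map_mono (h0.V_le i)

/-- **Generation of `X` by its blocks.** -/
theorem le_of_blocks (h : IsMod X T W) (hJ : ¬ jj T ≤ centralizer (W : Set G)) {M : Subgroup G}
    (hW : X ⊓ centralizer (W : Set G) ≤ M) (hZ : X ⊓ centralizer (zj T : Set G) ≤ M)
    (hB : X ⊓ normalizer (bau T : Set G) ≤ M) (hL : ∀ L ∈ blocks X T, L ≤ M) : X ≤ M := by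
  have h00 := h.exists_ff0 hJ
  have hl := h.loc_rdw
  have hTN : T ≤ rdw X T W := h.le_rdw
  have hNX := rdw_le X T W
  have hWN : W ≤ rdw X T W := h.W_le_T.trans hTN
  have hmul := @IsMod.exists_mul G _ _ X T W h
  set N := rdw X T W with hN
  obtain ⟨n, V, h0⟩ := h00
  have hinj : Function.Injective N.subtype := N.subtype_injective
  have hTT : (T.subgroupOf N).map N.subtype = T := by
    rw [subgroupOf_map_subtype, inf_eq_left.2 hTN]
  have hWW : (W.subgroupOf N).map N.subtype = W := by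
    rw [subgroupOf_map_subtype, inf_eq_left.2 hWN]
  have hNN : (⊤ : Subgroup ↥N).map N.subtype = N := by
    rw [← MonoidHom.range_eq_map, Subgroup.range_subtype]
  have hBB : (bau (T.subgroupOf N)).map N.subtype = bau T := by
    rw [← bau_map N.subtype hinj, hTT]
  -- `N ≤ M`
  have hNM : N ≤ M := by
    by_contra hcon
    choose L k y hLd hLy _ _ _ _ hyJ hfix hcube htriv _ _ using FFBlock.exists_isDBlk h0
    have hW' : centralizer (W.subgroupOf N : Set ↥N) ≤ M.subgroupOf N := by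
      have h2 := centralizer_map_inf N.subtype hinj ⊤ (W.subgroupOf N)
      rw [hNN, hWW, top_inf_eq] at h2
      intro x hx
      rw [mem_subgroupOf]
      refine hW ((inf_le_inf_right _ hNX) ?_)
      rw [h2]
      exact ⟨x, hx, rfl⟩
    have hJ' : normalizer (jj (T.subgroupOf N) : Set ↥N) ≤ M.subgroupOf N := by
      have h2 := normalizer_map_inf N.subtype hinj ⊤ (jj (T.subgroupOf N))
      rw [hNN, ← jj_map N.subtype hinj, hTT, top_inf_eq] at h2
      intro x hx
      rw [mem_subgroupOf]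
      have h3 : (x : G) ∈ N ⊓ normalizer (jj T : Set G) := by
        rw [h2]; exact ⟨x, hx, rfl⟩
      obtain ⟨c, hc, m, hm, hxm⟩ := exists_mul_of_mem_normalizer_jj hl.TX hl.two hl.syl h3.1 h3.2
      rw [hxm]
      exact mul_mem (hZ ((inf_le_inf_right _ hNX) hc)) (hB ((inf_le_inf_right _ hNX) hm))
    have hMne : M.subgroupOf N ≠ ⊤ := fun h => by
      rw [subgroupOf_eq_top] at h
      exact hcon h
    obtain ⟨i, hi⟩ := DBlkNot.exists_not_mem h0 hW' hJ' hMne y hyJ hfix hcube htriv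
    apply hi
    rw [mem_subgroupOf]
    refine hL ((L i).map N.subtype) ⟨(map_subtype_le _).trans hNX, k i, ?_⟩ ⟨y i, ?_, rfl⟩
    · have h3 := (hLd i).map N.subtype hinj
      rwa [hBB] at h3
    · rw [hLy i]
      exact mem_sup_right (mem_zpowers _)
  intro x hx
  obtain ⟨c, hc, n, hn, rfl⟩ := hmul hx
  exact mul_mem (hW hc) (hNM hn)

end IsMod

/-- `J(T)` does not centralize `mod X T` if `X` contains a block. -/
theorem not_jj_le_mod (_ : Loc X T) {L : Subgroup G} (hL : L ∈ blocks X T) :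
    ¬ jj T ≤ centralizer (mod X T : Set G) := by
  obtain ⟨hLX, k, hk⟩ := hL
  intro h
  apply hk.not_jj_le
  rw [jj_bau]
  intro b hb
  exact mem_o2_of_cent hk (jj_le_bau T hb) (centralizer_le (vl_le_mod hLX hk) (h hb))

/-- **(X4)** -/
theorem gen_le (hX : Loc X T) (hne : (blocks X T).Nonempty) {M : Subgroup G}
    (hW : X ⊓ centralizer (mod X T : Set G) ≤ M) (hZ : X ⊓ centralizer (zj T : Set G) ≤ M)
    (hB : X ⊓ normalizer (bau T : Set G) ≤ M) (hL : ∀ L ∈ blocks X T, L ≤ M) : X ≤ M := by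
  obtain ⟨L, hL'⟩ := hne
  exact (isMod_mod hX).le_of_blocks (not_jj_le_mod hX hL') hW hZ hB hL

/-- **(X4)**, with the centralizer of one point. -/
theorem gen_le_of_pt (hX : Loc X T) {L₀ : Subgroup G} (hL₀ : L₀ ∈ blocks X T) {z : G}
    (hz : IsPt (bau T) L₀ z) {M : Subgroup G} (hzM : X ⊓ centralizer ({z} : Set G) ≤ M)
    (hB : X ⊓ normalizer (bau T : Set G) ≤ M) (hL : ∀ L ∈ blocks X T, L ≤ M) : X ≤ M := by
  refine gen_le hX ⟨L₀, hL₀⟩ ?_ ?_ hB hL
  · refine (inf_le_inf_left _ (centralizer_le ?_)).trans hzM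
    rw [Set.singleton_subset_iff]
    obtain ⟨hLX, k, hk⟩ := hL₀
    exact vl_le_mod hLX hk hz.1
  · refine (inf_le_inf_left _ (centralizer_le ?_)).trans hzM
    rw [Set.singleton_subset_iff]
    have := hz.2.1
    rwa [zc_bau] at this

/-- A group `X` without blocks: `J(T)` centralizes `⟨Ω₁(Z(T))^X⟩`. -/
theorem jj_le_of_blocks_eq_empty (hX : Loc X T) (h : blocks X T = ∅) :
    jj T ≤ centralizer (zl T X : Set G) := by
  by_contra hcon
  obtain ⟨L, hL, -⟩ := (isMod_zl hX).exists_blk hcon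
  rw [h] at hL
  exact hL

end Cfsg.Agent.MinSimple.LemXGen
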