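import Cfsg.Agent.MinSimple.CosetFam
import Cfsg.Agent.MinSimple.DBlkDefs
import Cfsg.Agent.MinSimple.VModule

/-!
# Two blocks over the same `B` with the same point

`PB B L Q Z D`: the properties of a block used here (`Q = O₂(L) = C_B(Z)` of index 2 in `B`,
`[Z, B] = D` of order 2).

If `P false`, `P true` are two such groups over `B = P false ∩ P true`, with the same `D` and with no
common normal subgroup in `B`, then `Z false` and `Z true` do not commute (critical pair argument).
-/

set_option autoImplicit false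

namespace Cfsg.Agent.MinSimple.SamePoint

open Subgroup MulAction Pointwise Cfsg Cfsg.Agent.ZN Cfsg.Agent.MinSimple
open Cfsg.Agent.MinSimple.VModule (mem_normalizer_of_map_le)
open Cfsg.Agent.MinSimple.CosetGraph Cfsg.Agent.MinSimple.CosetFam
open scoped commutatorElement

variable {G : Type*} [Group G]

/-- The properties of a block used in the critical pair argument. -/
structure PB (B L Q Z D : Subgroup G) : Prop where
  le : B ≤ L
  Q_le : Q ≤ B
  Qn : L ≤ normalizer (Q : Set G)
  Zn : L ≤ normalizer (Z : Set G)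
  ZQ : Z ≤ Q
  cent : B ⊓ centralizer (Z : Set G) = Q
  idx : Q.relIndex B = 2
  comm : ⁅Z, B⁆ = D
  card : Nat.card D = 2
  gen : ∀ u ∈ B, u ∉ Q → ∃ l ∈ L, ∀ H : Subgroup G, u ∈ H → (∀ b ∈ B, l * b * l⁻¹ ∈ H) → L ≤ H
  moved : ¬ L ≤ normalizer (D : Set G)

section Graph

variable [Finite G] {P Q Z : Bool → Subgroup G} {B D : Subgroup G}

theorem eq_of_le_of_card {K D : Subgroup G} (hD : Nat.card D = 2) (h : K ≤ D) (hK : K ≠ ⊥) :
    K = D := by
  refine eq_of_le_of_card_ge h ?_
  rw [hD]
  have h1 : Nat.card K ≠ 1 := fun h1 => hK (Subgroup.card_eq_one.mp h1)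
  have h2 : 0 < Nat.card K := Nat.card_pos
  omega

/-- The critical pair argument. -/
theorem not_commute (h : ∀ i, PB B (P i) (Q i) (Z i) D) (hB : P false ⊓ P true = B)
    (core : ∀ N : Subgroup G, N ≤ B → P false ≤ normalizer (N : Set G) →
      P true ≤ normalizer (N : Set G) → N = ⊥) : ⁅Z false, Z true⁆ ≠ ⊥ := by
  intro hZZ
  have hBi : ∀ i, P i ⊓ P (!i) = B := by
    intro i
    cases i
    · exact hB
    · rw [inf_comm]; exact hB
  have hZc : ∀ i, Z i ≤ centralizer (Z (!i) : Set G) := by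
    intro i
    cases i
    · exact commutator_eq_bot_iff_le_centralizer.mp hZZ
    · exact commutator_eq_bot_iff_le_centralizer.mp (by rw [commutator_comm]; exact hZZ)
  set Γ := coset P with hΓ
  have hfaith : Γ.Faithful := coset_faithful P fun N h1 h2 h3 h4 =>
    core N (by rw [← hB]; exact le_inf h1 h2) h3 h4
  have hZn : ∀ i, P i ≤ normalizer (Z i : Set G) := fun i => (h i).Zn
  have hQn : ∀ i, P i ≤ normalizer (Q i : Set G) := fun i => (h i).Qn
  set Zf := fam P Z with hZf
  set Qf := fam P Q with hQf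
  have hZe : Eqv Zf := fam_eqv P hZn
  have hQe : Eqv Qf := fam_eqv P hQn
  have hse' : Eqv (fun v : CV P => stabilizer G v) := Eqv.stabilizer
  have hse : ∀ (g : G) (v : CV P), stabilizer G (g • v) = MulAut.conj g • stabilizer G v :=
    fun g v => hse' g v
  have hZ1 : ∀ i, Zf (mk P i 1) = Z i := fam_mk_one P hZn
  have hQ1 : ∀ i, Qf (mk P i 1) = Q i := fam_mk_one P hQn
  -- the edge groups
  set E : CV P → CV P → Subgroup G := fun v w => stabilizer G v ⊓ stabilizer G w with hE
  have hEs : ∀ (g : G) (v w : CV P), E (g • v) (g • w) = MulAut.conj g • E v w := by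
    intro g v w
    change stabilizer G (g • v) ⊓ stabilizer G (g • w) = _
    rw [hse g v, hse g w, ← smul_inf]
  have hE1 : ∀ i, E (mk P i 1) (mk P (!i) 1) = B := by
    intro i
    change stabilizer G _ ⊓ stabilizer G _ = _
    rw [mk_one_stab, mk_one_stab, hBi]
  have hEc : ∀ v w, E v w = E w v := fun v w => inf_comm _ _
  -- the points
  set z : CV P → CV P → Subgroup G := fun v w => ⁅Zf v, E v w⁆ with hz
  have hzs : ∀ (g : G) (v w : CV P), z (g • v) (g • w) = MulAut.conj g • z v w := by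
    intro g v w
    change ⁅Zf (g • v), E (g • v) (g • w)⁆ = _
    rw [hZe g v, hEs]
    exact (Subgroup.map_commutator (Zf v) (E v w) (MulAut.conj g).toMonoidHom).symm
  have hz1 : ∀ i, z (mk P i 1) (mk P (!i) 1) = D := by
    intro i
    change ⁅Zf _, E _ _⁆ = _
    rw [hZ1, hE1, (h i).comm]
  have hcard : ∀ {v w : CV P}, Γ.A v w → Nat.card (z v w) = 2 := by
    intro v w hvw
    refine forall_edge P (p := fun v w => Nat.card (z v w) = 2) ?_ ?_ hvw
    · intro g v w h1
      rw [hzs]
      have := Nat.card_congr (Subgroup.equivSMul (MulAut.conj g) (z v w)).symm.toEquiv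
      rw [this, h1]
    · intro i
      rw [hz1]; exact (h i).card
  have hzz : ∀ {v w : CV P}, Γ.A v w → z v w = z w v := by
    intro v w hvw
    refine forall_edge P (p := fun v w => z v w = z w v) ?_ ?_ hvw
    · intro g v w h1
      rw [hzs, hzs, h1]
    · intro i
      rw [hz1]
      have := hz1 (!i)
      rw [Bool.not_not] at this
      exact this.symm
  have hZQ : ∀ v, Zf v ≤ Qf v := by
    refine forall_vertex P (p := fun v => Zf v ≤ Qf v) ?_ ?_
    · intro g v h1
      exact (hZe.le_iff hQe).mpr h1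
    · intro i
      rw [hZ1, hQ1]; exact (h i).ZQ
  have hQE : ∀ {v w : CV P}, Γ.A v w → Qf v ≤ E v w := by
    intro v w hvw
    refine forall_edge P (p := fun v w => Qf v ≤ E v w) ?_ ?_ hvw
    · intro g v w h1
      rw [hEs, hQe, pointwise_smul_le_pointwise_smul_iff]
      exact h1
    · intro i
      rw [hQ1, hE1]; exact (h i).Q_le
  have hQs : ∀ v, Qf v ≤ stabilizer G v := by
    refine forall_vertex P (p := fun v => Qf v ≤ stabilizer G v) ?_ ?_
    · intro g v h1
      exact (hQe.le_iff hse').mpr h1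
    · intro i
      rw [hQ1, mk_one_stab]
      exact (h i).Q_le.trans (h i).le
  have hadj : ∀ v w, Γ.A v w → Zf v ≤ Qf w := by
    intro v w hvw
    refine forall_edge P (p := fun v w => Zf v ≤ Qf w) ?_ ?_ hvw
    · intro g v w h1
      exact (hZe.le_iff hQe).mpr h1
    · intro i
      rw [hZ1, hQ1, ← (h (!i)).cent]
      exact le_inf ((h i).ZQ.trans (h i).Q_le) (hZc i)
  have hcent : ∀ {v w : CV P}, Γ.A v w → E v w ⊓ centralizer (Zf v : Set G) ≤ Qf v := by
    intro v w hvw
    refine forall_edge P (p := fun v w => E v w ⊓ centralizer (Zf v : Set G) ≤ Qf v) ?_ ?_ hvw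
    · intro g v w h1
      rw [hEs, hZe, centralizer_conj, ← smul_inf, hQe, pointwise_smul_le_pointwise_smul_iff]
      exact h1
    · intro i
      rw [hE1, hZ1, hQ1, (h i).cent]
  have hQc : ∀ v, Qf v ≤ centralizer (Zf v : Set G) := by
    refine forall_vertex P (p := fun v => Qf v ≤ centralizer (Zf v : Set G)) ?_ ?_
    · intro g v h1
      exact (hQe.le_iff hZe.centralizer).mpr h1
    · intro i
      rw [hQ1, hZ1, ← (h i).cent]
      exact inf_le_right
  have hgen : ∀ {v w : CV P}, Γ.A v w → ∀ u ∈ E v w, u ∉ Qf v →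
      ∃ w', Γ.A v w' ∧ ∀ H : Subgroup G, u ∈ H → E v w' ≤ H → stabilizer G v ≤ H := by
    intro v w hvw
    refine forall_edge P (p := fun v w => ∀ u ∈ E v w, u ∉ Qf v →
      ∃ w', Γ.A v w' ∧ ∀ H : Subgroup G, u ∈ H → E v w' ≤ H → stabilizer G v ≤ H) ?_ ?_ hvw
    · intro g v w h1 u hu huQ
      rw [hEs, mem_conj_smul] at hu
      rw [hQe, mem_conj_smul] at huQ
      obtain ⟨w', hw', h2⟩ := h1 _ hu huQ
      refine ⟨g • w', Γ.smul g hw', fun H huH hEH => ?_⟩
      rw [hEs, pointwise_smul_subset_iff, ← map_inv] at hEH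
      have h3 := h2 (MulAut.conj g⁻¹ • H) (by
        rw [mem_conj_smul, inv_inv]
        have : g * (g⁻¹ * u * g) * g⁻¹ = u := by group
        rwa [this]) hEH
      rw [hse g v, pointwise_smul_subset_iff, ← map_inv]
      exact h3
    · intro i u hu huQ
      rw [hE1] at hu
      rw [hQ1] at huQ
      obtain ⟨l, hl, h2⟩ := (h i).gen u hu huQ
      refine ⟨mk P (!i) l, ?_, fun H huH hEH => ?_⟩
      · rw [coset_adj_iff]
        exact ⟨l, hl, by rw [one_mul]⟩
      · rw [mk_one_stab]
        refine h2 H huH fun b hb => hEH ⟨?_, ?_⟩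
        · rw [mk_one_stab]
          exact (P i).mul_mem ((P i).mul_mem hl ((h i).le hb)) ((P i).inv_mem hl)
        · rw [mk_stab]
          refine mem_conj_smul.mpr ?_
          have e : l⁻¹ * (l * b * l⁻¹) * l = b := by group
          rw [e]
          exact (h (!i)).le hb
  have hmoved : ∀ {v w : CV P}, Γ.A v w → ¬ stabilizer G v ≤ normalizer (z v w : Set G) := by
    intro v w hvw
    refine forall_edge P (p := fun v w => ¬ stabilizer G v ≤ normalizer (z v w : Set G)) ?_ ?_ hvw
    · intro g v w h1 h2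
      apply h1
      rw [hse g v, hzs, normalizer_conj, pointwise_smul_le_pointwise_smul_iff] at h2
      exact h2
    · intro i h2
      rw [mk_one_stab, hz1] at h2
      exact (h i).moved h2
  have hQcard : ∀ {v w : CV P}, Γ.A v w → (Qf v).relIndex (E v w) = 2 := by
    intro v w hvw
    refine forall_edge P (p := fun v w => (Qf v).relIndex (E v w) = 2) ?_ ?_ hvw
    · intro g v w h1
      rw [hEs, hQe]
      rw [Subgroup.relIndex_pointwise_smul]
      exact h1
    · intro i
      rw [hQ1, hE1]; exact (h i).idx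
  have hDne : D ≠ ⊥ := by
    intro h0
    have := (h false).card
    rw [h0, card_bot] at this
    omega
  have hZle : ∀ {v w : CV P}, Γ.A v w → z v w ≤ Zf v := by
    intro v w hvw
    refine (Subgroup.commutator_le).mpr fun a ha e he => ?_
    have h1 : e ∈ normalizer (Zf v : Set G) := hZe.stab_le_normalizer v he.1
    rw [commutatorElement_def, mul_assoc, mul_assoc]
    refine (Zf v).mul_mem ha ?_
    rw [← mul_assoc]
    exact (mem_normalizer_iff.mp h1 a⁻¹).mp ((Zf v).inv_mem ha)
  have hQQ : ∀ {v w : CV P}, Γ.A v w → ¬ Qf v ≤ Qf w := by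
    intro v w hvw hle
    have h1 : Qf v = Qf w := by
      have h2 := relIndex_mul_relIndex (Qf v) (Qf w) (E v w) hle (by
        rw [hEc]; exact hQE (Γ.symm hvw))
      rw [hQcard hvw, hEc, hQcard (Γ.symm hvw)] at h2
      have h3 : (Qf v).relIndex (Qf w) = 1 := by omega
      exact le_antisymm hle (relIndex_eq_one.mp h3)
    have h2 : Qf v = ⊥ := by
      refine hfaith v w hvw (Qf v) (hQs v) ?_ (hQe.stab_le_normalizer v) ?_
      · rw [h1]; exact hQs w
      · rw [h1]; exact hQe.stab_le_normalizer w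
    have h3 : z v w = ⊥ := by
      rw [eq_bot_iff, ← h2]
      exact (hZle hvw).trans (hZQ v)
    have h4 := hcard hvw
    rw [h3, card_bot] at h4
    omega
  -- critical pairs
  have hbase : Γ.A (mk P false 1) (mk P true 1) := coset_adj P false 1
  have hne : Zf (mk P false 1) ≠ ⊥ := by
    intro h0
    have h4 := hcard hbase
    have h5 : z (mk P false 1) (mk P true 1) = ⊥ := by
      rw [eq_bot_iff, ← h0]; exact hZle hbase
    rw [h5, card_bot] at h4
    omega
  obtain ⟨b, hb⟩ := Γ.exists_crit hfaith hZe hQe hQs hbase hne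
  have hb2 : 2 ≤ b := hb.two_le hZQ hadj
  obtain ⟨b, rfl⟩ : ∃ b', b = b' + 2 := ⟨b - 2, by omega⟩
  -- the commutator of a critical pair
  have hcrit : ∀ v p q w : CV P, Γ.A v p → Γ.W b p q → Γ.A q w → ¬ Zf v ≤ Qf w →
      (⁅Zf v, Zf w⁆ = z v p ∧ ⁅Zf v, Zf w⁆ = z w q) ∧ Zf v ≤ E w q ∧ Zf w ≤ E v p ∧
        ∃ u ∈ Zf w, u ∉ Qf v := by
    intro v p q w hvp hpq hqw hn
    have h1 : Zf v ≤ Qf q := hb.min (b + 1) (by omega) v q (Wlk.cons hvp hpq)
    have h2 : Zf w ≤ Qf p := by
      refine hb.min (b + 1) (by omega) w p ?_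
      exact Wlk.cons (Γ.symm hqw) (RGraph.W.symm hpq)
    have h3 : Zf v ≤ E w q := by
      rw [hEc]; exact h1.trans (hQE hqw)
    have h4 : Zf w ≤ E v p := by
      rw [hEc]; exact h2.trans (hQE (Γ.symm hvp))
    have h5 : ⁅Zf v, Zf w⁆ ≠ ⊥ := by
      intro h0
      rw [commutator_eq_bot_iff_le_centralizer] at h0
      exact hn ((le_inf h3 h0).trans (hcent (Γ.symm hqw)))
    have h6 : ⁅Zf v, Zf w⁆ ≤ z v p := commutator_mono le_rfl h4
    have h7 : ⁅Zf v, Zf w⁆ ≤ z w q := by
      rw [commutator_comm]; exact commutator_mono le_rfl h3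
    refine ⟨⟨eq_of_le_of_card (hcard hvp) h6 h5,
      eq_of_le_of_card (hcard (Γ.symm hqw)) h7 h5⟩, h3, h4, ?_⟩
    by_contra hcon
    push Not at hcon
    apply h5
    rw [commutator_comm, commutator_eq_bot_iff_le_centralizer]
    exact fun u hu => hQc v (hcon u hu)
  obtain ⟨v, w, hw, hn⟩ := hb.ex
  obtain ⟨p, hvp, hpw⟩ := Wlk.succ_iff.mp hw
  obtain ⟨q, hpq, hqw⟩ := Wlk.succ_iff'.mp hpw
  obtain ⟨⟨hc1, hc2⟩, h3, h4, u, hu, huQ⟩ := hcrit v p q w hvp hpq hqw hn
  obtain ⟨m, hvm, hmg⟩ := hgen hvp u (h4 hu) huQ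
  by_cases hmq : Zf m ≤ Qf q
  · -- SECOND case
    have h5 : Zf m ≤ E w q := by
      rw [hEc]; exact hmq.trans (hQE hqw)
    have h6 : ⁅Zf w, Zf m⁆ ≤ Zf v := by
      have h7 : ⁅Zf w, Zf m⁆ ≤ z w q := commutator_mono le_rfl h5
      rw [← hc2, hc1] at h7
      exact h7.trans (hZle hvp)
    have hN : stabilizer G v ≤ normalizer ((Zf v ⊔ Zf m : Subgroup G) : Set G) := by
      refine hmg _ ?_ ?_
      · refine mem_normalizer_of_map_le ?_
        rw [Subgroup.map_sup]
        refine sup_le (le_trans ?_ le_sup_left) ?_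
        · rintro _ ⟨a, ha, rfl⟩
          exact (mem_normalizer_iff.mp (hZe.stab_le_normalizer v (h4 hu).1) a).mp ha
        · rintro _ ⟨a, ha, rfl⟩
          have h7 : ⁅u, a⁆ ∈ Zf v := h6 (commutator_mem_commutator hu ha)
          have h8 : u * a * u⁻¹ = ⁅u, a⁆ * a := by rw [commutatorElement_def]; group
          change u * a * u⁻¹ ∈ _
          rw [h8]
          exact mul_mem (mem_sup_left h7) (mem_sup_right ha)
      · intro e he
        refine mem_normalizer_of_map_le ?_
        rw [Subgroup.map_sup]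
        refine sup_le (le_trans ?_ le_sup_left) (le_trans ?_ le_sup_right)
        · rintro _ ⟨a, ha, rfl⟩
          exact (mem_normalizer_iff.mp (hZe.stab_le_normalizer v he.1) a).mp ha
        · rintro _ ⟨a, ha, rfl⟩
          exact (mem_normalizer_iff.mp (hZe.stab_le_normalizer m he.2) a).mp ha
    have hQN : stabilizer G v ≤ normalizer ((⁅Zf v ⊔ Zf m, Qf v⁆ : Subgroup G) : Set G) := by
      intro g hg
      refine mem_normalizer_of_map_le ?_
      rw [Subgroup.map_commutator]
      refine commutator_mono ?_ ?_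
      · rintro _ ⟨a, ha, rfl⟩
        exact (mem_normalizer_iff.mp (hN hg) a).mp ha
      · rintro _ ⟨a, ha, rfl⟩
        exact (mem_normalizer_iff.mp (hQe.stab_le_normalizer v hg) a).mp ha
    have hle : ⁅Zf v ⊔ Zf m, Qf v⁆ ≤ z v m := by
      rw [Subgroup.commutator_le]
      intro n hn' x hx
      have hcomm : ∀ a ∈ Zf v, ∀ c ∈ Zf m, a * c = c * a := fun a ha c hc' =>
        (mem_centralizer_iff.mp ((hadj m v (Γ.symm hvm)).trans (hQc v) hc') a ha)
      have hn2 : ∃ a ∈ Zf v, ∃ c ∈ Zf m, n = a * c := by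
        refine Subgroup.closure_induction (p := fun y _ => ∃ a ∈ Zf v, ∃ c ∈ Zf m, y = a * c)
          ?_ ?_ ?_ ?_ (show n ∈ closure ((Zf v : Set G) ∪ (Zf m : Set G)) by
            rw [Subgroup.closure_union, Subgroup.closure_eq, Subgroup.closure_eq]; exact hn')
        · rintro y (hy | hy)
          · exact ⟨y, hy, 1, one_mem _, by rw [mul_one]⟩
          · exact ⟨1, one_mem _, y, hy, by rw [one_mul]⟩
        · exact ⟨1, one_mem _, 1, one_mem _, by rw [one_mul]⟩
        · rintro _ _ - - ⟨a, ha, c, hc', rfl⟩ ⟨a', ha', c', hc'', rfl⟩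
          refine ⟨a * a', mul_mem ha ha', c * c', mul_mem hc' hc'', ?_⟩
          calc a * c * (a' * c') = a * (c * a') * c' := by group
            _ = a * (a' * c) * c' := by rw [hcomm a' ha' c hc']
            _ = a * a' * (c * c') := by group
        · rintro _ - ⟨a, ha, c, hc', rfl⟩
          refine ⟨a⁻¹, inv_mem ha, c⁻¹, inv_mem hc', ?_⟩
          rw [mul_inv_rev]
          exact (hcomm a⁻¹ (inv_mem ha) c⁻¹ (inv_mem hc')).symm
      obtain ⟨a, ha, c, hc', rfl⟩ := hn2
      have hax : a * x = x * a := (mem_centralizer_iff.mp (hQc v hx) a ha)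
      have h8 : ⁅c, x⁆ ∈ z v m := by
        rw [hzz hvm]
        refine commutator_mem_commutator hc' ?_
        rw [hEc]; exact hQE hvm hx
      have h9 : a * ⁅c, x⁆ * a⁻¹ = ⁅c, x⁆ := by
        have h10 : ⁅c, x⁆ ∈ Qf v := hZQ v (hZle hvm h8)
        rw [mem_centralizer_iff.mp (hQc v h10) a ha]
        group
      have h10 : ⁅a * c, x⁆ = a * ⁅c, x⁆ * a⁻¹ := by
        rw [commutatorElement_def, commutatorElement_def]
        calc a * c * x * (a * c)⁻¹ * x⁻¹ = a * c * x * c⁻¹ * (x * a)⁻¹ := by group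
          _ = a * c * x * c⁻¹ * (a * x)⁻¹ := by rw [hax]
          _ = a * (c * x * c⁻¹ * x⁻¹) * a⁻¹ := by group
      rw [h10, h9]
      exact h8
    by_cases hbot : ⁅Zf v ⊔ Zf m, Qf v⁆ = ⊥
    · apply hQQ hvm
      have h8 : Qf v ≤ centralizer (Zf m : Set G) := by
        rw [← commutator_eq_bot_iff_le_centralizer, commutator_comm, eq_bot_iff, ← hbot]
        exact commutator_mono le_sup_right le_rfl
      refine le_trans (le_inf ?_ h8) (hcent (Γ.symm hvm))
      rw [hEc]; exact hQE hvm
    · have h8 := eq_of_le_of_card (hcard hvm) hle hbot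
      rw [h8] at hQN
      exact hmoved hvm hQN
  · -- FIRST case
    have hvq : Γ.W (b + 1) v q := Wlk.cons hvp hpq
    obtain ⟨q', hvq', hq'q⟩ := Wlk.succ_iff'.mp hvq
    obtain ⟨⟨hd1, -⟩, h5, -⟩ := hcrit m v q' q (Γ.symm hvm) hvq' hq'q hmq
    apply hmoved hvm
    have hzq : z v m ≤ Zf q := by
      rw [hzz hvm, ← hd1, commutator_comm]
      refine le_trans (commutator_mono le_rfl h5) ?_
      exact hZle (Γ.symm hq'q)
    refine hmg _ ?_ ?_
    · have h6 : u ∈ centralizer (z v m : Set G) :=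
        centralizer_le hzq (hQc q (hadj w q (Γ.symm hqw) hu))
      exact centralizer_le_normalizer _ h6
    · intro e he
      refine mem_normalizer_of_map_le ?_
      change (⁅Zf v, E v m⁆).map _ ≤ ⁅Zf v, E v m⁆
      rw [Subgroup.map_commutator]
      refine commutator_mono ?_ ?_
      · rintro _ ⟨a, ha, rfl⟩
        exact (mem_normalizer_iff.mp (hZe.stab_le_normalizer v he.1) a).mp ha
      · rintro _ ⟨a, ha, rfl⟩
        exact (E v m).mul_mem ((E v m).mul_mem he ha) ((E v m).inv_mem he)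

end Graph

end Cfsg.Agent.MinSimple.SamePoint
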