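import Cfsg.Agent.MinSimple.DBlkDefs
import Cfsg.Agent.MinSimple.SamePoint
import Cfsg.Agent.ZN.Facts
import Cfsg.Agent.ZN.Four
import Cfsg.Agent.ZN.Block
import Cfsg.Agent.ZN.BlkFam
import Cfsg.Agent.PLocal.OffenderStep

/-!
# Dihedral blocks: the point `z` and the structure of `zl B L`

For a dihedral block `L` over `B` (`IsDBlk B L k`) the *point* of `L` is the involution `z` of
`vl B L ⊓ zc B` (`IsPt B L z`): `⁅zl B L, B⁆ = ⟨z⟩`, `zc B = rl B L × ⟨z⟩`.
-/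

set_option autoImplicit false

namespace Cfsg.Agent.MinSimple.DBlkApi

open Subgroup Cfsg Cfsg.Agent.ZN Cfsg.Agent.MinSimple
open scoped commutatorElement

universe u

variable {G : Type u} [Group G] {B L : Subgroup G} {k : ℕ}

/-- `z` is the point of the block `L` over `B`. -/
def IsPt (B L : Subgroup G) (z : G) : Prop := z ∈ vl B L ∧ z ∈ zc B ∧ z ≠ 1

theorem vl_sq (h : IsDBlk B L k) : ∀ v ∈ vl B L, v ^ 2 = 1 := fun v hv =>
  h.zl_sq v (vl_le_zl B L hv)

theorem zl_le_o2 (h : IsDBlk B L k) : zl B L ≤ o2 L := by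
  refine le_o2 (Block.zl_le_self h.le) ?_ (le_normalizer_zl B L)
  rintro ⟨x, hx⟩
  exact ⟨1, Subtype.ext (by simpa using h.zl_sq x hx)⟩

theorem zl_le_B (h : IsDBlk B L k) : zl B L ≤ B := (zl_le_o2 h).trans h.o2_le

theorem vl_le_B (h : IsDBlk B L k) : vl B L ≤ B := (vl_le_zl B L).trans (zl_le_B h)

theorem vl_le_o2 (h : IsDBlk B L k) : vl B L ≤ o2 L := (vl_le_zl B L).trans (zl_le_o2 h)

theorem exists_b (h : IsDBlk B L k) : ∃ b ∈ B, b ∉ o2 L := by
  by_contra hcon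
  push Not at hcon
  have h1 : (o2 L).relIndex B = 1 := relIndex_eq_one.mpr hcon
  rw [h.o2_index] at h1
  omega

theorem mem_o2_of_cent (h : IsDBlk B L k) {b : G} (hb : b ∈ B)
    (hc : b ∈ centralizer (vl B L : Set G)) : b ∈ o2 L := by
  rw [← h.cent_vl]
  exact ⟨hb, hc⟩

theorem o2_cent (h : IsDBlk B L k) : o2 L ≤ centralizer (vl B L : Set G) := by
  rw [← h.cent_vl]
  exact inf_le_right

theorem o2_cent_zl (h : IsDBlk B L k) : o2 L ≤ centralizer (zl B L : Set G) := by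
  rw [← h.cent_zl]
  exact inf_le_right

/-- The point exists. -/
theorem exists_pt [Finite G] (h : IsDBlk B L k) : ∃ z, IsPt B L z := by
  have hf : Fact (Nat.Prime 2) := ⟨Nat.prime_two⟩
  have hne : vl B L ≠ ⊥ := by
    intro h0
    have := h.card_vl
    rw [h0, card_bot] at this
    omega
  have h3 := PLocal.OffenderStep.inf_centralizer_ne_bot (vl B L) B (h.two.to_le (vl_le_B h))
    h.two (h.le.trans (le_normalizer_vl B L)) hne
  obtain ⟨⟨z, hz⟩, hz1⟩ := Subgroup.ne_bot_iff_exists_ne_one.mp h3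
  refine ⟨z, hz.1, mem_zc.mpr ⟨vl_le_B h hz.1, fun b hb => ?_, vl_sq h z hz.1⟩,
    fun h0 => hz1 (Subtype.ext h0)⟩
  exact mem_centralizer_iff.mp hz.2 b hb

section pt

variable {z : G}

theorem IsPt.sq (hz : IsPt B L z) : z ^ 2 = 1 := zc_sq hz.2.1

theorem IsPt.mul_self (hz : IsPt B L z) : z * z = 1 := by rw [← pow_two]; exact hz.sq

theorem IsPt.comm (hz : IsPt B L z) {b : G} (hb : b ∈ B) : b * z = z * b := zc_comm hz.2.1 hb

theorem IsPt.conj (hz : IsPt B L z) {b : G} (hb : b ∈ B) : b * z * b⁻¹ = z :=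
  Four.conj_eq_iff_comm.mpr (hz.comm hb)

/-- The point is unique. -/
theorem eq_of_mem (h : IsDBlk B L k) (hz : IsPt B L z) {w : G} (hw : w ∈ vl B L)
    (hwz : w ∈ zc B) : w = 1 ∨ w = z := by
  by_contra hcon
  push Not at hcon
  obtain ⟨b, hb, hbQ⟩ := exists_b h
  apply hbQ
  refine mem_o2_of_cent h hb ?_
  exact Four.cent_of_two h.card_vl (vl_sq h) hz.1 hw hz.2.2 hcon.1 (fun h0 => hcon.2 h0.symm)
    (hz.conj hb) (Four.conj_eq_iff_comm.mpr (zc_comm hwz hb))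

theorem IsPt.unique (h : IsDBlk B L k) (hz : IsPt B L z) {w : G} (hw : IsPt B L w) : w = z :=
  (eq_of_mem h hz hw.1 hw.2.1).resolve_left hw.2.2

/-- An element `y` of `vl B L` outside `⟨z⟩` is moved to `z y` by the elements of `B` outside
`O₂(L)`. -/
theorem conj_eq (h : IsDBlk B L k) (hz : IsPt B L z) {y : G} (hy : y ∈ vl B L) (hy1 : y ≠ 1)
    (hyz : y ≠ z) {b : G} (hb : b ∈ B) (hbQ : b ∉ o2 L) : b * y * b⁻¹ = z * y := by
  rcases Four.fix_dichotomy h.card_vl (vl_sq h) hz.1 hy hz.2.2 hy1 hyz.symm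
    (le_normalizer_vl B L (h.le hb)) (hz.conj hb) with h1 | h1
  · exfalso
    apply hbQ
    refine mem_o2_of_cent h hb ?_
    exact Four.cent_of_two h.card_vl (vl_sq h) hz.1 hy hz.2.2 hy1 hyz.symm (hz.conj hb) h1
  · exact h1

theorem rl_comm {r l : G} (hr : r ∈ rl B L) (hl : l ∈ L) : l * r = r * l :=
  mem_centralizer_iff.mp hr.2 l hl

theorem rl_conj {r l : G} (hr : r ∈ rl B L) (hl : l ∈ L) : l * r * l⁻¹ = r :=
  Four.conj_eq_iff_comm.mpr (rl_comm hr hl)

theorem mem_zl (h : IsDBlk B L k) {x : G} (hx : x ∈ zl B L) :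
    ∃ r ∈ rl B L, ∃ v ∈ vl B L, x = r * v := by
  rw [← h.sup_eq] at hx
  exact (BlkFam.mem_sup_of_comm (R := rl B L) (V := vl B L)
    (fun r hr v hv => h.zl_comm r (rl_le_zl B L hr) v (vl_le_zl B L hv))).mp hx

/-- `⁅zl B L, B⁆ ≤ ⟨z⟩`, elementwise. -/
theorem comm_eq (h : IsDBlk B L k) (hz : IsPt B L z) {x b : G} (hx : x ∈ zl B L) (hb : b ∈ B) :
    ⁅x, b⁆ = 1 ∨ ⁅x, b⁆ = z := by
  obtain ⟨r, hr, v, hv, rfl⟩ := mem_zl h hx
  have h1 : ⁅r * v, b⁆ = ⁅v, b⁆ := by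
    have hrb := rl_comm hr (h.le hb)
    have hrv : r * v = v * r := h.zl_comm r (rl_le_zl B L hr) v (vl_le_zl B L hv)
    rw [commutatorElement_def, commutatorElement_def]
    calc r * v * b * (r * v)⁻¹ * b⁻¹ = v * r * b * (v * r)⁻¹ * b⁻¹ := by rw [hrv]
      _ = v * (r * b) * r⁻¹ * v⁻¹ * b⁻¹ := by group
      _ = v * (b * r) * r⁻¹ * v⁻¹ * b⁻¹ := by rw [hrb]
      _ = v * b * v⁻¹ * b⁻¹ := by group
  rw [h1]
  by_cases hbQ : b ∈ o2 L
  · left
    rw [commutatorElement_eq_one_iff_mul_comm]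
    exact mem_centralizer_iff.mp (o2_cent h hbQ) v hv
  by_cases hv1 : v = 1
  · left; rw [hv1]; exact commutatorElement_one_left b
  by_cases hvz : v = z
  · left
    rw [hvz, commutatorElement_eq_one_iff_mul_comm]
    exact (hz.comm hb).symm
  · right
    have h2 := conj_eq h hz hv hv1 hvz hb hbQ
    have hvv : v * v = 1 := by rw [← pow_two]; exact vl_sq h v hv
    have hvi : v⁻¹ = v := inv_eq_of_mul_eq_one_left hvv
    rw [commutatorElement_def, hvi]
    calc v * b * v * b⁻¹ = v * (b * v * b⁻¹) := by group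
      _ = v * (z * v) := by rw [h2]
      _ = (v * v) * z := by
          rw [Four.comm_of_sq (vl_sq h) hz.1 hv]; group
      _ = z := by rw [hvv, one_mul]

theorem zpowers_eq {z : G} (hz : z ^ 2 = 1) {x : G} : x ∈ zpowers z ↔ x = 1 ∨ x = z := by
  constructor
  · intro hx
    obtain ⟨n, rfl⟩ := mem_zpowers_iff.mp hx
    have hz' : z ^ (2 : ℤ) = 1 := by exact_mod_cast hz
    rcases Int.even_or_odd n with ⟨m, hm⟩ | ⟨m, hm⟩
    · left
      rw [hm, ← two_mul, zpow_mul, hz', one_zpow]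
    · right
      rw [hm, zpow_add, zpow_mul, hz', one_zpow, one_mul, zpow_one]
  · rintro (rfl | rfl)
    · exact one_mem _
    · exact mem_zpowers _

theorem card_zpowers {z : G} (hz : z ^ 2 = 1) (h1 : z ≠ 1) : Nat.card (zpowers z) = 2 := by
  rw [Nat.card_zpowers]
  exact orderOf_eq_prime hz h1

/-- `⁅zl B L, B⁆ = ⟨z⟩`. -/
theorem commutator_eq (h : IsDBlk B L k) (hz : IsPt B L z) : ⁅zl B L, B⁆ = zpowers z := by
  apply le_antisymm
  · rw [Subgroup.commutator_le]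
    intro x hx b hb
    exact (zpowers_eq hz.sq).mpr (comm_eq h hz hx hb)
  · rw [zpowers_le]
    obtain ⟨b, hb, hbQ⟩ := exists_b h
    obtain ⟨y, hy, hy1, hyz⟩ := Four.exists_other h.card_vl z
    have h2 := conj_eq h hz hy hy1 hyz hb hbQ
    have h3 : ⁅y, b⁆ ∈ ⁅zl B L, B⁆ := commutator_mem_commutator (vl_le_zl B L hy) hb
    have hvv : y * y = 1 := by rw [← pow_two]; exact vl_sq h y hy
    have hvi : y⁻¹ = y := inv_eq_of_mul_eq_one_left hvv
    have h4 : ⁅y, b⁆ = z := by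
      rw [commutatorElement_def, hvi]
      calc y * b * y * b⁻¹ = y * (b * y * b⁻¹) := by group
        _ = y * (z * y) := by rw [h2]
        _ = (y * y) * z := by
            rw [Four.comm_of_sq (vl_sq h) hz.1 hy]; group
        _ = z := by rw [hvv, one_mul]
    rwa [h4] at h3

/-- `z ∉ rl B L`. -/
theorem pt_notMem_rl (h : IsDBlk B L k) (hz : IsPt B L z) : z ∉ rl B L := fun h1 => by
  have h2 : z ∈ rl B L ⊓ vl B L := ⟨h1, hz.1⟩
  rw [h.disj, mem_bot] at h2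
  exact hz.2.2 h2

/-- `zc B = rl B L × ⟨z⟩`. -/
theorem mem_zc_cases (h : IsDBlk B L k) (hz : IsPt B L z) {x : G} (hx : x ∈ zc B) :
    x ∈ rl B L ∨ z * x ∈ rl B L := by
  by_cases h1 : x ∈ rl B L
  · exact Or.inl h1
  · exact Or.inr (Block.mul_mem_of_relIndex_two h.rl_index hz.2.1 hx (pt_notMem_rl h hz) h1)

end pt

/-! ### Generation -/

theorem dvd_aux (n k : ℕ) : ∃ m : ℕ, 2 * m = n * (3 ^ k + 1) := by
  have h1 : Even (3 ^ k + 1) := by
    have : Odd (3 ^ k) := Odd.pow (by decide)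
    exact this.add_one
  obtain ⟨m, hm⟩ := h1
  exact ⟨n * m, by rw [hm]; ring⟩

theorem mem_of_sq_mem {y : G} {k : ℕ} (hy : y ^ 3 ^ k = 1) {H : Subgroup G} (h2 : y * y ∈ H) :
    y ∈ H := by
  obtain ⟨m, hm⟩ := dvd_aux 1 k
  have h3 : (y * y) ^ m = y := by
    rw [← pow_two, ← pow_mul, hm, one_mul, pow_add, hy, one_mul, pow_one]
  rw [← h3]
  exact pow_mem h2 m

/-- There is an element `l` of `L` such that `L = ⟨u, B^l⟩` for every `u ∈ B` outside `O₂(L)`. -/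
theorem gen (h : IsDBlk B L k) : ∃ l ∈ L, (∀ v ∈ vl B L, l * v * l⁻¹ = v → v = 1) ∧
    (∀ v ∈ vl B L, l ^ 3 * v * (l ^ 3)⁻¹ = v) ∧ l ^ 3 ^ k = 1 ∧
    ∀ u ∈ B, u ∉ o2 L → ∀ H : Subgroup G, u ∈ H → (∀ b ∈ B, l * b * l⁻¹ ∈ H) → L ≤ H := by
  obtain ⟨y, hy, h0, h1, h2, h3, h4⟩ := h.dih
  refine ⟨y, hy, h3, h4, h0, fun u hu huQ H huH hH => ?_⟩
  have hQH : o2 L ≤ H := by
    intro q hq
    have h5 : y⁻¹ * q * y ∈ o2 L := Four.conj_mem' (le_normalizer_o2 L hy) hq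
    have h6 := hH _ (h.o2_le h5)
    have e : y * (y⁻¹ * q * y) * y⁻¹ = q := by group
    rwa [e] at h6
  have hBH : B ≤ H := by
    intro b hb
    by_cases hbQ : b ∈ o2 L
    · exact hQH hbQ
    · have h5 := Block.mul_mem_of_relIndex_two h.o2_index hu hb huQ hbQ
      have h6 : b = u⁻¹ * (u * b) := by group
      rw [h6]
      exact H.mul_mem (H.inv_mem huH) (hQH h5)
  have hyH : y ∈ H := by
    refine mem_of_sq_mem h0 ?_
    -- `y u y⁻¹ u⁻¹ = y (u y u⁻¹)⁻¹`, and `u y u⁻¹ y ∈ Q`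
    have h5 : u * y * u⁻¹ * y ∈ H := hQH (h1 u hu huQ)
    have h6 : y * u * y⁻¹ ∈ H := hH u hu
    have h7 : y * y = (y * u * y⁻¹) * u⁻¹ * (u * y * u⁻¹ * y) := by group
    rw [h7]
    exact H.mul_mem (H.mul_mem h6 (H.inv_mem huH)) h5
  intro g hg
  obtain ⟨n, b, hb, rfl⟩ := h2 g hg
  exact H.mul_mem (H.pow_mem hyH n) (hBH hb)

/-- The element of the previous theorem moves the point. -/
theorem not_le_normalizer_zpowers (h : IsDBlk B L k) {z : G} (hz : IsPt B L z) :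
    ¬ L ≤ normalizer (zpowers z : Set G) := by
  intro hn
  obtain ⟨y, hy, h0, h1, h2, h3, h4⟩ := h.dih
  apply hz.2.2
  refine h3 z hz.1 ?_
  have h5 := Four.conj_mem (hn hy) (mem_zpowers z)
  rcases (zpowers_eq hz.sq).mp h5 with h6 | h6
  · rw [conj_eq_one_iff.mp h6]; group
  · exact h6

theorem moves (h : IsDBlk B L k) {z : G} (hz : IsPt B L z) : ∃ l ∈ L, l * z * l⁻¹ ≠ z := by
  obtain ⟨y, hy, h0, h1, h2, h3, h4⟩ := h.dih
  exact ⟨y, hy, fun h5 => hz.2.2 (h3 z hz.1 h5)⟩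

/-- `L = O₂(L)` is impossible: `vl B L` is generated by the conjugates of `z`. -/
theorem vl_le_of (h : IsDBlk B L k) {z : G} (hz : IsPt B L z) {H : Subgroup G}
    (hH : ∀ l ∈ L, l * z * l⁻¹ ∈ H) : vl B L ≤ H := by
  obtain ⟨y, hy, h0, h1, h2, h3, h4⟩ := h.dih
  have h5 : y * z * y⁻¹ ∈ vl B L := Four.conj_mem (le_normalizer_vl B L hy) hz.1
  have h6 : y * z * y⁻¹ ≠ 1 := fun h => hz.2.2 (conj_eq_one_iff.mp h)
  have h7 : y * z * y⁻¹ ≠ z := fun h => hz.2.2 (h3 z hz.1 h)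
  have hzH : z ∈ H := by
    have := hH 1 (one_mem _)
    simpa using this
  intro v hv
  rcases Four.four h.card_vl (vl_sq h) hz.1 h5 hz.2.2 h6 h7.symm v hv with rfl | rfl | rfl | rfl
  · exact one_mem _
  · exact hzH
  · exact hH y hy
  · exact H.mul_mem hzH (hH y hy)

/-- The data of the critical pair argument. -/
theorem toPB (h : IsDBlk B L k) {z : G} (hz : IsPt B L z) :
    SamePoint.PB B L (o2 L) (zl B L) (zpowers z) where
  le := h.le
  Q_le := h.o2_le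
  Qn := le_normalizer_o2 L
  Zn := le_normalizer_zl B L
  ZQ := zl_le_o2 h
  cent := h.cent_zl
  idx := h.o2_index
  comm := commutator_eq h hz
  card := card_zpowers hz.sq hz.2.2
  gen := by
    obtain ⟨l, hl, -, -, -, hg⟩ := gen h
    exact fun u hu huQ => ⟨l, hl, fun H huH hH => hg u hu huQ H huH hH⟩
  moved := not_le_normalizer_zpowers h hz

/-! ### Pairs of blocks over the same `B` -/

theorem conj_pow_mul (h : IsDBlk B L k) {y : G} (hy : y ∈ L) {b : G} (hb : b ∈ B)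
    (h1 : b * y * b⁻¹ * y ∈ o2 L) (n : ℕ) : b * y ^ n * b⁻¹ * y ^ n ∈ o2 L := by
  induction n with
  | zero => simp
  | succ n ih =>
    have h2 : b * y ^ n * b⁻¹ ∈ L := L.mul_mem (L.mul_mem (h.le hb) (L.pow_mem hy n))
      (L.inv_mem (h.le hb))
    have h3 := Four.conj_mem (le_normalizer_o2 L h2) h1
    have e : b * y ^ (n + 1) * b⁻¹ * y ^ (n + 1) =
        (b * y ^ n * b⁻¹ * (b * y * b⁻¹ * y) * (b * y ^ n * b⁻¹)⁻¹) *
          (b * y ^ n * b⁻¹ * y ^ n) := by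
      calc b * y ^ (n + 1) * b⁻¹ * y ^ (n + 1) = b * (y ^ n * y) * b⁻¹ * (y * y ^ n) := by
            rw [← pow_succ, ← pow_succ']
        _ = _ := by group
    rw [e]
    exact (o2 L).mul_mem h3 ih

theorem o2_le_of_lt {L' : Subgroup G} {k' : ℕ} (h : IsDBlk B L k) (h' : IsDBlk B L' k')
    (hlt : ¬ L ⊓ L' ≤ B) : o2 L' ≤ o2 L := by
  intro b hb
  by_contra hbQ
  have hbB : b ∈ B := h'.o2_le hb
  obtain ⟨y, hy, h0, h1, h2, h3, h4⟩ := h.dih
  apply hlt
  rintro g ⟨hg, hg'⟩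
  obtain ⟨n, c, hc, rfl⟩ := h2 g hg
  refine B.mul_mem ?_ hc
  have hx' : y ^ n ∈ L' := by
    have : y ^ n = y ^ n * c * c⁻¹ := by group
    rw [this]
    exact L'.mul_mem hg' (L'.inv_mem (h'.le hc))
  have h5 := conj_pow_mul h hy hbB (h1 b hbB hbQ) n
  have h6 : b * (y ^ n * b⁻¹ * (y ^ n)⁻¹) ∈ B := by
    refine B.mul_mem hbB (h'.o2_le ?_)
    exact Four.conj_mem (le_normalizer_o2 L' hx') ((o2 L').inv_mem hb)
  have h7 : y ^ n * y ^ n ∈ B := by
    have e : y ^ n * y ^ n = (b * (y ^ n * b⁻¹ * (y ^ n)⁻¹))⁻¹ * (b * y ^ n * b⁻¹ * y ^ n) := by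
      group
    rw [e]
    exact B.mul_mem (B.inv_mem h6) (h.o2_le h5)
  refine mem_of_sq_mem (k := k) ?_ h7
  rw [← pow_mul, mul_comm, pow_mul, h0, one_pow]

/-- Two blocks over `B` without common normal subgroup in `B` meet in `B`. -/
theorem inf_eq {L' : Subgroup G} {k' : ℕ} [Finite G] (h : IsDBlk B L k) (h' : IsDBlk B L' k')
    (core : ∀ N : Subgroup G, N ≤ B → L ≤ normalizer (N : Set G) →
      L' ≤ normalizer (N : Set G) → N = ⊥) : L ⊓ L' = B := by
  refine le_antisymm ?_ (le_inf h.le h'.le)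
  by_contra hlt
  have h1 := o2_le_of_lt h h' hlt
  have h2 := o2_le_of_lt h' h (by rwa [inf_comm])
  have h3 : o2 L = o2 L' := le_antisymm h2 h1
  have h4 := core (o2 L) h.o2_le (le_normalizer_o2 L) (by rw [h3]; exact le_normalizer_o2 L')
  obtain ⟨z, hz⟩ := exists_pt h
  have h5 := vl_le_o2 h hz.1
  rw [h4, mem_bot] at h5
  exact hz.2.2 h5

theorem zl_commute {L' : Subgroup G} {k' : ℕ} (h : IsDBlk B L k) (h' : IsDBlk B L' k')
    (hc : ∀ u ∈ vl B L, ∀ w ∈ vl B L', u * w = w * u) :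
    ∀ u ∈ zl B L, ∀ w ∈ zl B L', u * w = w * u := by
  intro u hu w hw
  obtain ⟨r, hr, v, hv, rfl⟩ := mem_zl h hu
  obtain ⟨r', hr', v', hv', rfl⟩ := mem_zl h' hw
  have a1 : r * (r' * v') = (r' * v') * r := by
    have := zc_comm (rl_le_zc B L hr) (B.mul_mem (zc_le B (rl_le_zc B L' hr')) (vl_le_B h' hv'))
    exact this.symm
  have a2 : r' * v = v * r' := by
    have := zc_comm (rl_le_zc B L' hr') (vl_le_B h hv)
    exact this.symm
  calc r * v * (r' * v') = r * (v * r') * v' := by group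
    _ = r * r' * (v * v') := by rw [← a2]; group
    _ = r * (r' * v') * v := by rw [hc v hv v' hv']; group
    _ = (r' * v') * (r * v) := by rw [a1]; group

/-- **(B) of helper60.** Two blocks over the same `B`, with the same point and without common
normal subgroup in `B`: their four-groups do not commute. -/
theorem exists_noncommuting [Finite G] {L' : Subgroup G} {k' : ℕ} (h : IsDBlk B L k)
    (h' : IsDBlk B L' k') {z : G} (hz : IsPt B L z) (hz' : IsPt B L' z)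
    (core : ∀ N : Subgroup G, N ≤ B → L ≤ normalizer (N : Set G) →
      L' ≤ normalizer (N : Set G) → N = ⊥) : ∃ u ∈ vl B L, ∃ w ∈ vl B L', u * w ≠ w * u := by
  by_contra hcon
  push Not at hcon
  refine SamePoint.not_commute (P := fun i => cond i L' L) (Q := fun i => cond i (o2 L') (o2 L))
    (Z := fun i => cond i (zl B L') (zl B L)) (B := B) (D := zpowers z) ?_ ?_ ?_ ?_
  · intro i
    cases i
    · exact toPB h hz
    · exact toPB h' hz'
  · exact inf_eq h h' core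
  · exact core
  · rw [commutator_eq_bot_iff_le_centralizer]
    intro u hu
    rw [mem_centralizer_iff]
    exact fun w hw => (zl_commute h h' hcon u hu w hw).symm

end Cfsg.Agent.MinSimple.DBlkApi
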