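import Cfsg.Agent.MinSimple.FFMod
import Cfsg.Agent.MinSimple.DBlkApi
import Cfsg.Agent.MinSimple.PlaneData
import Cfsg.Agent.MinSimple.Basic

/-!
# Lemma X: all blocks over the Baumann subgroup in a solvable group of characteristic 2

`X ≤ G` solvable of characteristic 2 with Sylow 2-subgroup `T`, `B = bau T`. There is one module
`W` and one family of four-groups `V i` (structure theorem S0617) such that every dihedral block
`L ≤ X` over `B` has `vl B L = V i` for exactly one `i`.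
-/

set_option autoImplicit false

namespace Cfsg.Agent.MinSimple.LemX

open Subgroup Cfsg Cfsg.Agent.ZN Cfsg.Agent.MinSimple Cfsg.Agent.MinSimple.PlanePair
open Cfsg.Agent.MinSimple.DBlkApi
open scoped commutatorElement

universe u

variable {G : Type u} [Group G]

/-- `X` is solvable of characteristic 2 with Sylow 2-subgroup `T`. -/
structure Loc (X T : Subgroup G) : Prop where
  solv : Group.IsSolvable ↥X
  char2 : X ⊓ centralizer (o2 X : Set G) ≤ o2 X
  two : IsPGroup 2 T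
  TX : T ≤ X
  syl : ¬ 2 ∣ T.relIndex X

/-- The blocks over `bau T` inside `X`. -/
def blocks (X T : Subgroup G) : Set (Subgroup G) := {L | L ≤ X ∧ ∃ k, IsDBlk (bau T) L k}

/-- `⟨U^X⟩`. -/
def nc (X U : Subgroup G) : Subgroup G := ⨆ g : X, U.map (MulAut.conj (g : G)).toMonoidHom

theorem le_nc (X U : Subgroup G) : U ≤ nc X U := by
  refine le_trans (le_of_eq ?_)
    (le_iSup (fun g : X => U.map (MulAut.conj (g : G)).toMonoidHom) 1)
  ext x
  simp

theorem nc_le {X U V : Subgroup G} (hU : U ≤ V) (hX : X ≤ normalizer (V : Set G)) :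
    nc X U ≤ V := by
  refine iSup_le fun g => ?_
  rintro _ ⟨u, hu, rfl⟩
  exact Four.conj_mem (hX g.2) (hU hu)

theorem le_normalizer_nc [Finite G] (X U : Subgroup G) : X ≤ normalizer (nc X U : Set G) := by
  intro g hg
  refine VModule.mem_normalizer_of_map_le ?_
  rw [nc, Subgroup.map_iSup]
  refine iSup_le fun h => ?_
  refine le_trans (le_of_eq ?_)
    (le_iSup (fun g : X => U.map (MulAut.conj (g : G)).toMonoidHom) ⟨g * h, X.mul_mem hg h.2⟩)
  rw [Subgroup.map_map]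
  congr 1
  ext x
  simp [mul_assoc]

/-- The basic computation: an element acting on the relevant subgroups fixes the point. -/
theorem fix_pt {B L : Subgroup G} {k : ℕ} {z : G} (h : IsDBlk B L k) (hz : IsPt B L z)
    {N : Subgroup G} (hN : N ≤ zl B L) {n d t : G} (hn : n ∈ N) (hnv : n ∈ vl B L) (hn1 : n ≠ 1)
    (hnz : n ≠ z) (hdN : ∀ x ∈ N, d * x * d⁻¹ ∈ N) (ht : ∀ b ∈ B, t * b * t⁻¹ ∈ B)
    (hdn : d * n * d⁻¹ = t * n * t⁻¹) (hdz : d * z * d⁻¹ = t * z * t⁻¹) :
    d * z * d⁻¹ = z := by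
  obtain ⟨b, hb, hbQ⟩ := exists_b h
  have h1 := conj_eq h hz hnv hn1 hnz hb hbQ
  have h2 : z = (⁅n, b⁆)⁻¹ := by
    rw [commutatorElement_def]
    calc z = (z * n) * n⁻¹ := by group
      _ = (b * n * b⁻¹) * n⁻¹ := by rw [h1]
      _ = (n * b * n⁻¹ * b⁻¹)⁻¹ := by group
  have h3 : t * z * t⁻¹ = (⁅d * n * d⁻¹, t * b * t⁻¹⁆)⁻¹ := by
    rw [hdn, h2, commutatorElement_def, commutatorElement_def]
    group
  rw [hdz, h3]
  rcases comm_eq h hz (hN (hdN n hn)) (ht b hb) with h4 | h4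
  · exfalso
    apply hz.2.2
    rw [h4, inv_one] at h3
    exact conj_eq_one_iff.mp h3
  · rw [h4]
    exact inv_eq_of_mul_eq_one_left hz.mul_self

section loc

variable [Finite G] {X T : Subgroup G}

theorem Loc.o2_le (hX : Loc X T) : o2 X ≤ T := VModule.o2_le_of_sylow hX.two hX.syl

/-- (a) `O₂(X)` fixes the point of a block. -/
theorem o2_fix_pt (hX : Loc X T) {L : Subgroup G} {k : ℕ} {z : G} (hL : L ≤ X)
    (h : IsDBlk (bau T) L k) (hz : IsPt (bau T) L z) {q : G} (hq : q ∈ o2 X) :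
    q * z * q⁻¹ = z := by
  set B := bau T with hB
  obtain ⟨y, hy, h3, h4, h0, -⟩ := gen h
  have hTB : ∀ t ∈ T, ∀ b ∈ B, t * b * t⁻¹ ∈ B := fun t ht b hb =>
    Four.conj_mem (le_normalizer_bau T ht) hb
  have hyz : y * z * y⁻¹ ∈ vl B L := Four.conj_mem (le_normalizer_vl B L hy) hz.1
  refine fix_pt h hz (N := (zc B).map (MulAut.conj y).toMonoidHom) (n := y * z * y⁻¹) (t := q)
    ?_ ⟨z, hz.2.1, rfl⟩ hyz (fun h => hz.2.2 (conj_eq_one_iff.mp h))
    (fun h => hz.2.2 (h3 z hz.1 h)) ?_ (hTB q (hX.o2_le hq)) rfl rfl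
  · rintro _ ⟨x, hx, rfl⟩
    exact Four.conj_mem (le_normalizer_zl B L hy) (zc_le_zl hx)
  · rintro _ ⟨x, hx, rfl⟩
    have h5 : y⁻¹ * q * y ∈ T := hX.o2_le (Four.conj_mem' (le_normalizer_o2 X (hL hy)) hq)
    have h6 : (y⁻¹ * q * y) * x * (y⁻¹ * q * y)⁻¹ ∈ zc B :=
      Four.conj_mem (normalizer_le_normalizer_zc B (le_normalizer_bau T h5)) hx
    refine ⟨_, h6, ?_⟩
    simp only [MulEquiv.toMonoidHom_eq_coe, MonoidHom.coe_coe, MulAut.conj_apply]
    group

/-- (a) `vl B L ≤ Ω₁(Z(O₂(X)))` for the blocks `L` of `X`. -/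
theorem vl_le_zc_o2 (hX : Loc X T) {L : Subgroup G} {k : ℕ} (hL : L ≤ X)
    (h : IsDBlk (bau T) L k) : vl (bau T) L ≤ zc (o2 X) := by
  obtain ⟨z, hz⟩ := exists_pt h
  have h1 : vl (bau T) L ≤ centralizer (o2 X : Set G) := by
    refine vl_le_of h hz fun l hl => ?_
    rw [mem_centralizer_iff]
    intro q hq
    have h2 := o2_fix_pt hX hL h hz (Four.conj_mem' (le_normalizer_o2 X (hL hl)) hq)
    have h3 : q * (l * z * l⁻¹) * q⁻¹ = l * z * l⁻¹ := by
      calc q * (l * z * l⁻¹) * q⁻¹ = l * ((l⁻¹ * q * l) * z * (l⁻¹ * q * l)⁻¹) * l⁻¹ := by group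
        _ = _ := by rw [h2]
    exact Four.conj_eq_iff_comm.mp h3
  intro v hv
  have h2 : v ∈ o2 X := hX.char2 ⟨hL (h.le (vl_le_B h hv)), h1 hv⟩
  exact mem_zc.mpr ⟨h2, fun b hb => mem_centralizer_iff.mp (h1 hv) b hb, vl_sq h v hv⟩

/-- The module of Lemma X. -/
def mod (X T : Subgroup G) : Subgroup G :=
  nc X (zc T ⊔ ⨆ L : blocks X T, vl (bau T) (L : Subgroup G))

omit [Finite G] in
theorem zc_le_mod : zc T ≤ mod X T := le_sup_left.trans (le_nc _ _)

omit [Finite G] in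
theorem vl_le_mod {L : Subgroup G} {k : ℕ} (hL : L ≤ X) (h : IsDBlk (bau T) L k) :
    vl (bau T) L ≤ mod X T :=
  (le_iSup (fun L : blocks X T => vl (bau T) (L : Subgroup G)) ⟨L, hL, k, h⟩).trans
    (le_sup_right.trans (le_nc _ _))

theorem mod_le (hX : Loc X T) : mod X T ≤ zc (o2 X) := by
  refine nc_le (sup_le (VModule.zc_le_zc_o2 hX.TX hX.two hX.syl hX.char2) (iSup_le fun L => ?_))
    ((le_normalizer_o2 X).trans (normalizer_le_normalizer_zc _))
  obtain ⟨L, hL, k, h⟩ := L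
  exact vl_le_zc_o2 hX hL h

/-- (b) `O₂(X/C_X(W)) = 1`. -/
theorem mod_core (hX : Loc X T) {D : Subgroup G} (hD : X ≤ normalizer (D : Set G))
    (h : ∀ d ∈ D, ∃ c ∈ centralizer (mod X T : Set G), ∃ t ∈ T, d = c * t) :
    D ≤ centralizer (mod X T : Set G) := by
  set W := mod X T with hW
  set B := bau T with hB
  have hWn : X ≤ normalizer (W : Set G) := le_normalizer_nc _ _
  have hWT : W ≤ T := (mod_le hX).trans ((zc_le _).trans hX.o2_le)
  have hTB : ∀ t ∈ T, ∀ b ∈ B, t * b * t⁻¹ ∈ B := fun t ht b hb =>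
    Four.conj_mem (le_normalizer_bau T ht) hb
  have hact : ∀ c ∈ centralizer (W : Set G), ∀ t ∈ T, ∀ w ∈ W,
      (c * t) * w * (c * t)⁻¹ = t * w * t⁻¹ := by
    intro c hc t ht w hw
    have h1 : t * w * t⁻¹ ∈ W := Four.conj_mem (hWn (hX.TX ht)) hw
    calc (c * t) * w * (c * t)⁻¹ = c * (t * w * t⁻¹) * c⁻¹ := by group
      _ = t * w * t⁻¹ := Four.mem_cent_iff.mp hc _ h1
  -- `D` centralizes the generators
  have hz : ∀ x ∈ zc T, ∀ d ∈ D, d * x * d⁻¹ = x := by
    intro x hx d hd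
    obtain ⟨c, hc, t, ht, rfl⟩ := h d hd
    rw [hact c hc t ht x (zc_le_mod hx)]
    exact Four.conj_eq_iff_comm.mpr (zc_comm hx ht)
  have hv : ∀ L : Subgroup G, ∀ k : ℕ, L ≤ X → IsDBlk B L k → vl B L ≤ centralizer (D : Set G) := by
    intro L k hL hk
    obtain ⟨z, hz⟩ := exists_pt hk
    have hfix : ∀ d ∈ D, d * z * d⁻¹ = z := by
      intro d hd
      obtain ⟨y, hy, h3, h4, h0, -⟩ := gen hk
      have hyz : y * z * y⁻¹ ∈ vl B L := Four.conj_mem (le_normalizer_vl B L hy) hz.1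
      have hvW : vl B L ≤ W := vl_le_mod hL hk
      obtain ⟨c, hc, t, ht, hdct⟩ := h d hd
      refine fix_pt hk hz
        (N := W ⊓ centralizer ((B.map (MulAut.conj y).toMonoidHom : Subgroup G) : Set G))
        (n := y * z * y⁻¹) (t := t) ?_ ⟨hvW hyz, ?_⟩ hyz
        (fun h => hz.2.2 (conj_eq_one_iff.mp h))
        (fun h => hz.2.2 (h3 z hz.1 h)) ?_ (hTB t ht) ?_ ?_
      · rintro w ⟨hw, hwc⟩
        have h5 : y⁻¹ * w * y ∈ W := Four.conj_mem' (hWn (hL hy)) hw
        have h6 : y⁻¹ * w * y ∈ zc B := by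
          rw [hB, zc_bau]
          refine mem_zj_of_comm (hWT h5) (zc_sq (mod_le hX h5)) fun b hb => ?_
          have h7 := mem_centralizer_iff.mp hwc (y * b * y⁻¹) ⟨b, jj_le_bau T hb, rfl⟩
          have h8 : y⁻¹ * ((y * b * y⁻¹) * w) * y = y⁻¹ * (w * (y * b * y⁻¹)) * y := by rw [h7]
          calc b * (y⁻¹ * w * y) = y⁻¹ * ((y * b * y⁻¹) * w) * y := by group
            _ = y⁻¹ * (w * (y * b * y⁻¹)) * y := h8
            _ = y⁻¹ * w * y * b := by group
        have h7 : y * (y⁻¹ * w * y) * y⁻¹ ∈ zl B L :=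
          Four.conj_mem (le_normalizer_zl B L hy) (zc_le_zl h6)
        have e : y * (y⁻¹ * w * y) * y⁻¹ = w := by group
        rwa [e] at h7
      · change y * z * y⁻¹ ∈ centralizer _
        rw [mem_centralizer_iff]
        rintro _ ⟨b, hb, rfl⟩
        have h5 := hz.comm hb
        calc y * b * y⁻¹ * (y * z * y⁻¹) = y * (b * z) * y⁻¹ := by group
          _ = y * (z * b) * y⁻¹ := by rw [h5]
          _ = y * z * y⁻¹ * (y * b * y⁻¹) := by group
      · rintro w ⟨hw, hwc⟩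
        obtain ⟨c', hc', t', ht', hd'⟩ := h (y⁻¹ * d * y) (Four.conj_mem' (hD (hL hy)) hd)
        have hd2 : d = (y * c' * y⁻¹) * (y * t' * y⁻¹) := by
          calc d = y * (y⁻¹ * d * y) * y⁻¹ := by group
            _ = y * (c' * t') * y⁻¹ := by rw [hd']
            _ = _ := by group
        have h5 : y⁻¹ * w * y ∈ W := Four.conj_mem' (hWn (hL hy)) hw
        have h6 : d * w * d⁻¹ = (y * t' * y⁻¹) * w * (y * t' * y⁻¹)⁻¹ := by
          calc d * w * d⁻¹ = y * ((c' * t') * (y⁻¹ * w * y) * (c' * t')⁻¹) * y⁻¹ := by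
                rw [hd2]; group
            _ = y * (t' * (y⁻¹ * w * y) * t'⁻¹) * y⁻¹ := by rw [hact c' hc' t' ht' _ h5]
            _ = _ := by group
        have h7 : y * t' * y⁻¹ ∈ X :=
          X.mul_mem (X.mul_mem (hL hy) (hX.TX ht')) (X.inv_mem (hL hy))
        rw [h6]
        refine ⟨Four.conj_mem (hWn h7) hw, ?_⟩
        change _ ∈ centralizer _
        rw [mem_centralizer_iff]
        rintro _ ⟨b, hb, rfl⟩
        -- `w` commutes with `y (t'⁻¹ b t') y⁻¹`
        have h8 : t'⁻¹ * b * t' ∈ B := by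
          have := hTB t'⁻¹ (T.inv_mem ht') b hb
          rwa [inv_inv] at this
        have h9 := mem_centralizer_iff.mp hwc (y * (t'⁻¹ * b * t') * y⁻¹) ⟨_, h8, rfl⟩
        change (y * b * y⁻¹) * _ = _ * (y * b * y⁻¹)
        calc (y * b * y⁻¹) * ((y * t' * y⁻¹) * w * (y * t' * y⁻¹)⁻¹)
            = (y * t' * y⁻¹) * ((y * (t'⁻¹ * b * t') * y⁻¹) * w) * (y * t' * y⁻¹)⁻¹ := by group
          _ = (y * t' * y⁻¹) * (w * (y * (t'⁻¹ * b * t') * y⁻¹)) * (y * t' * y⁻¹)⁻¹ := by rw [h9]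
          _ = _ := by group
      · rw [hdct]; exact hact c hc t ht _ (hvW hyz)
      · rw [hdct]; exact hact c hc t ht _ (hvW hz.1)
    refine vl_le_of hk hz fun l hl => ?_
    rw [mem_centralizer_iff]
    intro d hd
    refine Four.conj_eq_iff_comm.mp ?_
    have h1 := hfix _ (Four.conj_mem' (hD (hL hl)) hd)
    calc d * (l * z * l⁻¹) * d⁻¹ = l * ((l⁻¹ * d * l) * z * (l⁻¹ * d * l)⁻¹) * l⁻¹ := by group
      _ = _ := by rw [h1]
  have h1 : W ≤ W ⊓ centralizer (D : Set G) := by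
    refine nc_le ?_ ?_
    · refine sup_le (le_inf zc_le_mod ?_) (iSup_le fun L => ?_)
      · intro x hx
        rw [mem_centralizer_iff]
        exact fun d hd => Four.conj_eq_iff_comm.mp (hz x hx d hd)
      · obtain ⟨L, hL, k, hk⟩ := L
        exact le_inf (vl_le_mod hL hk) (hv L k hL hk)
    · intro g hg
      refine VModule.mem_normalizer_of_map_le ?_
      rintro _ ⟨w, ⟨hw, hwc⟩, rfl⟩
      refine ⟨Four.conj_mem (hWn hg) hw, ?_⟩
      change g * w * g⁻¹ ∈ centralizer _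
      rw [mem_centralizer_iff]
      intro d hd
      have h2 := mem_centralizer_iff.mp hwc _ (Four.conj_mem' (hD hg) hd)
      calc d * (g * w * g⁻¹) = g * ((g⁻¹ * d * g) * w) * g⁻¹ := by group
        _ = g * (w * (g⁻¹ * d * g)) * g⁻¹ := by rw [h2]
        _ = _ := by group
  exact le_centralizer_iff.mp (h1.trans inf_le_right)

theorem mod_le_T (hX : Loc X T) : mod X T ≤ T :=
  (mod_le hX).trans ((zc_le _).trans hX.o2_le)

/-- The family of four-groups. -/
theorem exists_gff (hX : Loc X T) (hne : (blocks X T).Nonempty) :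
    ∃ (n : ℕ) (V : Fin n → Subgroup G),
      GFF X T (mod X T) ((thompsonSubgroup 2 ↥X).map X.subtype) V := by
  have hf : Fact (Nat.Prime 2) := ⟨Nat.prime_two⟩
  have hinj : Function.Injective X.subtype := X.subtype_injective
  set W := mod X T with hW
  have hWT : W ≤ T := mod_le_T hX
  have hWX : W ≤ X := hWT.trans hX.TX
  have hWn : X ≤ normalizer (W : Set G) := le_normalizer_nc _ _
  have hWc : ∀ x ∈ W, ∀ y ∈ W, x * y = y * x := fun x hx y hy =>
    (mem_zc.mp (mod_le hX hy)).2.1 x (zc_le _ (mod_le hX hx))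
  have hWs : ∀ x ∈ W, x ^ 2 = 1 := fun x hx => zc_sq (mod_le hX hx)
  set T' : Subgroup ↥X := T.subgroupOf X with hT'
  have hTT : T'.map X.subtype = T := by
    rw [hT', subgroupOf_map_subtype, inf_eq_left.2 hX.TX]
  have hT2 : IsPGroup 2 T' := hX.two.of_equiv (subgroupOfEquivOfLe hX.TX).symm
  have hTi : ¬ 2 ∣ T'.index := hX.syl
  obtain ⟨S, hS⟩ := FFBasic.exists_sylow hT2 hTi
  set W' : Subgroup ↥X := W.subgroupOf X with hW'
  have hWW : W'.map X.subtype = W := by
    rw [hW', subgroupOf_map_subtype, inf_eq_left.2 hWX]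
  have hWn' : W'.Normal := normal_subgroupOf_of_le_normalizer hWn
  have hWe : IsElementaryAbelian 2 W' := by
    rw [PLocal.ThompsonJ.isElementaryAbelian_iff]
    exact ⟨fun x hx y hy => Subtype.ext (hWc x hx y hy), fun x hx => Subtype.ext (hWs x hx)⟩
  have hJn : (thompsonSubgroup 2 ↥X).Normal :=
    haveI := PLocal.ThompsonJ.thompsonSubgroup_characteristic 2 ↥X; inferInstance
  set J : Subgroup G := (thompsonSubgroup 2 ↥X).map X.subtype with hJ
  have hJn' : X ≤ normalizer (J : Set G) := by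
    have h1 := (le_normalizer_map_iff X.subtype hinj ⊤ (thompsonSubgroup 2 ↥X)).2
      (by rw [normalizer_eq_top_iff.2 hJn])
    rwa [← MonoidHom.range_eq_map, Subgroup.range_subtype] at h1
  have hjJ : jj T ≤ J := by
    rw [← hTT, jj_map X.subtype hinj]
    obtain ⟨A, hA, hAS⟩ := PLocal.ThompsonJ.exists_max_le_sylow S
    exact Subgroup.map_mono (PLocal.ThompsonJ.thompsonSubgroupOf_le hA (hS ▸ hAS))
  have hWO : ∀ D : Subgroup ↥X, D.Normal → centralizer (W' : Set ↥X) ≤ D →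
      (∃ k : ℕ, (centralizer (W' : Set ↥X)).relIndex D = 2 ^ k) →
      D = centralizer (W' : Set ↥X) := by
    rintro D hD hCD ⟨k, hk⟩
    refine le_antisymm ?_ hCD
    have hCn : (centralizer (W' : Set ↥X)).Normal := inferInstance
    have h1 : ∀ x ∈ D, ∃ k : ℕ, x ^ 2 ^ k ∈ centralizer (W' : Set ↥X) := by
      intro x hx
      refine ⟨k, ?_⟩
      have h2 := Subgroup.pow_index_mem ((centralizer (W' : Set ↥X)).subgroupOf D) ⟨x, hx⟩
      rw [relIndex] at hk
      rw [hk] at h2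
      exact h2
    have h2 := Lib.SylowNormalInf.le_sup_inf S D (centralizer (W' : Set ↥X)) h1
    have h3 : D.map X.subtype ≤ centralizer (W : Set G) := by
      refine mod_core hX ?_ ?_
      · have h4 := (le_normalizer_map_iff X.subtype hinj ⊤ D).2
          (by rw [normalizer_eq_top_iff.2 hD])
        rwa [← MonoidHom.range_eq_map, Subgroup.range_subtype] at h4
      · rintro _ ⟨d, hd, rfl⟩
        have h4 := h2 hd
        rw [mem_sup_of_normal_left] at h4
        obtain ⟨c, hc, t, ht, hct⟩ := h4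
        refine ⟨(c : G), ?_, (t : G), ?_, (congrArg Subtype.val hct).symm⟩
        · rw [mem_centralizer_iff]
          intro w hw
          exact congrArg Subtype.val (mem_centralizer_iff.mp hc ⟨w, hWX hw⟩ hw)
        · have h5 : t ∈ T' := by rw [← hS]; exact ht.1
          exact h5
    rw [← hWW, le_centralizer_map_iff X.subtype hinj] at h3
    exact h3
  have hnJ : ¬ thompsonSubgroup 2 ↥X ≤ centralizer (W' : Set ↥X) := by
    intro hcon
    have hcon' : J ≤ centralizer (W : Set G) := by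
      rw [← hWW]
      exact (le_centralizer_map_iff X.subtype hinj _ _).2 hcon
    obtain ⟨L, hL, k, hk⟩ := hne
    apply hk.not_jj_le
    rw [jj_bau]
    intro b hb
    exact mem_o2_of_cent hk (jj_le_bau T hb) (centralizer_le (vl_le_mod hL hk) (hcon' (hjJ hb)))
  obtain ⟨n, V', hF⟩ := FFMod.exists_ffw hX.solv T' hT2 hTi W' hWn' hWe hWO hnJ
  have hCJ : W ⊓ centralizer (J : Set G) =
      (W' ⊓ centralizer (thompsonSubgroup 2 ↥X : Set ↥X)).map X.subtype := by
    rw [← centralizer_map_inf X.subtype hinj, hWW]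
  refine ⟨n, fun i => (V' i).map X.subtype, ?_⟩
  exact
    { two := hX.two
      TX := hX.TX
      WT := hWT
      Wn := hWn
      Wcomm := hWc
      Wsq := hWs
      zcW := zc_le_mod
      Jn := hJn'
      jJ := hjJ
      card := fun i => by
        rw [card_map_of_injective hinj]; exact hF.card i
      indep := by
        have h1 := (FFData.iSupIndep_map_iff X.subtype hinj _).2 hF.indep
        convert h1 using 2 with o
        cases o with
        | none => exact hCJ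
        | some i => rfl
      sup := by
        rw [hCJ, ← Subgroup.map_iSup, ← Subgroup.map_sup, hF.sup, hWW]
      perm := by
        intro g hg i
        obtain ⟨j, hj⟩ := hF.perm ⟨g, hg⟩ i
        refine ⟨j, ?_⟩
        rw [← hj, Subgroup.map_map, Subgroup.map_map]
        rfl
      nrm := fun i => (le_normalizer_map_iff X.subtype hinj _ _).2 (hF.nrm i)
      t := by
        intro i
        obtain ⟨t, ht, ⟨v, hv, htv⟩, hj⟩ := hF.t i
        refine ⟨(t : G), ?_, ⟨(v : G), ⟨v, hv, rfl⟩, fun h0 => htv (Subtype.ext h0)⟩, ?_⟩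
        · rw [← hTT, jj_map X.subtype hinj]
          exact ⟨t, ht, rfl⟩
        · rintro j hj' _ ⟨w, hw, rfl⟩
          exact congrArg Subtype.val (hj j hj' w hw) }

/-! ### Every block has its four-group in the family -/

section plane

variable {W J L : Subgroup G} {k : ℕ} {ι : Type} {V : ι → Subgroup G}

theorem nV (h : GFF X T W J V) (hL : L ≤ X) (hk : IsDBlk (bau T) L k) (i : ι) :
    L ≤ normalizer (V i : Set G) :=
  PlaneData.gen hk _ fun _ hl _ hb => h.conj_bV i (hL hl) hb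

/-- `L` centralises `C_W(J)`. -/
theorem cC (h : GFF X T W J V) (hL : L ≤ X) (hk : IsDBlk (bau T) L k) :
    L ≤ centralizer ((W ⊓ centralizer (J : Set G) : Subgroup G) : Set G) := by
  refine PlaneData.gen hk _ fun l hl b hb => ?_
  rw [Four.mem_cent_iff]
  intro w hw
  have h1 : l⁻¹ * w * l ∈ W ⊓ centralizer (J : Set G) := by
    have hW := Four.conj_mem' (h.Wn (hL hl)) hw.1
    refine ⟨hW, mem_centralizer_iff.2 fun y hy => ?_⟩
    have hy' := Four.conj_mem (h.Jn (hL hl)) hy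
    have h2 := (mem_centralizer_iff.1 hw.2) _ hy'
    have h3 : l⁻¹ * ((l * y * l⁻¹) * w) * l = l⁻¹ * (w * (l * y * l⁻¹)) * l := by rw [h2]
    calc y * (l⁻¹ * w * l) = l⁻¹ * ((l * y * l⁻¹) * w) * l := by group
      _ = l⁻¹ * (w * (l * y * l⁻¹)) * l := h3
      _ = l⁻¹ * w * l * y := by group
  have h2 : l⁻¹ * w * l ∈ zj T := by
    refine mem_zj_of_comm (h.WT h1.1) (h.Wsq _ h1.1) fun y hy => ?_
    exact (mem_centralizer_iff.1 h1.2) y (h.jJ hy)
  have h3 : b * (l⁻¹ * w * l) * b⁻¹ = l⁻¹ * w * l := by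
    rw [Four.conj_eq_iff_comm]
    exact ((mem_centralizer_iff.1 (bau_le_centralizer T hb)) _ h2).symm
  calc l * b * l⁻¹ * w * (l * b * l⁻¹)⁻¹ = l * (b * (l⁻¹ * w * l) * b⁻¹) * l⁻¹ := by group
    _ = w := by rw [h3]; group

/-- if `L` moves `x i` then `O₂(L) = C_B(V i)`. -/
theorem o2_eq (h : GFF X T W J V) (hL : L ≤ X) (hk : IsDBlk (bau T) L k) {i : ι}
    (hm : ∃ l ∈ L, l * h.x i * l⁻¹ ≠ h.x i) :
    o2 L = bau T ⊓ centralizer (V i : Set G) := by
  obtain ⟨l, hl, hlx⟩ := hm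
  have h1 : o2 L ≤ bau T ⊓ centralizer (V i : Set G) := by
    refine le_inf hk.o2_le fun q hq => ?_
    have hq1 := h.fix_x i (hk.o2_le hq)
    have hq2 : l⁻¹ * q * l ∈ o2 L := Four.conj_mem' (le_normalizer_o2 L hl) hq
    have hq3 := h.fix_x i (hk.o2_le hq2)
    have hq4 : q * (l * h.x i * l⁻¹) * q⁻¹ = l * h.x i * l⁻¹ := by
      calc q * (l * h.x i * l⁻¹) * q⁻¹
          = l * ((l⁻¹ * q * l) * h.x i * (l⁻¹ * q * l)⁻¹) * l⁻¹ := by group
        _ = _ := by rw [hq3]
    refine Four.cent_of_two (h.card i) (h.Vsq i) (h.xV i)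
      (Four.conj_mem (nV h hL hk i hl) (h.xV i)) (h.x1 i) ?_ hlx.symm hq1 hq4
    intro h0
    apply h.x1 i
    calc h.x i = l⁻¹ * (l * h.x i * l⁻¹) * l := by group
      _ = 1 := by rw [h0]; group
  rcases Block.eq_or_eq_of_relIndex_prime Nat.prime_two hk.o2_index h1 inf_le_left with h2 | h2
  · exact h2.symm
  · exfalso
    obtain ⟨t, ht, ⟨v, hv, htv⟩, -⟩ := h.t i
    have h3 : t ∈ bau T ⊓ centralizer (V i : Set G) := by
      rw [h2]; exact jj_le_bau T ht
    exact htv (Four.mem_cent_iff.1 h3.2 v hv)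

/-- `L` moves at most one `x i`. -/
theorem moved_unique (h : GFF X T W J V) (hL : L ≤ X) (hk : IsDBlk (bau T) L k) {i j : ι}
    (hi : ∃ l ∈ L, l * h.x i * l⁻¹ ≠ h.x i) (hj : ∃ l ∈ L, l * h.x j * l⁻¹ ≠ h.x j) : i = j := by
  by_contra hij
  have h1 := o2_eq h hL hk hi
  have h2 := o2_eq h hL hk hj
  obtain ⟨t, ht, ⟨v, hv, htv⟩, hc⟩ := h.t i
  have h3 : t ∈ o2 L := by
    rw [h2]
    refine ⟨jj_le_bau T ht, mem_centralizer_iff.2 fun w hw => ?_⟩
    exact (hc j (fun h0 => hij h0.symm) w hw).symm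
  rw [h1] at h3
  exact htv (Four.mem_cent_iff.1 h3.2 v hv)

/-- `L` moves some `x i`. -/
theorem exists_moved (h : GFF X T W J V) (hL : L ≤ X) (hk : IsDBlk (bau T) L k)
    (hW : vl (bau T) L ≤ W) : ∃ i, ∃ l ∈ L, l * h.x i * l⁻¹ ≠ h.x i := by
  by_contra hcon
  push Not at hcon
  obtain ⟨y, hy, h3, h4, h0, -⟩ := gen hk
  have h1 : W ≤ centralizer ({y} : Set G) := by
    rw [← h.sup]
    refine sup_le ?_ (iSup_le fun i => ?_)
    · intro w hw
      rw [mem_centralizer_singleton_iff]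
      exact (mem_centralizer_iff.mp (cC h hL hk hy) w hw)
    · have h5 : y ∈ normalizer (V i : Set G) := nV h hL hk i hy
      have h6 := Four.sq_mem_cent (h.card i) (h.Vsq i) (h.xV i) (h.x1 i) h5 (hcon i y hy)
      have h7 : y ∈ centralizer (V i : Set G) := mem_of_sq_mem h0 h6
      intro w hw
      rw [mem_centralizer_singleton_iff]
      exact (mem_centralizer_iff.mp h7 w hw)
  obtain ⟨z, hz⟩ := exists_pt hk
  apply hz.2.2
  refine h3 z hz.1 ?_
  rw [Four.conj_eq_iff_comm]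
  exact (mem_centralizer_singleton_iff.mp (h1 (hW hz.1))).symm

/-- the plane moved by `L` is `vl B L`. -/
theorem vl_eq (h : GFF X T W J V) (hL : L ≤ X) (hk : IsDBlk (bau T) L k) {i : ι}
    (hm : ∃ l ∈ L, l * h.x i * l⁻¹ ≠ h.x i) : vl (bau T) L = V i := by
  obtain ⟨l, hl, hlx⟩ := hm
  set x := h.x i with hx
  have hxz : x ∈ zl (bau T) L := by
    apply zc_le_zl
    rw [zc_bau]
    exact h.xz i
  set y := l * x * l⁻¹ with hy
  have hyV : y ∈ V i := Four.conj_mem (nV h hL hk i hl) (h.xV i)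
  have hy1 : y ≠ 1 := by
    intro h0
    apply h.x1 i
    change x = 1
    calc x = l⁻¹ * y * l := by rw [hy]; group
      _ = 1 := by rw [h0]; group
  obtain ⟨t, ht, hmt, -⟩ := h.t i
  have htB := jj_le_bau T ht
  have hxx : x * x = 1 := by rw [← pow_two]; exact h.Vsq i _ (h.xV i)
  have hyy : y * y = 1 := by rw [← pow_two]; exact h.Vsq i _ hyV
  have hxy : x * y = y * x := Four.comm_of_sq (h.Vsq i) (h.xV i) hyV
  have h1 : x * y ∈ vl (bau T) L := by
    have h2 : ⁅x, l⁆ ∈ vl (bau T) L := Subgroup.commutator_mem_commutator hxz hl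
    have h3 : ⁅x, l⁆ = x * y := by
      have hxi : x⁻¹ = x := inv_eq_of_mul_eq_one_left hxx
      rw [commutatorElement_def, hy]
      calc x * l * x⁻¹ * l⁻¹ = x * l * x * l⁻¹ := by rw [hxi]
        _ = x * (l * x * l⁻¹) := by group
    rwa [h3] at h2
  have htx : t * x * t⁻¹ = x := h.fix_x i htB
  have hty : t * y * t⁻¹ = x * y := by
    rcases Four.fix_dichotomy (h.card i) (h.Vsq i) (h.xV i) hyV (h.x1 i) hy1 (Ne.symm hlx)
      (nV h hL hk i (hk.le htB)) htx with h0 | h0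
    · exfalso
      rcases h.eq_x hyV htx h0 hmt with h5 | h5
      · exact hy1 h5
      · exact hlx h5
    · exact h0
  have h4 : y ∈ vl (bau T) L := by
    have h5 := Four.conj_mem (le_normalizer_vl (bau T) L (hk.le htB)) h1
    have h6 : t * (x * y) * t⁻¹ = y := by
      calc t * (x * y) * t⁻¹ = (t * x * t⁻¹) * (t * y * t⁻¹) := by group
        _ = x * (x * y) := by rw [htx, hty]
        _ = (x * x) * y := by group
        _ = y := by rw [hxx, one_mul]
    rwa [h6] at h5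
  have h5 : x ∈ vl (bau T) L := by
    have h6 := mul_mem h1 h4
    have h7 : x * y * y = x := by rw [mul_assoc, hyy, mul_one]
    rwa [h7] at h6
  have h6 : V i ≤ vl (bau T) L := by
    intro v hv
    rcases Four.four (h.card i) (h.Vsq i) (h.xV i) hyV (h.x1 i) hy1 (Ne.symm hlx) v hv with
      h0 | h0 | h0 | h0
    · rw [h0]; exact one_mem _
    · rw [h0]; exact h5
    · rw [h0]; exact h4
    · rw [h0]; exact h1
  exact (Subgroup.eq_of_le_of_card_ge h6 (by rw [h.card i, hk.card_vl])).symm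

theorem exists_plane (h : GFF X T W J V) (hL : L ≤ X) (hk : IsDBlk (bau T) L k)
    (hW : vl (bau T) L ≤ W) :
    ∃ i, vl (bau T) L = V i ∧ o2 L = bau T ⊓ centralizer (V i : Set G) ∧
      IsPt (bau T) L (h.x i) ∧ ∀ j, j ≠ i → ∀ l ∈ L, l * h.x j * l⁻¹ = h.x j := by
  obtain ⟨i, hi⟩ := exists_moved h hL hk hW
  refine ⟨i, vl_eq h hL hk hi, o2_eq h hL hk hi, ⟨?_, ?_, h.x1 i⟩, fun j hj l hl => ?_⟩
  · rw [vl_eq h hL hk hi]; exact h.xV i
  · rw [zc_bau]; exact h.xz i
  · by_contra hcon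
    exact hj (moved_unique h hL hk ⟨l, hl, hcon⟩ hi)

end plane

end loc

end Cfsg.Agent.MinSimple.LemX
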