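import Cfsg.Agent.MinSimple.PushEnd
import Cfsg.Agent.MinSimple.LemX
import Cfsg.Agent.MinSimple.CaseOneAP
import Cfsg.Agent.MinSimple.PushOne
import Cfsg.Agent.MinSimple.SelfCentFour
import Cfsg.Agent.ZN.ChoiceSit
import Cfsg.Agent.S0111

/-!
# Two blocks over the Baumann subgroup of a Sylow 2-subgroup whose four-groups do not commute

Step (1)(A) of the reduction of case C2 of the core theorem: if `S` is a Sylow 2-subgroup of `G` (2-local
subgroups solvable, no normal subgroup of index 2) and `L`, `L'` are blocks over `bau S` with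
`⁅vl L, vl L'⁆ ≠ 1` then `G` has 2-rank at most 2.
-/

set_option autoImplicit false

namespace Cfsg.Agent.MinSimple.TwoBlk

open Subgroup Cfsg Cfsg.Agent.ZN Cfsg.Agent.MinSimple Cfsg.Agent.MinSimple.DBlkApi
open scoped commutatorElement

universe u

variable {G : Type u} [Group G] {B L L' : Subgroup G} {k k' : ℕ} {z a b : G}

/-- Two blocks over `B` whose four-groups do not commute. -/
structure Pair (B L L' : Subgroup G) (k k' : ℕ) (z a b : G) : Prop where
  h : IsDBlk B L k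
  h' : IsDBlk B L' k'
  pt : IsPt B L z
  pt' : IsPt B L' z
  aV : a ∈ vl B L
  bV : b ∈ vl B L'
  nc : a * b ≠ b * a

theorem not_mem_o2_of_nc (h : IsDBlk B L k) {v w : G} (hv : v ∈ vl B L) (hvw : v * w ≠ w * v) :
    w ∉ o2 L := fun hw => hvw ((mem_centralizer_iff.mp (o2_cent h hw)) v hv)

theorem exists_pair [Finite G] (h : IsDBlk B L k) (h' : IsDBlk B L' k') {u w : G}
    (hu : u ∈ vl B L) (hw : w ∈ vl B L') (hne : u * w ≠ w * u) :
    ∃ z, Pair B L L' k k' z u w := by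
  obtain ⟨z, hz⟩ := exists_pt h
  obtain ⟨z', hz'⟩ := exists_pt h'
  have huB := vl_le_B h hu
  have hwB := vl_le_B h' hw
  have hu1 : u ≠ 1 := by rintro rfl; simp at hne
  have hw1 : w ≠ 1 := by rintro rfl; simp at hne
  have huz : u ≠ z := by rintro rfl; exact hne (hz.comm hwB).symm
  have hwz : w ≠ z' := by rintro rfl; exact hne (hz'.comm huB)
  have h1 := conj_eq h hz hu hu1 huz hwB (not_mem_o2_of_nc h hu hne)
  have h2 := conj_eq h' hz' hw hw1 hwz huB (not_mem_o2_of_nc h' hw (fun h => hne h.symm))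
  have e1 : w * u = z * u * w := by rw [← h1]; group
  have e2 : u * w = z' * w * u := by rw [← h2]; group
  have hzz : z * z' = 1 := by
    have e3 : w * u = z * z' * (w * u) := by
      calc w * u = z * (u * w) := by rw [e1]; group
        _ = z * (z' * w * u) := by rw [e2]
        _ = z * z' * (w * u) := by group
    have e4 : 1 * (w * u) = z * z' * (w * u) := by rw [one_mul]; exact e3
    exact (mul_right_cancel e4).symm
  have hz2 : z = z' := by
    calc z = z * (z' * z') := by rw [hz'.mul_self, mul_one]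
      _ = (z * z') * z' := by group
      _ = z' := by rw [hzz, one_mul]
  exact ⟨z, h, h', hz, hz2 ▸ hz', hu, hw, hne⟩

namespace Pair

theorem aB (p : Pair B L L' k k' z a b) : a ∈ B := vl_le_B p.h p.aV
theorem bB (p : Pair B L L' k k' z a b) : b ∈ B := vl_le_B p.h' p.bV
theorem a1 (p : Pair B L L' k k' z a b) : a ≠ 1 := by rintro rfl; exact p.nc (by simp)
theorem b1 (p : Pair B L L' k k' z a b) : b ≠ 1 := by rintro rfl; exact p.nc (by simp)
theorem az (p : Pair B L L' k k' z a b) : a ≠ z := by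
  rintro rfl; exact p.nc (p.pt.comm p.bB).symm
theorem bz (p : Pair B L L' k k' z a b) : b ≠ z := by
  rintro rfl; exact p.nc (p.pt'.comm p.aB)
theorem symm (p : Pair B L L' k k' z a b) : Pair B L' L k' k z b a :=
  ⟨p.h', p.h, p.pt', p.pt, p.bV, p.aV, fun h => p.nc h.symm⟩
theorem bQ (p : Pair B L L' k k' z a b) : b ∉ o2 L := not_mem_o2_of_nc p.h p.aV p.nc
theorem aQ (p : Pair B L L' k k' z a b) : a ∉ o2 L' := p.symm.bQ
theorem aa (p : Pair B L L' k k' z a b) : a * a = 1 := by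
  rw [← pow_two]; exact vl_sq p.h a p.aV
theorem bb (p : Pair B L L' k k' z a b) : b * b = 1 := p.symm.aa
theorem bab (p : Pair B L L' k k' z a b) : b * a * b⁻¹ = z * a :=
  conj_eq p.h p.pt p.aV p.a1 p.az p.bB p.bQ

theorem comm (p : Pair B L L' k k' z a b) : ⁅b, a⁆ = z := by
  rw [commutatorElement_def, p.bab, mul_inv_cancel_right]

/-- `L` and `L'` do not normalise a common nontrivial 2-subgroup. -/
theorem core [Finite G] (p : Pair B L L' k k' z a b)
    (hL : ∀ N : Subgroup G, IsTwoLocal N → Group.IsSolvable N) {R : Subgroup G}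
    (hR : IsPGroup 2 R) (h1 : L ≤ normalizer (R : Set G)) (h2 : L' ≤ normalizer (R : Set G)) :
    R = ⊥ := by
  by_contra hR1
  have hs := hL _ ⟨R, hR, hR1, rfl⟩
  have hzJ : z ∈ normalizer (R : Set G) := h1 (p.h.le (zc_le B p.pt.2.1))
  set N : Subgroup G := closure {x | ∃ g ∈ normalizer (R : Set G), x = g * z * g⁻¹} with hN
  have h3 : vl B L ≤ N := vl_le_of p.h p.pt fun l hl => by
    rw [hN]; exact subset_closure ⟨l, h1 hl, rfl⟩
  have h4 : vl B L' ≤ N := vl_le_of p.h' p.pt' fun l hl => by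
    rw [hN]; exact subset_closure ⟨l, h2 hl, rfl⟩
  refine p.pt.2.2 (CaseOneAP.killing hs hzJ hN ?_)
  rw [← p.comm]
  exact commutator_mem_commutator (h4 p.bV) (h3 p.aV)

theorem bone [Finite G] (p : Pair B L L' k k' z a b)
    (hL : ∀ N : Subgroup G, IsTwoLocal N → Group.IsSolvable N) :
    o2 L = zl B L ∧ o2 L' = zl B L' ∧ o2 L ⊓ o2 L' = zc B ∧ Nat.card (zc B) ≤ 4 :=
  PushEnd.bone p.h p.h' (fun _ hR h1 h2 => p.core hL (p.h.two.to_le hR) h1 h2)
    ⟨a, vl_le_zl B L p.aV, b, vl_le_zl B L' p.bV, p.nc⟩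

theorem rl_inf [Finite G] (p : Pair B L L' k k' z a b)
    (hL : ∀ N : Subgroup G, IsTwoLocal N → Group.IsSolvable N) {x : G} (hx : x ∈ rl B L)
    (hx' : x ∈ rl B L') : x = 1 := by
  have hn : ∀ g : G, g * x = x * g → g ∈ normalizer (zpowers x : Set G) := fun g hg => by
    refine centralizer_le_normalizer _ ?_
    rw [mem_centralizer_iff]
    intro y hy
    obtain ⟨n, rfl⟩ := mem_zpowers_iff.1 hy
    exact (((show Commute g x from hg).zpow_right n).eq).symm
  have hbot : zpowers x = ⊥ := by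
    refine p.core hL (p.h.two.to_le (zpowers_le.2 (zc_le B hx.1))) (fun l hl => hn l ?_)
      (fun l hl => hn l ?_)
    · exact rl_comm hx hl
    · exact rl_comm hx' hl
  exact zpowers_eq_bot.1 hbot

/-- the elements of `zc B` -/
theorem zc_cases [Finite G] (p : Pair B L L' k k' z a b)
    (hL : ∀ N : Subgroup G, IsTwoLocal N → Group.IsSolvable N) {c : G} (hc : c ∈ rl B L)
    (hc1 : c ≠ 1) {x : G} (hx : x ∈ zc B) : x = 1 ∨ x = z ∨ x = c ∨ x = c * z := by
  have hzz := p.pt.mul_self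
  -- uniqueness in `rl B L`
  have huniq : ∀ w ∈ rl B L, w = 1 ∨ w = c := by
    intro w hw
    by_contra hcon
    push Not at hcon
    have hcl : c ∉ rl B L' := fun h0 => hc1 (p.rl_inf hL hc h0)
    have hwl : w ∉ rl B L' := fun h0 => hcon.1 (p.rl_inf hL hw h0)
    have h1 : w * c ∈ rl B L' := Block.mul_mem_of_relIndex_two p.h'.rl_index hw.1 hc.1 hwl hcl
    have h2 := p.rl_inf hL (mul_mem hw hc) h1
    apply hcon.2
    have hcc : c * c = 1 := by rw [← pow_two]; exact zc_sq hc.1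
    calc w = w * (c * c) := by rw [hcc, mul_one]
      _ = (w * c) * c := by group
      _ = c := by rw [h2, one_mul]
  rcases mem_zc_cases p.h p.pt hx with h1 | h1
  · rcases huniq x h1 with h2 | h2
    · exact Or.inl h2
    · exact Or.inr (Or.inr (Or.inl h2))
  · have hxz : z * x = x * z := (zc_comm hx (zc_le B p.pt.2.1))
    have e : x = (z * x) * z := by
      calc x = x * (z * z) := by rw [hzz, mul_one]
        _ = (x * z) * z := by group
        _ = (z * x) * z := by rw [hxz]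
    rcases huniq _ h1 with h2 | h2
    · rw [h2, one_mul] at e
      exact Or.inr (Or.inl e)
    · rw [h2] at e
      exact Or.inr (Or.inr (Or.inr e))

/-- an involution of `B` lies in `zl B L` or in `zl B L'` -/
theorem invol [Finite G] (p : Pair B L L' k k' z a b)
    (hL : ∀ N : Subgroup G, IsTwoLocal N → Group.IsSolvable N) {x : G} (hx : x ∈ B)
    (hxx : x * x = 1) : x ∈ zl B L ∨ x ∈ zl B L' := by
  obtain ⟨e1, e2, -, -⟩ := p.bone hL
  by_cases hxL : x ∈ zl B L
  · exact Or.inl hxL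
  right
  have h1 : x * b ∈ o2 L :=
    Block.mul_mem_of_relIndex_two p.h.o2_index hx p.bB (by rwa [e1]) p.bQ
  rw [e1] at h1
  -- `y = x b`, `x = y b`
  have hyy : (x * b) * (x * b) = 1 := by
    rw [← pow_two]; exact p.h.zl_sq _ h1
  have hxb : x * b = b * x := by
    have hx' : x⁻¹ = x := inv_eq_of_mul_eq_one_left hxx
    have hb' : b⁻¹ = b := inv_eq_of_mul_eq_one_left p.bb
    calc x * b = (x * b)⁻¹ := (inv_eq_of_mul_eq_one_left hyy).symm
      _ = b * x := by rw [mul_inv_rev, hx', hb']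
  obtain ⟨r, hr, v, hv, hrv⟩ := mem_zl p.h h1
  have hrb : r * b = b * r := (zc_comm (rl_le_zc B L hr) p.bB).symm
  have hvb : v * b = b * v := by
    have h2 : (x * b) * b = b * (x * b) := by
      calc (x * b) * b = (b * x) * b := by rw [hxb]
        _ = b * (x * b) := by group
    rw [hrv] at h2
    have h3 : r * (v * b) = r * (b * v) := by
      calc r * (v * b) = r * v * b := by group
        _ = b * (r * v) := h2
        _ = (b * r) * v := by group
        _ = r * (b * v) := by rw [← hrb]; group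
    exact mul_left_cancel h3
  have hv' : v = 1 ∨ v = z := by
    by_contra hcon
    push Not at hcon
    have h3 := conj_eq p.h p.pt hv hcon.1 hcon.2 p.bB p.bQ
    rw [Four.conj_eq_iff_comm.mpr hvb.symm] at h3
    apply p.pt.2.2
    have h4 : 1 * v = z * v := by rw [one_mul]; exact h3
    exact (mul_right_cancel h4).symm
  have hxzc : x * b ∈ zc B := by
    rw [hrv]
    refine mul_mem (rl_le_zc B L hr) ?_
    rcases hv' with rfl | rfl
    · exact one_mem _
    · exact p.pt.2.1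
  have h5 : x = (x * b) * b := by rw [mul_assoc, p.bb, mul_one]
  rw [h5]
  exact mul_mem (zc_le_zl hxzc) (vl_le_zl B L' p.bV)

/-- The normaliser of `B` fixes `z`. -/
theorem fix_z [Finite G] (p : Pair B L L' k k' z a b)
    (hL : ∀ N : Subgroup G, IsTwoLocal N → Group.IsSolvable N) {g : G}
    (hg : g ∈ normalizer (B : Set G)) : g * z * g⁻¹ = z := by
  have hzi : z⁻¹ = z := inv_eq_of_mul_eq_one_left p.pt.mul_self
  have ha : g * a * g⁻¹ ∈ B := Four.conj_mem hg p.aB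
  have hb : g * b * g⁻¹ ∈ B := Four.conj_mem hg p.bB
  have haa : (g * a * g⁻¹) * (g * a * g⁻¹) = 1 := by
    calc (g * a * g⁻¹) * (g * a * g⁻¹) = g * (a * a) * g⁻¹ := by group
      _ = 1 := by rw [p.aa]; group
  have hcomm : ⁅g * b * g⁻¹, g * a * g⁻¹⁆ = g * z * g⁻¹ := by
    rw [← p.comm, commutatorElement_def, commutatorElement_def]; group
  have hne : g * z * g⁻¹ ≠ 1 := fun h => p.pt.2.2 (conj_eq_one_iff.mp h)
  have key : ⁅g * a * g⁻¹, g * b * g⁻¹⁆ = 1 ∨ ⁅g * a * g⁻¹, g * b * g⁻¹⁆ = z := by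
    rcases p.invol hL ha haa with h1 | h1
    · exact comm_eq p.h p.pt h1 hb
    · exact comm_eq p.h' p.pt' h1 hb
  have hinv : ⁅g * a * g⁻¹, g * b * g⁻¹⁆ = (g * z * g⁻¹)⁻¹ := by
    rw [← hcomm, commutatorElement_inv]
  rw [hinv] at key
  rcases key with h1 | h1
  · exact absurd (inv_eq_one.mp h1) hne
  · calc g * z * g⁻¹ = ((g * z * g⁻¹)⁻¹)⁻¹ := (inv_inv _).symm
      _ = z⁻¹ := by rw [h1]
      _ = z := hzi


end Pair

/-- The elements of `vl B L` are conjugate to the point. -/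
theorem fus_vl (h : IsDBlk B L k) (hz : IsPt B L z) {v : G} (hv : v ∈ vl B L) (hv1 : v ≠ 1) :
    ∃ g : G, g * v * g⁻¹ = z := by
  by_cases hvz : v = z
  · exact ⟨1, by rw [hvz]; group⟩
  obtain ⟨y, hy, h0, h1, h2, h3, h4⟩ := h.dih
  have h5 : y * z * y⁻¹ ∈ vl B L := Four.conj_mem (le_normalizer_vl B L hy) hz.1
  have h6 : y * z * y⁻¹ ≠ 1 := fun h => hz.2.2 (conj_eq_one_iff.mp h)
  have h7 : y * z * y⁻¹ ≠ z := fun h => hz.2.2 (h3 z hz.1 h)
  rcases Four.four h.card_vl (vl_sq h) hz.1 h5 hz.2.2 h6 h7.symm v hv with h8 | h8 | h8 | h8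
  · exact absurd h8 hv1
  · exact absurd h8 hvz
  · exact ⟨y⁻¹, by rw [h8]; group⟩
  · obtain ⟨b, hb, hbQ⟩ := exists_b h
    have h9 := conj_eq h hz h5 h6 h7 hb hbQ
    refine ⟨(b * y)⁻¹, ?_⟩
    rw [h8, ← h9]
    group

section syl

variable [Finite G] {S : Sylow 2 G}

/-- A 2-subgroup over `bau S` is contained in a Sylow subgroup `U` with `bau U = bau S`. -/
theorem exists_sylow_bau (S : Sylow 2 G) {P : Subgroup G} (hP : IsPGroup 2 P)
    (hBP : bau (S : Subgroup G) ≤ P) : ∃ U : Sylow 2 G, P ≤ U ∧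
      bau (U : Subgroup G) = bau (S : Subgroup G) ∧ zj (U : Subgroup G) = zj (S : Subgroup G) := by
  have hf : Fact (Nat.Prime 2) := ⟨Nat.prime_two⟩
  obtain ⟨U, hU⟩ := hP.exists_le_sylow
  have hS1 : ChoiceSit.Syl (S : Subgroup G) ⊤ :=
    ⟨le_top, S.isPGroup', fun Q _ hQ hSQ => S.is_maximal' hQ hSQ⟩
  have hU1 : ChoiceSit.Syl (U : Subgroup G) ⊤ :=
    ⟨le_top, U.isPGroup', fun Q _ hQ hSQ => U.is_maximal' hQ hSQ⟩
  obtain ⟨g, -, hg⟩ := ChoiceSit.syl_conj hS1 hU1
  have hBU : bau (S : Subgroup G) ≤ U := hBP.trans hU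
  have h1 : ChoiceBase.mm (U : Subgroup G) ≤ ChoiceBase.mm (bau (S : Subgroup G)) := by
    rw [ChoiceBase.mm_bau, ← hg, ChoiceBase.mm_cj]
  have h2 : jj (bau (S : Subgroup G)) ≤ jj (U : Subgroup G) := ChoiceBase.jj_mono hBU h1
  have h3 : jj (bau (S : Subgroup G)) = jj (U : Subgroup G) := by
    refine Subgroup.eq_of_le_of_card_ge h2 ?_
    rw [← hg, ChoiceBase.jj_cj, ChoiceBase.card_cj, ChoiceBase.jj_bau]
  have h4 : zj (U : Subgroup G) = zj (S : Subgroup G) := by
    rw [← ChoiceBase.zj_bau (S : Subgroup G)]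
    exact ChoiceBase.zj_congr h3.symm
  refine ⟨U, hU, (Subgroup.eq_of_le_of_card_ge ?_ ?_).symm, h4⟩
  · intro x hx
    rw [ChoiceBase.mem_bau, h4]
    exact ⟨hBU hx, (ChoiceBase.mem_bau.mp hx).2⟩
  · rw [← hg, ChoiceBase.bau_cj, ChoiceBase.card_cj]

namespace Pair

/-- The normaliser of `B` and the centraliser of `rl B L` -/
theorem comm_zc (p : Pair B L L' k k' z a b)
    (hL : ∀ N : Subgroup G, IsTwoLocal N → Group.IsSolvable N) {x : G}
    (hx : x ∈ normalizer (B : Set G)) (hxc : x ∈ centralizer (rl B L : Set G)) :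
    ∀ y ∈ zc B, y * x = x * y := by
  have h1 : z * x = x * z := (Four.conj_eq_iff_comm.mp (p.fix_z hL hx)).symm
  intro y hy
  rcases mem_zc_cases p.h p.pt hy with h2 | h2
  · exact mem_centralizer_iff.mp hxc y h2
  · have h3 := mem_centralizer_iff.mp hxc _ h2
    have h4 : z * (y * x) = z * (x * y) := by
      calc z * (y * x) = (z * y) * x := by group
        _ = x * (z * y) := h3
        _ = (x * z) * y := by group
        _ = (z * x) * y := by rw [h1]
        _ = z * (x * y) := by group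
    exact mul_left_cancel h4

/-- `bau S` is a Sylow 2-subgroup of the centraliser of `rl B L`. -/
theorem eq_bau (p : Pair (bau (S : Subgroup G)) L L' k k' z a b)
    (hL : ∀ N : Subgroup G, IsTwoLocal N → Group.IsSolvable N) {P : Subgroup G}
    (hP : IsPGroup 2 P) (hBP : bau (S : Subgroup G) ≤ P)
    (hPc : P ≤ centralizer (rl (bau (S : Subgroup G)) L : Set G)) :
    P = bau (S : Subgroup G) := by
  obtain ⟨U, hPU, hU, hz⟩ := exists_sylow_bau S hP hBP
  refine le_antisymm ?_ hBP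
  intro x hx
  rw [← hU, ChoiceBase.mem_bau]
  refine ⟨hPU hx, ?_⟩
  rw [hz, ← ChoiceBase.zc_bau]
  refine p.comm_zc hL ?_ (hPc hx)
  rw [← hU]
  exact le_normalizer_bau _ (hPU hx)

/-- Case I: `rl B L = 1` -/
theorem case_one (p : Pair (bau (S : Subgroup G)) L L' k k' z a b)
    (hL : ∀ N : Subgroup G, IsTwoLocal N → Group.IsSolvable N)
    (h0 : Nat.card (rl (bau (S : Subgroup G)) L) = 1) : PRankLE 2 2 G := by
  refine PushEnd.rank_two p.h (p.bone hL).1 (by rw [PushEnd.card_zc p.h, h0]) ?_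
  intro P hP hBP _
  refine p.eq_bau hL hP hBP ?_
  rw [Subgroup.eq_bot_of_card_eq _ h0]
  intro x _
  rw [mem_centralizer_iff]
  rintro y hy
  rw [SetLike.mem_coe, mem_bot] at hy
  rw [hy, one_mul, mul_one]

/-- Case II.2.ii: index two. -/
theorem case_swap (p : Pair (bau (S : Subgroup G)) L L' k k' z a b)
    (hL : ∀ N : Subgroup G, IsTwoLocal N → Group.IsSolvable N)
    (h4 : Nat.card (zc (bau (S : Subgroup G))) = 4) {t : G} (ht : t ∈ S)
    (htt : t * t ∈ bau (S : Subgroup G))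
    (hne : ∃ v ∈ zl (bau (S : Subgroup G)) L, ∃ u ∈ zl (bau (S : Subgroup G)) L,
      v * (t * u * t⁻¹) ≠ (t * u * t⁻¹) * v) :
    ∃ N : Subgroup G, N.Normal ∧ N.index = 2 := by
  have htB : t ∈ normalizer ((bau (S : Subgroup G) : Subgroup G) : Set G) :=
    le_normalizer_bau _ ht
  have h' := PushEnd.blk_conj p.h htB
  have hne' : ∃ v ∈ zl (bau (S : Subgroup G)) L,
      ∃ u ∈ zl (bau (S : Subgroup G)) (L.map (MulAut.conj t).toMonoidHom), v * u ≠ u * v := by
    obtain ⟨v, hv, u, hu, huv⟩ := hne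
    exact ⟨v, hv, _, by rw [PushEnd.zl_conj' L htB]; exact PushEnd.mem_map_conj hu, huv⟩
  obtain ⟨h1, -, h3, -⟩ := PushEnd.bone p.h h'
    (fun R hR hR1 hR2 => PushEnd.ap hL p.h htB hne (p.h.two.to_le hR) hR1 hR2) hne'
  exact PushEnd.index_two hL p.h htB htt S (ChoiceBase.bau_le _) ht hne h1 h3 h4
    (fun P hP hBP hPC => p.eq_bau hL hP hBP hPC)

/-- The subgroup `⟨V, b⟩` of `B`. -/
def qq (p : Pair B L L' k k' z a b) : Subgroup G where
  carrier := {x | ∃ v ∈ vl B L, x = v ∨ x = v * b}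
  one_mem' := ⟨1, one_mem _, Or.inl rfl⟩
  mul_mem' := by
    have hbn : ∀ v ∈ vl B L, b * v * b⁻¹ ∈ vl B L := fun v hv =>
      Four.conj_mem (le_normalizer_vl B L (p.h.le p.bB)) hv
    rintro x y ⟨v, hv, hx⟩ ⟨w, hw, hy⟩
    rcases hx with rfl | rfl
    · rcases hy with rfl | rfl
      · exact ⟨x * y, mul_mem hv hw, Or.inl rfl⟩
      · exact ⟨x * w, mul_mem hv hw, Or.inr (by group)⟩
    · rcases hy with rfl | rfl
      · exact ⟨v * (b * y * b⁻¹), mul_mem hv (hbn y hw), Or.inr (by group)⟩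
      · refine ⟨v * (b * w * b⁻¹), mul_mem hv (hbn w hw), Or.inl ?_⟩
        calc v * b * (w * b) = v * (b * w * b⁻¹) * (b * b) := by group
          _ = v * (b * w * b⁻¹) := by rw [p.bb, mul_one]
  inv_mem' := by
    rintro x ⟨v, hv, hx⟩
    rcases hx with rfl | rfl
    · exact ⟨x⁻¹, inv_mem hv, Or.inl rfl⟩
    · refine ⟨b⁻¹ * v⁻¹ * b, Four.conj_mem' (le_normalizer_vl B L (p.h.le p.bB)) (inv_mem hv),
        Or.inr ?_⟩
      calc (v * b)⁻¹ = b⁻¹ * v⁻¹ * b * (b * b)⁻¹ * b := by group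
        _ = b⁻¹ * v⁻¹ * b * b := by rw [p.bb, inv_one, mul_one]

omit [Finite G] in
theorem mem_qq (p : Pair B L L' k k' z a b) {x : G} :
    x ∈ p.qq ↔ ∃ v ∈ vl B L, x = v ∨ x = v * b := Iff.rfl

omit [Finite G] in
theorem qq_le (p : Pair B L L' k k' z a b) : p.qq ≤ B := by
  rintro x ⟨v, hv, rfl | rfl⟩
  · exact vl_le_B p.h hv
  · exact mul_mem (vl_le_B p.h hv) p.bB

omit [Finite G] in
/-- The involutions of `⟨V, b⟩` are conjugate to `z`. -/
theorem fus_qq (p : Pair B L L' k k' z a b) {x : G} (hx : x ∈ p.qq) (hxx : x * x = 1)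
    (hx1 : x ≠ 1) : ∃ g : G, g * x * g⁻¹ = z := by
  obtain ⟨v, hv, rfl | rfl⟩ := hx
  · exact fus_vl p.h p.pt hv hx1
  · have hvv : v * v = 1 := by rw [← pow_two]; exact vl_sq p.h v hv
    have hvb : b * v = v * b := by
      have hv' : v⁻¹ = v := inv_eq_of_mul_eq_one_left hvv
      have hb' : b⁻¹ = b := inv_eq_of_mul_eq_one_left p.bb
      calc b * v = (v * b)⁻¹ := by rw [mul_inv_rev, hv', hb']
        _ = v * b := inv_eq_of_mul_eq_one_left hxx
    have hv' : v = 1 ∨ v = z := by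
      by_contra hcon
      push Not at hcon
      have h3 := conj_eq p.h p.pt hv hcon.1 hcon.2 p.bB p.bQ
      rw [Four.conj_eq_iff_comm.mpr hvb] at h3
      apply p.pt.2.2
      have h4 : 1 * v = z * v := by rw [one_mul]; exact h3
      exact (mul_right_cancel h4).symm
    refine fus_vl p.h' p.pt' (mul_mem ?_ p.bV) hx1
    rcases hv' with rfl | rfl
    · exact one_mem _
    · exact p.pt'.1

/-- The unique involution `c` of `rl B L`. -/
def IsC (B L : Subgroup G) (c : G) : Prop := c ∈ rl B L ∧ c ≠ 1 ∧ ∀ x ∈ rl B L, x = 1 ∨ x = c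

omit [Finite G] in
theorem exists_c (h2 : Nat.card (rl B L) = 2) : ∃ c, IsC B L c := by
  obtain ⟨a, b, hab, hu⟩ := Nat.card_eq_two_iff.1 h2
  have hmem : ∀ x : rl B L, x = a ∨ x = b := fun x => by
    have : x ∈ ({a, b} : Set (rl B L)) := by rw [hu]; trivial
    simpa using this
  rcases hmem 1 with h5 | h5
  · refine ⟨b, b.2, fun h6 => hab ?_, fun x hx => ?_⟩
    · rw [← h5]; exact Subtype.ext h6.symm
    · rcases hmem ⟨x, hx⟩ with h6 | h6
      · left; have := congrArg Subtype.val (h6.trans h5.symm); exact this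
      · right; exact congrArg Subtype.val h6
  · refine ⟨a, a.2, fun h6 => hab ?_, fun x hx => ?_⟩
    · rw [← h5]; exact Subtype.ext h6
    · rcases hmem ⟨x, hx⟩ with h6 | h6
      · right; exact congrArg Subtype.val h6
      · left; have := congrArg Subtype.val (h6.trans h5.symm); exact this

omit [Finite G] in
theorem c_notMem_qq (p : Pair B L L' k k' z a b) {c : G} (hc : IsC B L c) : c ∉ p.qq := by
  rintro ⟨v, hv, h1 | h1⟩
  · have h2 : c ∈ rl B L ⊓ vl B L := ⟨hc.1, h1 ▸ hv⟩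
    rw [p.h.disj, mem_bot] at h2
    exact hc.2.1 h2
  · apply p.bQ
    have h2 : b = v⁻¹ * c := by rw [h1]; group
    rw [h2]
    exact mul_mem (inv_mem (vl_le_o2 p.h hv)) (zl_le_o2 p.h (rl_le_zl B L hc.1))

theorem mul_c_mem_qq (p : Pair B L L' k k' z a b)
    (hL : ∀ N : Subgroup G, IsTwoLocal N → Group.IsSolvable N) {c : G} (hc : IsC B L c) {x : G}
    (hx : x ∈ B) : x * c ∈ p.qq ∨ x ∈ p.qq := by
  have hcc : c * c = 1 := by rw [← pow_two]; exact zc_sq hc.1.1
  have hcB : ∀ y ∈ B, y * c = c * y := fun y hy => zc_comm hc.1.1 hy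
  have key : ∀ y ∈ zl B L, y * c ∈ vl B L ∨ y ∈ vl B L := by
    intro y hy
    obtain ⟨r, hr, v, hv, rfl⟩ := mem_zl p.h hy
    rcases hc.2.2 r hr with rfl | rfl
    · right; rwa [one_mul]
    · left
      have h1 : r * v * r = v := by
        calc r * v * r = r * (v * r) := by group
          _ = r * (r * v) := by rw [hcB v (vl_le_B p.h hv)]
          _ = (r * r) * v := by group
          _ = v := by rw [hcc, one_mul]
      rwa [h1]
  have h1 := (p.bone hL).1
  by_cases hxQ : x ∈ o2 L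
  · rw [h1] at hxQ
    rcases key x hxQ with h2 | h2
    · exact Or.inl ⟨_, h2, Or.inl rfl⟩
    · exact Or.inr ⟨_, h2, Or.inl rfl⟩
  · have h2 := Block.mul_mem_of_relIndex_two p.h.o2_index hx p.bB hxQ p.bQ
    rw [h1] at h2
    rcases key _ h2 with h3 | h3
    · left
      refine ⟨_, h3, Or.inr ?_⟩
      calc x * c = x * (b * b) * c := by rw [p.bb, mul_one]
        _ = x * b * (b * c) := by group
        _ = x * b * (c * b) := by rw [hcB b p.bB]
        _ = x * b * c * b := by group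
    · right
      refine ⟨_, h3, Or.inr ?_⟩
      rw [mul_assoc, p.bb, mul_one]

/-- Case II.1: `S = B`. -/
theorem case_transfer (p : Pair (bau (S : Subgroup G)) L L' k k' z a b)
    (hL : ∀ N : Subgroup G, IsTwoLocal N → Group.IsSolvable N) {c : G}
    (hc : IsC (bau (S : Subgroup G)) L c) (hS : (S : Subgroup G) ≤ bau (S : Subgroup G)) :
    ∃ N : Subgroup G, N.Normal ∧ N.index = 2 := by
  have hf : Fact (Nat.Prime 2) := ⟨Nat.prime_two⟩
  have hSB : bau (S : Subgroup G) = (S : Subgroup G) := le_antisymm (ChoiceBase.bau_le _) hS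
  have hcS : c ∈ (S : Subgroup G) := by
    have := zc_le _ hc.1.1
    exact ChoiceBase.bau_le _ this
  have hcc : c * c = 1 := by rw [← pow_two]; exact zc_sq hc.1.1
  have hord : orderOf c = 2 := orderOf_eq_prime (by rw [pow_two, hcc]) hc.2.1
  have hQle : p.qq ≤ (S : Subgroup G) := p.qq_le.trans (ChoiceBase.bau_le _)
  have hrel : p.qq.relIndex (S : Subgroup G) = 2 := by
    rw [Subgroup.relIndex_eq_two_iff_exists_notMem_and]
    exact ⟨c, hcS, p.c_notMem_qq hc, fun x hx => p.mul_c_mem_qq hL hc (hS hx)⟩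
  rcases Cfsg.Agent.S0111.result S p.qq hQle hrel c hord hcS (p.c_notMem_qq hc) with
    ⟨N, hN, hN2, _⟩ | ⟨g, hg⟩
  · exact ⟨N, hN, hN2⟩
  · exfalso
    have h1 : (g * c * g⁻¹) * (g * c * g⁻¹) = 1 := by
      calc (g * c * g⁻¹) * (g * c * g⁻¹) = g * (c * c) * g⁻¹ := by group
        _ = 1 := by rw [hcc]; group
    have h2 : g * c * g⁻¹ ≠ 1 := fun h => hc.2.1 (conj_eq_one_iff.mp h)
    obtain ⟨d, hd⟩ := p.fus_qq hg h1 h2
    have h3 : (((d * g)⁻¹)⁻¹ : G) * c * (d * g)⁻¹ = z := by rw [← hd]; group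
    have hcent : ∀ x ∈ zc (bau (S : Subgroup G)), x ∈ centralizer ((S : Subgroup G) : Set G) := by
      intro x hx
      rw [mem_centralizer_iff]
      intro y hy
      exact zc_comm hx (hS hy)
    obtain ⟨n, hn, hn'⟩ := S.conj_eq_normalizer_conj_of_mem_centralizer c ((d * g)⁻¹)
      (hcent c hc.1.1) (by rw [h3]; exact hcent z p.pt.2.1)
    rw [h3] at hn'
    have h4 : n ∈ normalizer ((bau (S : Subgroup G) : Subgroup G) : Set G) := by
      rw [hSB]; exact hn
    have h5 := p.fix_z hL h4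
    have h6 : c = z := by
      calc c = n * (n⁻¹ * c * n) * n⁻¹ := by group
        _ = z := by rw [← hn', h5]
    exact pt_notMem_rl p.h p.pt (h6 ▸ hc.1)

/-- Lemma X: an element of `S` normalising `zl B L` (with `S ≤ N(zl B L)`) normalises `vl B L`. -/
theorem norm_vl (p : Pair (bau (S : Subgroup G)) L L' k k' z a b)
    (hG : IsCharacteristicTwoType G)
    (hL : ∀ N : Subgroup G, IsTwoLocal N → Group.IsSolvable N)
    (hSX : (S : Subgroup G) ≤ normalizer (zl (bau (S : Subgroup G)) L : Set G)) {s : G}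
    (hs : s ∈ S) : s ∈ normalizer (vl (bau (S : Subgroup G)) L : Set G) := by
  have hf : Fact (Nat.Prime 2) := ⟨Nat.prime_two⟩
  set B := bau (S : Subgroup G) with hB
  set X := normalizer (zl B L : Set G) with hX
  have hzl1 : zl B L ≠ ⊥ := fun h0 => by
    have h1 : z ∈ zl B L := vl_le_zl B L p.pt.1
    rw [h0, mem_bot] at h1
    exact p.pt.2.2 h1
  have hXl : IsTwoLocal X := ⟨zl B L, p.h.two.to_le (zl_le_B p.h), hzl1, rfl⟩
  have hsyl : ¬ 2 ∣ (S : Subgroup G).relIndex X := by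
    intro h1
    exact S.not_dvd_index (h1.trans (relIndex_dvd_index_of_le hSX))
  have hloc : LemX.Loc X (S : Subgroup G) :=
    ⟨hL X hXl, ChoiceSit.self_cent hG hXl, S.isPGroup', hSX, hsyl⟩
  have hLX : L ≤ X := le_normalizer_zl B L
  have hsB : s ∈ normalizer (B : Set G) := le_normalizer_bau _ hs
  have hbl := PushEnd.blk_conj p.h hsB
  have hLX' : L.map (MulAut.conj s).toMonoidHom ≤ X := by
    rintro _ ⟨l, hl, rfl⟩
    exact mul_mem (mul_mem (hSX hs) (hLX hl)) (inv_mem (hSX hs))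
  obtain ⟨n, V, hV⟩ := LemX.exists_gff hloc ⟨L, hLX, k, p.h⟩
  obtain ⟨i, hi, -, hpi, -⟩ := LemX.exists_plane hV hLX p.h (LemX.vl_le_mod hLX p.h)
  obtain ⟨j, hj, -, hpj, -⟩ := LemX.exists_plane hV hLX' hbl (LemX.vl_le_mod hLX' hbl)
  have h1 : hV.x i = z := IsPt.unique p.h p.pt hpi
  have hpz : IsPt B (L.map (MulAut.conj s).toMonoidHom) z := by
    refine ⟨?_, p.pt.2⟩
    rw [PushEnd.vl_conj' L hsB]
    have h2 := PushEnd.mem_map_conj (t := s) p.pt.1
    rwa [p.fix_z hL hsB] at h2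
  have h2 : hV.x j = z := IsPt.unique hbl hpz hpj
  have hij : i = j := hV.eq_of_mem (x := z) (h1 ▸ hV.xV i) (h2 ▸ hV.xV j) p.pt.2.2
  rw [← hij, ← hi, PushEnd.vl_conj' L hsB] at hj
  exact VModule.mem_normalizer_of_map_le hj.le

/-- The subgroup of the elements `x` with `[x, vl] = 1`, `[x, c] ∈ vl`. -/
def kk (V : Subgroup G) (c : G) : Subgroup G where
  carrier := {x | x ∈ centralizer (V : Set G) ∧ x * c * x⁻¹ * c⁻¹ ∈ V}
  one_mem' := ⟨one_mem _, by simp⟩
  mul_mem' := by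
    rintro x y ⟨hx, hxc⟩ ⟨hy, hyc⟩
    refine ⟨mul_mem hx hy, ?_⟩
    have h1 := Four.mem_cent_iff.mp hx _ hyc
    have h2 : x * y * c * (x * y)⁻¹ * c⁻¹ = (x * (y * c * y⁻¹ * c⁻¹) * x⁻¹) * (x * c * x⁻¹ * c⁻¹) := by
      group
    rw [h2, h1]
    exact mul_mem hyc hxc
  inv_mem' := by
    rintro x ⟨hx, hxc⟩
    refine ⟨inv_mem hx, ?_⟩
    have h1 := Four.mem_cent_iff.mp (inv_mem hx) _ (inv_mem hxc)
    have h2 : x⁻¹ * c * x⁻¹⁻¹ * c⁻¹ = x⁻¹ * (x * c * x⁻¹ * c⁻¹)⁻¹ * x⁻¹⁻¹ := by group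
    rw [h2, h1]
    exact inv_mem hxc

omit [Finite G] in
theorem mem_kk {V : Subgroup G} {c x : G} :
    x ∈ kk V c ↔ x ∈ centralizer (V : Set G) ∧ x * c * x⁻¹ * c⁻¹ ∈ V := Iff.rfl

/-- Case II.2.i: impossible. -/
theorem case_norm (p : Pair (bau (S : Subgroup G)) L L' k k' z a b)
    (hG : IsCharacteristicTwoType G)
    (hL : ∀ N : Subgroup G, IsTwoLocal N → Group.IsSolvable N) {c : G}
    (hc : IsC (bau (S : Subgroup G)) L c)
    (hSX : (S : Subgroup G) ≤ normalizer (zl (bau (S : Subgroup G)) L : Set G))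
    (hSc : ∀ x ∈ (S : Subgroup G), x ∈ bau (S : Subgroup G) ∨ x * c * x⁻¹ = c * z) :
    (S : Subgroup G) ≤ bau (S : Subgroup G) := by
  have hf : Fact (Nat.Prime 2) := ⟨Nat.prime_two⟩
  set B := bau (S : Subgroup G) with hB
  set V := vl B L with hV
  intro s hs
  by_contra hsB
  have hnV : ∀ x ∈ (S : Subgroup G), x ∈ normalizer (V : Set G) := fun x hx =>
    p.norm_vl hG hL hSX hx
  have hBS : B ≤ (S : Subgroup G) := ChoiceBase.bau_le _
  have hzz := p.pt.mul_self
  have hcV : ∀ v ∈ V, v * c = c * v := fun v hv => zc_comm hc.1.1 (vl_le_B p.h hv)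
  -- replace `s` by an element centralising `V`
  obtain ⟨t, ht, htB, htV⟩ : ∃ t ∈ (S : Subgroup G), t ∉ B ∧ t ∈ centralizer (V : Set G) := by
    have hzs : ∀ x ∈ (S : Subgroup G), x * z * x⁻¹ = z := fun x hx =>
      p.fix_z hL (le_normalizer_bau _ hx)
    rcases Four.fix_dichotomy p.h.card_vl (vl_sq p.h) p.pt.1 p.aV p.pt.2.2 p.a1 p.az.symm
      (hnV s hs) (hzs s hs) with h1 | h1
    · exact ⟨s, hs, hsB, Four.cent_of_two p.h.card_vl (vl_sq p.h) p.pt.1 p.aV p.pt.2.2 p.a1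
        p.az.symm (hzs s hs) h1⟩
    · have h2 : s * b ∈ (S : Subgroup G) := mul_mem hs (hBS p.bB)
      refine ⟨s * b, h2, fun h3 => hsB ?_, Four.cent_of_two p.h.card_vl (vl_sq p.h) p.pt.1 p.aV
        p.pt.2.2 p.a1 p.az.symm (hzs _ h2) ?_⟩
      · have h4 : s = (s * b) * b⁻¹ := by group
        rw [h4]; exact mul_mem h3 (inv_mem p.bB)
      · calc s * b * a * (s * b)⁻¹ = s * (b * a * b⁻¹) * s⁻¹ := by group
          _ = (s * z * s⁻¹) * (s * a * s⁻¹) := by rw [p.bab]; group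
          _ = z * (z * a) := by rw [hzs s hs, h1]
          _ = (z * z) * a := by group
          _ = a := by rw [hzz, one_mul]
  have htc : t * c * t⁻¹ = c * z := (hSc t ht).resolve_left htB
  have hcz : c * z = z * c := (hcV z p.pt.1).symm
  -- the conjugate `r = y t y⁻¹`
  obtain ⟨y, hy, h0, h1, h2, h3, h4⟩ := p.h.dih
  set w := y * z * y⁻¹ with hw
  have hwV : w ∈ V := Four.conj_mem (le_normalizer_vl B L hy) p.pt.1
  have hw1 : w ≠ 1 := fun h => p.pt.2.2 (conj_eq_one_iff.mp h)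
  have hwz : w ≠ z := fun h => p.pt.2.2 (h3 z p.pt.1 h)
  set r := y * t * y⁻¹ with hr
  have hrc : r * c * r⁻¹ * c⁻¹ = w := by
    have e1 : y * c * y⁻¹ = c := rl_conj hc.1 hy
    have e2 : y⁻¹ * c * y = c := by
      have := rl_conj hc.1 (inv_mem hy)
      rwa [inv_inv] at this
    calc r * c * r⁻¹ * c⁻¹ = y * (t * (y⁻¹ * c * y) * t⁻¹) * y⁻¹ * c⁻¹ := by rw [hr]; group
      _ = y * (c * z) * y⁻¹ * c⁻¹ := by rw [e2, htc]
      _ = y * (z * c) * y⁻¹ * c⁻¹ := by rw [hcz]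
      _ = (y * z * y⁻¹) * (y * c * y⁻¹) * c⁻¹ := by group
      _ = w := by rw [e1, hw]; group
  have hrV : r ∈ centralizer (V : Set G) := by
    rw [Four.mem_cent_iff]
    intro v hv
    have h5 : y⁻¹ * v * y ∈ V := Four.conj_mem' (le_normalizer_vl B L hy) hv
    calc r * v * r⁻¹ = y * (t * (y⁻¹ * v * y) * t⁻¹) * y⁻¹ := by rw [hr]; group
      _ = y * (y⁻¹ * v * y) * y⁻¹ := by rw [Four.mem_cent_iff.mp htV _ h5]
      _ = v := by group
  have hrK : r ∈ kk V c := ⟨hrV, by rw [hrc]; exact hwV⟩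
  -- `S` normalises `K`
  have hcS : ∀ x ∈ (S : Subgroup G), x * c * x⁻¹ = c ∨ x * c * x⁻¹ = c * z := by
    intro x hx
    rcases hSc x hx with h5 | h5
    · left; exact Four.conj_eq_iff_comm.mpr (zc_comm hc.1.1 h5)
    · right; exact h5
  have hKn : (S : Subgroup G) ≤ normalizer ((kk V c : Subgroup G) : Set G) := by
    intro x hx
    refine VModule.mem_normalizer_of_map_le ?_
    rintro _ ⟨q, ⟨hq1, hq2⟩, rfl⟩
    change x * q * x⁻¹ ∈ kk V c
    have h5 : x * q * x⁻¹ ∈ centralizer (V : Set G) := by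
      rw [Four.mem_cent_iff]
      intro v hv
      have h6 : x⁻¹ * v * x ∈ V := Four.conj_mem' (hnV x hx) hv
      calc x * q * x⁻¹ * v * (x * q * x⁻¹)⁻¹ = x * (q * (x⁻¹ * v * x) * q⁻¹) * x⁻¹ := by group
        _ = x * (x⁻¹ * v * x) * x⁻¹ := by rw [Four.mem_cent_iff.mp hq1 _ h6]
        _ = v := by group
    refine ⟨h5, ?_⟩
    have h6 : x * (q * c * q⁻¹ * c⁻¹) * x⁻¹ ∈ V := Four.conj_mem (hnV x hx) hq2
    have h7 : x * (q * c * q⁻¹ * c⁻¹) * x⁻¹ =
        (x * q * x⁻¹) * (x * c * x⁻¹) * (x * q * x⁻¹)⁻¹ * (x * c * x⁻¹)⁻¹ := by group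
    rw [h7] at h6
    rcases hcS x hx with h8 | h8
    · rwa [h8] at h6
    · rw [h8] at h6
      have h9 := Four.mem_cent_iff.mp h5 _ p.pt.1
      have h10 : (x * q * x⁻¹) * (c * z) * (x * q * x⁻¹)⁻¹ * (c * z)⁻¹ =
          (x * q * x⁻¹) * c * (x * q * x⁻¹)⁻¹ * c⁻¹ := by
        calc (x * q * x⁻¹) * (c * z) * (x * q * x⁻¹)⁻¹ * (c * z)⁻¹
            = (x * q * x⁻¹) * c * (x * q * x⁻¹)⁻¹ * ((x * q * x⁻¹) * z * (x * q * x⁻¹)⁻¹) *
                (c * z)⁻¹ := by group
          _ = (x * q * x⁻¹) * c * (x * q * x⁻¹)⁻¹ * z * (c * z)⁻¹ := by rw [h9]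
          _ = _ := by group
      rwa [h10] at h6
  -- a conjugate of `r` lies in `S`
  have hSyl : ChoiceSit.Syl (S : Subgroup G) (kk V c ⊔ S : Subgroup G) :=
    ⟨le_sup_right, S.isPGroup', fun Q _ hQ hSQ => S.is_maximal' hQ hSQ⟩
  have hr2 : IsPGroup 2 (zpowers r) := by
    have h5 : zpowers t ≤ (S : Subgroup G) := zpowers_le.mpr ht
    have h6 : IsPGroup 2 (zpowers t) := S.isPGroup'.to_le h5
    have h7 : zpowers r = (zpowers t).map (MulAut.conj y).toMonoidHom := by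
      rw [MonoidHom.map_zpowers]
      rfl
    rw [h7]
    exact h6.map _
  obtain ⟨P, hP, hrP⟩ := ChoiceSit.exists_syl hr2
    ((zpowers_le.mpr hrK).trans (le_sup_left : kk V c ≤ kk V c ⊔ S))
  obtain ⟨x, hx, hxP⟩ := ChoiceSit.syl_conj hSyl hP
  have h5 : x⁻¹ * r * x ∈ (S : Subgroup G) := by
    rw [← ChoiceBase.mem_cj, hxP]
    exact hrP (mem_zpowers r)
  have hx' : x ∈ ((kk V c ⊔ (S : Subgroup G) : Subgroup G) : Set G) := hx
  rw [Subgroup.coe_mul_of_right_le_normalizer_left _ _ hKn] at hx'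
  obtain ⟨q, hq, σ, hσ, rfl⟩ := hx'
  have h6 : q⁻¹ * r * q ∈ (S : Subgroup G) := by
    have e : q⁻¹ * r * q = σ * ((q * σ)⁻¹ * r * (q * σ)) * σ⁻¹ := by group
    rw [e]
    exact mul_mem (mul_mem hσ h5) (inv_mem hσ)
  have h7 : (q⁻¹ * r * q) * c * (q⁻¹ * r * q)⁻¹ * c⁻¹ = w := by
    -- `[q⁻¹ r q, c] = [r, c]`
    have hq1 : q⁻¹ ∈ centralizer (V : Set G) := inv_mem hq.1
    set d := q * c * q⁻¹ * c⁻¹ with hd
    have hdV : d ∈ V := hq.2
    have e1 : q * c * q⁻¹ = d * c := by rw [hd]; group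
    have e2 : q⁻¹ * c⁻¹ * q = (q⁻¹ * c * q)⁻¹ := by group
    -- `q⁻¹ c q = c d⁻¹`
    have e3 : q⁻¹ * c * q = d⁻¹ * c := by
      have e4 := Four.mem_cent_iff.mp hq1 _ (inv_mem hdV)
      calc q⁻¹ * c * q = q⁻¹ * d⁻¹ * (d * c) * q := by group
        _ = q⁻¹ * d⁻¹ * (q * c * q⁻¹) * q := by rw [e1]
        _ = (q⁻¹ * d⁻¹ * q⁻¹⁻¹) * c := by group
        _ = d⁻¹ * c := by rw [e4]
    have e5 := Four.mem_cent_iff.mp hrV _ hdV
    calc (q⁻¹ * r * q) * c * (q⁻¹ * r * q)⁻¹ * c⁻¹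
        = q⁻¹ * (r * (q * c * q⁻¹) * r⁻¹) * q * c⁻¹ := by group
      _ = q⁻¹ * ((r * d * r⁻¹) * (r * c * r⁻¹ * c⁻¹) * c) * q * c⁻¹ := by rw [e1]; group
      _ = q⁻¹ * (d * w * c) * q * c⁻¹ := by rw [e5, hrc]
      _ = (q⁻¹ * (d * w) * q⁻¹⁻¹) * (q⁻¹ * c * q) * c⁻¹ := by group
      _ = (d * w) * (d⁻¹ * c) * c⁻¹ := by
          rw [Four.mem_cent_iff.mp hq1 _ (mul_mem hdV hwV), e3]
      _ = (d * w) * d⁻¹ := by group
      _ = w := by
          rw [Four.comm_of_sq (vl_sq p.h) hdV hwV]; group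
  rcases hcS _ h6 with h8 | h8
  · rw [h8, mul_inv_cancel] at h7
    exact hw1 h7.symm
  · rw [h8, hcz, mul_assoc, mul_inv_cancel, mul_one] at h7
    exact hwz h7.symm

end Pair

end syl

/-- **Step (1)(A)** of the reduction of case C2. -/
theorem result [Finite G] (hG : IsCharacteristicTwoType G)
    (hL : ∀ N : Subgroup G, IsTwoLocal N → Group.IsSolvable N)
    (S : Sylow 2 G) (h : IsDBlk (bau (S : Subgroup G)) L k)
    (h' : IsDBlk (bau (S : Subgroup G)) L' k')
    (hn : ∃ u ∈ vl (bau (S : Subgroup G)) L, ∃ w ∈ vl (bau (S : Subgroup G)) L',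
      u * w ≠ w * u) : PRankLE 2 2 G ∨ ∃ N : Subgroup G, N.Normal ∧ N.index = 2 := by
  obtain ⟨a, ha, b, hb, hab⟩ := hn
  obtain ⟨z, p⟩ := exists_pair h h' ha hb hab
  have hzc := PushEnd.card_zc h
  have hpos : 0 < Nat.card (rl (bau (S : Subgroup G)) L) := Nat.card_pos
  have h4 := (p.bone hL).2.2.2
  by_cases h1 : Nat.card (rl (bau (S : Subgroup G)) L) = 1
  · exact Or.inl (p.case_one hL h1)
  right
  have h2 : Nat.card (rl (bau (S : Subgroup G)) L) = 2 := by omega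
  have h4' : Nat.card (zc (bau (S : Subgroup G))) = 4 := by omega
  obtain ⟨c, hc⟩ := Pair.exists_c h2
  have hcS : ∀ x ∈ (S : Subgroup G), x ∈ bau (S : Subgroup G) ∨ x * c * x⁻¹ = c * z := by
    intro x hx
    have hxB : x ∈ normalizer ((bau (S : Subgroup G) : Subgroup G) : Set G) :=
      le_normalizer_bau _ hx
    have hz := p.fix_z hL hxB
    have h5 : x * c * x⁻¹ ∈ zc (bau (S : Subgroup G)) := PushEnd.zc_conj' hxB hc.1.1
    rcases p.zc_cases hL hc.1 hc.2.1 h5 with h6 | h6 | h6 | h6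
    · exact absurd (conj_eq_one_iff.mp h6) hc.2.1
    · exfalso
      rw [← hz] at h6
      have h7 : c = z := mul_left_cancel (mul_right_cancel h6)
      exact pt_notMem_rl h p.pt (h7 ▸ hc.1)
    · left
      rw [ChoiceBase.mem_bau]
      refine ⟨hx, ?_⟩
      rw [← ChoiceBase.zc_bau]
      refine p.comm_zc hL hxB ?_
      rw [mem_centralizer_iff]
      intro y hy
      rcases hc.2.2 y hy with rfl | rfl
      · rw [one_mul, mul_one]
      · exact (Four.conj_eq_iff_comm.mp h6).symm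
    · exact Or.inr h6
  have hsq : ∀ x ∈ (S : Subgroup G), x * x ∈ bau (S : Subgroup G) := by
    intro x hx
    rcases hcS x hx with h5 | h5
    · exact mul_mem h5 h5
    · rcases hcS _ (mul_mem hx hx) with h6 | h6
      · exact h6
      · exfalso
        have hz := p.fix_z hL (le_normalizer_bau (S : Subgroup G) hx)
        have h7 : x * x * c * (x * x)⁻¹ = c := by
          calc x * x * c * (x * x)⁻¹ = x * (x * c * x⁻¹) * x⁻¹ := by group
            _ = x * (c * z) * x⁻¹ := by rw [h5]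
            _ = (x * c * x⁻¹) * (x * z * x⁻¹) := by group
            _ = c * z * z := by rw [h5, hz]
            _ = c := by rw [mul_assoc, p.pt.mul_self, mul_one]
        rw [h6] at h7
        exact p.pt.2.2 (mul_eq_left.mp h7)
  by_cases hne : ∃ t ∈ (S : Subgroup G), ∃ v ∈ zl (bau (S : Subgroup G)) L,
      ∃ u ∈ zl (bau (S : Subgroup G)) L, v * (t * u * t⁻¹) ≠ (t * u * t⁻¹) * v
  · obtain ⟨t, ht, hne⟩ := hne
    exact p.case_swap hL h4' ht (hsq t ht) hne
  · push Not at hne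
    have hSX : (S : Subgroup G) ≤ normalizer (zl (bau (S : Subgroup G)) L : Set G) := by
      intro t ht
      refine VModule.mem_normalizer_of_map_le ?_
      rintro _ ⟨u, hu, rfl⟩
      change t * u * t⁻¹ ∈ _
      have htB : t ∈ normalizer ((bau (S : Subgroup G) : Subgroup G) : Set G) :=
        le_normalizer_bau _ ht
      rw [← (p.bone hL).1, ← h.cent_zl]
      refine ⟨Four.conj_mem htB (zl_le_B h hu), ?_⟩
      change _ ∈ centralizer _
      rw [mem_centralizer_iff]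
      exact fun v hv => hne t ht v hv u hu
    exact p.case_transfer hL hc (p.case_norm hG hL hc hSX hcS)

end Cfsg.Agent.MinSimple.TwoBlk
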