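import Cfsg.Agent.MinSimple.ReduceDefs
import Cfsg.Agent.MinSimple.TwoBlk
import Cfsg.Agent.MinSimple.SamePt
import Cfsg.Agent.MinSimple.LemXGen
import Cfsg.Agent.MinSimple.EmptyTI
import Cfsg.Agent.MinSimple.CaseDiv
import Cfsg.Agent.MinSimple.DBlkExist
import Cfsg.Agent.MinSimple.LemPEnd

/-!
# The reduction of (C2): assembly
-/

set_option autoImplicit false

namespace Cfsg.Agent.MinSimple.Reduce

open Subgroup Cfsg Cfsg.Agent.ZN Cfsg.Agent.MinSimple
open Cfsg.Agent.MinSimple.DBlkApi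

universe u

variable {G : Type u} [Group G]

/-- `L` is transitive on the nontrivial elements of `vl B L`. -/
theorem exists_conj_pt {B L : Subgroup G} {k : ℕ} {z : G} (h : IsDBlk B L k) (hz : IsPt B L z)
    {v : G} (hv : v ∈ vl B L) (hv1 : v ≠ 1) : ∃ g ∈ L, g * z * g⁻¹ = v := by
  obtain ⟨y, hy, h0, h1, h2, h3, h4⟩ := h.dih
  have ha : y * z * y⁻¹ ∈ vl B L := Four.conj_mem (le_normalizer_vl B L hy) hz.1
  have ha1 : y * z * y⁻¹ ≠ 1 := fun h => hz.2.2 (conj_eq_one_iff.mp h)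
  have haz : z ≠ y * z * y⁻¹ := fun h => hz.2.2 (h3 z hz.1 h.symm)
  have hb : y * (y * z * y⁻¹) * y⁻¹ ∈ vl B L := Four.conj_mem (le_normalizer_vl B L hy) ha
  rcases Four.four h.card_vl (vl_sq h) hz.1 ha hz.2.2 ha1 haz v hv with rfl | rfl | rfl | rfl
  · exact absurd rfl hv1
  · exact ⟨1, one_mem _, by group⟩
  · exact ⟨y, hy, rfl⟩
  · refine ⟨y * y, L.mul_mem hy hy, ?_⟩
    have e : y * y * z * (y * y)⁻¹ = y * (y * z * y⁻¹) * y⁻¹ := by group
    rw [e]
    rcases Four.four h.card_vl (vl_sq h) hz.1 ha hz.2.2 ha1 haz _ hb with h5 | h5 | h5 | h5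
    · exact absurd (conj_eq_one_iff.mp h5) ha1
    · exfalso
      have h6 : y ^ 3 * z * (y ^ 3)⁻¹ = y * z * y⁻¹ := by
        calc y ^ 3 * z * (y ^ 3)⁻¹ = y * (y * (y * z * y⁻¹) * y⁻¹) * y⁻¹ := by
              rw [pow_succ, pow_two]; group
          _ = y * z * y⁻¹ := by rw [h5]
      rw [h4 z hz.1] at h6
      exact haz h6
    · exfalso
      exact ha1 (h3 _ ha h5)
    · exact h5

variable [Finite G]

/-- The commuting of the lines. -/
theorem allComm (hG : Amb G) (S : Sylow 2 G) : SamePt.AllComm (bau (S : Subgroup G)) := by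
  intro L L' k k' h h' v hv w hw
  by_contra hcon
  rcases TwoBlk.result hG.char2 hG.solv S h h' ⟨v, hv, w, hw, hcon⟩ with h1 | ⟨N, hN, hi⟩
  · exact hG.rank h1
  · exact hG.index N hN hi

/-- Any two blocks over `bau S` lie in a common 2-local subgroup. -/
def Common (S : Sylow 2 G) : Prop :=
  ∀ (L L' : Subgroup G) (k k' : ℕ), IsDBlk (bau (S : Subgroup G)) L k →
    IsDBlk (bau (S : Subgroup G)) L' k' → ∃ U : Subgroup G, IsPGroup 2 U ∧ U ≠ ⊥ ∧
      L ≤ normalizer (U : Set G) ∧ L' ≤ normalizer (U : Set G)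

section soc

variable (hG : IsCharacteristicTwoType G)
  (hL : ∀ N : Subgroup G, IsTwoLocal N → Group.IsSolvable N) (S : Sylow 2 G)

include hG hL in
/-- `C_G(z) ∩ C_G(u) ≤ N_G(V)` for `1 ≠ u ∈ rl B L`. -/
theorem inf_centralizer_le {L : Subgroup G} {k : ℕ} {z u : G}
    (h : IsDBlk (bau (S : Subgroup G)) L k) (hz : IsPt (bau (S : Subgroup G)) L z)
    (hu : u ∈ rl (bau (S : Subgroup G)) L) (hu1 : u ≠ 1) :
    centralizer ({z} : Set G) ⊓ centralizer ({u} : Set G) ≤
      normalizer (vl (bau (S : Subgroup G)) L : Set G) := by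
  set B := bau (S : Subgroup G) with hB
  have hu2 : u ^ 2 = 1 := zc_sq (rl_le_zc B L hu)
  have hLu : L ≤ centralizer ({u} : Set G) := CaseDiv.le_centralizer_of_mem_rl hu
  have hcu : centralizer ({u} : Set G) = normalizer (zpowers u : Set G) :=
    (Basic.normalizer_zpowers_eq hu2).symm
  obtain ⟨T, hT, hBT⟩ := ChoiceSit.exists_syl h.two (h.le.trans hLu)
  have hb : bau T = B := SamePt.bau_eq S hT.2.1 hBT
  have hloc : LemX.Loc (centralizer ({u} : Set G)) T := by
    refine SamePt.loc hG hL ⟨zpowers u, Basic.isPGroup_zpowers hu2, ?_, hcu⟩ hT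
    rwa [Ne, zpowers_eq_bot]
  rintro g ⟨hgz, hgu⟩
  have hLb : L ∈ LemX.blocks (centralizer ({u} : Set G)) T := ⟨hLu, k, by rw [hb]; exact h⟩
  obtain ⟨L', hL', hV⟩ := LemXPerm.perm hloc hLb hgu
  rw [hb] at hV
  rw [ChoiceBase.mem_normalizer_iff_cj]
  change (vl B L).map (MulAut.conj g).toMonoidHom = vl B L
  rw [hV]
  by_contra hne
  obtain ⟨hL'X, k', hk'⟩ := id hL'
  rw [hb] at hk'
  obtain ⟨z', hz'⟩ := exists_pt hk'
  have h1 : z ∈ vl B L' := by
    rw [← hV]
    refine ⟨z, hz.1, ?_⟩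
    change g * z * g⁻¹ = z
    rw [mem_centralizer_singleton_iff.mp hgz]
    group
  have h2 : z = z' := (eq_of_mem hk' hz' h1 hz.2.1).resolve_left hz.2.2
  subst h2
  exact hne (by
    have := LemXPerm.vl_eq_of_pt hloc hL' hLb (by rw [hb]; exact hz') (by rw [hb]; exact hz)
    rwa [hb] at this)

include hG hL in
/-- `Ω₁(Z(T)) = ⟨z⟩` in the case (E1'). -/
theorem soc_of_common (hc : SamePt.AllComm (bau (S : Subgroup G))) (hcom : Common S)
    {L T : Subgroup G} {k : ℕ} {z : G}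
    (h : IsDBlk (bau (S : Subgroup G)) L k) (hz : IsPt (bau (S : Subgroup G)) L z)
    (hT : ChoiceSit.Syl T (centralizer ({z} : Set G))) (hBT : bau (S : Subgroup G) ≤ T)
    (hcore : ∀ U : Subgroup G, IsPGroup 2 U →
      normalizer (vl (bau (S : Subgroup G)) L : Set G) ≤ normalizer (U : Set G) →
      centralizer ({z} : Set G) ≤ normalizer (U : Set G) → U = ⊥) :
    ∀ t ∈ T, t * t = 1 → (∀ s ∈ T, s * t = t * s) → t = 1 ∨ t = z := by
  set B := bau (S : Subgroup G) with hB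
  intro t ht ht2 htc
  by_contra hcon
  push Not at hcon
  have hb : bau T = B := SamePt.bau_eq S hT.2.1 hBT
  have hz2 : z ^ 2 = 1 := hz.sq
  have hcz : centralizer ({z} : Set G) = normalizer (zpowers z : Set G) :=
    (Basic.normalizer_zpowers_eq hz2).symm
  have hlocal : IsTwoLocal (centralizer ({z} : Set G)) := by
    refine ⟨zpowers z, Basic.isPGroup_zpowers hz2, ?_, hcz⟩
    rw [Ne, zpowers_eq_bot]
    exact hz.2.2
  have hloc : LemX.Loc (centralizer ({z} : Set G)) T := SamePt.loc hG hL hlocal hT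
  have htT : t ∈ zc T := mem_zc.mpr ⟨ht, htc, by rw [pow_two]; exact ht2⟩
  have hzT : z ∈ zc T := by
    refine mem_zc.mpr ⟨hBT (zc_le B hz.2.1), fun s hs => ?_, hz2⟩
    exact mem_centralizer_singleton_iff.mp (hT.1 hs)
  -- `u ∈ rl B L`, `u ∈ zc T`, `u ≠ 1`
  have htB : t ∈ zc B := by
    refine mem_zc.mpr ⟨?_, fun b hb' => htc b (hBT hb'), by rw [pow_two]; exact ht2⟩
    rw [← hb, ChoiceBase.mem_bau]
    exact ⟨ht, fun y hy => htc y (jj_le T (zj_le_jj T hy))⟩
  obtain ⟨u, huT, hur, hu1⟩ : ∃ u, u ∈ zc T ∧ u ∈ rl B L ∧ u ≠ 1 := by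
    rcases mem_zc_cases h hz htB with h1 | h1
    · exact ⟨t, htT, h1, hcon.1⟩
    · refine ⟨z * t, mul_mem hzT htT, h1, fun h2 => hcon.2 ?_⟩
      rw [mul_eq_one_iff_inv_eq] at h2
      rw [← h2]
      exact inv_eq_of_mul_eq_one_left hz.mul_self
  have hV2 : IsPGroup 2 (vl B L) := h.two.to_le (vl_le_B h)
  have hV1 : vl B L ≠ ⊥ := by
    intro h0
    have := h.card_vl
    rw [h0, card_bot] at this
    omega
  apply hV1
  refine hcore (vl B L) hV2 le_rfl ?_
  by_contra hX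
  have hs1 : centralizer ({z} : Set G) ⊓ centralizer (zc T : Set G) ≤
      normalizer (vl B L : Set G) := by
    rintro g ⟨hg1, hg2⟩
    refine inf_centralizer_le hG hL S h hz hur hu1 ⟨hg1, ?_⟩
    refine mem_centralizer_singleton_iff.mpr ?_
    exact (mem_centralizer_iff.mp hg2 u huT).symm
  have hs2 : centralizer ({z} : Set G) ⊓ normalizer (bau T : Set G) ≤
      normalizer (vl B L : Set G) := by
    rintro g ⟨hg1, hg2⟩
    rw [hb] at hg2
    refine SamePt.mem_normalizer_vl hG hL S hc h hz hg2 ?_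
    rw [mem_centralizer_singleton_iff.mp hg1]
    group
  obtain ⟨L', k', hk', -, hL'X, hL'⟩ := DBlkExist.exists_dblk hloc.solv hloc.char2 hloc.two
    hloc.TX hloc.syl hs1 hs2 hX
  rw [hb] at hk'
  obtain ⟨U, hU, hU1, hLU, hLU'⟩ := hcom L L' k k' h hk'
  obtain ⟨T', hT', hBT'⟩ := ChoiceSit.exists_syl h.two (h.le.trans hLU)
  have hb' : bau T' = B := SamePt.bau_eq S hT'.2.1 hBT'
  have hloc' : LemX.Loc (normalizer (U : Set G)) T' := SamePt.loc_normalizer hG hL hU hU1 hT'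
  have h1 : IsDBlk (bau T') L k := by rw [hb']; exact h
  have h2 : IsDBlk (bau T') L' k' := by rw [hb']; exact hk'
  obtain ⟨n, V, hV⟩ := LemX.exists_gff hloc' ⟨L, hLU, k, h1⟩
  obtain ⟨i, hi, -⟩ := LemX.exists_plane hV hLU h1 (LemX.vl_le_mod hLU h1)
  apply hL'
  rw [hb'] at hi
  rw [hi]
  exact LemX.nV hV hLU' h2 i

end soc

/-- The case (E1'). -/
theorem exists_geo (hG : IsCharacteristicTwoType G)
    (hL : ∀ N : Subgroup G, IsTwoLocal N → Group.IsSolvable N) (S : Sylow 2 G)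
    (hc : SamePt.AllComm (bau (S : Subgroup G))) {L : Subgroup G} {k : ℕ} {z : G}
    (h : IsDBlk (bau (S : Subgroup G)) L k) (hz : IsPt (bau (S : Subgroup G)) L z)
    (hcore : ∀ U : Subgroup G, IsPGroup 2 U →
      normalizer (vl (bau (S : Subgroup G)) L : Set G) ≤ normalizer (U : Set G) →
      centralizer ({z} : Set G) ≤ normalizer (U : Set G) → U = ⊥)
    (soc : ∀ T : Subgroup G, ChoiceSit.Syl T (centralizer ({z} : Set G)) →
      bau (S : Subgroup G) ≤ T → ∀ t ∈ T, t * t = 1 → (∀ s ∈ T, s * t = t * s) → t = 1 ∨ t = z) :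
    ∃ T : Subgroup G, Geo.Geo T (vl (bau (S : Subgroup G)) L) z ∧
      ¬ jj T ≤ centralizer (vl (bau (S : Subgroup G)) L : Set G) := by
  set B := bau (S : Subgroup G) with hB
  have hBz : B ≤ centralizer ({z} : Set G) := fun b hb => by
    rw [mem_centralizer_singleton_iff]
    exact hz.comm hb
  obtain ⟨T, hT, hBT⟩ := ChoiceSit.exists_syl h.two hBz
  have hT' := SamePt.syl_normalizer_vl hG hL S hc h hz hT hBT
  refine ⟨T, {
    charTwo := hG
    solv := hL
    two := hT.2.1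
    T_le := hT.1
    T_syl := ChoiceSit.syl_not_dvd hT
    V_le := (vl_le_B h).trans hBT
    T_norm := hT'.1
    T_syl' := ChoiceSit.syl_not_dvd hT'
    card_V := h.card_vl
    sq := fun v hv => by rw [← pow_two]; exact vl_sq h v hv
    z_mem := hz.1
    z_ne := hz.2.2
    trans := fun v hv hv1 => by
      obtain ⟨g, hg, hgz⟩ := exists_conj_pt h hz hv hv1
      exact ⟨g, le_normalizer_vl B L hg, hgz⟩
    soc := soc T hT hBT
    core := hcore }, fun hJ => h.not_jj_le fun j hj => ?_⟩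
  refine mem_o2_of_cent h (jj_le B hj) (hJ ?_)
  rw [SamePt.jj_eq S hT.2.1 hBT, ← jj_bau]
  exact hj

/-- The case (Empty). -/
theorem isEmpty_of_no_block (hG : IsCharacteristicTwoType G)
    (hL : ∀ N : Subgroup G, IsTwoLocal N → Group.IsSolvable N) (S : Sylow 2 G)
    (h : ∀ (L : Subgroup G) (k : ℕ), ¬ IsDBlk (bau (S : Subgroup G)) L k) :
    EmptyTI.IsEmpty (S : Subgroup G) := by
  intro X T hX hBX hT hBT x hx v hv j hj
  have hl := SamePt.loc hG hL hX hT
  have hb := SamePt.bau_eq S hT.2.1 hBT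
  have h1 : LemX.blocks X T = ∅ := by
    rw [Set.eq_empty_iff_forall_notMem]
    rintro L ⟨-, k, hk⟩
    rw [hb] at hk
    exact h L k hk
  have h2 := LemXGen.jj_le_of_blocks_eq_empty hl h1
  rw [SamePt.jj_eq S hT.2.1 hBT] at h2
  have h3 : x * v * x⁻¹ ∈ zl T X :=
    Four.conj_mem (ZN.le_normalizer_zl T X hx) (ChoiceSit.zc_le_zl T X hv)
  exact (mem_centralizer_iff.mp (h2 hj) _ h3).symm

/-- The reduction, from the lemma on common 2-local subgroups. -/
theorem main_of_common (hG : Amb G) (S : Sylow 2 G) (hcom : Common S) :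
    (∃ M : Subgroup G, IsMaximalTwoLocal M ∧
      ∀ N : Subgroup G, IsTwoLocal N → (S : Subgroup G) ≤ N → N ≤ M) ∨
    (∃ (T V : Subgroup G) (z : G), Geo.Geo T V z ∧ ¬ jj T ≤ centralizer (V : Set G)) ∨
    (∃ (n : ℕ) (V : Fin n → Subgroup G) (x : Fin n → G) (U : Subgroup G) (z : G),
      Omega S V x U z) ∨
    ∀ (L : Subgroup G) (k : ℕ), ¬ IsDBlk (bau (S : Subgroup G)) L k := by
  have hc := allComm hG S
  by_cases hne : ∃ (L : Subgroup G) (k : ℕ), IsDBlk (bau (S : Subgroup G)) L k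
  · by_cases hloc : ∀ (L : Subgroup G) (k : ℕ), IsDBlk (bau (S : Subgroup G)) L k →
      ∀ z : G, IsPt (bau (S : Subgroup G)) L z → ∃ U : Subgroup G, IsPGroup 2 U ∧ U ≠ ⊥ ∧
        normalizer (vl (bau (S : Subgroup G)) L : Set G) ≤ normalizer (U : Set G) ∧
        centralizer ({z} : Set G) ≤ normalizer (U : Set G)
    · rcases CaseDiv.result ⟨hG.char2, hG.solv, hc, hloc⟩ hne with h1 | h1
      · exact Or.inl h1
      · exact Or.inr (Or.inr (Or.inl h1))
    · push Not at hloc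
      obtain ⟨L, k, h, z, hz, hU⟩ := hloc
      have hcore : ∀ U : Subgroup G, IsPGroup 2 U →
          normalizer (vl (bau (S : Subgroup G)) L : Set G) ≤ normalizer (U : Set G) →
          centralizer ({z} : Set G) ≤ normalizer (U : Set G) → U = ⊥ := by
        intro U h1 h2 h3
        by_contra h4
        exact hU U h1 h4 h2 h3
      obtain ⟨T, hT⟩ := exists_geo hG.char2 hG.solv S hc h hz hcore fun T hT hBT =>
        soc_of_common hG.char2 hG.solv S hc hcom h hz hT hBT hcore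
      exact Or.inr (Or.inl ⟨T, _, z, hT⟩)
  · push Not at hne
    exact Or.inr (Or.inr (Or.inr hne))

/-- Lemma P. -/
theorem common (hG : Amb G) (S : Sylow 2 G) : Common S := by
  intro L L' k k' h h'
  exact LemPEnd.exists_common ⟨hG.char2, hG.solv, allComm hG S⟩ h h'

/-- **The reduction of (C2)** (helper60, row 2279). -/
theorem main (hG : Amb G) (S : Sylow 2 G) :
    (∃ M : Subgroup G, IsMaximalTwoLocal M ∧
      ∀ N : Subgroup G, IsTwoLocal N → (S : Subgroup G) ≤ N → N ≤ M) ∨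
    (∃ (T V : Subgroup G) (z : G), Geo.Geo T V z ∧ ¬ jj T ≤ centralizer (V : Set G)) ∨
    (∃ (n : ℕ) (V : Fin n → Subgroup G) (x : Fin n → G) (U : Subgroup G) (z : G),
      Omega S V x U z) ∨
    EmptyTI.IsEmpty (S : Subgroup G) := by
  rcases main_of_common hG S (common hG S) with h | h | h | h
  · exact Or.inl h
  · exact Or.inr (Or.inl h)
  · exact Or.inr (Or.inr (Or.inl h))
  · exact Or.inr (Or.inr (Or.inr (isEmpty_of_no_block hG.char2 hG.solv S h)))

end Cfsg.Agent.MinSimple.Reduce
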