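import Cfsg.Agent.MinSimple.CaseOneEnd
import Cfsg.Agent.MinSimple.Reduce
import Cfsg.Agent.MinSimple.BTwoFinal
import Cfsg.Agent.Classification.TitsFin.Final
import Cfsg.Agent.Classification.MinSimpleMain

/-!
# Core theorem T: assembly

`Core G`: `G` is a nonabelian simple group of characteristic 2 type and of 2-rank at least 3, all
2-local subgroups of `G` are solvable and `G` has no strongly embedded subgroup.

Proved: case C1 (a 2-local subgroup contains all 2-local subgroups over the Sylow 2-subgroup `S`)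
does not occur (`Core.notUnique`), the reduction of C2 to the three cases (E1'), (Omega), (Empty)
(`Core.reduce`), (E1) with `⟨V^C⟩` nonabelian does not occur (`Core.not_bTwo`), and the end of the
Tits case (`TitsFin.Final`).  The deep results on the three cases are explicit hypotheses:

* `OddFFStmt G`: (E1) with `⟨V^C⟩` abelian and `[V, J(T)] ≠ 1` is the final configuration `FinHyp` of
  the Tits group;
* `OmegaStmt G`: (Omega) is impossible;
* `EmptyStmt G`: (Empty) leads to (E1) with `T = S`;
* `OddEmptyStmt G`: (Empty) and (E1) with `T = S`, `⟨V^C⟩` abelian, is the final configuration.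

`exists_finHyp`, `card_eq` (theorem T2, used in S0487), `exists_stronglyEmbedded` (theorem T1, used
in S0488), `exists_elementary` (used in S0517).
-/

set_option autoImplicit false

namespace Cfsg.Agent.MinSimple.CoreMain

open Subgroup Cfsg Cfsg.Agent.ZN Cfsg.Agent.MinSimple
open Cfsg.Agent.MinSimple.Geo (ws)

universe u

variable {G : Type u} [Group G]

/-- The hypotheses of core theorem T. -/
structure Core (G : Type u) [Group G] : Prop where
  finite : Finite G
  nonab : ∃ a b : G, a * b ≠ b * a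
  /-- `G` is simple -/
  simple : ∀ N : Subgroup G, N.Normal → N = ⊥ ∨ N = ⊤
  charTwo : IsCharacteristicTwoType G
  solv : ∀ N : Subgroup G, IsTwoLocal N → Group.IsSolvable N
  rank : ¬ PRankLE 2 2 G
  noSE : ∀ K : Subgroup G, ¬ IsStronglyEmbedded K

/-- C2: no 2-local subgroup contains all 2-local subgroups over `S`. -/
def NotUnique (S : Subgroup G) : Prop :=
  ∀ M : Subgroup G, IsTwoLocal M → S ≤ M → ∃ X : Subgroup G, IsTwoLocal X ∧ S ≤ X ∧ ¬ X ≤ M

/-! ### The deep results -/

/-- (E1)(a), proved below in `Core.not_bTwo`. -/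
def BTwoStmt (G : Type u) [Group G] : Prop :=
  Core G → ∀ (T V : Subgroup G) (z : G), ¬ BTwoA.BTwo T V z

/-- (E1)(b) with `[V, J(T)] ≠ 1`. -/
def OddFFStmt (G : Type u) [Group G] : Prop :=
  Core G → ∀ (T V : Subgroup G) (z : G), Geo.Geo T V z → ¬ jj T ≤ centralizer (V : Set G) →
    (∀ a ∈ ws V z, ∀ b ∈ ws V z, a * b = b * a) →
    ∃ z p : G, Classification.TitsFin.FinHyp z p

/-- (Omega) -/
def OmegaStmt (G : Type u) [Group G] : Prop :=
  Core G → ∀ (S : Sylow 2 G) (n : ℕ) (V : Fin n → Subgroup G) (x : Fin n → G) (U : Subgroup G)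
    (z : G), ¬ Omega S V x U z

/-- (Empty) -/
def EmptyStmt (G : Type u) [Group G] : Prop :=
  Core G → ∀ S : Sylow 2 G, NotUnique (S : Subgroup G) → EmptyTI.IsEmpty (S : Subgroup G) →
    ∃ (V : Subgroup G) (z : G), Geo.Geo (S : Subgroup G) V z

/-- (Empty) with (E1)(b) -/
def OddEmptyStmt (G : Type u) [Group G] : Prop :=
  Core G → ∀ S : Sylow 2 G, NotUnique (S : Subgroup G) → EmptyTI.IsEmpty (S : Subgroup G) →
    ∀ (V : Subgroup G) (z : G), Geo.Geo (S : Subgroup G) V z →
    (∀ a ∈ ws V z, ∀ b ∈ ws V z, a * b = b * a) →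
    ∃ z p : G, Classification.TitsFin.FinHyp z p

/-! ### Assembly -/

theorem Core.index_ne_two (h : Core G) (N : Subgroup G) (hN : N.Normal) : N.index ≠ 2 := by
  intro hi
  obtain ⟨a, b, hab⟩ := h.nonab
  rcases h.simple N hN with rfl | rfl
  · rw [Subgroup.index_bot] at hi
    have : IsCyclic G := isCyclic_of_prime_card (p := 2) (hp := ⟨Nat.prime_two⟩) hi
    exact hab ((IsCyclic.isMulCommutative (α := G)).is_comm.comm a b)
  · rw [Subgroup.index_top] at hi
    omega

theorem Core.isSimpleGroup (h : Core G) : IsSimpleGroup G where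
  exists_pair_ne := by
    obtain ⟨a, b, hab⟩ := h.nonab
    exact ⟨a, b, fun e => hab (by rw [e])⟩
  eq_bot_or_eq_top_of_normal := h.simple

theorem Core.amb (h : Core G) : Amb G := ⟨h.charTwo, h.solv, h.index_ne_two, h.rank⟩

theorem Core.not_isPGroup (h : Core G) : ¬ IsPGroup 2 G := by
  intro hp
  obtain ⟨a, b, hab⟩ := h.nonab
  have := h.finite
  have hfact : Fact (Nat.Prime 2) := ⟨Nat.prime_two⟩
  have hn : Nontrivial G := ⟨a, b, fun e => hab (by rw [e])⟩
  have h1 := hp.center_nontrivial
  rcases h.simple (center G) inferInstance with h2 | h2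
  · rw [h2] at h1
    exact not_nontrivial _ h1
  · have : b ∈ center G := by rw [h2]; trivial
    exact hab (mem_center_iff.mp this a)

theorem Core.pCore_eq_bot (h : Core G) : pCore 2 G = ⊥ := by
  have := h.finite
  have hfact : Fact (Nat.Prime 2) := ⟨Nat.prime_two⟩
  rcases h.simple _ (Lib.Cores.pCore_normal (G := G) 2) with h1 | h1
  · exact h1
  · exact absurd ((Lib.Cores.pCore_isPGroup (G := G) 2).of_equiv
      ((MulEquiv.subgroupCongr h1).trans Subgroup.topEquiv)) h.not_isPGroup

/-- **C1** does not occur. -/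
theorem Core.notUnique (h : Core G) (S : Sylow 2 G) : NotUnique (S : Subgroup G) := by
  intro M hM hSM
  by_contra hcon
  push Not at hcon
  have := h.finite
  exact h.rank (CaseOneEnd.result h.charTwo h.solv h.pCore_eq_bot h.index_ne_two h.noSE S hM hSM
    hcon)

theorem Core.sylow_ne_bot (h : Core G) (S : Sylow 2 G) : (S : Subgroup G) ≠ ⊥ := by
  intro h0
  have := h.finite
  have hf : Fact (Nat.Prime 2) := ⟨Nat.prime_two⟩
  have h1 := S.not_dvd_index
  rw [h0, index_bot] at h1
  exact h1 h.charTwo.1.two_dvd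

/-- **The reduction of C2.** -/
theorem Core.reduce (h : Core G) (S : Sylow 2 G) :
    (∃ (T V : Subgroup G) (z : G), Geo.Geo T V z ∧ ¬ jj T ≤ centralizer (V : Set G)) ∨
    (∃ (n : ℕ) (V : Fin n → Subgroup G) (x : Fin n → G) (U : Subgroup G) (z : G),
      Omega S V x U z) ∨ EmptyTI.IsEmpty (S : Subgroup G) := by
  have := h.finite
  rcases Reduce.main h.amb S with ⟨M, hM, hall⟩ | h1
  · exfalso
    have hloc : IsTwoLocal (normalizer ((S : Subgroup G) : Set G)) :=
      ⟨S, S.isPGroup', h.sylow_ne_bot S, rfl⟩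
    obtain ⟨X, hX, hSX, hXM⟩ := h.notUnique S M hM.1 (le_normalizer.trans (hall _ hloc le_normalizer))
    exact hXM (hall X hX hSX)
  · exact h1

/-- **(E1)(a)** does not occur. -/
theorem Core.not_bTwo (h : Core G) {T V : Subgroup G} {z : G} : ¬ BTwoA.BTwo T V z := by
  intro hb
  have := h.finite
  rcases BTwoFinal.main hb with h1 | ⟨M, hM, hi⟩
  · exact h.rank h1
  · exact h.index_ne_two M hM hi

/-- **Core theorem T**: the final configuration. -/
theorem exists_finHyp (h : Core G) (hO : OddFFStmt G) (hΩ : OmegaStmt G)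
    (hE : EmptyStmt G) (hOE : OddEmptyStmt G) : ∃ z p : G, Classification.TitsFin.FinHyp z p := by
  have := h.finite
  have hfact : Fact (Nat.Prime 2) := ⟨Nat.prime_two⟩
  obtain ⟨S⟩ : Nonempty (Sylow 2 G) := inferInstance
  rcases h.reduce S with ⟨T, V, z, hg, hff⟩ | ⟨k, V, x, U, z, ho⟩ | he
  · by_cases hab : ∀ a ∈ ws V z, ∀ b ∈ ws V z, a * b = b * a
    · exact hO h T V z hg hff hab
    · push Not at hab
      exact absurd { toGeo := hg, nonab := hab } h.not_bTwo
  · exact absurd ho (hΩ h S k V x U z)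
  · obtain ⟨V, z, hg⟩ := hE h S (h.notUnique S) he
    by_cases hab : ∀ a ∈ ws V z, ∀ b ∈ ws V z, a * b = b * a
    · exact hOE h S (h.notUnique S) he V z hg hab
    · push Not at hab
      exact absurd { toGeo := hg, nonab := hab } h.not_bTwo

/-- **Theorem T2**. -/
theorem card_eq (h : Core G) (hO : OddFFStmt G) (hΩ : OmegaStmt G)
    (hE : EmptyStmt G) (hOE : OddEmptyStmt G) : Nat.card G = 17971200 := by
  have := h.finite
  obtain ⟨z, p, hf⟩ := exists_finHyp h hO hΩ hE hOE
  exact Classification.TitsFin.Final.card_eq hf h.charTwo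

/-- There is an elementary abelian subgroup of order 32 (for S0517). -/
theorem exists_elementary (h : Core G) (hO : OddFFStmt G) (hΩ : OmegaStmt G)
    (hE : EmptyStmt G) (hOE : OddEmptyStmt G) : ∃ V : Subgroup G, Nat.card V = 32 ∧
    (∀ u ∈ V, u * u = 1) ∧ ∀ u ∈ V, ∀ v ∈ V, u * v = v * u := by
  have := h.finite
  obtain ⟨z, p, hf⟩ := exists_finHyp h hO hΩ hE hOE
  exact Classification.TitsFin.Final.exists_elementary hf

theorem core_of_simple [Finite G] [IsSimpleGroup G] (hG : ¬ IsMulCommutative G)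
    (hL : ∀ N : Subgroup G, IsTwoLocal N → Group.IsSolvable N) (hc : IsCharacteristicTwoType G)
    (h3 : ¬ PRankLE 2 2 G) (hse : ∀ H : Subgroup G, ¬ IsStronglyEmbedded H) : Core G where
  finite := inferInstance
  nonab := by
    by_contra hcon
    push Not at hcon
    exact hG ⟨⟨hcon⟩⟩
  simple := fun _ hN => hN.eq_bot_or_eq_top
  charTwo := hc
  solv := hL
  rank := h3
  noSE := hse

theorem core_of_minimal [Finite G] (hG : IsMinimalSimple G) (hc : IsCharacteristicTwoType G)
    (h3 : ¬ PRankLE 2 2 G) (hse : ∀ H : Subgroup G, ¬ IsStronglyEmbedded H) : Core G := by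
  have := hG.1
  refine core_of_simple hG.2.1 (fun N hN => ?_) hc h3 hse
  obtain ⟨T, hT, hT1, rfl⟩ := hN
  exact Classification.MinSimpleMain.isNGroup hG _ ⟨2, T, Nat.prime_two, hT, hT1, rfl⟩

/-- **Theorem T1**. -/
theorem exists_stronglyEmbedded [Finite G] (hG : IsMinimalSimple G)
    (hc : IsCharacteristicTwoType G) (h3 : ¬ PRankLE 2 2 G) (hO : OddFFStmt G)
    (hΩ : OmegaStmt G) (hE : EmptyStmt G) (hOE : OddEmptyStmt G) :
    ∃ H : Subgroup G, IsStronglyEmbedded H := by
  by_contra hcon
  push Not at hcon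
  have h := core_of_minimal hG hc h3 hcon
  obtain ⟨z, p, hf⟩ := exists_finHyp h hO hΩ hE hOE
  exact Classification.TitsFin.Final.not_minimalSimple hf hc hG

end Cfsg.Agent.MinSimple.CoreMain
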