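import Cfsg.Agent.MinSimple.CoreMain
import Cfsg.Agent.MinSimple.Omega.Final

/-!
# `OmegaStmt` of `CoreMain`
-/

set_option autoImplicit false

namespace Cfsg.Agent.MinSimple.CoreOmega

open Cfsg Cfsg.Agent.MinSimple.CoreMain

universe u

/-- (Omega) is impossible in the situation of core theorem T. -/
theorem omegaStmt (G : Type u) [Group G] : OmegaStmt G := by
  intro hG S n V x U z h
  have := hG.finite
  exact Omega.Final.false_of_omega hG.amb h

end Cfsg.Agent.MinSimple.CoreOmega
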