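import Cfsg.Agent.MinSimple.CosetGraph
import Cfsg.Agent.ZN.Map

/-!
# Equivariant families built from `O₂`, `Ω₁Z`, `J`, the Baumann subgroup

Conjugation and equivariance of `o2`, `zc`, `jj`, `zj`, `bau`, `zl` (vocabulary of `Cfsg.Agent.ZN.Defs`), and
the family `Qv G v = O₂(G_v)` of a rank two graph.
-/

set_option autoImplicit false

namespace Cfsg.Agent.MinSimple.CosetFam

open Subgroup MulAction Pointwise Cfsg.Agent.ZN Cfsg.Agent.Lib Cfsg.Agent.Lib.LocalCore
open Cfsg.Agent.MinSimple.CosetGraph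

variable {G V : Type*} [Group G] [MulAction G V]

theorem conj_injective (g : G) : Function.Injective (MulAut.conj g).toMonoidHom :=
  (MulAut.conj g).injective

theorem conj_smul_def (g : G) (X : Subgroup G) : MulAut.conj g • X = X.map (MulAut.conj g).toMonoidHom := rfl

theorem o2_conj (g : G) (L : Subgroup G) : o2 (MulAut.conj g • L) = MulAut.conj g • o2 L :=
  o2_map _ (conj_injective g) L

theorem zc_conj (g : G) (L : Subgroup G) : zc (MulAut.conj g • L) = MulAut.conj g • zc L :=
  zc_map _ (conj_injective g) L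

theorem jj_conj (g : G) (L : Subgroup G) : jj (MulAut.conj g • L) = MulAut.conj g • jj L :=
  jj_map _ (conj_injective g) L

theorem zj_conj (g : G) (L : Subgroup G) : zj (MulAut.conj g • L) = MulAut.conj g • zj L :=
  zj_map _ (conj_injective g) L

theorem bau_conj (g : G) (L : Subgroup G) : bau (MulAut.conj g • L) = MulAut.conj g • bau L :=
  bau_map _ (conj_injective g) L

theorem zl_conj (g : G) (B L : Subgroup G) :
    zl (MulAut.conj g • B) (MulAut.conj g • L) = MulAut.conj g • zl B L :=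
  zl_map _ (conj_injective g) B L

theorem centralizer_conj (g : G) (X : Subgroup G) :
    centralizer ((MulAut.conj g • X : Subgroup G) : Set G) = MulAut.conj g • centralizer (X : Set G) := by
  ext x
  rw [mem_conj_smul, mem_centralizer_iff, mem_centralizer_iff]
  constructor
  · intro h y hy
    have h1 : g * y * g⁻¹ ∈ MulAut.conj g • X := by
      rw [mem_conj_smul]
      simpa [mul_assoc] using hy
    have h2 := congrArg (fun z => g⁻¹ * z * g) (h _ h1)
    simpa [mul_assoc] using h2
  · intro h y hy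
    have h2 := congrArg (fun z => g * z * g⁻¹) (h _ (mem_conj_smul.1 hy))
    simpa [mul_assoc] using h2

theorem normalizer_conj (g : G) (X : Subgroup G) :
    normalizer ((MulAut.conj g • X : Subgroup G) : Set G) = MulAut.conj g • normalizer (X : Set G) := by
  ext x
  rw [mem_conj_smul, mem_normalizer_iff_conj_smul, mem_normalizer_iff_conj_smul, conj_smul_conj_smul,
    show g⁻¹ * x * g = g⁻¹ * (x * g) by group, ← conj_smul_conj_smul g⁻¹ (x * g)]
  constructor
  · intro h
    rw [h, conj_smul_conj_smul, inv_mul_cancel, conj_one_smul]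
  · intro h
    have := congrArg (fun Z => MulAut.conj g • Z) h
    simp only [conj_smul_conj_smul] at this
    rwa [show g * (g⁻¹ * (x * g)) = x * g by group] at this

section Eqv

variable {X Y : V → Subgroup G}

theorem eqv_o2 (hX : Eqv X) : Eqv (fun v => o2 (X v)) := hX.comp o2 o2_conj

theorem eqv_zc (hX : Eqv X) : Eqv (fun v => zc (X v)) := hX.comp zc zc_conj

theorem eqv_jj (hX : Eqv X) : Eqv (fun v => jj (X v)) := hX.comp jj jj_conj

theorem eqv_zj (hX : Eqv X) : Eqv (fun v => zj (X v)) := hX.comp zj zj_conj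

theorem eqv_bau (hX : Eqv X) : Eqv (fun v => bau (X v)) := hX.comp bau bau_conj

theorem eqv_zl (hX : Eqv X) (hY : Eqv Y) : Eqv (fun v => zl (X v) (Y v)) :=
  hX.comp₂ hY zl (fun g K L => zl_conj g K L)

end Eqv

/-! ### `O₂` of a subgroup -/

theorem o2_le_self (L : Subgroup G) : o2 L ≤ L := map_subtype_le _

theorem o2_isPGroup (L : Subgroup G) : IsPGroup 2 ↥(o2 L) := isPGroup_map_pCore 2 L

theorem le_normalizer_o2 (L : Subgroup G) : L ≤ normalizer (o2 L : Set G) := le_normalizer_map_pCore 2 L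

/-- `O₂(L)` is contained in every Sylow `2`-subgroup of `L`. -/
theorem o2_le_of_sylow [Finite G] {S L : Subgroup G} (hS : IsPGroup 2 S)
    (hi : ¬ 2 ∣ S.relIndex L) : o2 L ≤ S := by
  have h2 : IsPGroup 2 ↥(S.subgroupOf L) := hS.comap_of_injective L.subtype L.subtype_injective
  have h3 : ¬ 2 ∣ (S.subgroupOf L).index := hi
  have : Fact (Nat.Prime 2) := ⟨Nat.prime_two⟩
  let T : Sylow 2 L := h2.toSylow h3
  have h4 : pCore 2 L ≤ (T : Subgroup L) := Cores.pCore_le_sylow T
  rw [o2, map_le_iff_le_comap]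
  exact h4

section QFam

variable {Γ : RGraph G V} {v w : V}

/-- `O₂(G_v)`. -/
def Qv (G : Type*) {V : Type*} [Group G] [MulAction G V] (v : V) : Subgroup G := o2 (stabilizer G v)

theorem Qv_eqv : Eqv (Qv G (V := V)) := eqv_o2 Eqv.stabilizer

theorem Qv_le_stab : Qv G v ≤ stabilizer G v := o2_le_self _

theorem Qv_isPGroup : IsPGroup 2 ↥(Qv G v) := o2_isPGroup _

/-- If `G_v ∩ G_w` contains a Sylow `2`-subgroup of `G_v`, then `O₂(G_v)` fixes all neighbours of `v`. -/
theorem Qv_le_ker [Finite G] (h : Γ.A v w) {S : Subgroup G} (hS : IsPGroup 2 S)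
    (hSw : S ≤ stabilizer G w) (hi : ¬ 2 ∣ S.relIndex (stabilizer G v)) :
    Qv G v ≤ Γ.ker v :=
  RGraph.le_ker Qv_eqv h Qv_le_stab ((o2_le_of_sylow hS hi).trans hSw)

end QFam

/-! ### The coset graph -/

section Coset

variable (P : Bool → Subgroup G)

theorem Qv_mk (i : Bool) (g : G) : Qv G (mk P i g) = MulAut.conj g • o2 (P i) := by
  rw [Qv, mk_stab, o2_conj]

/-- In the coset graph of two subgroups with a common Sylow `2`-subgroup `O₂(G_v)` fixes the neighbours. -/
theorem coset_Qv_le_ker [Finite G] {S : Subgroup G} (hS : IsPGroup 2 S) (hSP : ∀ i, S ≤ P i)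
    (hi : ∀ i, ¬ 2 ∣ S.relIndex (P i)) (v : CV P) : Qv G v ≤ (coset P).ker v := by
  refine forall_vertex P (p := fun v => Qv G v ≤ (coset P).ker v) ?_ ?_ v
  · intro g v h
    exact (Qv_eqv.le_iff (coset P).ker_eqv).2 h
  · intro i
    have h1 : (coset P).A (mk P i 1) (mk P (!i) 1) := coset_adj P i 1
    refine Qv_le_ker h1 hS ?_ ?_
    · rw [mk_one_stab]; exact hSP _
    · rw [mk_one_stab]; exact hi i

theorem coset_Qv_le_stab [Finite G] {S : Subgroup G} (hS : IsPGroup 2 S) (hSP : ∀ i, S ≤ P i)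
    (hi : ∀ i, ¬ 2 ∣ S.relIndex (P i)) (v w : CV P) (h : (coset P).A v w) :
    Qv G v ≤ stabilizer G w :=
  (coset_Qv_le_ker P hS hSP hi v).trans (RGraph.ker_le_stab_adj h)

end Coset

end Cfsg.Agent.MinSimple.CosetFam
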