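import Cfsg.Agent.MinSimple.DBlkNot
import Cfsg.Agent.MinSimple.DBlkDefs

/-!
# Core theorem T, part C1: transport of a block of `rd X T` to the ambient group
-/

set_option autoImplicit false

namespace Cfsg.Agent.MinSimple.DBlkOf

open Subgroup Cfsg Cfsg.Agent.ZN
open Cfsg.Agent.PLocal.ThompsonJ
open Cfsg.Agent.PLocal.FFCoprime (omegaJoin omegaJoin_def)
open Cfsg.Agent.MinSimple.DBlkReduce Cfsg.Agent.MinSimple.DBlkNot

universe u

variable {G : Type u} [Group G]

/-- Existence of a block not contained in `M`, given the blocks of `rd X T`. -/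
theorem exists_dblk_of [Finite G] {X T M : Subgroup G} (hs : Group.IsSolvable ↥X)
    (hc : X ⊓ centralizer (o2 X : Set G) ≤ o2 X) (hT : IsPGroup 2 T) (hTX : T ≤ X)
    (hTs : ¬ 2 ∣ T.relIndex X) (hZ : X ⊓ centralizer (zc T : Set G) ≤ M)
    (hB : X ⊓ normalizer (bau T : Set G) ≤ M) (hX : ¬ X ≤ M)
    (H : ∀ (n : ℕ) (W : Subgroup ↥(rd X T)) (V : Fin n → Subgroup ↥(rd X T)),
      Baumann.FF0 (T.subgroupOf (rd X T)) W V → ∀ i, ∃ (t y : ↥(rd X T))
        (L : Subgroup ↥(rd X T)) (k : ℕ), FFX.YData (T.subgroupOf (rd X T)) V i t y ∧ y ∈ L ∧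
        IsDBlk (bau (T.subgroupOf (rd X T))) L k) :
    ∃ (L : Subgroup G) (k : ℕ), IsDBlk (bau T) L k ∧ L ≤ rd X T ∧ ¬ L ≤ M := by
  have hJ := inf_normalizer_jj_le hT hTX hTs hZ hB
  have h00 := exists_ff1_rd hs hc hT hTX hTs hZ hJ hX
  set N := rd X T with hN
  obtain ⟨n, V, h1⟩ := h00
  have hNs : Group.IsSolvable ↥N :=
    Group.isSolvable_of_isSolvable_injective (inclusion_injective (rd_le X T))
  have h0 := FFX.ff0_of_ff1 hNs h1
  have hinj : Function.Injective N.subtype := N.subtype_injective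
  have hTN : T ≤ N := le_rd hTX
  have hTT : (T.subgroupOf N).map N.subtype = T := by
    rw [subgroupOf_map_subtype, inf_eq_left.2 hTN]
  have hNN : (⊤ : Subgroup ↥N).map N.subtype = N := by
    rw [← MonoidHom.range_eq_map, Subgroup.range_subtype]
  choose t y L k hy hyL hL using H n _ V h0
  -- `M ∩ N`
  have hzl : (omegaJoin 2 ↥N).map N.subtype = zl T X := by
    rw [omegaJoin_eq h0.two h0.sylow, ← zl_map N.subtype hinj, hTT, hNN, hN, zl_rd hT hTX hTs]
  have hW : centralizer (omegaJoin 2 ↥N : Set ↥N) ≤ M.subgroupOf N := by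
    have h2 := centralizer_map_inf N.subtype hinj ⊤ (omegaJoin 2 ↥N)
    rw [hNN, hzl, top_inf_eq] at h2
    intro x hx
    rw [mem_subgroupOf]
    refine inf_centralizer_zl_le hZ ((inf_le_inf_right _ (rd_le X T)) ?_)
    rw [← hN, h2]
    exact ⟨x, hx, rfl⟩
  have hJ' : normalizer (jj (T.subgroupOf N) : Set ↥N) ≤ M.subgroupOf N := by
    have h2 := normalizer_map_inf N.subtype hinj ⊤ (jj (T.subgroupOf N))
    rw [hNN, ← jj_map N.subtype hinj, hTT, top_inf_eq] at h2
    intro x hx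
    rw [mem_subgroupOf]
    refine hJ ((inf_le_inf_right _ (rd_le X T)) ?_)
    rw [← hN, h2]
    exact ⟨x, hx, rfl⟩
  have hMne : M.subgroupOf N ≠ ⊤ := fun h => by
    rw [subgroupOf_eq_top] at h
    exact not_rd_le hT hTX hTs hZ hX h
  obtain ⟨i, hi⟩ := exists_not_mem h0 hW hJ' hMne y (fun i => (hy i).mem) (fun i => (hy i).fix)
    (fun i => (hy i).cube) (fun i => (hy i).triv)
  refine ⟨(L i).map N.subtype, k i, ?_, map_subtype_le _, fun hcon => hi ?_⟩
  · have h3 := (hL i).map N.subtype hinj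
    rwa [← bau_map N.subtype hinj, hTT] at h3
  · rw [mem_subgroupOf]
    exact hcon ⟨y i, hyL i, rfl⟩

end Cfsg.Agent.MinSimple.DBlkOf
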