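import Cfsg.Agent.MinSimple.Basic
import Cfsg.Agent.MinSimple.FFGen
import Cfsg.Agent.ZN.FFData
import Cfsg.Agent.ZN.MaxQ
import Cfsg.Agent.ZN.Four
import Cfsg.Agent.ZN.Facts

/-!
# Core theorem T, part C1: reduction to `N_X(T ∩ C_X(W))`

`X` a finite group of characteristic 2, `T` a Sylow 2-subgroup of `X`, `W = ⟨Ω₁(Z(T))^X⟩`, `M ≥ T` a
subgroup containing `C_X(Ω₁(Z(T)))` and `N_X(B(T))` but not `X`.  The subgroup
`rd X T = N_X(T ∩ C(W))` has the same `W`, `O₂(rd X T) = T ∩ C(W)`, is of characteristic 2, and is not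
contained in `M`.
-/

set_option autoImplicit false

namespace Cfsg.Agent.MinSimple.DBlkReduce

open Subgroup Cfsg Cfsg.Agent.ZN
open Cfsg.Agent.PLocal.ThompsonJ
open Cfsg.Agent.PLocal.FFCoprime (omegaJoin omegaJoin_def)

universe u

variable {G : Type u} [Group G]

theorem nc (H : Subgroup G) :
    normalizer (H : Set G) ≤ normalizer (centralizer (H : Set G) : Set G) := by
  have key : ∀ g ∈ normalizer (H : Set G), ∀ x ∈ centralizer (H : Set G),
      g * x * g⁻¹ ∈ centralizer (H : Set G) := by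
    intro g hg x hx
    refine mem_centralizer_iff.2 fun h hh => ?_
    have h1 : g⁻¹ * h * g ∈ H := by
      have := (mem_normalizer_iff.1 (inv_mem hg) h).1 hh
      rwa [inv_inv] at this
    have h2 := mem_centralizer_iff.1 hx _ h1
    calc h * (g * x * g⁻¹) = g * ((g⁻¹ * h * g) * x) * g⁻¹ := by group
      _ = g * (x * (g⁻¹ * h * g)) * g⁻¹ := by rw [h2]
      _ = g * x * g⁻¹ * h := by group
  intro g hg
  refine mem_normalizer_iff.2 fun x => ⟨key g hg x, fun hx => ?_⟩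
  have h1 := key g⁻¹ (inv_mem hg) _ hx
  have h2 : g⁻¹ * (g * x * g⁻¹) * g⁻¹⁻¹ = x := by group
  rwa [h2] at h1

/-- `C_X(W) ≤ C_X(Ω₁(Z(T)))`. -/
theorem inf_centralizer_zl_le {X T M : Subgroup G} (hZ : X ⊓ centralizer (zc T : Set G) ≤ M) :
    X ⊓ centralizer (zl T X : Set G) ≤ M :=
  (inf_le_inf_left _ (centralizer_le zc_le_zl)).trans hZ

theorem not_dvd_of_le {X T N : Subgroup G} (hTs : ¬ 2 ∣ T.relIndex X) (hTN : T ≤ N)
    (hNX : N ≤ X) : ¬ 2 ∣ T.relIndex N :=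
  fun h => hTs (h.trans (Dvd.intro _ (relIndex_mul_relIndex T N X hTN hNX)))

/-- `N_X(J(T)) ≤ M` if `C_X(Ω₁(Z(T))) ≤ M` and `N_X(B(T)) ≤ M`. -/
theorem inf_normalizer_jj_le [Finite G] {X T M : Subgroup G} (hT : IsPGroup 2 T) (hTX : T ≤ X)
    (hTs : ¬ 2 ∣ T.relIndex X) (hZ : X ⊓ centralizer (zc T : Set G) ≤ M)
    (hB : X ⊓ normalizer (bau T : Set G) ≤ M) : X ⊓ normalizer (jj T : Set G) ≤ M := by
  set N := X ⊓ normalizer (jj T : Set G) with hN
  have hTN : T ≤ N := le_inf hTX (le_normalizer_jj T)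
  have hNX : N ≤ X := inf_le_left
  set L := N ⊓ centralizer (zj T : Set G) with hL
  have hNL : N ≤ normalizer (L : Set G) := by
    refine le_trans (le_inf le_normalizer ?_) inf_normalizer_le_normalizer_inf
    exact (inf_le_right.trans (normalizer_jj_le_normalizer_zj T)).trans
      (nc _)
  have hTL : T ⊓ L = bau T := by
    rw [hL, bau, ← inf_assoc, inf_eq_left.2 hTN]
  have h1 := Basic.frattini hTN hT (not_dvd_of_le hTs hTN hNX) hNL
  rw [hTL] at h1
  refine h1.trans (sup_le ?_ ?_)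
  · exact (inf_le_inf hNX (centralizer_le (zc_le_zj T))).trans hZ
  · exact (inf_le_inf_right _ hNX).trans hB

/-- `N_X(T ∩ C_X(W))`, `W = ⟨Ω₁(Z(T))^X⟩`. -/
def rd (X T : Subgroup G) : Subgroup G :=
  X ⊓ normalizer ((T ⊓ centralizer (zl T X : Set G) : Subgroup G) : Set G)

theorem rd_le (X T : Subgroup G) : rd X T ≤ X := inf_le_left

theorem le_rd {X T : Subgroup G} (hTX : T ≤ X) : T ≤ rd X T := by
  refine le_inf hTX (le_trans (le_inf le_normalizer ?_) inf_normalizer_le_normalizer_inf)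
  exact hTX.trans ((le_normalizer_zl T X).trans
    (nc _))

theorem le_sup_rd [Finite G] {X T : Subgroup G} (hT : IsPGroup 2 T) (hTX : T ≤ X)
    (hTs : ¬ 2 ∣ T.relIndex X) : X ≤ (X ⊓ centralizer (zl T X : Set G)) ⊔ rd X T := by
  have h0 : X ≤ normalizer ((X ⊓ centralizer (zl T X : Set G) : Subgroup G) : Set G) := by
    refine le_trans (le_inf le_normalizer ?_) inf_normalizer_le_normalizer_inf
    exact (le_normalizer_zl T X).trans (nc _)
  have h1 := Basic.frattini hTX hT hTs h0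
  rwa [← inf_assoc, inf_eq_left.2 hTX] at h1

theorem zl_rd [Finite G] {X T : Subgroup G} (hT : IsPGroup 2 T) (hTX : T ≤ X)
    (hTs : ¬ 2 ∣ T.relIndex X) : zl T (rd X T) = zl T X := by
  have h1 : zl T (rd X T) ≤ zl T X :=
    zl_le zc_le_zl ((rd_le X T).trans (le_normalizer_zl T X))
  refine le_antisymm h1 (zl_le zc_le_zl ?_)
  refine (le_sup_rd hT hTX hTs).trans (sup_le ?_ (le_normalizer_zl T _))
  refine inf_le_right.trans ((centralizer_le h1).trans ?_)
  exact centralizer_le_normalizer _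

theorem not_dvd_rd {X T : Subgroup G} (hTX : T ≤ X)
    (hTs : ¬ 2 ∣ T.relIndex X) : ¬ 2 ∣ T.relIndex (rd X T) :=
  not_dvd_of_le hTs (le_rd hTX) (rd_le X T)

theorem o2_le_centralizer_zl [Finite G] {X T : Subgroup G} (hT : IsPGroup 2 T) (hTX : T ≤ X)
    (hTs : ¬ 2 ∣ T.relIndex X) : o2 X ≤ centralizer (zl T X : Set G) := by
  refine Basic.le_centralizer_zl hTX hT hTs (le_normalizer_o2 X) ?_
  exact (le_inf (ZN.o2_le_of_sylow hTX hT hTs) le_rfl).trans le_sup_right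

theorem o2_rd [Finite G] {X T : Subgroup G} (hT : IsPGroup 2 T) (hTX : T ≤ X)
    (hTs : ¬ 2 ∣ T.relIndex X) : o2 (rd X T) = T ⊓ centralizer (zl T X : Set G) := by
  apply le_antisymm
  · refine le_inf (ZN.o2_le_of_sylow (le_rd hTX) hT (not_dvd_rd hTX hTs)) ?_
    have := o2_le_centralizer_zl hT (le_rd hTX) (not_dvd_rd hTX hTs)
    rwa [zl_rd hT hTX hTs] at this
  · exact le_o2 (inf_le_left.trans (le_rd hTX)) (hT.to_le inf_le_left) inf_le_right

theorem char2_rd [Finite G] {X T : Subgroup G} (hT : IsPGroup 2 T) (hTX : T ≤ X)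
    (hTs : ¬ 2 ∣ T.relIndex X) (hX : X ⊓ centralizer (o2 X : Set G) ≤ o2 X) :
    rd X T ⊓ centralizer (o2 (rd X T) : Set G) ≤ o2 (rd X T) :=
  Basic.char2_of_le hX ((ZN.o2_le_of_sylow hTX hT hTs).trans (le_rd hTX)) (rd_le X T)

theorem not_rd_le [Finite G] {X T M : Subgroup G} (hT : IsPGroup 2 T) (hTX : T ≤ X)
    (hTs : ¬ 2 ∣ T.relIndex X) (hZ : X ⊓ centralizer (zc T : Set G) ≤ M) (hX : ¬ X ≤ M) :
    ¬ rd X T ≤ M := fun h =>
  hX ((le_sup_rd hT hTX hTs).trans (sup_le (inf_centralizer_zl_le hZ) h))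

/-- `J(T)` does not centralize `W`. -/
theorem not_jj_le [Finite G] {X T M : Subgroup G} (hT : IsPGroup 2 T) (hTX : T ≤ X)
    (hTs : ¬ 2 ∣ T.relIndex X) (hZ : X ⊓ centralizer (zc T : Set G) ≤ M)
    (hJ : X ⊓ normalizer (jj T : Set G) ≤ M) (hX : ¬ X ≤ M) :
    ¬ jj T ≤ centralizer (zl T X : Set G) := fun h => by
  apply hX
  rw [Basic.frattini_zl hTX hT hTs h]
  exact sup_le (inf_centralizer_zl_le hZ) hJ

end Cfsg.Agent.MinSimple.DBlkReduce
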