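import Cfsg.Agent.MinSimple.OddY
import Cfsg.Agent.MinSimple.EmptyE.Glue
import Cfsg.Agent.Lib.NormalAbelian
import Cfsg.Agent.PLocal.ElemAbSup

/-!
# (E1)(b): the maximal 2-local subgroup over `C_G(z)`

`Mp z M`: `M` is the unique maximal 2-local subgroup over `C_G(z)` and either `M = C_G(z)` or `M` normalizes a
four-group `A ∋ z`.

* `x4` (Lemma X4 of helper12): `v ∈ M`, `q` collinear with `z`, `v ∈ C(q)` imply `v ∈ C(z)`;
* `max2` : the same for all points, in the form in which it replaces the maximality of `C_G(w)`;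
* `not_swap` : an element of `M_w` does not map `w` to `w p`, `p` collinear with `w`.
-/

set_option autoImplicit false
set_option linter.unusedSectionVars false

namespace Cfsg.Agent.MinSimple.OddMp

open Subgroup Cfsg Cfsg.Agent.ZN Cfsg.Agent.MinSimple.Geo Cfsg.Agent.MinSimple.BTwoA
  Cfsg.Agent.MinSimple.OddLine Cfsg.Agent.MinSimple.OddBase
open Cfsg.Agent.ZN.Block (conj_mem_of_normalizer conj_mem_of_normalizer')

universe u

variable {G : Type u} [Group G] {T V M : Subgroup G} {z : G}

/-- `M` is the unique maximal 2-local subgroup over `C_G(z)`, `M = C_G(z)` or `M` normalizes a four-group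
`A ∋ z`. -/
structure Mp (z : G) (M : Subgroup G) : Prop where
  le : centralizer ({z} : Set G) ≤ M
  loc : IsTwoLocal M
  max : ∀ R : Subgroup G, IsPGroup 2 R → R ≠ ⊥ → centralizer ({z} : Set G) ≤ normalizer (R : Set G) →
    normalizer (R : Set G) ≤ M
  card : M ≤ centralizer ({z} : Set G) ∨
    ∃ A : Subgroup G, Nat.card A = 4 ∧ z ∈ A ∧ M ≤ normalizer (A : Set G)

/-- what replaces the maximality of the centralizers of the points -/
def Max2 (V : Subgroup G) (z : G) : Prop :=
  ∀ (w q v : G) (R : Subgroup G), Pt z w → Col V w q → IsPGroup 2 R → R ≠ ⊥ →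
    centralizer ({w} : Set G) ≤ normalizer (R : Set G) → v ∈ normalizer (R : Set G) →
    v ∈ centralizer ({q} : Set G) → v ∈ centralizer ({w} : Set G)

theorem isTwoLocal_cj' {M : Subgroup G} (g : G) (h : IsTwoLocal M) : IsTwoLocal (cj g M) := by
  obtain ⟨U, hU, hU1, rfl⟩ := h
  refine ⟨cj g U, hU.map _, fun e => hU1 ?_, (cj_normalizer g U).symm ▸ rfl⟩
  have := congrArg (cj g⁻¹) e
  rw [cj_inv_cj] at this
  rw [this]; exact Subgroup.map_bot _

theorem Mp.conj (h : Mp z M) (g : G) : Mp (g * z * g⁻¹) (cj g M) where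
  le := by
    rw [← cj_centralizer_singleton]
    exact cj_mono h.le
  loc := isTwoLocal_cj' g h.loc
  max := by
    intro R hR hR1 hC
    have h1 : IsPGroup 2 (cj g⁻¹ R) := hR.map _
    have h2 : cj g⁻¹ R ≠ ⊥ := fun e => hR1 (by
      have := congrArg (cj g) e
      rw [cj_cj_inv] at this
      rw [this]; exact Subgroup.map_bot _)
    have h3 : centralizer ({z} : Set G) ≤ normalizer ((cj g⁻¹ R : Subgroup G) : Set G) := by
      have := cj_mono (g := g⁻¹) hC
      rw [cj_centralizer_singleton, cj_normalizer] at this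
      have e : g⁻¹ * (g * z * g⁻¹) * g⁻¹⁻¹ = z := by group
      rwa [e] at this
    have h4 := cj_mono (g := g) (h.max _ h1 h2 h3)
    rwa [cj_normalizer, cj_cj_inv] at h4
  card := by
    rcases h.card with h0 | ⟨A, hA, hzA, hMA⟩
    · left
      have := cj_mono (g := g) h0
      rwa [cj_centralizer_singleton] at this
    · right
      refine ⟨cj g A, by rw [card_cj, hA], conj_mem_cj hzA, ?_⟩
      have := cj_mono (g := g) hMA
      rwa [cj_normalizer] at this

variable [Finite G]

/-- `C_G(z)` does not normalize `V`. -/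
theorem not_le (h : Geo T V z) : ¬ centralizer ({z} : Set G) ≤ normalizer (V : Set G) := fun h0 => by
  have h1 := h.core V (h.two.to_le h.V_le) le_rfl h0
  have h2 := h.z_mem
  rw [h1, mem_bot] at h2
  exact h.z_ne h2

/-- a four-group normalized by `C_G(z)` and containing `z` does not contain another point of `V` -/
theorem notMem_of_four (h : Geo T V z) {A : Subgroup G} (hA : Nat.card A = 4) (hzA : z ∈ A)
    (hCA : centralizer ({z} : Set G) ≤ normalizer (A : Set G)) {q : G} (hq : q ∈ V) (hq1 : q ≠ 1)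
    (hqz : q ≠ z) : q ∉ A := by
  intro hqA
  apply not_le h
  have h1 : V ≤ A := by
    intro x hx
    rcases h.four h.z_mem hq h.z_ne hq1 (Ne.symm hqz) hx with e | e | e | e <;> rw [e]
    · exact one_mem _
    · exact hzA
    · exact hqA
    · exact mul_mem hzA hqA
  have hfin : Finite A := inferInstance
  have h2 : V = A := eq_of_le_of_card_ge h1 (by rw [hA, h.card_V])
  rw [h2]
  exact hCA

/-- **Lemma X4** (helper12). -/
theorem x4 (h : Odd T V z) (hM : Mp z M) {q v : G} (hq : q ∈ V) (hq1 : q ≠ 1) (hqz : q ≠ z)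
    (hvM : v ∈ M) (hvq : v * q = q * v) : v * z = z * v := by
  have hf : Fact (Nat.Prime 2) := ⟨Nat.prime_two⟩
  by_contra hvz
  have hMC : ¬ M ≤ centralizer ({z} : Set G) := fun h0 =>
    hvz (mem_centralizer_singleton_iff.1 (h0 hvM))
  obtain ⟨A, hA4, hzA, hMA⟩ := hM.card.resolve_left hMC
  have hCA : centralizer ({z} : Set G) ≤ normalizer (A : Set G) := hM.le.trans hMA
  have hqA : q ∉ A := notMem_of_four h.toGeo hA4 hzA hCA hq hq1 hqz
  -- the second element of `A`
  obtain ⟨z', hz'⟩ : ∃ z', z' = v * z * v⁻¹ := ⟨_, rfl⟩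
  have hz'A : z' ∈ A := hz' ▸ (mem_normalizer_iff.1 (hMA hvM) z).1 hzA
  have hz'1 : z' ≠ 1 := by
    intro e
    apply h.z_ne
    have : z = v⁻¹ * z' * v := by rw [hz']; group
    rw [this, e]; group
  have hz'z : z ≠ z' := by
    intro e
    apply hvz
    rw [hz'] at e
    calc v * z = v * z * v⁻¹ * v := by group
      _ = z * v := by rw [← e]
  have hz'2 : z' * z' = 1 := by
    calc z' * z' = v * (z * z) * v⁻¹ := by rw [hz']; group
      _ = 1 := by rw [h.toGeo.zz]; group
  have hA := fun {x : G} (hx : x ∈ A) =>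
    EmptyE.Glue.four hA4 hzA hz'A h.z_ne hz'1 hz'z hz'2 hx
  have hzz : z * z = 1 := h.toGeo.zz
  have hzz'1 : z * z' ≠ 1 := fun e => hz'z (by
    rw [mul_eq_one_iff_eq_inv.mp e, Geo.inv_eq_self hz'2])
  have hcomm : z' * z = z * z' := by
    rcases hA (mul_mem hz'A hzA) with e | e | e | e
    · exact absurd (by rw [mul_eq_one_iff_eq_inv.mp e, Geo.inv_eq_self hzz]) hz'z
    · exact absurd (by simpa using e) hz'1
    · exact absurd (by simpa using e) h.z_ne
    · exact e
  -- `A ≤ T`
  have hAC : A ≤ centralizer ({z} : Set G) := by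
    intro x hx
    rw [mem_centralizer_singleton_iff]
    rcases hA hx with rfl | rfl | rfl | rfl
    · simp
    · rfl
    · exact hcomm
    · rw [mul_assoc, hcomm]
  have hA2 : IsPGroup 2 A := IsPGroup.of_card (n := 2) (by rw [hA4]; norm_num)
  have hAT : A ≤ T := (le_o2 hAC hA2 hCA).trans h.toGeo.o2_le_T
  -- `C(z)` permutes `z'`, `z z'`
  have hact : ∀ g : G, g * z = z * g → g * z' * g⁻¹ = z' ∨ g * z' * g⁻¹ = z * z' := by
    intro g hg
    have h1 : g * z' * g⁻¹ ∈ A :=
      (mem_normalizer_iff.1 (hCA (mem_centralizer_singleton_iff.2 hg)) z').1 hz'A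
    rcases hA h1 with e | e | e | e
    · exfalso
      apply hz'1
      have : z' = g⁻¹ * (g * z' * g⁻¹) * g := by group
      rw [this, e]; group
    · exfalso
      apply hz'z
      have : z' = g⁻¹ * (g * z' * g⁻¹) * g := by group
      rw [this, e, mul_assoc, ← hg]; group
    · exact Or.inl e
    · exact Or.inr e
  obtain ⟨t, ht, htz'⟩ : ∃ t ∈ T, t * z' * t⁻¹ = z * z' := by
    by_contra hcon
    push Not at hcon
    rcases h.soc z' (hAT hz'A) hz'2 (fun s hs => by
      have h1 := (hact s (mem_centralizer_singleton_iff.1 (h.T_le hs))).resolve_right (hcon s hs)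
      calc s * z' = s * z' * s⁻¹ * s := by group
        _ = z' * s := by rw [h1]) with e | e
    · exact hz'1 e
    · exact hz'z e.symm
  have htz : t * z = z * t := mem_centralizer_singleton_iff.1 (h.T_le ht)
  have hgt : ∀ g : G, g * z = z * g → g * z' * g⁻¹ = z * z' →
      (g * t) * z = z * (g * t) ∧ (g * t) * z' * (g * t)⁻¹ = z' := by
    intro g hg hgz'
    refine ⟨by rw [mul_assoc, htz, ← mul_assoc, hg, mul_assoc], ?_⟩
    calc (g * t) * z' * (g * t)⁻¹ = g * (t * z' * t⁻¹) * g⁻¹ := by group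
      _ = (g * z) * z' * g⁻¹ := by rw [htz']; group
      _ = z * (g * z' * g⁻¹) := by rw [hg]; group
      _ = z' := by rw [hgz', ← mul_assoc, hzz, one_mul]
  -- the lines through `z` are the `C(z) ∩ C(z')`-conjugates of `V`
  have hlines : ∀ L ∈ lines V z, ∃ g : G, g * z = z * g ∧ g * z' * g⁻¹ = z' ∧ L = cj g V := by
    intro L hL
    obtain ⟨c, hc, rfl⟩ := h.toGeo.exists_of_mem_lines hL
    have hcz := mem_centralizer_singleton_iff.1 hc
    rcases hact c hcz with e | e
    · exact ⟨c, hcz, e, rfl⟩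
    · obtain ⟨h1, h2⟩ := hgt c hcz e
      exact ⟨c * t, h1, h2, by rw [← cj_cj, cj_eq_of_mem_normalizer (h.T_norm ht)]⟩
  have hVz : V ≤ ws V z := h.toGeo.V_le_ws
  have hwsv : cj v (ws V z) = ws V z' := by rw [cj_ws, hz']
  obtain ⟨D, hD⟩ : ∃ D : Subgroup G, D = ws V z ⊓ ws V z' := ⟨_, rfl⟩
  have hqD : q ∈ D := by
    rw [hD]
    refine ⟨hVz hq, ?_⟩
    change q ∈ ws V z'
    rw [← hwsv]
    have h1 : v * q * v⁻¹ ∈ cj v (ws V z) := conj_mem_cj (hVz hq)
    rwa [hvq, mul_inv_cancel_right] at h1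
  have hWD : ws V z ≤ D ⊔ zpowers z := by
    refine ws_le fun L hL => ?_
    obtain ⟨g, hgz, hgz', rfl⟩ := hlines L hL
    have hgD : cj g D = D := by
      rw [hD, cj_inf, cj_ws, cj_ws, hgz', hgz, mul_inv_cancel_right]
    have h1 : g * q * g⁻¹ ∈ D := by
      have := conj_mem_cj (g := g) hqD
      rwa [hgD] at this
    have h2 : g * z * g⁻¹ = z := by rw [hgz, mul_inv_cancel_right]
    have h3 : z ∈ D ⊔ zpowers z := mem_sup_right (mem_zpowers z)
    rintro _ ⟨x, hx, rfl⟩
    change g * x * g⁻¹ ∈ _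
    rcases h.toGeo.four h.z_mem hq h.z_ne hq1 (Ne.symm hqz) hx with e | e | e | e <;> rw [e]
    · rw [mul_one, mul_inv_cancel]; exact one_mem _
    · rw [h2]; exact h3
    · exact mem_sup_left h1
    · have e : g * (z * q) * g⁻¹ = (g * z * g⁻¹) * (g * q * g⁻¹) := by group
      rw [e, h2]
      exact mul_mem h3 (mem_sup_left h1)
  by_cases hzD : z ∈ D
  · -- `ws V z = ws V z'`
    have h1 : ws V z ≤ ws V z' := by
      refine hWD.trans (sup_le (hD ▸ inf_le_right) ?_)
      rw [zpowers_le]
      rw [hD] at hzD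
      exact hzD.2
    have h2 : ws V z = ws V z' := eq_of_le_of_card_ge h1 (by rw [← hwsv, card_cj])
    have h3 : z' ∈ ws V z := by
      rw [h2, ← hwsv, hz']
      exact conj_mem_cj (hVz h.z_mem)
    have h4 : z' ∈ ws V q := by
      have h5 : cj v (ws V q) = ws V q := cj_ws_eq hvq
      rw [← h5, hz']
      exact conj_mem_cj (le_ws ⟨⟨1, (cj_one V).symm⟩, hq⟩ h.z_mem)
    have h5 : z' ∈ dd V := by
      rw [← h.inf_eq_dd h.z_mem h.z_ne hq hq1 (Ne.symm hqz)]
      exact ⟨h3, h4⟩
    have h6 : z' ∉ V := fun h0 => notMem_of_four h.toGeo hA4 hzA hCA h0 hz'1 (Ne.symm hz'z) hz'A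
    obtain ⟨k, -, hkV, hk⟩ := h.exists_transvection h5 h6 hq hq1
    have hkA : k ∈ normalizer (A : Set G) := hCA (by
      rw [mem_centralizer_singleton_iff]
      exact (mem_centralizer_iff.1 hkV z h.z_mem).symm)
    have h7 : q * z' ∈ A := hk ▸ (mem_normalizer_iff.1 hkA z').1 hz'A
    apply hqA
    have h8 := mul_mem h7 (inv_mem hz'A)
    rwa [mul_inv_cancel_right] at h8
  · -- `|ws V z : D| = 2`
    have hpt : Pt z z := Pt.refl z
    have hWab : ws V z ≤ centralizer (ws V z : Set G) := ws_le_centralizer_ws h hpt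
    have hDW : D ≤ ws V z := hD ▸ inf_le_left
    have hcz2 : Nat.card (zpowers z) ≤ 2 := by
      rw [Nat.card_zpowers]
      exact orderOf_le_of_pow_eq_one (by norm_num) (by rw [pow_two, hzz])
    have hcD : Nat.card (ws V z) ≤ 2 * Nat.card D := by
      have h1 : zpowers z ≤ centralizer (D : Set G) := by
        rw [zpowers_le]
        exact (centralizer_le hDW) (hWab (hVz h.z_mem))
      have h2 := PLocal.ElemAbSup.card_sup_mul_card_inf h1
      have h3 : Nat.card (ws V z) ≤ Nat.card (D ⊔ zpowers z : Subgroup G) :=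
        Subgroup.card_le_of_le hWD
      have h4 : 0 < Nat.card (D ⊓ zpowers z : Subgroup G) := Nat.card_pos
      calc Nat.card (ws V z) ≤ Nat.card (D ⊔ zpowers z : Subgroup G) := h3
        _ ≤ Nat.card (D ⊔ zpowers z : Subgroup G) * Nat.card (D ⊓ zpowers z : Subgroup G) :=
            Nat.le_mul_of_pos_right _ h4
        _ = Nat.card D * Nat.card (zpowers z) := h2
        _ ≤ 2 * Nat.card D := by rw [mul_comm]; exact Nat.mul_le_mul_right _ hcz2
    -- the conjugate by `t`
    obtain ⟨D', hD'⟩ : ∃ D' : Subgroup G, D' = ws V z ⊓ ws V (z * z') := ⟨_, rfl⟩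
    have htD : cj t D = D' := by
      rw [hD, cj_inf, cj_ws, cj_ws, htz', htz, mul_inv_cancel_right, hD']
    have hD'W : D' ≤ ws V z := hD' ▸ inf_le_left
    have hD'c : Nat.card D' = Nat.card D := by rw [← htD, card_cj]
    obtain ⟨E, hE⟩ : ∃ E : Subgroup G, E = D ⊓ D' := ⟨_, rfl⟩
    have hE4 : Nat.card (ws V z) ≤ 4 * Nat.card E := by
      have h1 : D' ≤ centralizer (D : Set G) := hD'W.trans (hWab.trans (centralizer_le hDW))
      have h2 := PLocal.ElemAbSup.card_sup_mul_card_inf h1
      have h3 : Nat.card (D ⊔ D' : Subgroup G) ≤ Nat.card (ws V z) :=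
        Subgroup.card_le_of_le (sup_le hDW hD'W)
      rw [← hE, hD'c] at h2
      have h4 : 0 < Nat.card (ws V z) := Nat.card_pos
      refine Nat.le_of_mul_le_mul_left (a := Nat.card (ws V z)) ?_ h4
      calc Nat.card (ws V z) * Nat.card (ws V z)
          ≤ (2 * Nat.card D) * (2 * Nat.card D) := Nat.mul_le_mul hcD hcD
        _ = 4 * (Nat.card (D ⊔ D' : Subgroup G) * Nat.card E) := by rw [h2]; ring
        _ ≤ 4 * (Nat.card (ws V z) * Nat.card E) :=
            Nat.mul_le_mul_left _ (Nat.mul_le_mul_right _ h3)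
        _ = Nat.card (ws V z) * (4 * Nat.card E) := by ring
    have hTn : T ≤ normalizer (E : Set G) := by
      intro s hs
      have hsz : s * z = z * s := mem_centralizer_singleton_iff.1 (h.T_le hs)
      have hszz : s * z * s⁻¹ = z := by rw [hsz, mul_inv_cancel_right]
      rw [mem_normalizer_iff_cj, hE, cj_inf]
      rcases hact s hsz with e | e
      · have h1 : cj s D = D := by rw [hD, cj_inf, cj_ws, cj_ws, e, hszz]
        have h2 : cj s D' = D' := by
          rw [hD', cj_inf, cj_ws, cj_ws, hszz]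
          have : s * (z * z') * s⁻¹ = z * z' := by
            calc s * (z * z') * s⁻¹ = (s * z * s⁻¹) * (s * z' * s⁻¹) := by group
              _ = z * z' := by rw [hszz, e]
          rw [this]
        rw [h1, h2]
      · have h1 : cj s D = D' := by rw [hD, cj_inf, cj_ws, cj_ws, e, hszz, hD']
        have h2 : cj s D' = D := by
          rw [hD', cj_inf, cj_ws, cj_ws, hszz]
          have : s * (z * z') * s⁻¹ = z' := by
            calc s * (z * z') * s⁻¹ = (s * z * s⁻¹) * (s * z' * s⁻¹) := by group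
              _ = z' := by rw [hszz, e, ← mul_assoc, hzz, one_mul]
          rw [this, hD]
        rw [h1, h2, inf_comm]
    have hED : E ≤ D := hE ▸ inf_le_left
    have hET : E ≤ T := hED.trans (hDW.trans h.toGeo.ws_le_T)
    have hEbot : E = ⊥ := by
      by_contra hne
      have hnil : Group.IsNilpotent T := h.two.isNilpotent
      have hn : (E.subgroupOf T).Normal := normal_subgroupOf_of_le_normalizer hTn
      have hne' : E.subgroupOf T ≠ ⊥ := by
        intro h0
        apply hne
        rw [eq_bot_iff]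
        intro x hx
        have h1 : (⟨x, hET hx⟩ : T) ∈ E.subgroupOf T := hx
        rw [h0, mem_bot] at h1
        exact mem_bot.2 (congrArg Subtype.val h1)
      obtain ⟨x, hx, hx1⟩ := (E.subgroupOf T ⊓ center T).bot_or_exists_ne_one.resolve_left
        (Lib.NormalAbelian.normal_inf_center_ne_bot _ hne')
      have hxE : (x : G) ∈ E := hx.1
      have hxc : ∀ s ∈ T, s * (x : G) = x * s := fun s hs =>
        congrArg Subtype.val (mem_center_iff.1 hx.2 ⟨s, hs⟩)
      rcases h.soc x x.2 (h.ws_sq (hDW (hED hxE))) hxc with e | e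
      · exact hx1 (Subtype.ext e)
      · exact hzD (e ▸ hED hxE)
    rw [hEbot, card_bot, mul_one] at hE4
    have hVW : V = ws V z := eq_of_le_of_card_ge hVz (by rw [h.card_V]; exact hE4)
    apply not_le h.toGeo
    have h1 := centralizer_le_normalizer_ws V z
    rwa [← hVW] at h1

/-- the maximality of the centralizers of the points is replaced by `Max2` -/
theorem max2 (h : Odd T V z) (hM : Mp z M) : Max2 V z := by
  intro w q v R hw hc hR hR1 hCR hv hvq
  obtain ⟨g, hg, hq, h'⟩ := exists_odd_col h hc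
  have hM' := hM.conj g
  rw [← hg] at hM'
  have hvM : v ∈ cj g M := hM'.max R hR hR1 hCR hv
  rw [mem_centralizer_singleton_iff]
  exact x4 h' hM' hq hc.2.1 (Ne.symm hc.2.2.1) hvM (mem_centralizer_singleton_iff.1 hvq)

/-- no element of `M_w` maps `w` to `w p`, `p` collinear with `w` -/
theorem not_swap (h : Odd T V z) (hM : Mp z M) {w p v : G} {R : Subgroup G} (hc : Col V w p)
    (hR : IsPGroup 2 R) (hR1 : R ≠ ⊥) (hCR : centralizer ({w} : Set G) ≤ normalizer (R : Set G))
    (hv : v ∈ normalizer (R : Set G)) : v * w * v⁻¹ ≠ w * p := by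
  intro hvw
  obtain ⟨g, hg, hp, h'⟩ := exists_odd_col h hc
  have hM' := hM.conj g
  rw [← hg] at hM'
  have hvM : v ∈ cj g M := hM'.max R hR hR1 hCR hv
  have hMC : ¬ cj g M ≤ centralizer ({w} : Set G) := by
    intro h0
    have h1 := mem_centralizer_singleton_iff.1 (h0 hvM)
    rw [h1, mul_inv_cancel_right] at hvw
    exact hc.2.1 (by simpa using hvw.symm)
  obtain ⟨A, hA4, hwA, hMA⟩ := hM'.card.resolve_left hMC
  have h1 : w * p ∈ A := hvw ▸ (mem_normalizer_iff.1 (hMA hvM) w).1 hwA
  have h2 : p ∈ A := by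
    have := mul_mem (inv_mem hwA) h1
    rwa [inv_mul_cancel_left] at this
  exact notMem_of_four h'.toGeo hA4 hwA (hM'.le.trans hMA) hp hc.2.1 (Ne.symm hc.2.2.1) h2

end Cfsg.Agent.MinSimple.OddMp
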