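import Cfsg.Agent.MinSimple.EmptySix
import Cfsg.Agent.MinSimple.DihedOf
import Cfsg.Agent.ZN.Block

/-!
# The case "(Empty)", step 3: small modules

`V` an elementary abelian 2-group, `Γ ≤ Aut V` solvable with `O₂(Γ) = 1`, `E ≤ Γ` an elementary abelian
2-subgroup, `1 ≠ H ≤ C_V(E)` "closed", `|V : H| ≤ 2|E|`.  Then `E = 1` or `|V| ≤ 16` and the action is known.
-/

set_option autoImplicit false

namespace Cfsg.Agent.MinSimple.EmptyMod

open Subgroup Cfsg Cfsg.Agent.ZN Cfsg.Agent.ZN.ChoiceBase Cfsg.Agent.ZN.ChoiceSit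

universe u

/-! ### The rank of subgroups of an elementary abelian 2-group -/

section Rank

variable {V : Type u} [CommGroup V] [Finite V]

/-- the rank of a subgroup -/
noncomputable def rk (W : Subgroup V) : ℕ := Nat.log 2 (Nat.card W)

theorem card_eq (hV : ∀ v : V, v * v = 1) (W : Subgroup V) : Nat.card W = 2 ^ rk W := by
  have hf : Fact (Nat.Prime 2) := ⟨Nat.prime_two⟩
  have h1 : IsPGroup 2 W := fun w => ⟨1, Subtype.ext (by
    rw [pow_one, pow_two]; exact hV w)⟩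
  obtain ⟨n, hn⟩ := IsPGroup.iff_card.1 h1
  rw [rk, hn, Nat.log_pow (by norm_num)]

theorem rk_mono {A B : Subgroup V} (h : A ≤ B) : rk A ≤ rk B :=
  Nat.log_mono_right (Nat.le_of_dvd Nat.card_pos (card_dvd_of_le h))

omit [Finite V] in
@[simp] theorem rk_bot : rk (⊥ : Subgroup V) = 0 := by
  rw [rk, card_bot, Nat.log_one_right]

theorem eq_of_rk (hV : ∀ v : V, v * v = 1) {A B : Subgroup V} (h : A ≤ B) (h' : rk B ≤ rk A) :
    A = B := by
  refine eq_of_le_of_card_ge h ?_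
  rw [card_eq hV, card_eq hV]
  exact Nat.pow_le_pow_right (by norm_num) h'

theorem rk_eq_zero (hV : ∀ v : V, v * v = 1) {W : Subgroup V} (h : rk W = 0) : W = ⊥ :=
  (eq_of_rk hV bot_le (by rw [h]; exact Nat.zero_le _)).symm

theorem rk_pos (hV : ∀ v : V, v * v = 1) {W : Subgroup V} (h : W ≠ ⊥) : 0 < rk W := by
  rcases Nat.eq_zero_or_pos (rk W) with h0 | h0
  · exact absurd (rk_eq_zero hV h0) h
  · exact h0

theorem rk_map (hV : ∀ v : V, v * v = 1) (W : Subgroup V) (f : V →* V) :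
    rk W = rk (W ⊓ f.ker) + rk (W.map f) := by
  have h1 : Nat.card (W ⊓ f.ker : Subgroup V) * Nat.card (W.map f) = Nat.card W := by
    have e1 := card_mul_index (f.comp W.subtype).ker
    rw [index_ker] at e1
    have e2 : (f.comp W.subtype).range = W.map f := by
      rw [MonoidHom.range_comp, range_subtype]
    have e3 : (f.comp W.subtype).ker = f.ker.subgroupOf W := rfl
    have e4 : Nat.card (f.ker.subgroupOf W) = Nat.card (W ⊓ f.ker : Subgroup V) := by
      rw [inf_comm]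
      exact Nat.card_congr (subgroupOfEquivOfLe (inf_le_right : f.ker ⊓ W ≤ W)).toEquiv ▸
        (by rw [inf_subgroupOf_right])
    rw [e2, e3, e4] at e1
    exact e1
  rw [card_eq hV, card_eq hV, card_eq hV, ← pow_add] at h1
  exact (Nat.pow_right_injective (le_refl 2) h1).symm

theorem rk_sup (hV : ∀ v : V, v * v = 1) (A B : Subgroup V) :
    rk (A ⊔ B) + rk (A ⊓ B) = rk A + rk B := by
  have h1 : Nat.card (A ⊔ B : Subgroup V) * Nat.card (A ⊓ B : Subgroup V) = Nat.card A * Nat.card B :=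
    ZN.Block.card_sup_mul_card_inf (fun a _ => by
      rw [mem_normalizer_iff]; intro h; rw [mul_comm a h, mul_inv_cancel_right])
  rw [card_eq hV, card_eq hV, card_eq hV, card_eq hV, ← pow_add, ← pow_add] at h1
  exact Nat.pow_right_injective (le_refl 2) h1

end Rank

/-! ### Fixed points and commutators of automorphisms -/

section Act

variable {V : Type u} [CommGroup V]

/-- `C_V(f)` -/
def fx (f : MulAut V) : Subgroup V where
  carrier := {v | f v = v}
  one_mem' := map_one f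
  mul_mem' := by
    intro a b ha hb
    change f (a * b) = a * b
    rw [map_mul, ha, hb]
  inv_mem' := by
    intro a ha
    change f a⁻¹ = a⁻¹
    rw [map_inv, ha]

theorem mem_fx {f : MulAut V} {v : V} : v ∈ fx f ↔ f v = v := Iff.rfl

/-- `v ↦ v * f v` -/
def cm (f : MulAut V) : V →* V where
  toFun v := v * f v
  map_one' := by rw [map_one, mul_one]
  map_mul' a b := by rw [map_mul]; exact mul_mul_mul_comm _ _ _ _

theorem cm_apply (f : MulAut V) (v : V) : cm f v = v * f v := rfl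

/-- `[V, f]` -/
def br (f : MulAut V) : Subgroup V := (cm f).range

theorem mem_br {f : MulAut V} {v : V} : v ∈ br f ↔ ∃ w, w * f w = v := Iff.rfl

theorem inv_eq (hV : ∀ v : V, v * v = 1) (v : V) : v⁻¹ = v := inv_eq_of_mul_eq_one_left (hV v)

theorem ker_cm (hV : ∀ v : V, v * v = 1) (f : MulAut V) : (cm f).ker = fx f := by
  ext v
  rw [MonoidHom.mem_ker, cm_apply, mem_fx, mul_eq_one_iff_eq_inv, inv_eq hV, eq_comm]

/-- `W` is invariant under `f`. -/
def Inv (f : MulAut V) (W : Subgroup V) : Prop := ∀ w ∈ W, f w ∈ W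

theorem Inv.inf {f : MulAut V} {A B : Subgroup V} (hA : Inv f A) (hB : Inv f B) : Inv f (A ⊓ B) :=
  fun w hw => ⟨hA w hw.1, hB w hw.2⟩

theorem Inv.fx {f g : MulAut V} (h : f * g = g * f) : Inv f (fx g) := fun w hw => by
  rw [mem_fx, ← MulAut.mul_apply, ← h, MulAut.mul_apply, mem_fx.1 hw]

theorem Inv.br {f g : MulAut V} (h : f * g = g * f) : Inv f (br g) := by
  rintro _ ⟨w, rfl⟩
  refine ⟨f w, ?_⟩
  rw [cm_apply, cm_apply, map_mul, ← MulAut.mul_apply, ← h, MulAut.mul_apply]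

/-- If `e` inverts `y` then `C_V(y)` is `e`-invariant. -/
theorem Inv.fx' {e y : MulAut V} (h : e * y * e⁻¹ = y⁻¹) : Inv e (EmptyMod.fx y) := fun w hw => by
  have h1 : y * e = e * y⁻¹ := by
    have : e * y = y⁻¹ * e := by rw [← h]; group
    calc y * e = y * (e * y) * y⁻¹ := by group
      _ = y * (y⁻¹ * e) * y⁻¹ := by rw [this]
      _ = e * y⁻¹ := by group
  have h2 : y⁻¹ w = w := by
    have : y⁻¹ (y w) = w := by rw [← MulAut.mul_apply, inv_mul_cancel, MulAut.one_apply]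
    rwa [mem_fx.1 hw] at this
  rw [mem_fx, ← MulAut.mul_apply, h1, MulAut.mul_apply, h2]

theorem Inv.br' {e y : MulAut V} (h : e * y * e⁻¹ = y⁻¹) : Inv e (EmptyMod.br y) := by
  rintro _ ⟨w, rfl⟩
  refine ⟨y⁻¹ (e w), ?_⟩
  have h1 : e * y = y⁻¹ * e := by rw [← h]; group
  have h2 : y (y⁻¹ (e w)) = e w := by rw [← MulAut.mul_apply, mul_inv_cancel, MulAut.one_apply]
  have h3 : e (y w) = y⁻¹ (e w) := by rw [← MulAut.mul_apply, h1, MulAut.mul_apply]
  rw [cm_apply, cm_apply, map_mul, h2, h3, mul_comm]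

theorem pow_apply_of (f : MulAut V) {v : V} (h : f v = v) (n : ℕ) : (f ^ n) v = v := by
  induction n with
  | zero => rw [pow_zero, MulAut.one_apply]
  | succ n ih => rw [pow_succ, MulAut.mul_apply, h, ih]

/-- `C_V(y) ∩ [V, y] = 1` for `y` of odd order -/
theorem fx_inf_br (hV : ∀ v : V, v * v = 1) {y : MulAut V} (hy : Odd (orderOf y)) :
    fx y ⊓ br y = ⊥ := by
  rw [eq_bot_iff]
  rintro v ⟨hv, w, hw⟩
  rw [mem_bot]
  change y v = v at hv
  rw [cm_apply] at hw
  have h1 : ∀ n : ℕ, (y ^ n) w = w * v ^ n := by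
    intro n
    induction n with
    | zero => rw [pow_zero, pow_zero, MulAut.one_apply, mul_one]
    | succ n ih =>
      have h2 : y w = w * v := by rw [← hw, ← mul_assoc, hV, one_mul]
      rw [pow_succ', MulAut.mul_apply, ih, map_mul, map_pow, hv, h2, pow_succ', mul_assoc]
  have h2 := h1 (orderOf y)
  rw [pow_orderOf_eq_one, MulAut.one_apply] at h2
  have h3 : v ^ orderOf y = 1 := (mul_eq_left.1 h2.symm)
  obtain ⟨k, hk⟩ := hy
  rw [hk, pow_succ, pow_mul, pow_two, hV, one_pow, one_mul] at h3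
  exact h3

variable [Finite V]

theorem rk_fx_add (hV : ∀ v : V, v * v = 1) (W : Subgroup V) (f : MulAut V) :
    rk W = rk (W ⊓ fx f) + rk (W.map (cm f)) := by
  rw [← ker_cm hV]; exact rk_map hV W (cm f)

theorem fx_sup_br (hV : ∀ v : V, v * v = 1) {y : MulAut V} (hy : Odd (orderOf y)) :
    fx y ⊔ br y = ⊤ := by
  refine eq_of_rk hV le_top ?_
  have h1 := rk_sup hV (fx y) (br y)
  have h2 := rk_fx_add hV ⊤ y
  rw [fx_inf_br hV hy, rk_bot] at h1
  rw [top_inf_eq, ← MonoidHom.range_eq_map] at h2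
  change rk ⊤ = rk (fx y) + rk (br y) at h2
  omega

/-- The decomposition `W = C_W(y) × [W, y]`. -/
theorem map_cm (hV : ∀ v : V, v * v = 1) {y : MulAut V} (hy : Odd (orderOf y)) {W : Subgroup V}
    (hW : Inv y W) : W.map (cm y) = W ⊓ br y := by
  have h0 : W.map (cm y) ≤ W ⊓ br y := by
    rintro _ ⟨w, hw, rfl⟩
    exact ⟨mul_mem hw (hW w hw), w, rfl⟩
  refine eq_of_rk hV h0 ?_
  have h1 := rk_fx_add hV W y
  have h2 := rk_sup hV (W ⊓ fx y) (W ⊓ br y)
  have h3 : (W ⊓ fx y) ⊓ (W ⊓ br y) = ⊥ := by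
    rw [eq_bot_iff, ← fx_inf_br hV hy]
    exact inf_le_inf inf_le_right inf_le_right
  rw [h3, rk_bot] at h2
  have h4 : rk (W ⊓ fx y ⊔ W ⊓ br y) ≤ rk W := rk_mono (sup_le inf_le_left inf_le_left)
  omega

theorem rk_inv (hV : ∀ v : V, v * v = 1) {y : MulAut V} (hy : Odd (orderOf y)) {W : Subgroup V}
    (hW : Inv y W) : rk W = rk (W ⊓ fx y) + rk (W ⊓ br y) := by
  rw [← map_cm hV hy hW]; exact rk_fx_add hV W y

/-- The involution `e` inverting the fixed point free `y` of odd order satisfies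
`|W| = |C_W(e)|²`. -/
theorem rk_eq_two_mul (hV : ∀ v : V, v * v = 1) {e y : MulAut V} (hy : Odd (orderOf y))
    (he : e * e = 1) (hey : e * y * e⁻¹ = y⁻¹) {W : Subgroup V} (hWe : Inv e W) (hWy : Inv y W)
    (hfix : W ⊓ fx y = ⊥) : rk W = 2 * rk (W ⊓ fx e) := by
  have h1 := rk_fx_add hV W e
  have h2 : W.map (cm e) ≤ W ⊓ fx e := by
    rintro _ ⟨w, hw, rfl⟩
    refine ⟨mul_mem hw (hWe w hw), ?_⟩
    change e (cm e w) = cm e w
    rw [cm_apply, map_mul, ← MulAut.mul_apply, he, MulAut.one_apply, mul_comm]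
  have h3 := rk_mono h2
  -- the conjugate by `y`
  have h4 : rk ((W ⊓ fx e).map y.toMonoidHom) = rk (W ⊓ fx e) := by
    rw [rk, rk]
    congr 1
    exact Nat.card_congr (Equiv.symm (((W ⊓ fx e).equivMapOfInjective y.toMonoidHom
      y.injective).toEquiv))
  have h5 : (W ⊓ fx e) ⊓ (W ⊓ fx e).map y.toMonoidHom = ⊥ := by
    rw [eq_bot_iff]
    rintro v ⟨⟨hvW, hve⟩, w, ⟨hwW, hwe⟩, hwv⟩
    change y w = v at hwv
    change e v = v at hve
    change e w = w at hwe
    have h6 : e (y w) = y⁻¹ (e w) := by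
      have : e * y = y⁻¹ * e := by rw [← hey]; group
      rw [← MulAut.mul_apply, this, MulAut.mul_apply]
    rw [hwv, hve, hwe] at h6
    -- `v = y⁻¹ w` and `v = y w`
    have h7 : (y ^ 2) w = w := by
      rw [pow_two, MulAut.mul_apply, hwv, h6, ← MulAut.mul_apply, mul_inv_cancel,
        MulAut.one_apply]
    obtain ⟨k, hk⟩ := hy
    have h8 : y w = w := by
      have h9 := pow_apply_of (y ^ 2) h7 k
      have h10 : y * (y ^ 2) ^ k = 1 := by
        rw [← pow_mul, ← pow_succ', ← hk, pow_orderOf_eq_one]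
      calc y w = y (((y ^ 2) ^ k) w) := by rw [h9]
        _ = (y * (y ^ 2) ^ k) w := rfl
        _ = w := by rw [h10, MulAut.one_apply]
    have h11 : w ∈ W ⊓ fx y := ⟨hwW, h8⟩
    rw [hfix, mem_bot] at h11
    rw [mem_bot, ← hwv, h11, map_one]
  have h6 := rk_sup hV (W ⊓ fx e) ((W ⊓ fx e).map y.toMonoidHom)
  rw [h5, rk_bot, h4] at h6
  have h7 : rk (W ⊓ fx e ⊔ (W ⊓ fx e).map y.toMonoidHom) ≤ rk W := by
    refine rk_mono (sup_le inf_le_left ?_)
    rintro _ ⟨w, hw, rfl⟩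
    exact hWy w hw.1
  omega

end Act

/-! ### Dihedral systems -/

section Dih

variable {V : Type u} [CommGroup V]

/-- A dihedral system: commuting `y i ≠ 1` of odd order, commuting involutions `e i`, `e i` inverts `y i`
and centralizes `y j`, `j ≠ i`. -/
structure Dih {ι : Type} (e y : ι → MulAut V) : Prop where
  odd : ∀ i, Odd (orderOf (y i))
  ne : ∀ i, y i ≠ 1
  esq : ∀ i, e i * e i = 1
  inv : ∀ i, e i * y i * (e i)⁻¹ = (y i)⁻¹
  ee : ∀ i j, e i * e j = e j * e i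
  yy : ∀ i j, y i * y j = y j * y i
  ey : ∀ i j, i ≠ j → e i * y j = y j * e i

/-- `C_V(e i : i ∈ s)` -/
def fxs {ι : Type} (e : ι → MulAut V) (s : Set ι) : Subgroup V where
  carrier := {v | ∀ i ∈ s, e i v = v}
  one_mem' := fun i _ => map_one _
  mul_mem' := by
    intro a b ha hb i hi
    rw [map_mul, ha i hi, hb i hi]
  inv_mem' := by
    intro a ha i hi
    rw [map_inv, ha i hi]

theorem mem_fxs {ι : Type} {e : ι → MulAut V} {s : Set ι} {v : V} :
    v ∈ fxs e s ↔ ∀ i ∈ s, e i v = v := Iff.rfl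

namespace Dih

variable {ι : Type} {e y : ι → MulAut V}

theorem inv_fxs_y (h : Dih e y) {s : Set ι} {i : ι} (hi : i ∉ s) : Inv (y i) (fxs e s) := by
  intro w hw j hj
  have hne : j ≠ i := fun h0 => hi (h0 ▸ hj)
  rw [← MulAut.mul_apply, h.ey j i hne, MulAut.mul_apply, hw j hj]

theorem inv_fxs_e (h : Dih e y) {s : Set ι} (i : ι) : Inv (e i) (fxs e s) := by
  intro w hw j hj
  rw [← MulAut.mul_apply, h.ee j i, MulAut.mul_apply, hw j hj]

variable [Finite V]

/-- `C_V(E) = (C_V(E) ∩ C_V(y)) × (C_V(E) ∩ [V, y])` -/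
theorem split (h : Dih e y) (hV : ∀ v : V, v * v = 1) (i : ι) :
    rk (fxs e Set.univ) = rk (fxs e Set.univ ⊓ fx (y i)) + rk (fxs e Set.univ ⊓ br (y i)) := by
  have h1 := rk_sup hV (fxs e Set.univ ⊓ fx (y i)) (fxs e Set.univ ⊓ br (y i))
  have h2 : (fxs e Set.univ ⊓ fx (y i)) ⊓ (fxs e Set.univ ⊓ br (y i)) = ⊥ := by
    rw [eq_bot_iff, ← fx_inf_br hV (h.odd i)]
    exact inf_le_inf inf_le_right inf_le_right
  have h3 : fxs e Set.univ ⊓ fx (y i) ⊔ fxs e Set.univ ⊓ br (y i) = fxs e Set.univ := by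
    apply le_antisymm (sup_le inf_le_left inf_le_left)
    intro c hc
    have h4 : c ∈ fx (y i) ⊔ br (y i) := by rw [fx_sup_br hV (h.odd i)]; exact mem_top c
    obtain ⟨a, ha, b, hb, rfl⟩ := mem_sup.1 h4
    have h5 : ∀ j, e j a = a ∧ e j b = b := by
      intro j
      have h6 : e j a ∈ fx (y i) := by
        by_cases hj : j = i
        · subst hj; exact Inv.fx' (h.inv j) a ha
        · exact Inv.fx (h.ey j i hj) a ha
      have h7 : e j b ∈ br (y i) := by
        by_cases hj : j = i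
        · subst hj; exact Inv.br' (h.inv j) b hb
        · exact Inv.br (h.ey j i hj) b hb
      have h8 : e j a * e j b = a * b := by rw [← map_mul]; exact hc j (Set.mem_univ j)
      have h9 : (e j a)⁻¹ * a = e j b * b⁻¹ := by
        rw [inv_mul_eq_iff_eq_mul, ← mul_assoc, h8, mul_inv_cancel_right]
      have h10 : (e j a)⁻¹ * a ∈ fx (y i) ⊓ br (y i) :=
        mem_inf.2 ⟨mul_mem (inv_mem h6) ha, by rw [h9]; exact mul_mem h7 (inv_mem hb)⟩
      rw [fx_inf_br hV (h.odd i), mem_bot, inv_mul_eq_one] at h10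
      refine ⟨h10, ?_⟩
      rw [h10] at h8
      exact mul_left_cancel h8
    exact mul_mem (mem_sup_left ⟨fun j _ => (h5 j).1, ha⟩) (mem_sup_right ⟨fun j _ => (h5 j).2, hb⟩)
  rw [h2, rk_bot, h3] at h1
  exact h1

/-- `H ≤ C_V(E)`, `H ∩ C_V(y) = 1` -/
theorem rk_le (h : Dih e y) (hV : ∀ v : V, v * v = 1) {H : Subgroup V} (hH : H ≤ fxs e Set.univ) (i : ι)
    (hi : H ⊓ fx (y i) = ⊥) : rk H ≤ rk (fxs e Set.univ ⊓ br (y i)) := by
  have h1 := h.split hV i
  have h2 := rk_sup hV H (fxs e Set.univ ⊓ fx (y i))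
  have h3 : H ⊓ (fxs e Set.univ ⊓ fx (y i)) = ⊥ := by
    rw [eq_bot_iff, ← hi]; exact inf_le_inf_left _ inf_le_right
  have h4 := rk_mono (V := V) (sup_le hH (inf_le_left : fxs e Set.univ ⊓ fx (y i) ≤ _))
  rw [h3, rk_bot] at h2
  omega

/-- `|V| ≥ |C_V(E)| ∏ |C_V(E) ∩ [V, y i]|` -/
theorem sum_le (h : Dih e y) (hV : ∀ v : V, v * v = 1) (s : Finset ι) :
    rk (fxs e (s : Set ι)) + ∑ i ∈ s, rk (fxs e Set.univ ⊓ br (y i)) ≤ rk (⊤ : Subgroup V) := by
  classical
  induction s using Finset.induction_on with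
  | empty => rw [Finset.sum_empty, add_zero]; exact rk_mono le_top
  | insert i s hi ih =>
    rw [Finset.sum_insert hi]
    set W : Subgroup V := fxs e (s : Set ι) with hW
    have h1 : fxs e ((insert i s : Finset ι) : Set ι) = W ⊓ fx (e i) := by
      ext v
      rw [mem_fxs, mem_inf, hW, mem_fxs, mem_fx]
      constructor
      · intro h0
        exact ⟨fun j hj => h0 j (by rw [Finset.coe_insert]; exact Or.inr hj),
          h0 i (by rw [Finset.coe_insert]; exact Or.inl rfl)⟩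
      · rintro ⟨h0, h0'⟩ j hj
        rw [Finset.coe_insert] at hj
        rcases hj with rfl | hj
        · exact h0'
        · exact h0 j hj
    have h2 := rk_fx_add hV W (e i)
    have hWy : Inv (y i) W := h.inv_fxs_y (by simpa using hi)
    have hWe : Inv (e i) W := h.inv_fxs_e i
    have h3 : (W ⊓ br (y i)) ⊓ fx (y i) = ⊥ := by
      rw [eq_bot_iff, ← fx_inf_br hV (h.odd i)]
      exact le_inf inf_le_right (inf_le_left.trans inf_le_right)
    have h4 := rk_eq_two_mul hV (h.odd i) (h.esq i) (h.inv i) (hWe.inf (Inv.br' (h.inv i)))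
      (hWy.inf (Inv.br rfl)) h3
    have h5 := rk_fx_add hV (W ⊓ br (y i)) (e i)
    have h6 : rk ((W ⊓ br (y i)).map (cm (e i))) ≤ rk (W.map (cm (e i))) :=
      rk_mono (map_mono inf_le_left)
    have h7 : rk (fxs e Set.univ ⊓ br (y i)) ≤ rk ((W ⊓ br (y i)) ⊓ fx (e i)) :=
      rk_mono fun v hv => ⟨⟨fun j _ => hv.1 j (Set.mem_univ j), hv.2⟩, hv.1 i (Set.mem_univ i)⟩
    rw [h1]
    omega

/-- `|W| ≥ 4 ^ s` if all `y i`, `i ∈ s`, act nontrivially on `W`. -/
theorem two_mul_card_le (h : Dih e y) (hV : ∀ v : V, v * v = 1) (n : ℕ) : ∀ s : Finset ι, s.card ≤ n →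
    ∀ W : Subgroup V, (∀ i ∈ s, Inv (y i) W) → (∀ i ∈ s, Inv (e i) W) → (∀ i ∈ s, ¬ W ≤ fx (y i)) →
    2 * s.card ≤ rk W := by
  classical
  induction n with
  | zero =>
    intro s hs W _ _ _
    omega
  | succ n ih =>
    intro s hs W hy he hne
    rcases s.eq_empty_or_nonempty with rfl | ⟨j, hj⟩
    · simp
    set t := s.erase j with ht
    have hts : t ⊆ s := Finset.erase_subset j s
    have htj : ∀ i ∈ t, i ≠ j := fun i hi => Finset.ne_of_mem_erase hi
    have htc : t.card + 1 = s.card := Finset.card_erase_add_one hj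
    set I2 := t.filter (fun i => W ⊓ fx (y j) ≤ fx (y i)) with hI2
    set I1 := t.filter (fun i => ¬ W ⊓ fx (y j) ≤ fx (y i)) with hI1
    have hI : I2.card + I1.card = t.card := Finset.card_filter_add_card_filter_not _
    have h2s : ∀ i ∈ I2, i ∈ t := fun i hi => (Finset.mem_filter.1 hi).1
    have h1s : ∀ i ∈ I1, i ∈ t := fun i hi => (Finset.mem_filter.1 hi).1
    have k1 := ih I1 (by omega) (W ⊓ fx (y j)) (fun i hi => (hy i (hts (h1s i hi))).inf (Inv.fx (h.yy i j)))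
      (fun i hi => (he i (hts (h1s i hi))).inf (Inv.fx (h.ey i j (htj i (h1s i hi)))))
      (fun i hi => (Finset.mem_filter.1 hi).2)
    set W2 := W ⊓ br (y j) with hW2
    have hW2y : Inv (y j) W2 := (hy j hj).inf (Inv.br rfl)
    have hW2e : Inv (e j) W2 := (he j hj).inf (Inv.br' (h.inv j))
    have hW2f : W2 ⊓ fx (y j) = ⊥ := by
      rw [eq_bot_iff, ← fx_inf_br hV (h.odd j)]
      exact le_inf inf_le_right (inf_le_left.trans inf_le_right)
    have e1 := rk_inv hV (h.odd j) (hy j hj)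
    rw [← hW2] at e1
    have e2 := rk_eq_two_mul hV (h.odd j) (h.esq j) (h.inv j) hW2e hW2y hW2f
    have k2 := ih I2 (by omega) (W2 ⊓ fx (e j))
      (fun i hi => ((hy i (hts (h2s i hi))).inf (Inv.br (h.yy i j))).inf
        (Inv.fx (h.ey j i (htj i (h2s i hi)).symm).symm))
      (fun i hi => ((he i (hts (h2s i hi))).inf (Inv.br (h.ey i j (htj i (h2s i hi))))).inf
        (Inv.fx (h.ee i j)))
      (fun i hi hle => by
        have hit := h2s i hi
        have hij := htj i hit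
        have hiy := hy i (hts hit)
        apply hne i (hts hit)
        have h3 : (W2 ⊓ br (y i)) ⊓ fx (y j) = ⊥ := by
          rw [eq_bot_iff, ← hW2f]; exact inf_le_inf_right _ inf_le_left
        have h4 := rk_eq_two_mul hV (h.odd j) (h.esq j) (h.inv j)
          (hW2e.inf (Inv.br (h.ey j i hij.symm))) (hW2y.inf (Inv.br (h.yy j i))) h3
        have h5 : (W2 ⊓ br (y i)) ⊓ fx (e j) = ⊥ := by
          rw [eq_bot_iff, ← fx_inf_br hV (h.odd i)]
          intro v hv
          exact ⟨hle ⟨hv.1.1, hv.2⟩, hv.1.2⟩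
        rw [h5, rk_bot, mul_zero] at h4
        have h6 := rk_eq_zero hV h4
        have h7 := rk_inv hV (h.odd i) (W := W2) (hiy.inf (Inv.br (h.yy i j)))
        rw [h6, rk_bot, add_zero] at h7
        have h8 : W2 ⊓ fx (y i) = W2 := eq_of_rk hV inf_le_left (by omega)
        have h9 : W2 ≤ fx (y i) := by rw [← h8]; exact inf_le_right
        have h10 : W ⊓ fx (y j) ≤ fx (y i) := (Finset.mem_filter.1 hi).2
        have h11 : (W ⊓ fx (y j)) ⊔ W2 = W := by
          refine eq_of_rk hV (sup_le inf_le_left inf_le_left) ?_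
          have h12 := rk_sup hV (W ⊓ fx (y j)) W2
          have h13 : (W ⊓ fx (y j)) ⊓ W2 = ⊥ := by
            rw [eq_bot_iff, ← hW2f]
            exact le_inf inf_le_right (inf_le_left.trans inf_le_right)
          rw [h13, rk_bot] at h12
          omega
        rw [← h11]
        exact sup_le h10 h9)
    have h1 : W2 ≠ ⊥ := by
      intro h0
      apply hne j hj
      rw [h0, rk_bot] at e1
      have h8 : W ⊓ fx (y j) = W := eq_of_rk hV inf_le_left (by omega)
      rw [← h8]; exact inf_le_right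
    have h2 := rk_pos hV h1
    omega

end Dih

end Dih

/-! ### Solvable groups of automorphisms -/

section Solv

variable {V : Type u} [CommGroup V] [Finite V]

theorem fit_sq {Γ : Subgroup (MulAut V)} (ho : o2 Γ = ⊥) :
    ∀ x ∈ fittingOf Γ, x * x = 1 → x = 1 := by
  rintro _ ⟨x, hx, rfl⟩ hxx
  have : Fact (Nat.Prime 2) := ⟨Nat.prime_two⟩
  have h1 : x ∈ pCore 2 Γ := Lib.GenFitting.mem_pCore_of_mem_nilpotent_normal
    Lib.Cores.fittingSubgroup_normal Lib.Cores.fittingSubgroup_isNilpotent (k := 1) hx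
    (by rw [pow_one, pow_two]; exact Subtype.ext hxx)
  have h3 : (x : MulAut V) ∈ o2 Γ := ⟨x, h1, rfl⟩
  rw [ho, mem_bot] at h3
  exact h3

theorem fit_odd {Γ : Subgroup (MulAut V)} (ho : o2 Γ = ⊥) : Odd (Nat.card (fittingOf Γ)) := by
  rw [← Nat.not_even_iff_odd]
  intro he
  have : Fact (Nat.Prime 2) := ⟨Nat.prime_two⟩
  obtain ⟨x, hx⟩ := exists_prime_orderOf_dvd_card' 2 (even_iff_two_dvd.1 he)
  have h1 : (x : MulAut V) * x = 1 := by
    have := pow_orderOf_eq_one x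
    rw [hx, pow_two] at this
    exact congrArg Subtype.val this
  have h2 := fit_sq ho x x.2 h1
  rw [Subtype.ext (a1 := x) (a2 := 1) h2, orderOf_one] at hx
  norm_num at hx

omit [Finite V] in
theorem fit_le (Γ : Subgroup (MulAut V)) : fittingOf Γ ≤ Γ := OddOrderLocal.FitAux.fittingOf_le Γ

omit [Finite V] in
theorem fit_norm (Γ : Subgroup (MulAut V)) : Γ ≤ normalizer (fittingOf Γ : Set (MulAut V)) :=
  OddOrderLocal.FitAux.le_normalizer_fittingOf Γ

omit [Finite V] in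
theorem odd_order_of_mem {F : Subgroup (MulAut V)} (hF : Odd (Nat.card F)) {x : MulAut V} (hx : x ∈ F) :
    Odd (orderOf x) := by
  have h1 : orderOf (⟨x, hx⟩ : F) ∣ Nat.card F := orderOf_dvd_natCard _
  rw [Subgroup.orderOf_mk] at h1
  exact hF.of_dvd_nat h1

/-- A dihedral system for the elementary abelian 2-subgroup `A` of the solvable group `Γ`. -/
theorem exists_dih {Γ A : Subgroup (MulAut V)} (hΓ : Group.IsSolvable Γ) (ho : o2 Γ = ⊥) (hAΓ : A ≤ Γ)
    (hA : ∀ a ∈ A, a * a = 1) :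
    ∃ (n : ℕ) (e y : Fin n → MulAut V), Nat.card A = 2 ^ n ∧ A = closure (Set.range e) ∧
      (∀ j, e j ∈ A) ∧ (∀ j, y j ∈ fittingOf Γ) ∧ (∀ j, (orderOf (y j)).Prime) ∧ Dih e y := by
  have hodd := fit_odd ho
  have hcent : Γ ⊓ centralizer (fittingOf Γ : Set (MulAut V)) ≤ fittingOf Γ := by
    rintro x ⟨hxM, hxC⟩
    have := hΓ
    have h : (⟨x, hxM⟩ : Γ) ∈ centralizer (fittingSubgroup Γ : Set Γ) := by
      rw [mem_centralizer_iff]
      intro y hy
      exact Subtype.ext (mem_centralizer_iff.mp hxC y ⟨y, hy, rfl⟩)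
    exact ⟨⟨x, hxM⟩, S0044.result h, rfl⟩
  obtain ⟨n, b, y, hcard, hcl, hb, hy, hp, hinv, hcomm, hyy, hall⟩ :=
    Dihedral.exists_dihedral A (fittingOf Γ) hA (OddOrderLocal.FitAux.isNilpotent_fittingOf Γ) hodd
      (hAΓ.trans (fit_norm Γ)) (by
      intro a ha hc
      refine fit_sq ho a (hcent ⟨hAΓ ha, ?_⟩) (hA a ha)
      exact mem_centralizer_iff.mpr fun r hr => (hc r hr).symm)
  have hcm : ∀ a ∈ A, ∀ b ∈ A, a * b = b * a := by
    intro a ha b hb
    have h1 := hA (a * b) (mul_mem ha hb)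
    have h2 : a⁻¹ = a := inv_eq_of_mul_eq_one_left (hA a ha)
    have h3 : b⁻¹ = b := inv_eq_of_mul_eq_one_left (hA b hb)
    calc a * b = (a * b)⁻¹ := (inv_eq_of_mul_eq_one_left h1).symm
      _ = b * a := by rw [mul_inv_rev, h2, h3]
  refine ⟨n, b, y, hcard, hcl, hb, hy, hp, ⟨fun i => odd_order_of_mem hodd (hy i), fun i h0 => ?_,
    fun i => hA _ (hb i), hinv, fun i j => hcm _ (hb i) _ (hb j), hyy, hcomm⟩⟩
  have h1 := hp i
  rw [h0, orderOf_one] at h1
  exact Nat.not_prime_one h1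

/-- the stabilizer of `u` -/
def st (u : V) : Subgroup (MulAut V) where
  carrier := {g | g u = u}
  one_mem' := rfl
  mul_mem' := by
    intro a b ha hb
    change (a * b) u = u
    rw [MulAut.mul_apply, hb, ha]
  inv_mem' := by
    intro a ha
    change a⁻¹ u = u
    have h1 : a⁻¹ (a u) = u := by rw [← MulAut.mul_apply, inv_mul_cancel, MulAut.one_apply]
    rwa [show a u = u from ha] at h1

omit [Finite V] in
theorem mem_st {u : V} {g : MulAut V} : g ∈ st u ↔ g u = u := Iff.rfl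

/-- A 2-group `T` of automorphisms has a nontrivial fixed point on every nontrivial invariant
subgroup. -/
theorem exists_fixed (hV : ∀ v : V, v * v = 1) {T : Subgroup (MulAut V)} (hT : IsPGroup 2 T)
    {K : Subgroup V} (hK : ∀ t ∈ T, Inv t K) (hne : K ≠ ⊥) : ∃ w ∈ K, w ≠ 1 ∧ ∀ t ∈ T, t w = w := by
  have hf : Fact (Nat.Prime 2) := ⟨Nat.prime_two⟩
  let : MulAction T K :=
    { smul := fun t k => ⟨(t : MulAut V) k, hK t t.2 k k.2⟩
      one_smul := fun k => rfl
      mul_smul := fun a b k => rfl }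
  have hdvd : 2 ∣ Nat.card K := by
    rw [card_eq hV]
    exact dvd_pow_self 2 (rk_pos hV hne).ne'
  obtain ⟨w, hw, hne'⟩ := hT.exists_fixed_point_of_prime_dvd_card_of_fixed_point K hdvd
    (a := (1 : K)) (fun t => Subtype.ext (map_one (t : MulAut V)))
  refine ⟨w, w.2, fun h0 => hne' (Subtype.ext h0.symm), fun t ht => ?_⟩
  exact congrArg Subtype.val (hw ⟨t, ht⟩)

/-- the norm `v ↦ ∏ d v` -/
noncomputable def nm (D : Subgroup (MulAut V)) : V →* V where
  toFun v := ∏ᶠ d : D, (d : MulAut V) v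
  map_one' := by simp
  map_mul' a b := by
    rw [← finprod_mul_distrib (Set.toFinite _) (Set.toFinite _)]
    simp

theorem nm_apply (D : Subgroup (MulAut V)) (v : V) : nm D v = ∏ᶠ d : D, (d : MulAut V) v := rfl

theorem nm_smul (D : Subgroup (MulAut V)) {d : MulAut V} (hd : d ∈ D) (v : V) : nm D (d v) = nm D v := by
  rw [nm_apply, nm_apply]
  exact finprod_comp_equiv (Equiv.mulRight (⟨d, hd⟩ : D)) (f := fun c : D => (c : MulAut V) v)

theorem nm_of_fixed (hV : ∀ v : V, v * v = 1) {D : Subgroup (MulAut V)} (hD : Odd (Nat.card D)) {v : V}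
    (hv : ∀ d ∈ D, d v = v) : nm D v = v := by
  rw [nm_apply, finprod_congr (fun d : D => hv d d.2)]
  have h1 : ∏ᶠ _ : D, v = v ^ Nat.card D := by
    have := Fintype.ofFinite D
    rw [finprod_eq_prod_of_fintype, Finset.prod_const, Finset.card_univ, Nat.card_eq_fintype_card]
  rw [h1]
  obtain ⟨k, hk⟩ := hD
  rw [hk, pow_succ, pow_mul, pow_two, hV, one_pow, one_mul]

theorem nm_conj {D : Subgroup (MulAut V)} {t : MulAut V} (ht : t ∈ normalizer (D : Set (MulAut V)))
    (v : V) : nm D (t v) = t (nm D v) := by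
  have h1 : t (nm D v) = ∏ᶠ d : D, t ((d : MulAut V) v) := by
    rw [nm_apply]
    exact MonoidHom.map_finprod t.toMonoidHom (Set.toFinite _)
  rw [h1, nm_apply]
  set e : D ≃ D :=
    { toFun := fun d => ⟨t * d * t⁻¹, (mem_normalizer_iff.1 ht _).1 d.2⟩
      invFun := fun d => ⟨t⁻¹ * d * t, by
        have := (mem_normalizer_iff.1 (inv_mem ht) (d : MulAut V)).1 d.2
        rwa [inv_inv] at this⟩
      left_inv := fun d => Subtype.ext (by simp [mul_assoc])
      right_inv := fun d => Subtype.ext (by simp [mul_assoc]) } with he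
  rw [← finprod_comp_equiv e (f := fun c : D => (c : MulAut V) (t v))]
  refine finprod_congr fun d => ?_
  change (t * d * t⁻¹) (t v) = t ((d : MulAut V) v)
  rw [MulAut.mul_apply, MulAut.mul_apply]
  congr 2
  rw [← MulAut.mul_apply, inv_mul_cancel, MulAut.one_apply]

/-- An odd order group `D` normalized by the 2-group `T` and centralizing `C_V(T)` is trivial. -/
theorem eq_bot_of_fixed (hV : ∀ v : V, v * v = 1) {D T : Subgroup (MulAut V)} (hD : Odd (Nat.card D))
    (hT : IsPGroup 2 T) (hTD : T ≤ normalizer (D : Set (MulAut V)))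
    (h : ∀ v : V, (∀ t ∈ T, t v = v) → ∀ d ∈ D, d v = v) : D = ⊥ := by
  have hK : (nm D).ker = ⊥ := by
    by_contra hne
    obtain ⟨w, hw, hw1, hTw⟩ := exists_fixed hV hT (K := (nm D).ker) (by
      intro t ht v hv
      rw [MonoidHom.mem_ker] at hv ⊢
      rw [nm_conj (hTD ht), hv, map_one]) hne
    rw [MonoidHom.mem_ker, nm_of_fixed hV hD (h w hTw)] at hw
    exact hw1 hw
  rw [eq_bot_iff]
  intro d hd
  rw [mem_bot]
  ext v
  rw [MulAut.one_apply]
  have h1 : v * d v ∈ (nm D).ker := by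
    rw [MonoidHom.mem_ker, map_mul, nm_smul D hd, hV]
  rw [hK, mem_bot, mul_eq_one_iff_eq_inv, inv_eq hV] at h1
  exact h1.symm

theorem syl_cj_of_mem {A : Type*} [Group A] {T X : Subgroup A} {g : A} (hg : g ∈ X) (hT : Syl T X) :
    Syl (cj g T) X := by
  refine ⟨?_, isPGroup_cj g hT.2.1, fun Q hQ hQp hle => ?_⟩
  · rintro _ ⟨t, ht, rfl⟩
    exact mul_mem (mul_mem hg (hT.1 ht)) (inv_mem hg)
  · have h1 : T ≤ cj g⁻¹ Q := by rw [← cj_le_iff]; exact hle
    have h2 := hT.2.2 (cj g⁻¹ Q) (by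
      rintro _ ⟨q, hq, rfl⟩
      exact mul_mem (mul_mem (inv_mem hg) (hQ hq)) (inv_mem (inv_mem hg))) (isPGroup_cj g⁻¹ hQp) h1
    rw [← h2, cj_cj_inv]

/-- the subgroup generated by the `C`-conjugates of `E` -/
def ncl (C E : Subgroup (MulAut V)) : Subgroup (MulAut V) := closure {x | ∃ c ∈ C, ∃ e ∈ E, c * e * c⁻¹ = x}

omit [Finite V] in
theorem ncl_conj {C E : Subgroup (MulAut V)} {c x : MulAut V} (hc : c ∈ C) (hx : x ∈ ncl C E) :
    c * x * c⁻¹ ∈ ncl C E := by
  induction hx using closure_induction with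
  | mem x hx =>
    obtain ⟨d, hd, e, he, rfl⟩ := hx
    exact subset_closure ⟨c * d, mul_mem hc hd, e, he, by group⟩
  | one => rw [mul_one, mul_inv_cancel]; exact one_mem _
  | mul x y _ _ hx hy =>
    have : c * (x * y) * c⁻¹ = (c * x * c⁻¹) * (c * y * c⁻¹) := by group
    rw [this]; exact mul_mem hx hy
  | inv x _ hx =>
    have : c * x⁻¹ * c⁻¹ = (c * x * c⁻¹)⁻¹ := by group
    rw [this]; exact inv_mem hx

omit [Finite V] in
theorem le_ncl (C E : Subgroup (MulAut V)) : E ≤ ncl C E := fun e he =>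
  subset_closure ⟨1, one_mem _, e, he, by group⟩

/-- **(3a)** : `E` centralizes `C_F(u)`. -/
theorem comm_of_fixed (hV : ∀ v : V, v * v = 1) {Γ F E : Subgroup (MulAut V)} {u : V}
    (hF : Odd (Nat.card F)) (hFΓ : F ≤ Γ) (hFn : Γ ≤ normalizer (F : Set (MulAut V))) (hEΓ : E ≤ Γ)
    (hEu : ∀ e ∈ E, e u = u)
    (hE : ∀ T : Subgroup (MulAut V), Syl T (Γ ⊓ st u) → ∀ v : V, (∀ t ∈ T, t v = v) →
      ∀ e ∈ E, e v = v) : ∀ e ∈ E, ∀ f ∈ F, f u = u → e * f = f * e := by
  set C := Γ ⊓ st u with hC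
  set D := F ⊓ C ⊓ ncl C E with hD
  have hCD : C ≤ normalizer (D : Set (MulAut V)) := by
    have key : ∀ c ∈ C, ∀ x ∈ D, c * x * c⁻¹ ∈ D := fun c hc x hx =>
      mem_inf.2 ⟨mem_inf.2 ⟨(mem_normalizer_iff.1 (hFn hc.1) _).1 hx.1.1,
        C.mul_mem (C.mul_mem hc hx.1.2) (C.inv_mem hc)⟩, ncl_conj hc hx.2⟩
    intro c hc
    rw [mem_normalizer_iff]
    refine fun x => ⟨key c hc x, fun hx => ?_⟩
    have h1 := key c⁻¹ (inv_mem hc) _ hx
    have h2 : c⁻¹ * (c * x * c⁻¹) * c⁻¹⁻¹ = x := by group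
    rwa [h2] at h1
  obtain ⟨T, hT, -⟩ := exists_syl (T := (⊥ : Subgroup (MulAut V))) (X := C) IsPGroup.of_bot bot_le
  have hncl : ∀ x ∈ ncl C E, ∀ v : V, (∀ t ∈ T, t v = v) → x v = v := by
    intro x hx v hv
    have h1 : x ∈ st v := by
      refine (closure_le (st v)).2 ?_ hx
      rintro _ ⟨c, hc, e, he, rfl⟩
      change (c * e * c⁻¹) v = v
      have h2 : e (c⁻¹ v) = c⁻¹ v := by
        refine hE (cj c⁻¹ T) ?_ (c⁻¹ v) ?_ e he
        · exact syl_cj_of_mem (inv_mem hc) hT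
        · intro t ht
          obtain ⟨t', ht', rfl⟩ := ht
          change (c⁻¹ * t' * c⁻¹⁻¹) (c⁻¹ v) = c⁻¹ v
          rw [inv_inv, ← MulAut.mul_apply, mul_assoc, mul_inv_cancel, mul_one, MulAut.mul_apply, hv t' ht']
      rw [MulAut.mul_apply, MulAut.mul_apply, h2, ← MulAut.mul_apply, mul_inv_cancel,
        MulAut.one_apply]
    exact h1
  have hD1 : D = ⊥ := by
    refine eq_bot_of_fixed hV (hF.of_dvd_nat (card_dvd_of_le (inf_le_left.trans inf_le_left)))
      hT.2.1 (hT.1.trans hCD) fun v hv d hd => hncl d hd.2 v hv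
  intro e he f hf hfu
  have heC : e ∈ C := ⟨hEΓ he, hEu e he⟩
  have hfC : f ∈ C := ⟨hFΓ hf, hfu⟩
  have h1 : e * f * e⁻¹ * f⁻¹ ∈ D := by
    refine mem_inf.2 ⟨mem_inf.2 ⟨mul_mem ((mem_normalizer_iff.1 (hFn (hEΓ he)) _).1 hf) (inv_mem hf),
      mul_mem (mul_mem (mul_mem heC hfC) (inv_mem heC)) (inv_mem hfC)⟩, ?_⟩
    have h2 : e * f * e⁻¹ * f⁻¹ = e * (f * e⁻¹ * f⁻¹) := by group
    rw [h2]
    exact mul_mem (le_ncl C E he) (ncl_conj hfC (inv_mem (le_ncl C E he)))
  rw [hD1, mem_bot] at h1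
  calc e * f = (e * f * e⁻¹ * f⁻¹) * (f * e) := by group
    _ = f * e := by rw [h1, one_mul]

end Solv

end Cfsg.Agent.MinSimple.EmptyMod
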