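import Cfsg.Agent.MinSimple.EmptyTI
import Cfsg.Agent.MinSimple.LemmaH
import Cfsg.Agent.Lib.CoprimeHyperplane

/-!
# The case "(Empty)": step (6)

`I` the TI-subgroup of `EmptyTI.exists_ti`, `V = ⟨Ω₁(Z(S))^{N_G(J(S))}⟩`.  If `F ≤ I^g` normalizes
`V` then `[F, V] = 1` or `|F| ≤ 2` (`six`).

* `card_le_two_aut`, `card_le_two` : an elementary abelian 2-subgroup `F` of the solvable group
  `L`, `O₂(L/C_L(V)) = 1`, such that the elements of `F` not centralizing `V` all have the same fixed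
  points on the elementary abelian 2-group `V`, has `|F / C_F(V)| ≤ 2`.
-/

set_option autoImplicit false

namespace Cfsg.Agent.MinSimple.EmptySix

open Subgroup Cfsg Cfsg.Agent.ZN Cfsg.Agent.ZN.ChoiceBase Cfsg.Agent.ZN.ChoiceSit
open Cfsg.Agent.MinSimple.EmptyTI

universe u

/-! ### Four-groups with constant fixed points -/

section Aut

variable {V : Type u} [Group V] [Finite V]

/-- The core of the argument, for a group of automorphisms. -/
theorem card_le_two_aut (hc : ∀ v w : V, v * w = w * v) (hV : ∀ v : V, v ^ 2 = 1) {Γ A : Subgroup (MulAut V)}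
    (hΓ : Group.IsSolvable Γ) (ho : o2 Γ = ⊥) (hA : A ≤ Γ)
    (hAc : ∀ a ∈ A, ∀ b ∈ A, a * b = b * a) (hA2 : ∀ a ∈ A, a ^ 2 = 1)
    (hfix : ∀ a ∈ A, a ≠ 1 → ∀ b ∈ A, ∀ v : V, a v = v → b v = v) : Nat.card A ≤ 2 := by
  have hfin : Finite (MulAut V) := inferInstance
  by_contra hcard
  push Not at hcard
  have hodd := Basic.odd_card_oc Γ
  obtain ⟨b, hb, hb1⟩ : ∃ b ∈ A, b ≠ 1 := by
    by_contra h
    push Not at h
    have h1 : A = ⊥ := eq_bot_iff.2 fun x hx => mem_bot.2 (h x hx)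
    rw [h1, card_bot] at hcard
    omega
  -- an odd order element with square 1 is trivial
  have hsq : ∀ x ∈ Basic.oc Γ, x ^ 2 = 1 → x = 1 := fun x hx h =>
    LemmaH.eq_of_sq_eq hodd hx (one_mem _) (by rw [h, one_pow])
  have hbF : b ∉ centralizer (Basic.oc Γ : Set (MulAut V)) := by
    intro h
    exact hb1 (hsq b (Basic.inf_centralizer_oc_le hΓ ho ⟨hA hb, h⟩) (hA2 b hb))
  obtain ⟨A₁, hA₁, hbA₁, hidx, -, -, y, hy, hyp, hyA₁, hyb⟩ :=
    LemmaH.exists_inverted (A := A) (F := Basic.oc Γ) (hA.trans (Basic.le_normalizer_oc Γ))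
      hAc hA2 hodd hb hbF
  obtain ⟨a, ha, ha1⟩ : ∃ a ∈ A₁, a ≠ 1 := by
    by_contra h
    push Not at h
    have h1 : A₁ = ⊥ := eq_bot_iff.2 fun x hx => mem_bot.2 (h x hx)
    rw [h1, relIndex_bot_left] at hidx
    omega
  have hya : a * y = y * a := hyA₁ a ha
  have hyav : ∀ v : V, a (y v) = y (a v) := fun v => by
    rw [← MulAut.mul_apply, hya, MulAut.mul_apply]
  -- `y` centralizes the fixed points of `a`
  have hstep : ∀ v : V, a v = v → y v = v := by
    intro v hv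
    have h1 : a (y v) = y v := by rw [hyav, hv]
    have h2 : b v = v := hfix a (hA₁ ha) ha1 b hb v hv
    have h3 : b (y v) = y v := hfix a (hA₁ ha) ha1 b hb _ h1
    have h4 : b * y = y⁻¹ * b := by rw [← hyb]; group
    have h5 : y⁻¹ v = y v := by
      calc y⁻¹ v = y⁻¹ (b v) := by rw [h2]
        _ = (y⁻¹ * b) v := rfl
        _ = (b * y) v := by rw [h4]
        _ = y v := h3
    have h6 : (y ^ 2) v = v := by
      have h7 : y (y⁻¹ v) = v := by
        rw [← MulAut.mul_apply, mul_inv_cancel, MulAut.one_apply]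
      rw [pow_two, MulAut.mul_apply, ← h5, h7]
    obtain ⟨k, hk⟩ := hodd
    have h7 : y ^ (2 * k + 1) = 1 := by
      have := pow_card_eq_one' (x := (⟨y, hy⟩ : Basic.oc Γ))
      rw [hk] at this
      exact congrArg Subtype.val this
    have h8 : ∀ n : ℕ, ((y ^ 2) ^ n) v = v := by
      intro n
      induction n with
      | zero => rw [pow_zero, MulAut.one_apply]
      | succ n ih => rw [pow_succ, MulAut.mul_apply, h6, ih]
    have h9 : y * (y ^ 2) ^ k = 1 := by
      rw [← pow_mul, ← pow_succ', h7]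
    calc y v = y (((y ^ 2) ^ k) v) := by rw [h8]
      _ = (y * (y ^ 2) ^ k) v := rfl
      _ = v := by rw [h9, MulAut.one_apply]
  have haa : ∀ v : V, a (a v) = v := fun v => by
    rw [← MulAut.mul_apply, ← pow_two, hA2 a (hA₁ ha), MulAut.one_apply]
  have hinv : ∀ v : V, v⁻¹ = v := fun v => inv_eq_of_mul_eq_one_left (by rw [← pow_two, hV])
  have hy2 : y ^ 2 = 1 := by
    ext v
    rw [MulAut.one_apply, pow_two, MulAut.mul_apply]
    have h1 : y (v * a v) = v * a v := hstep _ (by rw [map_mul, haa, hc])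
    have h2 : a (y v * v) = y v * v := by
      have h3 : y v * a (y v) = v * a v := by rw [hyav, ← map_mul, h1]
      calc a (y v * v) = a (y v) * a v := map_mul _ _ _
        _ = (y v)⁻¹ * (y v * a (y v)) * a v := by group
        _ = (y v)⁻¹ * (v * a v) * a v := by rw [h3]
        _ = y v * v * (a v * a v) := by rw [hinv]; simp only [mul_assoc]
        _ = y v * v := by rw [← pow_two, hV, mul_one]
    have h4 := hstep _ h2
    rw [map_mul] at h4
    have h5 : y (y v) = v := by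
      have h6 : y (y v) * y v = v * y v := by rw [h4, hc]
      exact mul_right_cancel h6
    exact h5
  have h1 := hsq y hy hy2
  rw [h1, orderOf_one] at hyp
  exact Nat.not_prime_one hyp

end Aut

variable {G : Type u} [Group G]

/-- The action of `N(V)` on `V`. -/
theorem card_le_two [Finite G] {L V F : Subgroup G} (hL : Group.IsSolvable L)
    (hLV : L ≤ normalizer (V : Set G)) (hVc : ∀ v ∈ V, ∀ w ∈ V, v * w = w * v)
    (hV2 : ∀ v ∈ V, v ^ 2 = 1)
    (hO : ∀ D : Subgroup G, D ≤ L → L ≤ normalizer (D : Set G) →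
      (∀ x ∈ D, ∃ k : ℕ, x ^ 2 ^ k ∈ centralizer (V : Set G)) → D ≤ centralizer (V : Set G))
    (hFL : F ≤ L) (hFc : ∀ a ∈ F, ∀ b ∈ F, a * b = b * a) (hF2 : ∀ a ∈ F, a ^ 2 = 1)
    (hF0 : F ⊓ centralizer (V : Set G) = ⊥)
    (hfix : ∀ a ∈ F, a ≠ 1 → ∀ b ∈ F, ∀ v ∈ V, a * v * a⁻¹ = v → b * v * b⁻¹ = v) :
    Nat.card F ≤ 2 := by
  obtain ⟨φ, hφ⟩ : ∃ φ : L →* MulAut V, ∀ (a : L) (x : V), ((φ a x : V) : G) = a * x * (a : G)⁻¹ :=
    ⟨Lib.CoprimeHyperplane.conjHom hLV, fun a x => rfl⟩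
  have hker : ∀ a : L, φ a = 1 ↔ (a : G) ∈ centralizer (V : Set G) := by
    intro a
    rw [mem_centralizer_iff]
    constructor
    · intro h v hv
      have h1 := hφ a ⟨v, hv⟩
      rw [h, MulAut.one_apply] at h1
      change v = a * v * (a : G)⁻¹ at h1
      calc v * (a : G) = a * v * (a : G)⁻¹ * a := by rw [← h1]
        _ = a * v := by group
    · intro h
      ext x
      rw [MulAut.one_apply, hφ, ← h x x.2]
      group
  have hΓ : Group.IsSolvable φ.range :=
    Group.isSolvable_of_surjective (f := φ.rangeRestrict) φ.rangeRestrict_surjective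
  -- `O₂(L / C_L(V)) = 1`
  have ho : o2 φ.range = ⊥ := by
    rw [eq_bot_iff]
    have h2 : ∀ x ∈ ((o2 φ.range).comap φ).map L.subtype, x ∈ centralizer (V : Set G) := by
      refine hO _ (map_subtype_le _) ?_ ?_
      · rintro g hg
        rw [mem_normalizer_iff]
        have key : ∀ g ∈ L, ∀ x ∈ ((o2 φ.range).comap φ).map L.subtype,
            g * x * g⁻¹ ∈ ((o2 φ.range).comap φ).map L.subtype := by
          rintro g hg _ ⟨x, hx, rfl⟩
          refine ⟨⟨g, hg⟩ * x * ⟨g, hg⟩⁻¹, ?_, rfl⟩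
          change φ (⟨g, hg⟩ * x * ⟨g, hg⟩⁻¹) ∈ o2 φ.range
          rw [map_mul, map_mul, map_inv]
          exact (mem_normalizer_iff.1 (ZN.ChoiceSit.le_normalizer_o2 φ.range ⟨_, rfl⟩) _).1 hx
        refine fun x => ⟨key g hg x, fun hx => ?_⟩
        have h1 := key g⁻¹ (inv_mem hg) _ hx
        have h2 : g⁻¹ * (g * x * g⁻¹) * g⁻¹⁻¹ = x := by group
        rwa [h2] at h1
      · rintro _ ⟨x, hx, rfl⟩
        have hp : Fact (Nat.Prime 2) := ⟨Nat.prime_two⟩
        obtain ⟨k, hk⟩ := VModule.o2_isPGroup φ.range ⟨φ x, hx⟩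
        refine ⟨k, ?_⟩
        have h1 : φ (x ^ 2 ^ k) = 1 := by
          rw [map_pow]
          exact congrArg Subtype.val hk
        exact (hker _).1 h1
    intro γ hγ
    obtain ⟨x, rfl⟩ : ∃ x, φ x = γ := VModule.o2_le _ hγ
    rw [mem_bot, hker]
    exact h2 x ⟨x, hγ, rfl⟩
  -- the image of `F`
  have hinj : Function.Injective (fun a : F => φ ⟨a, hFL a.2⟩) := by
    intro a b hab
    have h1 : φ (⟨a, hFL a.2⟩ * ⟨b, hFL b.2⟩⁻¹) = 1 := by
      rw [map_mul, map_inv, mul_inv_eq_one]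
      exact hab
    have h2 : (a : G) * (b : G)⁻¹ ∈ F ⊓ centralizer (V : Set G) :=
      mem_inf.2 ⟨mul_mem a.2 (inv_mem b.2), (hker _).1 h1⟩
    rw [hF0, mem_bot, mul_inv_eq_one] at h2
    exact Subtype.ext h2
  have hA := card_le_two_aut (V := V) (Γ := φ.range) (A := (F.subgroupOf L).map φ)
    (fun v w => Subtype.ext (hVc v v.2 w w.2)) (fun v => Subtype.ext (hV2 v v.2)) hΓ ho ?_ ?_ ?_ ?_
  · refine le_trans ?_ hA
    refine Nat.card_le_card_of_injective
      (fun a : F => (⟨φ ⟨a, hFL a.2⟩, ⟨_, a.2, rfl⟩⟩ : (F.subgroupOf L).map φ)) fun a b hab => ?_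
    exact hinj (congrArg Subtype.val hab)
  · rintro _ ⟨x, -, rfl⟩
    exact ⟨x, rfl⟩
  · rintro _ ⟨x, hx, rfl⟩ _ ⟨y, hy, rfl⟩
    rw [← map_mul, ← map_mul]
    exact congrArg φ (Subtype.ext (hFc x hx y hy))
  · rintro _ ⟨x, hx, rfl⟩
    rw [← map_pow, ← map_one φ]
    exact congrArg φ (Subtype.ext (hF2 x hx))
  · rintro _ ⟨a, ha, rfl⟩ ha1 _ ⟨b, hb, rfl⟩ v hv
    have h1 := hfix a ha (fun h => ha1 (by
      have : a = 1 := Subtype.ext h
      rw [this, map_one])) b hb v v.2 (by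
        rw [← hφ, hv])
    exact Subtype.ext (by rw [hφ]; exact h1)

/-! ### The TI data -/

/-- The conclusion of `EmptyTI.exists_ti`. -/
structure TIData (S : Subgroup G) (I : Subgroup G) : Prop where
  ne : I ≠ ⊥
  le_zj : I ≤ zj S
  zc_le : zc S ≤ I
  cent : ∀ y ∈ I, y ≠ 1 → centralizer ({y} : Set G) ≤ normalizer (I : Set G)
  ti : ∀ g : G, I ⊓ cj g I ≠ ⊥ → cj g I = I
  cj_le : ∀ g : G, zj S ⊓ cj g I ≠ ⊥ → cj g I ≤ zj S
  S_le : S ≤ normalizer (I : Set G)
  eq : I = zc (jcl (jj S) (normalizer (I : Set G)))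
  normalizer_eq : normalizer ((jcl (jj S) (normalizer (I : Set G)) : Subgroup G) : Set G) =
    normalizer (I : Set G)
  jcl_eq : ∀ y ∈ I, y ≠ 1 → jcl (jj S) (centralizer ({y} : Set G)) =
    jcl (jj S) (normalizer (I : Set G))

theorem exists_tiData [Finite G] (S : Sylow 2 G) (hS : (S : Subgroup G) ≠ ⊥)
    (hE : EmptyTI.IsEmpty (S : Subgroup G)) : ∃ I, TIData (S : Subgroup G) I := by
  obtain ⟨I, h1, h2, h3, h4, h5, h6, h7, h8, h9, h10⟩ := exists_ti S hS hE
  exact ⟨I, h1, h2, h3, h4, h5, h6, h7, h8, h9, h10⟩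

/-! ### `V = ⟨Ω₁(Z(S))^{N(J)}⟩` -/

/-- `V = ⟨Ω₁(Z(S))^{N(J(S))}⟩` -/
def vv (S : Subgroup G) : Subgroup G := zl S (normalizer (jj S : Set G))

theorem zl_mono {S X Y : Subgroup G} (h : X ≤ Y) : zl S X ≤ zl S Y :=
  iSup_le fun g => le_iSup (fun g : Y => (zc S).map (MulAut.conj (g : G)).toMonoidHom) ⟨g, h g.2⟩

theorem zc_le_vv (S : Subgroup G) : zc S ≤ vv S := VModule.zc_le_zl _ _

theorem normalizer_jj_le_vv (S : Subgroup G) :
    normalizer (jj S : Set G) ≤ normalizer (vv S : Set G) := VModule.le_normalizer_zl _ _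

theorem normalizer_jj_le_zj (S : Subgroup G) :
    normalizer (jj S : Set G) ≤ normalizer (zj S : Set G) :=
  VModule.normalizer_le_normalizer_zc (jj S)

theorem vv_le_zj [Finite G] (S : Subgroup G) : vv S ≤ zj S :=
  VModule.zl_le (zc_le_zj S) (normalizer_jj_le_zj S)

theorem zl_normalizer_vv (S : Subgroup G) : zl S (normalizer (vv S : Set G)) = vv S :=
  le_antisymm (VModule.zl_le (zc_le_vv S) le_rfl) (zl_mono (normalizer_jj_le_vv S))

theorem zj_comm' {S : Subgroup G} {x y : G} (hx : x ∈ zj S) (hy : y ∈ zj S) : x * y = y * x :=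
  (mem_zj.1 hy).2.2 x (zj_le_jj _ hx)

/-- If `F ≤ I^g` and `V ∩ I^g ≠ 1` then `[F, V] = 1`. -/
theorem TIData.le_centralizer [Finite G] {S I : Subgroup G} (h : TIData S I) {g : G}
    {F : Subgroup G} (hFI : F ≤ cj g I) {V : Subgroup G} (hV : V ≤ zj S) (h1 : V ⊓ cj g I ≠ ⊥) :
    F ≤ centralizer (V : Set G) := by
  have h2 : cj g I ≤ zj S := h.cj_le g fun h0 => h1 (eq_bot_iff.2 ((inf_le_inf_right _ hV).trans h0.le))
  intro f hf
  rw [mem_centralizer_iff]
  exact fun v hv => zj_comm' (hV hv) (h2 (hFI hf))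

theorem TIData.cent_cj {S I : Subgroup G} (h : TIData S I) {g y : G} (hy : y ∈ cj g I)
    (hy1 : y ≠ 1) : centralizer ({y} : Set G) ≤ normalizer ((cj g I : Subgroup G) : Set G) := by
  obtain ⟨y, hy, rfl⟩ := hy
  have h1 : y ≠ 1 := by
    rintro rfl
    exact hy1 (map_one _)
  rw [← cj_normalizer]
  change centralizer ({g * y * g⁻¹} : Set G) ≤ _
  rw [← centralizer_cj]
  exact cj_mono g (h.cent y hy h1)

/-- **(6)** If `F ≤ I^g` normalizes `V` then `[F, V] = 1` or `|F| ≤ 2`. -/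
theorem TIData.six [Finite G] {S : Sylow 2 G} {I : Subgroup G} (h : TIData (S : Subgroup G) I)
    (hL : ∀ N : Subgroup G, IsTwoLocal N → Group.IsSolvable N) {g : G} {F : Subgroup G}
    (hFI : F ≤ cj g I) (hFV : F ≤ normalizer (vv (S : Subgroup G) : Set G)) :
    F ≤ centralizer (vv (S : Subgroup G) : Set G) ∨ Nat.card F ≤ 2 := by
  obtain ⟨V, hVdef⟩ : ∃ V, V = vv (S : Subgroup G) := ⟨_, rfl⟩
  rw [← hVdef] at hFV ⊢
  have hVz : V ≤ zj (S : Subgroup G) := hVdef ▸ vv_le_zj _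
  by_cases hVI : V ⊓ cj g I = ⊥
  swap
  · exact Or.inl (h.le_centralizer hFI hVz hVI)
  -- commutators
  have hcomm : ∀ v ∈ V, v ∈ normalizer ((cj g I : Subgroup G) : Set G) → ∀ f ∈ F,
      f * v * f⁻¹ = v := by
    intro v hv hvN f hf
    have h1 : v * f * v⁻¹ * f⁻¹ ∈ V ⊓ cj g I := by
      refine mem_inf.2 ⟨?_, mul_mem ((mem_normalizer_iff.1 hvN f).1 (hFI hf)) (inv_mem (hFI hf))⟩
      have h2 := (mem_normalizer_iff.1 (hFV hf) v⁻¹).1 (inv_mem hv)
      have h3 : v * f * v⁻¹ * f⁻¹ = v * (f * v⁻¹ * f⁻¹) := by group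
      rw [h3]
      exact mul_mem hv h2
    rw [hVI, mem_bot] at h1
    have h4 : v * f = f * v := by
      calc v * f = v * f * v⁻¹ * f⁻¹ * f * v := by group
        _ = f * v := by rw [h1]; group
    rw [← h4, mul_inv_cancel_right]
  by_cases hF0 : F ⊓ centralizer (V : Set G) = ⊥
  swap
  · left
    obtain ⟨⟨y, hy⟩, hy1⟩ := ne_bot_iff_exists_ne_one.1 hF0
    have hy1 : y ≠ 1 := fun h0 => hy1 (Subtype.ext h0)
    have h1 : V ≤ normalizer ((cj g I : Subgroup G) : Set G) := by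
      refine le_trans ?_ (h.cent_cj (hFI hy.1) hy1)
      intro v hv
      rw [mem_centralizer_singleton_iff]
      exact mem_centralizer_iff.1 hy.2 v hv
    intro f hf
    rw [mem_centralizer_iff]
    intro v hv
    have h2 := hcomm v hv (h1 hv) f hf
    calc v * f = f * v * f⁻¹ * f := by rw [h2]
      _ = f * v := by group
  right
  by_cases hV0 : V = ⊥
  · have h1 : F = ⊥ := by
      rw [← hF0, hV0]
      refine (inf_eq_left.2 fun f _ => mem_centralizer_iff.2 ?_).symm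
      intro x hx
      rw [mem_bot.1 hx, one_mul, mul_one]
    rw [h1, card_bot]
    norm_num
  have hI2 : ∀ a ∈ cj g I, a ^ 2 = 1 := by
    rintro _ ⟨a, ha, rfl⟩
    rw [← map_pow, (mem_zj.1 (h.le_zj ha)).2.1, map_one]
  have hIc : ∀ a ∈ cj g I, ∀ b ∈ cj g I, a * b = b * a := by
    rintro _ ⟨a, ha, rfl⟩ _ ⟨b, hb, rfl⟩
    rw [← map_mul, ← map_mul, zj_comm' (h.le_zj ha) (h.le_zj hb)]
  have hVloc : IsTwoLocal (normalizer (V : Set G)) :=
    ⟨V, (isPGroup_zj S.isPGroup').to_le hVz, hV0, rfl⟩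
  have hSV : (S : Subgroup G) ≤ normalizer (V : Set G) := by
    rw [hVdef]
    exact (le_normalizer.trans (Basic.normalizer_le_normalizer_jj _)).trans
      (normalizer_jj_le_vv _)
  have hzl : zl (S : Subgroup G) (normalizer (V : Set G)) = V := by
    rw [hVdef]; exact zl_normalizer_vv _
  refine card_le_two (L := normalizer (V : Set G)) (hL _ hVloc) le_rfl
    (fun v hv w hw => zj_comm' (hVz hv) (hVz hw)) (fun v hv => (mem_zj.1 (hVz hv)).2.1) ?_ hFV
    (fun a ha b hb => hIc a (hFI ha) b (hFI hb)) (fun a ha => hI2 a (hFI ha)) hF0 ?_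
  · intro D hD hDn hDk
    have h1 := Basic.le_centralizer_zl_of_pow (S := (S : Subgroup G)) hSV S.isPGroup'
      (Basic.not_dvd_relIndex S hSV) hD hDn (by rw [hzl]; exact hDk)
    rwa [hzl] at h1
  · intro a ha ha1 b hb v hv hav
    refine hcomm v hv (h.cent_cj (hFI ha) ha1 ?_) b hb
    rw [mem_centralizer_singleton_iff]
    calc v * a = a * v * a⁻¹ * a := by rw [hav]
      _ = a * v := by group

/-! ### `I' = ⟨Ω₁(Z(S))^{N(I)}⟩ ≤ I ∩ V` -/

theorem TIData.jcl_le [Finite G] {S : Sylow 2 G} {I : Subgroup G} (h : TIData (S : Subgroup G) I) :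
    jcl (jj (S : Subgroup G)) (normalizer (I : Set G)) ≤ centralizer (I : Set G) := by
  intro x hx
  rw [mem_centralizer_iff]
  intro y hy
  rw [h.eq] at hy
  exact ((mem_zc.1 hy).2.2 x hx).symm

theorem TIData.zl_le [Finite G] {S : Sylow 2 G} {I : Subgroup G} (h : TIData (S : Subgroup G) I) :
    zl (S : Subgroup G) (normalizer (I : Set G)) ≤ vv (S : Subgroup G) ⊓ I := by
  have hJ : jj (S : Subgroup G) ≤ normalizer (I : Set G) := (Basic.jj_le _).trans h.S_le
  refine VModule.zl_le (le_inf (zc_le_vv _) h.zc_le) ?_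
  refine (frattini_jcl S hJ).trans (sup_le ?_ ?_)
  · refine le_trans ?_ (centralizer_le_normalizer _)
    exact h.jcl_le.trans (centralizer_le inf_le_right)
  · intro x hx
    have h1 := cj_eq_of_mem_normalizer (mem_inf.1 hx).1
    have h2 := cj_eq_of_mem_normalizer (normalizer_jj_le_vv _ (mem_inf.1 hx).2)
    rw [mem_normalizer_iff_cj, cj_inf, h1, h2]

/-- If `|I'| > 2`, `I' = ⟨Ω₁(Z(S))^{N(I)}⟩`, then conjugates of `V` normalizing `V` centralize `V`. -/
theorem TIData.cj_vv_le [Finite G] {S : Sylow 2 G} {I : Subgroup G}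
    (h : TIData (S : Subgroup G) I)
    (hL : ∀ N : Subgroup G, IsTwoLocal N → Group.IsSolvable N)
    (hI : 2 < Nat.card (zl (S : Subgroup G) (normalizer (I : Set G)))) {g : G}
    (hg : cj g (vv (S : Subgroup G)) ≤ normalizer (vv (S : Subgroup G) : Set G)) :
    cj g (vv (S : Subgroup G)) ≤ centralizer (vv (S : Subgroup G) : Set G) := by
  obtain ⟨I', hI'⟩ : ∃ I', I' = zl (S : Subgroup G) (normalizer (I : Set G)) := ⟨_, rfl⟩
  have h1 : I' ≤ vv (S : Subgroup G) ⊓ I := hI' ▸ h.zl_le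
  have h2 : zc (S : Subgroup G) ≤ I' := hI' ▸ VModule.zc_le_zl _ _
  rw [← hI'] at hI
  rw [cj_le_iff]
  refine iSup_le fun n => ?_
  rw [← cj_le_iff]
  have h3 : cj g (cj (n : G) (zc (S : Subgroup G))) = cj (g * n) (zc (S : Subgroup G)) := cj_cj _ _ _
  refine h3.le.trans ((cj_mono _ h2).trans ?_)
  have h4 : cj (g * n) I' ≤ cj g (vv (S : Subgroup G)) := by
    rw [← cj_cj]
    refine cj_mono g ?_
    have h5 := cj_mono (n : G) (h1.trans inf_le_left)
    rwa [cj_eq_of_mem_normalizer (normalizer_jj_le_vv _ n.2)] at h5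
  rcases h.six hL (g := g * n) (cj_mono _ (h1.trans inf_le_right)) (h4.trans hg) with h6 | h6
  · exact h6
  · rw [card_cj] at h6
    omega

end Cfsg.Agent.MinSimple.EmptySix
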