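import Cfsg.Agent.ZN.Facts
import Cfsg.Agent.ZN.Four
import Cfsg.Agent.ZN.BlkFam
import Cfsg.Agent.ZN.Block
import Cfsg.Agent.PLocal.OffenderStep

/-!
# Blocks over the Baumann subgroup and the four-groups of the structure theorem

`GFF X T W J V`: the data of the structure theorem S0617 for the group `X ≤ G` (all subgroups of an
ambient group `G`): `W = C_W(J) × ∏ V i`, the `V i` four-groups permuted by `X` and normalised by
`J ≥ J(T)`, and for every `i` an element of `J(T)` moving `V i` and centralising the other `V j`.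

`Blk X T M L`: `L ≤ X`, generated by the conjugates of `B = bau T`, `|B : O₂(L)| = 2`, `L ≰ M`, where
`C_X(Ω₁Z(T)) ≤ M`.

Then exactly one `i` satisfies `vl B L = V i` and `O₂(L) = C_B(V i)`, `L` normalises every `V j` and
centralises `C_W(J)` and every `x j = C_{V j}(J(T))`, `j ≠ i`.
-/

set_option autoImplicit false
set_option linter.unusedSectionVars false

namespace Cfsg.Agent.MinSimple.PlanePair

open Subgroup Cfsg
open Cfsg.Agent.ZN
open scoped commutatorElement

universe u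

variable {G : Type u} [Group G]

/-- The data of the structure theorem, inside an ambient group. -/
structure GFF (X T W J : Subgroup G) {ι : Type} (V : ι → Subgroup G) : Prop where
  two : IsPGroup 2 T
  TX : T ≤ X
  WT : W ≤ T
  Wn : X ≤ normalizer (W : Set G)
  Wcomm : ∀ x ∈ W, ∀ y ∈ W, x * y = y * x
  Wsq : ∀ x ∈ W, x ^ 2 = 1
  zcW : zc T ≤ W
  Jn : X ≤ normalizer (J : Set G)
  jJ : jj T ≤ J
  card : ∀ i, Nat.card (V i) = 4
  indep : iSupIndep (fun o : Option ι => o.elim (W ⊓ centralizer (J : Set G)) V)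
  sup : (W ⊓ centralizer (J : Set G)) ⊔ (⨆ i, V i) = W
  perm : ∀ g ∈ X, ∀ i, ∃ j, (V i).map (MulAut.conj g).toMonoidHom = V j
  nrm : ∀ i, J ≤ normalizer ((V i : Subgroup G) : Set G)
  t : ∀ i, ∃ t ∈ jj T, (∃ v ∈ V i, t * v * t⁻¹ ≠ v) ∧ ∀ j, j ≠ i → ∀ v ∈ V j, t * v = v * t

/-- The properties of a block over `B = bau T` inside `X`, not contained in `M`. -/
structure Blk (X T M L : Subgroup G) : Prop where
  BL : bau T ≤ L
  LX : L ≤ X
  QB : o2 L ≤ bau T
  idx : (o2 L).relIndex (bau T) = 2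
  gen : ∀ H : Subgroup G, (∀ l ∈ L, ∀ b ∈ bau T, l * b * l⁻¹ ∈ H) → L ≤ H
  card : Nat.card (vl (bau T) L) = 4
  cent : X ⊓ centralizer (zc T : Set G) ≤ M
  notM : ¬ L ≤ M

namespace GFF

variable {X T W J : Subgroup G} {ι : Type} {V : ι → Subgroup G}

theorem VW (h : GFF X T W J V) (i : ι) : V i ≤ W := by
  rw [← h.sup]
  exact (le_iSup V i).trans le_sup_right

theorem Vsq (h : GFF X T W J V) (i : ι) : ∀ v ∈ V i, v ^ 2 = 1 :=
  fun v hv => h.Wsq v (h.VW i hv)

theorem disj (h : GFF X T W J V) {i j : ι} (hij : i ≠ j) : V i ⊓ V j = ⊥ := by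
  have h1 := h.indep (some i)
  rw [disjoint_iff] at h1
  rw [eq_bot_iff, ← h1]
  refine inf_le_inf_left _ ?_
  exact le_iSup₂_of_le (f := fun (o : Option ι) (_ : o ≠ some i) =>
    o.elim (W ⊓ centralizer (J : Set G)) V) (some j) (by simpa using hij.symm) le_rfl

theorem disj0 (h : GFF X T W J V) (i : ι) : V i ⊓ (W ⊓ centralizer (J : Set G)) = ⊥ := by
  have h1 := h.indep (some i)
  rw [disjoint_iff] at h1
  rw [eq_bot_iff, ← h1]
  refine inf_le_inf_left _ ?_
  exact le_iSup₂_of_le (f := fun (o : Option ι) (_ : o ≠ some i) =>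
    o.elim (W ⊓ centralizer (J : Set G)) V) none (by simp) le_rfl

theorem eq_of_mem (h : GFF X T W J V) {i j : ι} {x : G} (hi : x ∈ V i) (hj : x ∈ V j)
    (h1 : x ≠ 1) : i = j := by
  by_contra hij
  have := h.disj hij
  exact h1 ((mem_bot (G := G)).1 (this ▸ ⟨hi, hj⟩))

/-- a nontrivial element of `V i` centralised by `J(T)` exists, and is in `zj T`. -/
theorem exists_x [Finite G] (h : GFF X T W J V) (i : ι) :
    ∃ x ∈ V i, x ≠ 1 ∧ x ∈ zj T := by
  haveI : Fact (Nat.Prime 2) := ⟨Nat.prime_two⟩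
  have h2 : IsPGroup 2 (V i) := h.two.to_le ((h.VW i).trans h.WT)
  have hne : V i ≠ ⊥ := by
    intro h0
    have := h.card i
    rw [h0, Subgroup.card_bot] at this
    omega
  have h3 := PLocal.OffenderStep.inf_centralizer_ne_bot (V i) (jj T) h2
    (h.two.to_le (jj_le T)) (h.jJ.trans (h.nrm i)) hne
  obtain ⟨⟨x, hx⟩, hx1⟩ := Subgroup.ne_bot_iff_exists_ne_one.1 h3
  refine ⟨x, hx.1, fun h0 => hx1 (Subtype.ext h0), ?_⟩
  refine mem_zj_of_comm (h.WT (h.VW i hx.1)) (h.Vsq i _ hx.1) fun b hb => ?_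
  exact (mem_centralizer_iff.1 hx.2) b hb

/-- the chosen nontrivial element of `V i ⊓ zj T`. -/
noncomputable def x [Finite G] (h : GFF X T W J V) (i : ι) : G := (h.exists_x i).choose

theorem xV [Finite G] (h : GFF X T W J V) (i : ι) : h.x i ∈ V i :=
  (h.exists_x i).choose_spec.1

theorem x1 [Finite G] (h : GFF X T W J V) (i : ι) : h.x i ≠ 1 :=
  (h.exists_x i).choose_spec.2.1

theorem xz [Finite G] (h : GFF X T W J V) (i : ι) : h.x i ∈ zj T :=
  (h.exists_x i).choose_spec.2.2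

/-- an element of `V i` commuting with an element `t` moving `V i` and fixing `x i` is `1` or `x i` -/
theorem eq_x [Finite G] (h : GFF X T W J V) {i : ι} {v t : G} (hv : v ∈ V i)
    (hx : t * h.x i * t⁻¹ = h.x i) (htv : t * v * t⁻¹ = v) (hm : ∃ w ∈ V i, t * w * t⁻¹ ≠ w) :
    v = 1 ∨ v = h.x i := by
  by_contra hcon
  push Not at hcon
  obtain ⟨w, hw, hw1⟩ := hm
  have h1 := Four.cent_of_two (h.card i) (h.Vsq i) (h.xV i) hv (h.x1 i) hcon.1
    (fun h0 => hcon.2 h0.symm) hx htv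
  exact hw1 (Four.mem_cent_iff.1 h1 w hw)

theorem fix_x [Finite G] (h : GFF X T W J V) (i : ι) {b : G} (hb : b ∈ bau T) :
    b * h.x i * b⁻¹ = h.x i := by
  rw [Four.conj_eq_iff_comm]
  exact ((mem_centralizer_iff.1 (bau_le_centralizer T hb)) (h.x i) (h.xz i)).symm

/-- an element of `V i ⊓ zj T` is `1` or `x i`. -/
theorem zj_cap [Finite G] (h : GFF X T W J V) {i : ι} {v : G} (hv : v ∈ V i) (hz : v ∈ zj T) :
    v = 1 ∨ v = h.x i := by
  obtain ⟨t, ht, hm, -⟩ := h.t i
  refine h.eq_x hv (h.fix_x i (jj_le_bau T ht)) ?_ hm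
  rw [Four.conj_eq_iff_comm]
  exact ((mem_centralizer_iff.1 (bau_le_centralizer T (jj_le_bau T ht))) v hz).symm

/-- an element `b` of `X` centralising `zj T` normalises all `V i`. -/
theorem bV [Finite G] (h : GFF X T W J V) (i : ι) : bau T ≤ normalizer (V i : Set G) := by
  intro b hb
  obtain ⟨j, hj⟩ := h.perm b (h.TX (bau_le T hb)) i
  have hx : h.x i ∈ V j := by
    rw [← hj]
    exact ⟨h.x i, h.xV i, h.fix_x i hb⟩
  have := h.eq_of_mem (h.xV i) hx (h.x1 i)
  subst this
  exact mem_normalizer_of_map_conj_eq hj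

theorem conj_bV [Finite G] (h : GFF X T W J V) (i : ι) {g b : G} (hg : g ∈ X) (hb : b ∈ bau T) :
    g * b * g⁻¹ ∈ normalizer (V i : Set G) := by
  obtain ⟨j, hj⟩ := h.perm g⁻¹ (inv_mem hg) i
  have h1 : (V j).map (MulAut.conj g).toMonoidHom = V i := by
    rw [← hj, Subgroup.map_map]
    have h0 : (MulAut.conj g).toMonoidHom.comp (MulAut.conj g⁻¹).toMonoidHom = MonoidHom.id G := by
      ext v
      simp [mul_assoc]
    rw [h0, Subgroup.map_id]
  apply mem_normalizer_of_map_conj_eq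
  have h2 := map_conj_eq_of_mem_normalizer (h.bV j hb)
  calc (V i).map (MulAut.conj (g * b * g⁻¹)).toMonoidHom
      = ((V j).map (MulAut.conj g).toMonoidHom).map (MulAut.conj (g * b * g⁻¹)).toMonoidHom := by
        rw [h1]
    _ = ((V j).map (MulAut.conj b).toMonoidHom).map (MulAut.conj g).toMonoidHom := by
        rw [Subgroup.map_map, Subgroup.map_map]
        congr 1
        ext v
        simp [mul_assoc]
    _ = V i := by rw [h2, h1]

/-- the decomposition of the fixed points of `J(T)` on `W`. -/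
theorem fixed_le [Finite G] [Finite ι] (h : GFF X T W J V) {w : G} (hw : w ∈ W)
    (hc : ∀ b ∈ jj T, b * w * b⁻¹ = w) :
    w ∈ (W ⊓ centralizer (J : Set G)) ⊔ ⨆ i, zpowers (h.x i) := by
  classical
  set C := W ⊓ centralizer (J : Set G) with hC
  set R := C ⊔ ⨆ i, zpowers (h.x i) with hR
  have hCW : C ≤ W := inf_le_left
  have key : ∀ s : Finset ι, ∀ w ∈ C ⊔ ⨆ i ∈ s, V i, (∀ b ∈ jj T, b * w * b⁻¹ = w) → w ∈ R := by
    intro s
    induction s using Finset.induction_on with
    | empty =>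
      intro w hw _
      simp only [Finset.notMem_empty, iSup_false, iSup_bot, sup_bot_eq] at hw
      exact (le_sup_left : C ≤ R) hw
    | insert a s ha ih =>
      intro w hw hfix
      have h1 : C ⊔ (⨆ i ∈ insert a s, V i) = (C ⊔ ⨆ i ∈ s, V i) ⊔ V a := by
        rw [Finset.iSup_insert, sup_assoc, sup_comm (V a)]
      rw [h1] at hw
      have hW' : C ⊔ (⨆ i ∈ s, V i) ≤ W := sup_le hCW (iSup₂_le fun i _ => h.VW i)
      obtain ⟨r, hr, v, hv, hrv⟩ := (BlkFam.mem_sup_of_comm (R := C ⊔ ⨆ i ∈ s, V i) (V := V a)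
        (fun r hr v hv => h.Wcomm r (hW' hr) v (h.VW a hv))).1 hw
      obtain ⟨t, ht, hm, hj⟩ := h.t a
      -- `t` commutes with `r`
      have htr : t ∈ centralizer ((C ⊔ ⨆ i ∈ s, V i : Subgroup G) : Set G) := by
        have : (C ⊔ ⨆ i ∈ s, V i) ≤ centralizer ({t} : Set G) := by
          refine sup_le ?_ (iSup₂_le fun i hi => ?_)
          · intro c hc'
            rw [mem_centralizer_singleton_iff]
            exact ((mem_centralizer_iff.1 hc'.2) t (h.jJ ht)).symm
          · intro c hc'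
            rw [mem_centralizer_singleton_iff]
            exact (hj i (fun h0 => ha (h0 ▸ hi)) c hc').symm
        refine mem_centralizer_iff.2 fun c hc' => ?_
        exact mem_centralizer_singleton_iff.1 (this hc')
      have htr' : t * r * t⁻¹ = r := by
        rw [Four.conj_eq_iff_comm]
        exact ((mem_centralizer_iff.1 htr) r hr).symm
      have htw := hfix t ht
      have htv : t * v * t⁻¹ = v := by
        have h2 : (t * r * t⁻¹) * (t * v * t⁻¹) = r * v := by
          rw [hrv] at htw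
          calc (t * r * t⁻¹) * (t * v * t⁻¹) = t * (r * v) * t⁻¹ := by group
            _ = r * v := htw
        rw [htr'] at h2
        exact mul_left_cancel h2
      have hvx := h.eq_x hv (h.fix_x a (jj_le_bau T ht)) htv hm
      have hvR : v ∈ R := by
        rcases hvx with h0 | h0
        · rw [h0]; exact one_mem _
        · rw [h0]
          exact (le_sup_right : _ ≤ R) ((le_iSup (fun i => zpowers (h.x i)) a)
            (mem_zpowers _))
      have hvfix : ∀ b ∈ jj T, b * v * b⁻¹ = v := by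
        intro b hb
        rcases hvx with h0 | h0
        · rw [h0]; group
        · rw [h0]; exact h.fix_x a (jj_le_bau T hb)
      have hrR : r ∈ R := by
        refine ih r hr fun b hb => ?_
        have h2 := hfix b hb
        rw [hrv] at h2
        have h3 : (b * r * b⁻¹) * (b * v * b⁻¹) = r * v := by
          calc (b * r * b⁻¹) * (b * v * b⁻¹) = b * (r * v) * b⁻¹ := by group
            _ = r * v := h2
        rw [hvfix b hb] at h3
        exact mul_right_cancel h3
      rw [hrv]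
      exact mul_mem hrR hvR
  have := Fintype.ofFinite ι
  refine key Finset.univ w ?_ hc
  rw [← h.sup] at hw
  simpa using hw

end GFF

section blk

variable [Finite G] {X T W J M L : Subgroup G} {ι : Type} [Finite ι] {V : ι → Subgroup G}

/-- `L` normalises every `V i`. -/
theorem nV (h : GFF X T W J V) (k : Blk X T M L) (i : ι) : L ≤ normalizer (V i : Set G) :=
  k.gen _ fun _ hl _ hb => h.conj_bV i (k.LX hl) hb

/-- `L` centralises `C_W(J)`. -/
theorem cC (h : GFF X T W J V) (k : Blk X T M L) :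
    L ≤ centralizer ((W ⊓ centralizer (J : Set G) : Subgroup G) : Set G) := by
  refine k.gen _ fun l hl b hb => ?_
  rw [Four.mem_cent_iff]
  intro w hw
  have h1 : l⁻¹ * w * l ∈ W ⊓ centralizer (J : Set G) := by
    have hW := Four.conj_mem' (h.Wn (k.LX hl)) hw.1
    refine ⟨hW, mem_centralizer_iff.2 fun y hy => ?_⟩
    have hy' := Four.conj_mem (h.Jn (k.LX hl)) hy
    have h2 := (mem_centralizer_iff.1 hw.2) _ hy'
    have h3 : l⁻¹ * ((l * y * l⁻¹) * w) * l = l⁻¹ * (w * (l * y * l⁻¹)) * l := by rw [h2]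
    calc y * (l⁻¹ * w * l) = l⁻¹ * ((l * y * l⁻¹) * w) * l := by group
      _ = l⁻¹ * (w * (l * y * l⁻¹)) * l := h3
      _ = l⁻¹ * w * l * y := by group
  have h2 : l⁻¹ * w * l ∈ zj T := by
    refine mem_zj_of_comm (h.WT h1.1) (h.Wsq _ h1.1) fun y hy => ?_
    exact (mem_centralizer_iff.1 h1.2) y (h.jJ hy)
  have h3 : b * (l⁻¹ * w * l) * b⁻¹ = l⁻¹ * w * l := by
    rw [Four.conj_eq_iff_comm]
    exact ((mem_centralizer_iff.1 (bau_le_centralizer T hb)) _ h2).symm
  calc l * b * l⁻¹ * w * (l * b * l⁻¹)⁻¹ = l * (b * (l⁻¹ * w * l) * b⁻¹) * l⁻¹ := by group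
    _ = w := by rw [h3]; group

/-- if `L` moves `x i` then `O₂(L) = C_B(V i)`. -/
theorem o2_eq (h : GFF X T W J V) (k : Blk X T M L) {i : ι}
    (hm : ∃ l ∈ L, l * h.x i * l⁻¹ ≠ h.x i) :
    o2 L = bau T ⊓ centralizer (V i : Set G) := by
  obtain ⟨l, hl, hlx⟩ := hm
  have h1 : o2 L ≤ bau T ⊓ centralizer (V i : Set G) := by
    refine le_inf k.QB fun q hq => ?_
    have hq1 := h.fix_x i (k.QB hq)
    have hq2 : l⁻¹ * q * l ∈ o2 L := Four.conj_mem' (le_normalizer_o2 L hl) hq
    have hq3 := h.fix_x i (k.QB hq2)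
    have hq4 : q * (l * h.x i * l⁻¹) * q⁻¹ = l * h.x i * l⁻¹ := by
      calc q * (l * h.x i * l⁻¹) * q⁻¹
          = l * ((l⁻¹ * q * l) * h.x i * (l⁻¹ * q * l)⁻¹) * l⁻¹ := by group
        _ = _ := by rw [hq3]
    refine Four.cent_of_two (h.card i) (h.Vsq i) (h.xV i)
      (Four.conj_mem (nV h k i hl) (h.xV i)) (h.x1 i) ?_ hlx.symm hq1 hq4
    intro h0
    apply h.x1 i
    calc h.x i = l⁻¹ * (l * h.x i * l⁻¹) * l := by group
      _ = 1 := by rw [h0]; group
  rcases Block.eq_or_eq_of_relIndex_prime Nat.prime_two k.idx h1 inf_le_left with h2 | h2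
  · exact h2.symm
  · exfalso
    obtain ⟨t, ht, ⟨v, hv, htv⟩, -⟩ := h.t i
    have h3 : t ∈ bau T ⊓ centralizer (V i : Set G) := by
      rw [h2]; exact jj_le_bau T ht
    exact htv (Four.mem_cent_iff.1 h3.2 v hv)

/-- `L` moves at most one `x i`. -/
theorem moved_unique (h : GFF X T W J V) (k : Blk X T M L) {i j : ι}
    (hi : ∃ l ∈ L, l * h.x i * l⁻¹ ≠ h.x i) (hj : ∃ l ∈ L, l * h.x j * l⁻¹ ≠ h.x j) : i = j := by
  by_contra hij
  have h1 := o2_eq h k hi
  have h2 := o2_eq h k hj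
  obtain ⟨t, ht, ⟨v, hv, htv⟩, hc⟩ := h.t i
  have h3 : t ∈ o2 L := by
    rw [h2]
    refine ⟨jj_le_bau T ht, mem_centralizer_iff.2 fun w hw => ?_⟩
    exact (hc j (fun h0 => hij h0.symm) w hw).symm
  rw [h1] at h3
  exact htv (Four.mem_cent_iff.1 h3.2 v hv)

/-- `L` moves some `x i`. -/
theorem exists_moved (h : GFF X T W J V) (k : Blk X T M L) :
    ∃ i, ∃ l ∈ L, l * h.x i * l⁻¹ ≠ h.x i := by
  by_contra hcon
  push Not at hcon
  apply k.notM
  have h1 : (W ⊓ centralizer (J : Set G)) ⊔ (⨆ i, zpowers (h.x i)) ≤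
      centralizer (L : Set G) := by
    refine sup_le ?_ (iSup_le fun i => ?_)
    · intro w hw
      refine mem_centralizer_iff.2 fun l hl => ?_
      exact ((mem_centralizer_iff.1 (cC h k hl)) w hw).symm
    · rw [zpowers_le]
      refine mem_centralizer_iff.2 fun l hl => ?_
      exact Four.conj_eq_iff_comm.1 (hcon i l hl)
  refine le_trans (le_inf k.LX fun l hl => ?_) k.cent
  refine mem_centralizer_iff.2 fun w hw => ?_
  have h2 := h.fixed_le (h.zcW hw) fun b hb => by
    rw [Four.conj_eq_iff_comm]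
    exact zc_comm hw (jj_le T hb)
  exact ((mem_centralizer_iff.1 (h1 h2)) l hl).symm

/-- the plane moved by `L` is `vl B L`. -/
theorem vl_eq (h : GFF X T W J V) (k : Blk X T M L) {i : ι}
    (hm : ∃ l ∈ L, l * h.x i * l⁻¹ ≠ h.x i) : vl (bau T) L = V i := by
  obtain ⟨l, hl, hlx⟩ := hm
  set x := h.x i with hx
  have hxz : x ∈ zl (bau T) L := by
    apply zc_le_zl
    rw [zc_bau]
    exact h.xz i
  set y := l * x * l⁻¹ with hy
  have hyV : y ∈ V i := Four.conj_mem (nV h k i hl) (h.xV i)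
  have hy1 : y ≠ 1 := by
    intro h0
    apply h.x1 i
    change x = 1
    calc x = l⁻¹ * y * l := by rw [hy]; group
      _ = 1 := by rw [h0]; group
  obtain ⟨t, ht, hmt, -⟩ := h.t i
  have htB := jj_le_bau T ht
  have hxx : x * x = 1 := by rw [← pow_two]; exact h.Vsq i _ (h.xV i)
  have hyy : y * y = 1 := by rw [← pow_two]; exact h.Vsq i _ hyV
  have hxy : x * y = y * x := Four.comm_of_sq (h.Vsq i) (h.xV i) hyV
  have h1 : x * y ∈ vl (bau T) L := by
    have h2 : ⁅x, l⁆ ∈ vl (bau T) L := Subgroup.commutator_mem_commutator hxz hl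
    have h3 : ⁅x, l⁆ = x * y := by
      have hxi : x⁻¹ = x := inv_eq_of_mul_eq_one_left hxx
      rw [commutatorElement_def, hy]
      calc x * l * x⁻¹ * l⁻¹ = x * l * x * l⁻¹ := by rw [hxi]
        _ = x * (l * x * l⁻¹) := by group
    rwa [h3] at h2
  have htx : t * x * t⁻¹ = x := h.fix_x i htB
  have hty : t * y * t⁻¹ = x * y := by
    rcases Four.fix_dichotomy (h.card i) (h.Vsq i) (h.xV i) hyV (h.x1 i) hy1 (Ne.symm hlx)
      (nV h k i (k.BL htB)) htx with h0 | h0
    · exfalso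
      rcases h.eq_x hyV htx h0 hmt with h5 | h5
      · exact hy1 h5
      · exact hlx h5
    · exact h0
  have h4 : y ∈ vl (bau T) L := by
    have h5 := Four.conj_mem (le_normalizer_vl (bau T) L (k.BL htB)) h1
    have h6 : t * (x * y) * t⁻¹ = y := by
      calc t * (x * y) * t⁻¹ = (t * x * t⁻¹) * (t * y * t⁻¹) := by group
        _ = x * (x * y) := by rw [htx, hty]
        _ = (x * x) * y := by group
        _ = y := by rw [hxx, one_mul]
    rwa [h6] at h5
  have h5 : x ∈ vl (bau T) L := by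
    have h6 := mul_mem h1 h4
    have h7 : x * y * y = x := by rw [mul_assoc, hyy, mul_one]
    rwa [h7] at h6
  have h6 : V i ≤ vl (bau T) L := by
    intro v hv
    rcases Four.four (h.card i) (h.Vsq i) (h.xV i) hyV (h.x1 i) hy1 (Ne.symm hlx) v hv with
      h0 | h0 | h0 | h0
    · rw [h0]; exact one_mem _
    · rw [h0]; exact h5
    · rw [h0]; exact h4
    · rw [h0]; exact h1
  exact (Subgroup.eq_of_le_of_card_ge h6 (by rw [h.card i, k.card])).symm

/-- **Main statement.** -/
theorem exists_plane (h : GFF X T W J V) (k : Blk X T M L) :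
    ∃ i, vl (bau T) L = V i ∧ o2 L = bau T ⊓ centralizer (V i : Set G) ∧
      (∃ l ∈ L, l * h.x i * l⁻¹ ≠ h.x i) ∧
      ∀ j, j ≠ i → ∀ l ∈ L, l * h.x j * l⁻¹ = h.x j := by
  obtain ⟨i, hi⟩ := exists_moved h k
  refine ⟨i, vl_eq h k hi, o2_eq h k hi, hi, fun j hj l hl => ?_⟩
  by_contra hcon
  exact hj (moved_unique h k ⟨l, hl, hcon⟩ hi)

end blk

end Cfsg.Agent.MinSimple.PlanePair
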