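import Cfsg.Agent.ZN.Defs
import Cfsg.Agent.ZN.Map

/-!
# General blocks

`GBlk B L`: the generalisation of `ZN.IsBlk` in which `L / O₂(L)` is dihedral of order `2 · 3 ^ m`
(instead of `S₃`).  With `Q = O₂(L)`, `Z = zl B L = ⟨Ω₁(Z(B))^L⟩`, `R = rl B L = C_{Ω₁Z(B)}(L)`,
`V = vl B L = [Z, L]`: `Z = R × V` is elementary abelian, `|V| = 4`, `|Ω₁(Z(B)) : R| = 2`,
`C_B(Z) = Q` has index `2` in `B`, `C_L(Q) ≤ Q`, `J(Q) ≤ J(B) ≰ Q`.
-/

set_option autoImplicit false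

namespace Cfsg.Agent.MinSimple

open Subgroup Cfsg
open Cfsg.Agent.ZN

universe u v

variable {K : Type v} {G : Type u} [Group K] [Group G]

/-- `L` is a block over its Sylow 2-subgroup `B`, `L / O₂(L)` dihedral of order `2 · 3 ^ m`. -/
structure GBlk (B L : Subgroup G) : Prop where
  le : B ≤ L
  two : IsPGroup 2 B
  index : ∃ m : ℕ, 0 < m ∧ B.relIndex L = 3 ^ m
  o2_le : o2 L ≤ B
  o2_index : (o2 L).relIndex B = 2
  self_cent : L ⊓ centralizer (o2 L : Set G) ≤ o2 L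
  zl_comm : ∀ x ∈ zl B L, ∀ y ∈ zl B L, x * y = y * x
  zl_sq : ∀ x ∈ zl B L, x ^ 2 = 1
  /-- `C_B(⟨Ω₁(Z(B))^L⟩) = O₂(L)` -/
  cent_zl : B ⊓ centralizer (zl B L : Set G) = o2 L
  rl_index : (rl B L).relIndex (zc B) = 2
  card_vl : Nat.card (vl B L) = 4
  sup_eq : rl B L ⊔ vl B L = zl B L
  disj : rl B L ⊓ vl B L = ⊥
  jj_o2_le : jj (o2 L) ≤ jj B
  not_jj_le : ¬ jj B ≤ o2 L
  /-- a 3-element `x` of `L` inverted modulo `O₂(L)` by an element `t` of `J(B)`, inducing an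
  automorphism of order `3` on `V`, with `L = B⟨x⟩` -/
  gen : ∃ x ∈ L, ∃ t ∈ jj B, (∃ m : ℕ, x ^ 3 ^ m = 1) ∧ t * x * t⁻¹ * x ∈ o2 L ∧
    B ⊔ zpowers x = L ∧ (∀ v ∈ vl B L, x * v * x⁻¹ = v → v = 1) ∧
    ∀ v ∈ vl B L, x ^ 3 * v * (x ^ 3)⁻¹ = v

theorem GBlk.map {B L : Subgroup K} (h : GBlk B L) (f : K →* G) (hf : Function.Injective f) :
    GBlk (B.map f) (L.map f) where
  le := Subgroup.map_mono h.le
  two := h.two.map f
  index := by
    obtain ⟨m, hm, h1⟩ := h.index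
    exact ⟨m, hm, by rw [relIndex_map_map_of_injective _ _ hf, h1]⟩
  o2_le := by rw [o2_map f hf]; exact Subgroup.map_mono h.o2_le
  o2_index := by rw [o2_map f hf, relIndex_map_map_of_injective _ _ hf, h.o2_index]
  self_cent := by
    rw [o2_map f hf, centralizer_map_inf f hf]
    exact Subgroup.map_mono h.self_cent
  zl_comm := by
    rw [zl_map f hf]
    rintro _ ⟨x, hx, rfl⟩ _ ⟨y, hy, rfl⟩
    rw [← map_mul, ← map_mul, h.zl_comm x hx y hy]
  zl_sq := by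
    rw [zl_map f hf]
    rintro _ ⟨x, hx, rfl⟩
    rw [← map_pow, h.zl_sq x hx, map_one]
  cent_zl := by rw [zl_map f hf, o2_map f hf, centralizer_map_inf f hf, h.cent_zl]
  rl_index := by rw [zc_map f hf, rl_map f hf, relIndex_map_map_of_injective _ _ hf, h.rl_index]
  card_vl := by rw [vl_map f hf, card_map_of_injective hf, h.card_vl]
  sup_eq := by rw [vl_map f hf, zl_map f hf, rl_map f hf, ← Subgroup.map_sup, h.sup_eq]
  disj := by rw [vl_map f hf, rl_map f hf, ← Subgroup.map_inf _ _ _ hf, h.disj, Subgroup.map_bot]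
  jj_o2_le := by rw [o2_map f hf, jj_map f hf, jj_map f hf]; exact Subgroup.map_mono h.jj_o2_le
  not_jj_le := by
    rw [o2_map f hf, jj_map f hf, Subgroup.map_le_map_iff_of_injective hf]
    exact h.not_jj_le
  gen := by
    obtain ⟨x, hx, t, ht, ⟨m, hm⟩, h1, h2, h3, h4⟩ := h.gen
    refine ⟨f x, ⟨x, hx, rfl⟩, f t, ?_, ⟨m, ?_⟩, ?_, ?_, ?_, ?_⟩
    · rw [jj_map f hf]; exact ⟨t, ht, rfl⟩
    · rw [← map_pow, hm, map_one]
    · rw [o2_map f hf]
      exact ⟨_, h1, by simp only [map_mul, map_inv]⟩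
    · rw [← h2, Subgroup.map_sup, MonoidHom.map_zpowers]
    · rw [vl_map f hf]
      rintro _ ⟨v, hv, rfl⟩ hfix
      rw [← map_inv, ← map_mul, ← map_mul] at hfix
      rw [h3 v hv (hf hfix), map_one]
    · rw [vl_map f hf]
      rintro _ ⟨v, hv, rfl⟩
      rw [← map_pow, ← map_inv, ← map_mul, ← map_mul, h4 v hv]

theorem GBlk.conj {B L : Subgroup G} (h : GBlk B L) (g : G) :
    GBlk (B.map (MulAut.conj g).toMonoidHom) (L.map (MulAut.conj g).toMonoidHom) :=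
  h.map _ (MulAut.conj g).injective

end Cfsg.Agent.MinSimple
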