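import Cfsg.Agent.ZN.Four

/-!
# The final contradiction in Lemma P (helper108's proof)

`kill`: `p, q` involutions of a four-group `V`, `V''` a four-group normalized by `C(p)` and
commuting with `q ∉ V''`, such that the stabilizer in `C(p)` of an element `z ≠ 1` of `V''`
normalizes `V`, some element of `C(p)` acts as an element of order `3` on `V''`, the conjugates of
`V` under `C(p)` normalize each other but do not all commute, and `p`, `q` are conjugate in `N(V)`.
This is impossible: the product `c` of three anticommuting elements satisfies `c ^ 2 = p` and `⟨c⟩`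
is normalized by `C(p)`.
-/

set_option autoImplicit false

namespace Cfsg.Agent.MinSimple.LemPKill

open Subgroup Cfsg.Agent.ZN

variable {G : Type*} [Group G]

/-- `u = v` up to the sign `p`. -/
def Ap (p u v : G) : Prop := u = v ∨ u = p * v

theorem Ap.mul {p u v u' v' : G} (hpv : p * v = v * p) (hpp : p * p = 1) (h : Ap p u v)
    (h' : Ap p u' v') : Ap p (u * u') (v * v') := by
  rcases h with rfl | rfl <;> rcases h' with rfl | rfl
  · exact Or.inl rfl
  · right
    calc u * (p * v') = (u * p) * v' := by group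
      _ = p * (u * v') := by rw [← hpv]; group
  · right; group
  · left
    calc p * v * (p * v') = p * (v * p) * v' := by group
      _ = (p * p) * v * v' := by rw [← hpv]; group
      _ = v * v' := by rw [hpp, one_mul]

/-- Three pairwise anticommuting involutions. -/
structure Anti (p : G) (a : Fin 3 → G) : Prop where
  pp : p * p = 1
  p1 : p ≠ 1
  comm : ∀ i, p * a i = a i * p
  sq : ∀ i, a i * a i = 1
  anti : ∀ i j, i ≠ j → a i * a j = p * (a j * a i)

namespace Anti

variable {p : G} {a : Fin 3 → G}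

/-- the element of order `4` -/
def c (a : Fin 3 → G) : G := a 0 * a 1 * a 2

theorem comm2 (h : Anti p a) (i j : Fin 3) : p * (a i * a j) = a i * a j * p := by
  rw [← mul_assoc, h.comm, mul_assoc, h.comm, ← mul_assoc]

theorem comm_c (h : Anti p a) : p * c a = c a * p := by
  rw [c, ← mul_assoc, h.comm2, mul_assoc, h.comm, ← mul_assoc]

/-- moving `a k` across two different `a i`, `a j` -/
theorem move (h : Anti p a) {i j k : Fin 3} (hik : i ≠ k) (hjk : j ≠ k) :
    a i * a j * a k = a k * (a i * a j) := by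
  calc a i * a j * a k = a i * (a j * a k) := by group
    _ = a i * (p * (a k * a j)) := by rw [h.anti j k hjk]
    _ = (a i * p) * (a k * a j) := by group
    _ = p * (a i * a k) * a j := by rw [← h.comm]; group
    _ = p * (p * (a k * a i)) * a j := by rw [h.anti i k hik]
    _ = (p * p) * (a k * (a i * a j)) := by group
    _ = a k * (a i * a j) := by rw [h.pp, one_mul]

theorem prod (h : Anti p a) : ∀ i j k : Fin 3, i ≠ j → i ≠ k → j ≠ k →
    Ap p (a i * a j * a k) (c a) := by
  have h021 : a 0 * a 2 * a 1 = p * c a := by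
    calc a 0 * a 2 * a 1 = a 0 * (a 2 * a 1) := by group
      _ = a 0 * (p * (a 1 * a 2)) := by rw [h.anti 2 1 (by decide)]
      _ = (a 0 * p) * (a 1 * a 2) := by group
      _ = p * c a := by rw [← h.comm, c]; group
  have h102 : a 1 * a 0 * a 2 = p * c a := by
    rw [h.anti 1 0 (by decide), c]; group
  have h120 : a 1 * a 2 * a 0 = c a := by
    rw [h.move (by decide) (by decide), c]; group
  have h201 : a 2 * a 0 * a 1 = c a := by
    have := h.move (i := 0) (j := 1) (k := 2) (by decide) (by decide)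
    rw [c, this]; group
  have h210 : a 2 * a 1 * a 0 = p * c a := by
    rw [h.move (by decide) (by decide), ← h021]; group
  intro i j k hij hik hjk
  fin_cases i <;> fin_cases j <;> fin_cases k <;>
    first
    | exact absurd rfl hij
    | exact absurd rfl hik
    | exact absurd rfl hjk
    | exact Or.inl rfl
    | exact Or.inr h021
    | exact Or.inr h102
    | exact Or.inl h120
    | exact Or.inl h201
    | exact Or.inr h210

theorem c_sq (h : Anti p a) : c a * c a = p := by
  calc c a * c a = (a 0 * a 1 * a 2) * a 0 * (a 1 * a 2) := by rw [c]; group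
    _ = a 0 * (a 1 * a 2 * a 0) * (a 1 * a 2) := by group
    _ = a 0 * (a 0 * (a 1 * a 2)) * (a 1 * a 2) := by
        rw [h.move (i := 1) (j := 2) (k := 0) (by decide) (by decide)]
    _ = (a 0 * a 0) * a 1 * (a 2 * a 1) * a 2 := by group
    _ = a 1 * (p * (a 1 * a 2)) * a 2 := by rw [h.sq, h.anti 2 1 (by decide), one_mul]
    _ = (a 1 * p) * a 1 * (a 2 * a 2) := by group
    _ = p * (a 1 * a 1) * (a 2 * a 2) := by rw [← h.comm]; group
    _ = p := by rw [h.sq, h.sq, mul_one, mul_one]

theorem c_comm_zero (h : Anti p a) : c a * a 0 = a 0 * c a := by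
  calc c a * a 0 = a 0 * (a 1 * a 2 * a 0) := by rw [c]; group
    _ = a 0 * (a 0 * (a 1 * a 2)) := by
        rw [h.move (i := 1) (j := 2) (k := 0) (by decide) (by decide)]
    _ = a 0 * c a := by rw [c]; group

/-- an element permuting the `a i` up to signs normalizes `⟨c⟩` -/
theorem conj_c (h : Anti p a) {x : G}
    (hx : ∀ i, ∃ j, Ap p (x * a i * x⁻¹) (a j)) : Ap p (x * c a * x⁻¹) (c a) := by
  choose σ hσ using hx
  have hinj : ∀ i j, i ≠ j → σ i ≠ σ j := by
    intro i j hij h0
    have h1 := h.anti i j hij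
    have hi := hσ i
    have hj := hσ j
    rw [← h0] at hj
    have h2 : x * a i * x⁻¹ * (x * a j * x⁻¹) = x * a j * x⁻¹ * (x * a i * x⁻¹) := by
      rcases hi with h3 | h3 <;> rcases hj with h4 | h4 <;> rw [h3, h4]
      · calc a (σ i) * (p * a (σ i)) = (a (σ i) * p) * a (σ i) := by group
          _ = p * a (σ i) * a (σ i) := by rw [← h.comm]
      · calc p * a (σ i) * a (σ i) = (a (σ i) * p) * a (σ i) := by rw [← h.comm]
          _ = a (σ i) * (p * a (σ i)) := by group
    have h3 : a i * a j = a j * a i := by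
      calc a i * a j = x⁻¹ * (x * a i * x⁻¹ * (x * a j * x⁻¹)) * x := by group
        _ = x⁻¹ * (x * a j * x⁻¹ * (x * a i * x⁻¹)) * x := by rw [h2]
        _ = a j * a i := by group
    rw [h3] at h1
    exact h.p1 (mul_eq_right.mp h1.symm)
  have h1 : Ap p (x * c a * x⁻¹) (a (σ 0) * a (σ 1) * a (σ 2)) := by
    have h2 : x * c a * x⁻¹ = x * a 0 * x⁻¹ * (x * a 1 * x⁻¹) * (x * a 2 * x⁻¹) := by
      rw [c]; group
    rw [h2]
    refine Ap.mul (by rw [h.comm2]) h.pp (Ap.mul (h.comm _) h.pp (hσ 0) (hσ 1)) (hσ 2)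
  have h2 := h.prod (σ 0) (σ 1) (σ 2) (hinj _ _ (by decide)) (hinj _ _ (by decide))
    (hinj _ _ (by decide))
  rcases h1 with h1 | h1 <;> rcases h2 with h2 | h2
  · left; rw [h1, h2]
  · right; rw [h1, h2]
  · right; rw [h1, h2]
  · left
    rw [h1, h2]
    calc p * (p * c a) = (p * p) * c a := by group
      _ = c a := by rw [h.pp, one_mul]

end Anti

/-- The final contradiction. -/
theorem kill {p q y z g : G} {V V'' : Subgroup G} (hV : Nat.card V = 4)
    (hVs : ∀ v ∈ V, v ^ 2 = 1) (hV'' : Nat.card V'' = 4) (hVs'' : ∀ v ∈ V'', v ^ 2 = 1)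
    (hp : p ∈ V) (hq : q ∈ V) (hp1 : p ≠ 1) (hq1 : q ≠ 1) (hpq : p ≠ q) (hz : z ∈ V'')
    (hz1 : z ≠ 1) (hXV : ∀ x, x * p = p * x → x ∈ normalizer (V'' : Set G))
    (hst : ∀ x, x * p = p * x → x * z * x⁻¹ = z → x ∈ normalizer (V : Set G))
    (hy : y * p = p * y) (hyz : y * z * y⁻¹ ≠ z) (hy3 : y ^ 3 ∈ centralizer (V'' : Set G))
    (hnc : ∃ h, h * p = p * h ∧ ∃ u ∈ V, ∃ w ∈ V, u * (h * w * h⁻¹) ≠ (h * w * h⁻¹) * u)
    (hnor : ∀ x, x * p = p * x → ∀ v ∈ V, x * v * x⁻¹ ∈ normalizer (V : Set G))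
    (hg : g ∈ normalizer (V : Set G)) (hgp : g * p * g⁻¹ = q)
    (hcomm : ∀ v ∈ V'', v * q = q * v) (hqV : q ∉ V'') : False := by
  have hpp : p * p = 1 := by rw [← pow_two]; exact hVs p hp
  have hqq : q * q = 1 := by rw [← pow_two]; exact hVs q hq
  have hpq' : p * q = q * p := Four.comm_of_sq hVs hp hq
  have hfour := Four.four hV hVs hp hq hp1 hq1 hpq
  have hyi : y⁻¹ * p = p * y⁻¹ := by
    calc y⁻¹ * p = y⁻¹ * (p * y) * y⁻¹ := by group
      _ = y⁻¹ * (y * p) * y⁻¹ := by rw [hy]
      _ = p * y⁻¹ := by group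
  have hmul : ∀ x x', x * p = p * x → x' * p = p * x' → x * x' * p = p * (x * x') := by
    intro x x' h h'
    calc x * x' * p = x * (x' * p) := by group
      _ = (x * p) * x' := by rw [h']; group
      _ = p * (x * x') := by rw [h]; group
  have hinv : ∀ x, x * p = p * x → x⁻¹ * p = p * x⁻¹ := by
    intro x h
    calc x⁻¹ * p = x⁻¹ * (p * x) * x⁻¹ := by group
      _ = x⁻¹ * (x * p) * x⁻¹ := by rw [h]
      _ = p * x⁻¹ := by group
  have hconj : ∀ x, x * p = p * x → x * p * x⁻¹ = p := by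
    intro x h
    rw [h]; group
  -- elements of `C(p)` normalizing `V`
  have hnq : ∀ n, n * p = p * n → n ∈ normalizer (V : Set G) → Ap p (n * q * n⁻¹) q :=
    fun n hn hnV => Four.fix_dichotomy hV hVs hp hq hp1 hq1 hpq hnV (hconj n hn)
  -- `y` acts on `V''` as an element of order 3
  have hyV : y ∉ centralizer (V'' : Set G) := fun h0 => hyz (Four.mem_cent_iff.mp h0 z hz)
  have hstab : ∀ x, x * p = p * x → ∃ e : Fin 3, ∃ n, n * p = p * n ∧
      n ∈ normalizer (V : Set G) ∧ x = (![1, y, y⁻¹] e) * n := by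
    intro x hx
    have h1 := Four.conj_mem (hXV x hx) hz
    have h2 : x * z * x⁻¹ ≠ 1 := fun h0 => hz1 (conj_eq_one_iff.mp h0)
    rcases Four.cyc_trans hV'' hVs'' (hXV y hy) hyV hy3 hz hz1 h1 h2 with h3 | h3 | h3
    · exact ⟨0, x, hx, hst x hx h3, by simp⟩
    · refine ⟨1, y⁻¹ * x, hmul _ _ hyi hx, hst _ (hmul _ _ hyi hx) ?_, by simp⟩
      calc y⁻¹ * x * z * (y⁻¹ * x)⁻¹ = y⁻¹ * (x * z * x⁻¹) * y := by group
        _ = z := by rw [h3]; group
    · refine ⟨2, y * x, hmul _ _ hy hx, hst _ (hmul _ _ hy hx) ?_, by simp⟩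
      calc y * x * z * (y * x)⁻¹ = y * (x * z * x⁻¹) * y⁻¹ := by group
        _ = z := by rw [h3]; group
  set a : Fin 3 → G := ![q, y * q * y⁻¹, y⁻¹ * q * y] with ha
  have ha0 : a 0 = q := rfl
  have ha1 : a 1 = y * q * y⁻¹ := rfl
  have ha2 : a 2 = y⁻¹ * q * y := rfl
  have hae : ∀ e : Fin 3, a e = (![1, y, y⁻¹] e) * q * (![1, y, y⁻¹] e)⁻¹ := by
    intro e
    fin_cases e
    · simp [a]
    · simp [a]
    · simp [a]
  have hep : ∀ e : Fin 3, (![1, y, y⁻¹] e : G) * p = p * (![1, y, y⁻¹] e : G) := by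
    intro e
    fin_cases e
    · simp
    · simpa using hy
    · simpa using hyi
  have hcomm_a : ∀ i, p * a i = a i * p := by
    intro i
    rw [hae]
    have h1 := hep i
    have h2 := hinv _ h1
    calc p * ((![1, y, y⁻¹] i) * q * (![1, y, y⁻¹] i)⁻¹)
        = (p * (![1, y, y⁻¹] i)) * q * (![1, y, y⁻¹] i)⁻¹ := by group
      _ = (![1, y, y⁻¹] i) * (p * q) * (![1, y, y⁻¹] i)⁻¹ := by rw [← h1]; group
      _ = (![1, y, y⁻¹] i) * q * (p * (![1, y, y⁻¹] i)⁻¹) := by rw [hpq']; group
      _ = (![1, y, y⁻¹] i) * q * (![1, y, y⁻¹] i)⁻¹ * p := by rw [← h2]; group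
  have hsq_a : ∀ i, a i * a i = 1 := by
    intro i
    rw [hae]
    calc (![1, y, y⁻¹] i) * q * (![1, y, y⁻¹] i)⁻¹ * ((![1, y, y⁻¹] i) * q * (![1, y, y⁻¹] i)⁻¹)
        = (![1, y, y⁻¹] i) * (q * q) * (![1, y, y⁻¹] i)⁻¹ := by group
      _ = 1 := by rw [hqq]; group
  -- every conjugate of `q` under `C(p)` is an `a e` up to sign
  have hperm0 : ∀ x, x * p = p * x → ∃ e, Ap p (x * q * x⁻¹) (a e) := by
    intro x hx
    obtain ⟨e, n, hn, hnV, rfl⟩ := hstab x hx
    refine ⟨e, ?_⟩
    have h1 := hep e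
    rcases hnq n hn hnV with h2 | h2
    · left
      rw [hae]
      calc (![1, y, y⁻¹] e) * n * q * ((![1, y, y⁻¹] e) * n)⁻¹
          = (![1, y, y⁻¹] e) * (n * q * n⁻¹) * (![1, y, y⁻¹] e)⁻¹ := by group
        _ = _ := by rw [h2]
    · right
      rw [hae]
      calc (![1, y, y⁻¹] e) * n * q * ((![1, y, y⁻¹] e) * n)⁻¹
          = (![1, y, y⁻¹] e) * (n * q * n⁻¹) * (![1, y, y⁻¹] e)⁻¹ := by group
        _ = ((![1, y, y⁻¹] e) * p) * q * (![1, y, y⁻¹] e)⁻¹ := by rw [h2]; group
        _ = _ := by rw [h1]; group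
  have hperm : ∀ x, x * p = p * x → ∀ i, ∃ e, Ap p (x * a i * x⁻¹) (a e) := by
    intro x hx i
    obtain ⟨e, he⟩ := hperm0 (x * (![1, y, y⁻¹] i)) (hmul _ _ hx (hep i))
    refine ⟨e, ?_⟩
    have : x * a i * x⁻¹ = x * (![1, y, y⁻¹] i) * q * (x * (![1, y, y⁻¹] i))⁻¹ := by
      rw [hae]; group
    rw [this]
    exact he
  -- `q` and `a 1` anticommute
  have h01 : q * a 1 = p * (a 1 * q) := by
    obtain ⟨h, hh, u, hu, w, hw, huw⟩ := hnc
    -- `h * w * h⁻¹` and `u` do not commute
    have hcc : ∀ s t : G, Ap p s t → ∀ v, (q * t = t * q) → (p * t = t * p) → v ∈ V →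
        v * s = s * v := by
      intro s t hst' v hqt hpt hv
      have hv1 : v * t = t * v := by
        rcases hfour v hv with rfl | rfl | rfl | rfl
        · simp
        · exact hpt
        · exact hqt
        · calc p * q * t = p * (q * t) := by group
            _ = (p * t) * q := by rw [hqt]; group
            _ = t * (p * q) := by rw [hpt]; group
      have hv2 : v * p = p * v := Four.comm_of_sq hVs hv hp
      rcases hst' with rfl | rfl
      · exact hv1
      · calc v * (p * t) = (v * p) * t := by group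
          _ = p * (v * t) := by rw [hv2]; group
          _ = p * t * v := by rw [hv1]; group
    obtain ⟨e, he⟩ := hperm0 h hh
    have hne : ¬ q * a e = a e * q := by
      intro h0
      apply huw
      have hph := hcomm_a e
      -- `h w h⁻¹` is `1, p, a e, p * a e` up to sign
      rcases hfour w hw with rfl | rfl | rfl | rfl
      · simp
      · rw [hconj h hh]
        exact Four.comm_of_sq hVs hu hp
      · exact hcc _ _ he u h0 hph hu
      · have h3 : h * (p * q) * h⁻¹ = p * (h * q * h⁻¹) := by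
          calc h * (p * q) * h⁻¹ = (h * p) * q * h⁻¹ := by group
            _ = p * (h * q * h⁻¹) := by rw [hh]; group
        rw [h3]
        have h4 := hcc _ _ he u h0 hph hu
        have h5 : u * p = p * u := Four.comm_of_sq hVs hu hp
        calc u * (p * (h * q * h⁻¹)) = (u * p) * (h * q * h⁻¹) := by group
          _ = p * (u * (h * q * h⁻¹)) := by rw [h5]; group
          _ = p * (h * q * h⁻¹) * u := by rw [h4]; group
    -- `a e` normalizes `V`
    have hanti : a e * q * (a e)⁻¹ = p * q := by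
      have h1 : a e ∈ normalizer (V : Set G) := by
        rw [hae]
        exact hnor _ (hep e) q hq
      rcases hnq (a e) (hcomm_a e).symm h1 with h2 | h2
      · exfalso
        apply hne
        calc q * a e = (a e * q * (a e)⁻¹) * a e := by rw [h2]
          _ = a e * q := by group
      · exact h2
    have he0 : e ≠ 0 := by
      rintro rfl
      exact hne rfl
    have he12 : e = 1 ∨ e = 2 := by
      fin_cases e
      · exact absurd rfl he0
      · exact Or.inl rfl
      · exact Or.inr rfl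
    rcases he12 with rfl | rfl
    · have h2 : a 1 * q = p * q * a 1 := by
        calc a 1 * q = (a 1 * q * (a 1)⁻¹) * a 1 := by group
          _ = p * q * a 1 := by rw [hanti]
      rw [h2]
      calc q * a 1 = (p * p) * q * a 1 := by rw [hpp, one_mul]
        _ = p * (p * q * a 1) := by group
    · -- `a 2 q = p q a 2`, conjugate with `y`
      have h2 : a 2 * q = p * q * a 2 := by
        calc a 2 * q = (a 2 * q * (a 2)⁻¹) * a 2 := by group
          _ = p * q * a 2 := by rw [hanti]
      have h3 : y * (a 2 * q) * y⁻¹ = y * (p * q * a 2) * y⁻¹ := by rw [h2]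
      have h4 : y * (a 2 * q) * y⁻¹ = q * a 1 := by rw [ha1, ha2]; group
      have h5 : y * (p * q * a 2) * y⁻¹ = p * (a 1 * q) := by
        calc y * (p * q * a 2) * y⁻¹ = (y * p) * q * a 2 * y⁻¹ := by group
          _ = p * (a 1 * q) := by rw [hy, ha1, ha2]; group
      rw [← h4, h3, h5]
  have h02 : a 2 * q = p * (q * a 2) := by
    have h3 : y⁻¹ * (q * a 1) * y = y⁻¹ * (p * (a 1 * q)) * y := by rw [h01]
    have h4 : y⁻¹ * (q * a 1) * y = a 2 * q := by rw [ha1, ha2]; group
    have h5 : y⁻¹ * (p * (a 1 * q)) * y = p * (q * a 2) := by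
      calc y⁻¹ * (p * (a 1 * q)) * y = (y⁻¹ * p) * (a 1 * q) * y := by group
        _ = p * (q * a 2) := by rw [hyi, ha1, ha2]; group
    rw [← h4, h3, h5]
  have hflip : ∀ u v : G, u * v = p * (v * u) → v * u = p * (u * v) := by
    intro u v h0
    rw [h0]
    calc v * u = (p * p) * (v * u) := by rw [hpp, one_mul]
      _ = p * (p * (v * u)) := by group
  have h12 : a 1 * a 2 = p * (a 2 * a 1) := by
    -- conjugate `q a 1 = p a 1 q` with `y`
    have h3 : y * (q * a 1) * y⁻¹ = y * (p * (a 1 * q)) * y⁻¹ := by rw [h01]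
    set b := y * a 1 * y⁻¹ with hb
    have h4 : a 1 * b = p * (b * a 1) := by
      calc a 1 * b = y * (q * a 1) * y⁻¹ := by rw [hb, ha1]; group
        _ = y * (p * (a 1 * q)) * y⁻¹ := h3
        _ = (y * p) * (a 1 * q) * y⁻¹ := by group
        _ = p * (b * a 1) := by rw [hy, hb, ha1]; group
    have h5 : Ap p b (a 2) := by
      have hy3p : y ^ 3 * p = p * y ^ 3 := by
        have e1 : y ^ 3 = y * (y * y) := by rw [pow_succ, pow_two]; group
        rw [e1]
        exact hmul _ _ hy (hmul _ _ hy hy)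
      have h6 : y ^ 3 ∈ normalizer (V : Set G) :=
        hst _ hy3p (Four.mem_cent_iff.mp hy3 z hz)
      have h7 : b = y⁻¹ * (y ^ 3 * q * (y ^ 3)⁻¹) * y := by
        have e1 : y ^ 3 = y * (y * y) := by rw [pow_succ, pow_two]; group
        rw [hb, ha1, e1]
        simp only [mul_inv_rev, mul_assoc, inv_mul_cancel_left, inv_mul_cancel, mul_one]
      rcases hnq _ hy3p h6 with h8 | h8
      · left; rw [h7, h8, ha2]
      · right
        rw [h7, h8, ha2]
        calc y⁻¹ * (p * q) * y = (y⁻¹ * p) * q * y := by group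
          _ = p * (y⁻¹ * q * y) := by rw [hyi]; group
    rcases h5 with h5 | h5
    · rw [← h5]; exact h4
    · rw [h5] at h4
      have h6 : p * (a 1 * a 2) = p * (p * (a 2 * a 1)) := by
        calc p * (a 1 * a 2) = (a 1 * p) * a 2 := by rw [← hcomm_a 1]; group
          _ = a 1 * (p * a 2) := by group
          _ = p * (p * a 2 * a 1) := h4
          _ = p * (p * (a 2 * a 1)) := by group
      exact mul_left_cancel h6
  have hA : Anti p a := by
    refine ⟨hpp, hp1, hcomm_a, hsq_a, ?_⟩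
    intro i j hij
    fin_cases i <;> fin_cases j
    · exact absurd rfl hij
    · exact h01
    · exact hflip _ _ h02
    · exact hflip _ _ h01
    · exact absurd rfl hij
    · exact h12
    · exact h02
    · exact hflip _ _ h12
    · exact absurd rfl hij
  set c := Anti.c a with hc
  have hcn : ∀ x, x * p = p * x → Ap p (x * c * x⁻¹) c := fun x hx =>
    hA.conj_c (hperm x hx)
  have hc2 : c * c = p := hA.c_sq
  have hcq : c * q = q * c := hA.c_comm_zero
  have hcp : c * p = p * c := hA.comm_c.symm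
  have hcV : ∀ v ∈ V, c * v = v * c := by
    intro v hv
    rcases hfour v hv with rfl | rfl | rfl | rfl
    · simp
    · exact hcp
    · exact hcq
    · calc c * (p * q) = (c * p) * q := by group
        _ = p * (c * q) := by rw [hcp]; group
        _ = p * q * c := by rw [hcq]; group
  -- `c' = c ^ g`
  set c' := g * c * g⁻¹ with hc'
  have hc'2 : c' * c' = q := by
    calc c' * c' = g * (c * c) * g⁻¹ := by rw [hc']; group
      _ = q := by rw [hc2, hgp]
  have hc'V : ∀ v ∈ V, c' * v = v * c' := by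
    intro v hv
    have h1 := hcV _ (Four.conj_mem' hg hv)
    calc c' * v = g * (c * (g⁻¹ * v * g)) * g⁻¹ := by rw [hc']; group
      _ = g * ((g⁻¹ * v * g) * c) * g⁻¹ := by rw [h1]
      _ = v * c' := by rw [hc']; group
  have hc'p : c' * p = p * c' := hc'V p hp
  have hc'n : ∀ v ∈ V'', v * c' = c' * v := by
    intro v hv
    have h1 : (g⁻¹ * v * g) * p = p * (g⁻¹ * v * g) := by
      have hp' : p = g⁻¹ * q * g := by rw [← hgp]; group
      rw [hp']
      calc g⁻¹ * v * g * (g⁻¹ * q * g) = g⁻¹ * (v * q) * g := by group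
        _ = g⁻¹ * (q * v) * g := by rw [hcomm v hv]
        _ = g⁻¹ * q * g * (g⁻¹ * v * g) := by group
    have h2 : v * c' * v⁻¹ = g * ((g⁻¹ * v * g) * c * (g⁻¹ * v * g)⁻¹) * g⁻¹ := by
      rw [hc']; group
    rcases hcn _ h1 with h3 | h3
    · have h4 : v * c' * v⁻¹ = c' := by rw [h2, h3]
      calc v * c' = (v * c' * v⁻¹) * v := by group
        _ = c' * v := by rw [h4]
    · exfalso
      have h4 : v * c' * v⁻¹ = q * c' := by
        rw [h2, h3]
        calc g * (p * c) * g⁻¹ = (g * p * g⁻¹) * (g * c * g⁻¹) := by group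
          _ = q * c' := by rw [hgp]
      apply hqV
      have h5 : c' * v⁻¹ * c'⁻¹ ∈ V'' := Four.conj_mem (hXV c' hc'p) (inv_mem hv)
      have h6 : q = v * (c' * v⁻¹ * c'⁻¹) := by
        calc q = (q * c') * c'⁻¹ := by group
          _ = (v * c' * v⁻¹) * c'⁻¹ := by rw [h4]
          _ = v * (c' * v⁻¹ * c'⁻¹) := by group
      rw [h6]
      exact mul_mem hv h5
  -- `c'` normalizes `V ^ y`
  have h1 : (y⁻¹ * c' * y) * p = p * (y⁻¹ * c' * y) := by
    have := hmul _ _ (hmul _ _ hyi hc'p) hy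
    exact this
  have h2 : (y⁻¹ * c' * y) ∈ normalizer (V : Set G) := by
    refine hst _ h1 ?_
    have h3 := hc'n _ (Four.conj_mem (hXV y hy) hz)
    calc y⁻¹ * c' * y * z * (y⁻¹ * c' * y)⁻¹
        = y⁻¹ * (c' * (y * z * y⁻¹)) * c'⁻¹ * y := by group
      _ = y⁻¹ * ((y * z * y⁻¹) * c') * c'⁻¹ * y := by rw [h3]
      _ = z := by group
  have h3 : (y⁻¹ * c' * y) * (y⁻¹ * c' * y) ∈ centralizer (V : Set G) :=
    Four.sq_mem_cent hV hVs hp hp1 h2 (hconj _ h1)
  have h4 : (y⁻¹ * c' * y) * (y⁻¹ * c' * y) = y⁻¹ * q * y := by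
    calc (y⁻¹ * c' * y) * (y⁻¹ * c' * y) = y⁻¹ * (c' * c') * y := by group
      _ = y⁻¹ * q * y := by rw [hc'2]
  rw [h4] at h3
  have h5 := Four.mem_cent_iff.mp h3 q hq
  have h6 : a 2 * q = q * a 2 := Four.conj_eq_iff_comm.mp h5
  rw [h6] at h02
  exact hp1 (mul_eq_right.mp h02.symm)

end Cfsg.Agent.MinSimple.LemPKill
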