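import Cfsg.Agent.MinSimple.LemX
import Cfsg.Agent.MinSimple.DBlkReduce

/-!
# Lemma X, consequences: the blocks in a solvable group `X` of characteristic 2

* `indep`: two blocks `L, L'` with `vl B L ≠ vl B L'`: the point of `L'` lies in `rl B L`;
* `perm`: `X` permutes the planes `vl B L` of its blocks;
* `bau_eq`: `B(T) = B(S)` for a 2-group `T ≥ B(S)`, `S` a Sylow 2-subgroup of `G`.
-/

set_option autoImplicit false

namespace Cfsg.Agent.MinSimple.LemXPerm

open Subgroup Cfsg Cfsg.Agent.ZN Cfsg.Agent.MinSimple Cfsg.Agent.MinSimple.PlanePair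
open Cfsg.Agent.MinSimple.DBlkApi Cfsg.Agent.MinSimple.LemX

universe u

variable {G : Type u} [Group G]

/-! ### General lemmas -/

/-- The Frattini argument, elementwise. -/
theorem exists_frattini [Finite G] {X L T : Subgroup G} (hTX : T ≤ X) (hT : IsPGroup 2 T)
    (hTs : ¬ 2 ∣ T.relIndex X) (hL : X ≤ normalizer (L : Set G)) {x : G} (hx : x ∈ X) :
    ∃ l ∈ L, ∃ n ∈ X ⊓ normalizer ((T ⊓ L : Subgroup G) : Set G), x = l * n := by
  have h1 := Basic.frattini hTX hT hTs hL hx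
  have h2 : x ∈ ((L ⊔ (X ⊓ normalizer ((T ⊓ L : Subgroup G) : Set G)) : Subgroup G) : Set G) := h1
  rw [coe_mul_of_right_le_normalizer_left _ _ (inf_le_left.trans hL)] at h2
  obtain ⟨a, ha, b, hb, hab⟩ := h2
  exact ⟨a, ha, b, hb, hab.symm⟩

/-- `N_X(J(T)) = (N_X(J(T)) ∩ C(Ω₁Z(J(T)))) (N_X(J(T)) ∩ N(B(T)))`, elementwise. -/
theorem exists_mul_of_mem_normalizer_jj [Finite G] {X T : Subgroup G} (hTX : T ≤ X)
    (hT : IsPGroup 2 T) (hTs : ¬ 2 ∣ T.relIndex X) {x : G} (hx : x ∈ X)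
    (hxJ : x ∈ normalizer (jj T : Set G)) :
    ∃ c ∈ X ⊓ centralizer (zj T : Set G), ∃ n ∈ X ⊓ normalizer (bau T : Set G), x = c * n := by
  set N := X ⊓ normalizer (jj T : Set G) with hN
  have hTN : T ≤ N := le_inf hTX (le_normalizer_jj T)
  have hNX : N ≤ X := inf_le_left
  set L := N ⊓ centralizer (zj T : Set G) with hL
  have hNL : N ≤ normalizer (L : Set G) := by
    refine le_trans (le_inf le_normalizer ?_) inf_normalizer_le_normalizer_inf
    exact (inf_le_right.trans (normalizer_jj_le_normalizer_zj T)).trans (DBlkReduce.nc _)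
  have hTL : T ⊓ L = bau T := by
    rw [hL, bau, ← inf_assoc, inf_eq_left.2 hTN]
  obtain ⟨c, hc, n, hn, rfl⟩ := exists_frattini hTN hT (DBlkReduce.not_dvd_of_le hTs hTN hNX) hNL
    (show x ∈ N from ⟨hx, hxJ⟩)
  rw [hTL] at hn
  exact ⟨c, ⟨hNX hc.1, hc.2⟩, n, ⟨hNX hn.1, hn.2⟩, rfl⟩

/-- `X = J(X) (X ∩ C(Ω₁Z(J(T)))) N_X(B(T))`, elementwise, for `J(T) ≤ J ⊴ X`. -/
theorem exists_decomp [Finite G] {X T J : Subgroup G} (hTX : T ≤ X) (hT : IsPGroup 2 T)
    (hTs : ¬ 2 ∣ T.relIndex X) (hJ : X ≤ normalizer (J : Set G)) (hjJ : jj T ≤ J) {x : G}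
    (hx : x ∈ X) : ∃ j ∈ J, ∃ c ∈ X ⊓ centralizer (zj T : Set G),
      ∃ n ∈ X ⊓ normalizer (bau T : Set G), x = j * c * n := by
  obtain ⟨j, hj, m, hm, rfl⟩ := exists_frattini hTX hT hTs hJ hx
  have h1 : jj (T ⊓ J) = jj T := ZN.jj_eq_of_le (le_inf (ZN.jj_le T) hjJ) inf_le_left
  have h2 : m ∈ normalizer (jj T : Set G) := by
    rw [← h1]
    exact ZN.normalizer_le_normalizer_jj _ hm.2
  obtain ⟨c, hc, n, hn, rfl⟩ := exists_mul_of_mem_normalizer_jj hTX hT hTs hm.1 h2
  exact ⟨j, hj, c, hc, n, hn, by group⟩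

theorem vl_map_conj {B L : Subgroup G} {n : G} (hn : n ∈ normalizer (B : Set G)) :
    (vl B L).map (MulAut.conj n).toMonoidHom = vl B (L.map (MulAut.conj n).toMonoidHom) := by
  have h1 := vl_map (MulAut.conj n).toMonoidHom (MulAut.conj n).injective B L
  rw [← h1]
  congr 1
  exact map_conj_eq_of_mem_normalizer hn

theorem isDBlk_conj {B L : Subgroup G} {k : ℕ} {n : G} (h : IsDBlk B L k)
    (hn : n ∈ normalizer (B : Set G)) : IsDBlk B (L.map (MulAut.conj n).toMonoidHom) k := by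
  have h1 := h.conj n
  rwa [map_conj_eq_of_mem_normalizer hn] at h1

/-! ### The blocks of `X` -/

section loc

variable [Finite G] {X T : Subgroup G}

/-- Conjugation of a block of `X` by an element of `N_X(B)`. -/
theorem conj_mem_blocks {L : Subgroup G} (hL : L ∈ blocks X T) {n : G}
    (hn : n ∈ X ⊓ normalizer (bau T : Set G)) :
    L.map (MulAut.conj n).toMonoidHom ∈ blocks X T := by
  obtain ⟨hLX, k, hk⟩ := hL
  refine ⟨?_, k, isDBlk_conj hk hn.2⟩
  rintro _ ⟨l, hl, rfl⟩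
  exact mul_mem (mul_mem hn.1 (hLX hl)) (inv_mem hn.1)

/-- **`X` permutes the planes of its blocks.** -/
theorem perm (hX : Loc X T) {L : Subgroup G} (hL : L ∈ blocks X T) {x : G} (hx : x ∈ X) :
    ∃ L' ∈ blocks X T, (vl (bau T) L).map (MulAut.conj x).toMonoidHom = vl (bau T) L' := by
  obtain ⟨n, V, h⟩ := exists_gff hX ⟨L, hL⟩
  obtain ⟨j, hj, c, hc, m, hm, rfl⟩ := exists_decomp hX.TX hX.two hX.syl h.Jn h.jJ hx
  refine ⟨_, conj_mem_blocks hL hm, ?_⟩
  set L' := L.map (MulAut.conj m).toMonoidHom with hL'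
  have hL'b : L' ∈ blocks X T := conj_mem_blocks hL hm
  obtain ⟨hL'X, k, hk⟩ := hL'b
  obtain ⟨i, hi, -, hpt, -⟩ := exists_plane h hL'X hk (vl_le_mod hL'X hk)
  have h1 : (vl (bau T) L).map (MulAut.conj m).toMonoidHom = V i := by
    rw [vl_map_conj hm.2, ← hi]
  have h2 : (V i).map (MulAut.conj c).toMonoidHom = V i := by
    obtain ⟨i', hi'⟩ := h.perm c hc.1 i
    have h3 : h.x i ∈ V i' := by
      rw [← hi']
      refine ⟨h.x i, h.xV i, ?_⟩
      exact Four.conj_eq_iff_comm.2 ((mem_centralizer_iff.1 hc.2) _ (h.xz i)).symm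
    have h4 := h.eq_of_mem (h.xV i) h3 (h.x1 i)
    rw [hi', ← h4]
  have h3 : (V i).map (MulAut.conj j).toMonoidHom = V i :=
    map_conj_eq_of_mem_normalizer (h.nrm i hj)
  calc (vl (bau T) L).map (MulAut.conj (j * c * m)).toMonoidHom
      = (((vl (bau T) L).map (MulAut.conj m).toMonoidHom).map
          (MulAut.conj c).toMonoidHom).map (MulAut.conj j).toMonoidHom := by
        rw [Subgroup.map_map, Subgroup.map_map]
        congr 1
        ext v
        simp [mul_assoc]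
    _ = V i := by rw [h1, h2, h3]
    _ = vl (bau T) L' := hi.symm

/-- **The point of another block lies in `rl`.** -/
theorem indep (hX : Loc X T) {L L' : Subgroup G} (hL : L ∈ blocks X T) (hL' : L' ∈ blocks X T)
    (hne : vl (bau T) L ≠ vl (bau T) L') {z : G} (hz : IsPt (bau T) L' z) :
    z ∈ rl (bau T) L := by
  obtain ⟨n, V, h⟩ := exists_gff hX ⟨L, hL⟩
  obtain ⟨hLX, k, hk⟩ := hL
  obtain ⟨hL'X, k', hk'⟩ := hL'
  obtain ⟨i, hi, -, -, hfix⟩ := exists_plane h hLX hk (vl_le_mod hLX hk)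
  obtain ⟨j, hj, -, hpt, -⟩ := exists_plane h hL'X hk' (vl_le_mod hL'X hk')
  have hij : j ≠ i := by
    rintro rfl
    exact hne (hi.trans hj.symm)
  have hzx : z = h.x j := hpt.unique hk' hz
  rw [hzx]
  refine ⟨hpt.2.1, mem_centralizer_iff.2 fun l hl => ?_⟩
  exact Four.conj_eq_iff_comm.1 (hfix j hij l hl)

/-- Two blocks of `X` with the same point have the same plane. -/
theorem vl_eq_of_pt (hX : Loc X T) {L L' : Subgroup G} (hL : L ∈ blocks X T)
    (hL' : L' ∈ blocks X T) {z : G} (hz : IsPt (bau T) L z) (hz' : IsPt (bau T) L' z) :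
    vl (bau T) L = vl (bau T) L' := by
  by_contra hne
  obtain ⟨-, k, hk⟩ := id hL
  exact pt_notMem_rl hk hz (indep hX hL hL' hne hz')

end loc

/-! ### Fusion of Baumann subgroups -/

/-- A 2-group containing `B(S)`, `S` a Sylow 2-subgroup of `G`, has the same `J`. -/
theorem jj_eq [Finite G] (S : Sylow 2 G) {T : Subgroup G} (hT : IsPGroup 2 T)
    (hB : jj (S : Subgroup G) ≤ T) : jj T = jj (S : Subgroup G) := by
  haveI : Fact (Nat.Prime 2) := ⟨Nat.prime_two⟩
  obtain ⟨P, hP⟩ := hT.exists_le_sylow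
  obtain ⟨g, hg⟩ := MulAction.exists_smul_eq G P S
  have hPS : (P : Subgroup G).map (MulAut.conj g).toMonoidHom = (S : Subgroup G) := by
    rw [← hg, Sylow.coe_subgroup_smul]; rfl
  -- `T ^ g ≤ S`
  have hTS : T.map (MulAut.conj g).toMonoidHom ≤ (S : Subgroup G) := by
    rw [← hPS]; exact Subgroup.map_mono hP
  -- largest elementary abelian subgroups
  obtain ⟨A, hA⟩ := exists_isMaxIn (S : Subgroup G)
  have hAT : A ≤ T := hA.le_jj.trans hB
  have hmax : IsMaxIn T A := by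
    refine ⟨hAT, hA.2.1, fun C hC hC2 => ?_⟩
    have h1 := hA.2.2 (C.map (MulAut.conj g).toMonoidHom) ((Subgroup.map_mono hC).trans hTS)
      (PLocal.ThompsonJ.isElementaryAbelian_map hC2 _)
    rwa [PLocal.ThompsonJ.card_map_injective _ (MulAut.conj g).injective] at h1
  have hle : jj (S : Subgroup G) ≤ jj T := by
    refine jj_le_of_forall fun C hC => ?_
    refine IsMaxIn.le_jj ⟨hC.le_jj.trans hB, hC.2.1, fun D hD hD2 => ?_⟩
    exact (hmax.2.2 D hD hD2).trans (hC.2.2 A hA.1 hA.2.1)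
  have hle2 : (jj T).map (MulAut.conj g).toMonoidHom ≤ jj (S : Subgroup G) := by
    rw [← jj_map _ (MulAut.conj g).injective]
    refine jj_le_of_forall fun C hC => ?_
    refine IsMaxIn.le_jj ⟨hC.1.trans hTS, hC.2.1, fun D hD hD2 => ?_⟩
    have h1 := hA.2.2 D hD hD2
    have h2 := hC.2.2 (A.map (MulAut.conj g).toMonoidHom) (Subgroup.map_mono hAT)
      (PLocal.ThompsonJ.isElementaryAbelian_map hA.2.1 _)
    rw [PLocal.ThompsonJ.card_map_injective _ (MulAut.conj g).injective] at h2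
    exact h1.trans h2
  refine (Subgroup.eq_of_le_of_card_ge hle ?_).symm
  calc Nat.card (jj T) = Nat.card ((jj T).map (MulAut.conj g).toMonoidHom) :=
        (PLocal.ThompsonJ.card_map_injective _ (MulAut.conj g).injective).symm
    _ ≤ Nat.card (jj (S : Subgroup G)) := Subgroup.card_le_of_le hle2

/-- A 2-group containing `B(S)`, `S` a Sylow 2-subgroup of `G`, has the same Baumann subgroup. -/
theorem bau_eq [Finite G] (S : Sylow 2 G) {T : Subgroup G} (hT : IsPGroup 2 T)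
    (hB : bau (S : Subgroup G) ≤ T) : bau T = bau (S : Subgroup G) := by
  haveI : Fact (Nat.Prime 2) := ⟨Nat.prime_two⟩
  have hJ : jj T = jj (S : Subgroup G) := jj_eq S hT ((jj_le_bau _).trans hB)
  have hz : zj T = zj (S : Subgroup G) := by rw [zj_eq_zc, zj_eq_zc, hJ]
  obtain ⟨P, hP⟩ := hT.exists_le_sylow
  obtain ⟨g, hg⟩ := MulAction.exists_smul_eq G P S
  have hPS : (P : Subgroup G).map (MulAut.conj g).toMonoidHom = (S : Subgroup G) := by
    rw [← hg, Sylow.coe_subgroup_smul]; rfl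
  have hJP : jj (P : Subgroup G) = jj (S : Subgroup G) :=
    jj_eq S P.isPGroup' (((jj_le_bau _).trans hB).trans hP)
  have hzP : zj (P : Subgroup G) = zj (S : Subgroup G) := by rw [zj_eq_zc, zj_eq_zc, hJP]
  have h1 : (bau (P : Subgroup G)).map (MulAut.conj g).toMonoidHom = bau (S : Subgroup G) := by
    rw [← bau_map _ (MulAut.conj g).injective, hPS]
  have h2 : bau T ≤ bau (P : Subgroup G) := by
    rw [bau, bau, hz, hzP]
    exact inf_le_inf_right _ hP
  have h3 : bau (S : Subgroup G) ≤ bau T := by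
    refine le_inf hB ?_
    rw [hz]
    exact bau_le_centralizer _
  refine (Subgroup.eq_of_le_of_card_ge h3 ?_).symm
  calc Nat.card (bau T) ≤ Nat.card (bau (P : Subgroup G)) := Subgroup.card_le_of_le h2
    _ = Nat.card ((bau (P : Subgroup G)).map (MulAut.conj g).toMonoidHom) :=
        (PLocal.ThompsonJ.card_map_injective _ (MulAut.conj g).injective).symm
    _ = Nat.card (bau (S : Subgroup G)) := by rw [h1]

end Cfsg.Agent.MinSimple.LemXPerm
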