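import Cfsg.Agent.MinSimple.SamePt
import Cfsg.Agent.MinSimple.LemXPerm
import Cfsg.Agent.MinSimple.DBlkExist
import Cfsg.Agent.MinSimple.LemPKill

/-!
# Lemma P: two blocks over `bau S` lie in a common 2-local (helper108's proof)

`Ctx S L L' k k'`: `L`, `L'` are blocks over `B = bau S` which do not normalize a common nontrivial
2-subgroup; all lines of blocks over `B` commute (`AllComm`).  Then `|Ω₁Z(B)| = 4`, `|rl B M| = 2`
for all blocks `M` over `B` and `C_G(r) ≤ N_G(vl B M)` for `1 ≠ r ∈ rl B M`.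

`Ctx.false_of_crit`: there is no block `M` over `B` with point `p` whose line does not commute with
all its `C_G(p)`-conjugates; `Ctx.false_of_conj`: the same in terms of two blocks with conjugate
points.
-/

set_option autoImplicit false

namespace Cfsg.Agent.MinSimple.LemP

open Subgroup Cfsg Cfsg.Agent.ZN Cfsg.Agent.MinSimple
open Cfsg.Agent.MinSimple.DBlkApi Cfsg.Agent.MinSimple.LemX Cfsg.Agent.MinSimple.SamePt

universe u

variable {G : Type u} [Group G] [Finite G]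

/-- The general hypotheses. -/
structure Hyp (S : Sylow 2 G) : Prop where
  char : IsCharacteristicTwoType G
  sol : ∀ N : Subgroup G, IsTwoLocal N → Group.IsSolvable N
  comm : AllComm (bau (S : Subgroup G))

variable {S : Sylow 2 G}

local notation "BS" => bau (S : Subgroup G)

theorem Hyp.exists_loc (h : Hyp S) {U : Subgroup G} (hU : IsPGroup 2 U) (hU1 : U ≠ ⊥)
    (hB : BS ≤ normalizer (U : Set G)) :
    ∃ T, Loc (normalizer (U : Set G)) T ∧ bau T = BS ∧ BS ≤ T ∧
      ChoiceSit.Syl T (normalizer (U : Set G)) := by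
  obtain ⟨T, hT, hBT⟩ := ChoiceSit.exists_syl (isPGroup_bau S.isPGroup') hB
  exact ⟨T, loc_normalizer h.char h.sol hU hU1 hT, SamePt.bau_eq S hT.2.1 hBT, hBT, hT⟩

theorem Hyp.exists_loc_cent (h : Hyp S) {u : G} (hu : u ^ 2 = 1) (hu1 : u ≠ 1)
    (hB : BS ≤ centralizer ({u} : Set G)) :
    ∃ T, Loc (centralizer ({u} : Set G)) T ∧ bau T = BS ∧ BS ≤ T ∧
      ChoiceSit.Syl T (centralizer ({u} : Set G)) := by
  have h1 := h.exists_loc (U := zpowers u) (Basic.isPGroup_zpowers hu)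
    (fun h0 => hu1 (zpowers_eq_bot.mp h0))
  rw [Basic.normalizer_zpowers_eq hu] at h1
  exact h1 hB

omit [Finite G] in
theorem le_centralizer_of_mem_zc {B : Subgroup G} {x : G} (hx : x ∈ zc B) :
    B ≤ centralizer ({x} : Set G) := fun b hb => by
  rw [mem_centralizer_singleton_iff]
  exact zc_comm hx hb

omit [Finite G] in
theorem le_centralizer_of_mem_rl {B L : Subgroup G} {x : G} (hx : x ∈ rl B L) :
    L ≤ centralizer ({x} : Set G) := fun l hl => by
  rw [mem_centralizer_singleton_iff]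
  exact rl_comm hx hl

/-- (0) The pair condition. -/
theorem Hyp.pair (h : Hyp S) {L₁ L₂ : Subgroup G} {k₁ k₂ : ℕ} {z₁ z₂ : G}
    (h₁ : IsDBlk BS L₁ k₁) (h₂ : IsDBlk BS L₂ k₂) (hne : vl BS L₁ ≠ vl BS L₂)
    (hz₁ : IsPt BS L₁ z₁) (hz₂ : IsPt BS L₂ z₂) : z₁ ∈ rl BS L₂ ∨ z₂ ∈ rl BS L₁ := by
  by_contra hcon
  push Not at hcon
  obtain ⟨n1, n2⟩ := hcon
  have m2 : z₂ * z₁ ∈ rl BS L₂ := (mem_zc_cases h₂ hz₂ hz₁.2.1).resolve_left n1
  have m1 : z₁ * z₂ ∈ rl BS L₁ := (mem_zc_cases h₁ hz₁ hz₂.2.1).resolve_left n2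
  have hc : z₂ * z₁ = z₁ * z₂ := zc_comm hz₁.2.1 (zc_le BS hz₂.2.1)
  rw [hc] at m2
  have hu : (z₁ * z₂) ^ 2 = 1 := zc_sq (rl_le_zc BS L₁ m1)
  have hu1 : z₁ * z₂ ≠ 1 := by
    intro h0
    apply hne
    have h3 : z₂ = z₁ := by
      have := hz₁.mul_self
      calc z₂ = (z₁ * z₁) * z₂ := by rw [this, one_mul]
        _ = z₁ * (z₁ * z₂) := by group
        _ = z₁ := by rw [h0, mul_one]
    rw [h3] at hz₂
    exact vl_eq_of_pt h.char h.sol S h₁ h₂ hz₁ hz₂ (h.comm _ _ _ _ h₁ h₂)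
  obtain ⟨T, hT, hb, -, -⟩ := h.exists_loc_cent hu hu1
    (le_centralizer_of_mem_zc (rl_le_zc BS L₁ m1))
  rw [← hb] at h₁ h₂ hne hz₁ n1
  exact n1 (LemXPerm.indep hT ⟨le_centralizer_of_mem_rl m2, k₂, h₂⟩
    ⟨le_centralizer_of_mem_rl m1, k₁, h₁⟩ hne.symm hz₁)

/-- Two blocks without common 2-local. -/
structure Ctx (S : Sylow 2 G) (L L' : Subgroup G) (k k' : ℕ) : Prop extends Hyp S where
  blk : IsDBlk (bau (S : Subgroup G)) L k
  blk' : IsDBlk (bau (S : Subgroup G)) L' k'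
  nonlocal : ∀ U : Subgroup G, IsPGroup 2 U → L ≤ normalizer (U : Set G) →
    L' ≤ normalizer (U : Set G) → U = ⊥

namespace Ctx

variable {L L' : Subgroup G} {k k' : ℕ}

theorem vne (C : Ctx S L L' k k') : vl BS L ≠ vl BS L' := by
  intro h0
  have h1 := C.nonlocal (vl BS L) (C.blk.two.to_le (vl_le_B C.blk)) (le_normalizer_vl BS L)
    (by rw [h0]; exact le_normalizer_vl BS L')
  have h2 := C.blk.card_vl
  rw [h1, card_bot] at h2
  omega

theorem inf_eq (C : Ctx S L L' k k') : rl BS L ⊓ rl BS L' = ⊥ := by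
  refine C.nonlocal _ (C.blk.two.to_le ((inf_le_left.trans (rl_le_zc BS L)).trans (zc_le BS)))
    ?_ ?_
  · intro l hl
    refine VModule.mem_normalizer_of_map_le ?_
    rintro _ ⟨r, hr, rfl⟩
    have : (MulAut.conj l).toMonoidHom r = r := by
      simpa using rl_conj hr.1 hl
    rw [this]
    exact hr
  · intro l hl
    refine VModule.mem_normalizer_of_map_le ?_
    rintro _ ⟨r, hr, rfl⟩
    have : (MulAut.conj l).toMonoidHom r = r := by
      simpa using rl_conj hr.2 hl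
    rw [this]
    exact hr

omit [Finite G] in
theorem card_zc_eq {B M : Subgroup G} {m : ℕ} (h : IsDBlk B M m) :
    Nat.card (zc B) = Nat.card (rl B M) * 2 := by
  have h1 := relIndex_mul_relIndex (⊥ : Subgroup G) (rl B M) (zc B) bot_le (rl_le_zc B M)
  rw [relIndex_bot_left, relIndex_bot_left, h.rl_index] at h1
  exact h1.symm

theorem exists_pts (C : Ctx S L L' k k') : ∃ z z' : G, IsPt BS L z ∧ IsPt BS L' z' ∧ z ≠ z' := by
  obtain ⟨z, hz⟩ := exists_pt C.blk
  obtain ⟨z', hz'⟩ := exists_pt C.blk'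
  refine ⟨z, z', hz, hz', ?_⟩
  rintro rfl
  exact C.vne (vl_eq_of_pt C.char C.sol S C.blk C.blk' hz hz' (C.comm _ _ _ _ C.blk C.blk'))

theorem card_zc (C : Ctx S L L' k k') : Nat.card (zc BS) = 4 := by
  have h1 : Nat.card (zc BS) ≤ 4 := by
    have h2 := relIndex_inf_le (H := rl BS L) (K := rl BS L') (L := zc BS)
    rw [C.inf_eq, relIndex_bot_left, C.blk.rl_index, C.blk'.rl_index] at h2
    exact h2
  have h2 := card_zc_eq C.blk
  have h3 : Nat.card (rl BS L) ≠ 1 := by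
    intro h0
    have h4 : rl BS L = ⊥ := card_eq_one.mp h0
    obtain ⟨z, z', hz, hz', hne⟩ := C.exists_pts
    have h5 := mem_zc_cases C.blk hz hz'.2.1
    rw [h4, mem_bot, mem_bot] at h5
    rcases h5 with h5 | h5
    · exact hz'.2.2 h5
    · apply hne
      calc z = z * (z' * z') := by rw [hz'.mul_self, mul_one]
        _ = (z * z') * z' := by group
        _ = z' := by rw [h5, one_mul]
  have h4 : Nat.card (rl BS L) ≠ 0 := Nat.card_pos.ne'
  omega

theorem card_rl (C : Ctx S L L' k k') {M : Subgroup G} {m : ℕ} (h : IsDBlk BS M m) :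
    Nat.card (rl BS M) = 2 := by
  have h1 := card_zc_eq h
  rw [C.card_zc] at h1
  omega

/-- The nontrivial element of `rl`. -/
theorem exists_r (C : Ctx S L L' k k') {M : Subgroup G} {m : ℕ} (h : IsDBlk BS M m) :
    ∃ r ∈ rl BS M, r ≠ 1 ∧ ∀ x ∈ rl BS M, x = 1 ∨ x = r := by
  have h1 := C.card_rl h
  have h2 : rl BS M ≠ ⊥ := by
    intro h0
    rw [h0, card_bot] at h1
    omega
  obtain ⟨⟨r, hr⟩, hr1⟩ := ne_bot_iff_exists_ne_one.mp h2
  have hr1' : r ≠ 1 := fun h0 => hr1 (Subtype.ext h0)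
  refine ⟨r, hr, hr1', fun x hx => ?_⟩
  have hr2 : r ^ 2 = 1 := zc_sq (rl_le_zc BS M hr)
  have h3 : zpowers r = rl BS M :=
    Subgroup.eq_of_le_of_card_ge (zpowers_le.mpr hr) (by rw [h1, card_zpowers hr2 hr1'])
  rw [← h3] at hx
  exact (zpowers_eq hr2).mp hx

/-- The centralizer of the point and of `r` centralizes `Ω₁Z(B)`. -/
theorem comm_zc (C : Ctx S L L' k k') {M : Subgroup G} {m : ℕ} (h : IsDBlk BS M m) {z r : G}
    (hz : IsPt BS M z) (hr : r ∈ rl BS M) (hr1 : r ≠ 1) {x : G} (hxz : x * z = z * x)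
    (hxr : x * r = r * x) {w : G} (hw : w ∈ zc BS) : x * w = w * x := by
  obtain ⟨r', -, -, hall⟩ := C.exists_r h
  have hrr : r = r' := (hall r hr).resolve_left hr1
  subst hrr
  have hz2 := hz.mul_self
  rcases mem_zc_cases h hz hw with h1 | h1
  · rcases hall w h1 with rfl | rfl
    · simp
    · exact hxr
  · have h2 : ∀ v : G, z * w = v → w = z * v := by
      intro v hv
      rw [← hv]
      calc w = (z * z) * w := by rw [hz2, one_mul]
        _ = z * (z * w) := by group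
    rcases hall _ h1 with h3 | h3
    · rw [h2 _ h3, mul_one]; exact hxz
    · rw [h2 _ h3]
      calc x * (z * r) = (x * z) * r := by group
        _ = z * (x * r) := by rw [hxz]; group
        _ = z * r * x := by rw [hxr]; group

/-- (1) -/
theorem cent_le (C : Ctx S L L' k k') {M : Subgroup G} {m : ℕ} (h : IsDBlk BS M m) {r : G}
    (hr : r ∈ rl BS M) (hr1 : r ≠ 1) :
    centralizer ({r} : Set G) ≤ normalizer (vl BS M : Set G) := by
  have hr2 : r ^ 2 = 1 := zc_sq (rl_le_zc BS M hr)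
  obtain ⟨T, hT, hb, -, -⟩ := C.exists_loc_cent hr2 hr1
    (le_centralizer_of_mem_zc (rl_le_zc BS M hr))
  obtain ⟨r', -, -, hall⟩ := C.exists_r h
  have hrr : r = r' := (hall r hr).resolve_left hr1
  subst hrr
  intro g hg
  rw [← hb] at h hr hall ⊢
  obtain ⟨M₁, hM₁, he⟩ := LemXPerm.perm hT ⟨le_centralizer_of_mem_rl hr, m, h⟩ hg
  obtain ⟨hM₁X, m₁, hm₁⟩ := id hM₁
  rw [ChoiceBase.mem_normalizer_iff_cj]
  change (vl (bau T) M).map (MulAut.conj g).toMonoidHom = vl (bau T) M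
  rw [he]
  by_contra hne
  obtain ⟨z₁, hz₁⟩ := exists_pt hm₁
  have h1 := LemXPerm.indep hT ⟨le_centralizer_of_mem_rl hr, m, h⟩ hM₁ (Ne.symm hne) hz₁
  have h2 : z₁ = r := (hall _ h1).resolve_left hz₁.2.2
  refine pt_notMem_rl hm₁ hz₁ ?_
  rw [h2]
  exact ⟨rl_le_zc _ M hr, mem_centralizer_iff.mpr fun l hl =>
    mem_centralizer_singleton_iff.mp (hM₁X hl)⟩

/-- `V_L ≤ O₂(C(p))` normalizes `V_L`. -/
theorem conj_mem_normalizer (h : Hyp S) {M : Subgroup G} {m : ℕ} (hM : IsDBlk BS M m) {p : G}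
    (hp : IsPt BS M p) {x v : G} (hx : x * p = p * x) (hv : v ∈ vl BS M) :
    x * v * x⁻¹ ∈ normalizer (vl BS M : Set G) := by
  have h1 := vl_le_o2_centralizer h.char h.sol S h.comm hM hp hv
  have h2 : x * v * x⁻¹ ∈ o2 (centralizer ({p} : Set G)) :=
    Four.conj_mem (le_normalizer_o2 _ (mem_centralizer_singleton_iff.mpr hx)) h1
  obtain ⟨T, hT, -, hBT, hs⟩ := h.exists_loc_cent hp.sq hp.2.2 (le_centralizer_of_mem_zc hp.2.1)
  exact le_normalizer_vl' h.char h.sol S h.comm hM hp hT.two hBT hT.TX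
    (VModule.o2_le_of_sylow hT.two hT.syl h2)

/-- Main step: no block over `B` has noncommuting `C(p)`-conjugates of its line. -/
theorem false_of_crit (C : Ctx S L L' k k') {M M' : Subgroup G} {m m' : ℕ} {p h : G}
    (hM : IsDBlk BS M m) (hM' : IsDBlk BS M' m') (hne : vl BS M ≠ vl BS M') (hp : IsPt BS M p)
    (hh : h * p = p * h)
    (hnc : ∃ u ∈ vl BS M, ∃ w ∈ vl BS M, u * (h * w * h⁻¹) ≠ (h * w * h⁻¹) * u) : False := by
  obtain ⟨r, hr, hr1, hall⟩ := C.exists_r hM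
  -- (3) there is a block in `C(p)`
  have h3 : ∃ (M'' : Subgroup G) (m'' : ℕ), IsDBlk BS M'' m'' ∧ p ∈ rl BS M'' := by
    by_contra hcon
    push Not at hcon
    have key : centralizer ({p} : Set G) ≤ normalizer (vl BS M : Set G) := by
      by_contra hX
      obtain ⟨T, hT, hb, hBT, hs⟩ := C.exists_loc_cent hp.sq hp.2.2
        (le_centralizer_of_mem_zc hp.2.1)
      obtain ⟨z', hz'⟩ := exists_pt hM'
      have hz'r : z' = r := by
        rcases C.pair hM hM' hne hp hz' with h1 | h1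
        · exact absurd h1 (hcon M' m' hM')
        · exact (hall _ h1).resolve_left hz'.2.2
      have hTz : ∀ t ∈ T, t * r = r * t := by
        intro t ht
        have htB := le_normalizer S hT.two hBT ht
        have htp := mem_centralizer_singleton_iff.mp (hT.TX ht)
        have htV := le_normalizer_vl' C.char C.sol S C.comm hM hp hT.two hBT hT.TX ht
        have hMt : IsDBlk BS (M'.map (MulAut.conj t).toMonoidHom) m' :=
          LemXPerm.isDBlk_conj hM' htB
        have hzt : IsPt BS (M'.map (MulAut.conj t).toMonoidHom) (t * z' * t⁻¹) := by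
          have := isPt_conj hz' t
          rwa [show (BS).map (MulAut.conj t).toMonoidHom = BS from
            ChoiceBase.mem_normalizer_iff_cj.mp htB] at this
        have hnet : vl BS M ≠ vl BS (M'.map (MulAut.conj t).toMonoidHom) := by
          rw [← LemXPerm.vl_map_conj htB]
          intro h0
          apply hne
          have h4 : (vl BS M).map (MulAut.conj t).toMonoidHom = vl BS M :=
            ChoiceBase.mem_normalizer_iff_cj.mp htV
          rw [← h4] at h0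
          exact Subgroup.map_injective (MulAut.conj t).injective h0
        have h5 : t * z' * t⁻¹ = r := by
          rcases C.pair hM hMt hnet hp hzt with h1 | h1
          · exact absurd h1 (hcon _ m' hMt)
          · exact (hall _ h1).resolve_left hzt.2.2
        rw [hz'r] at h5
        exact Four.conj_eq_iff_comm.mp h5
      have hTB : T = BS := by
        refine le_antisymm (fun t ht => ?_) hBT
        rw [← hb]
        refine ⟨ht, mem_centralizer_iff.mpr fun w hw => ?_⟩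
        have hw' : w ∈ zc BS := by
          rw [← hb, zc_bau]; exact hw
        exact (C.comm_zc hM hp hr hr1 (mem_centralizer_singleton_iff.mp (hT.TX ht))
          (hTz t ht) hw').symm
      obtain ⟨N, n, hN, -, hNX, -⟩ := DBlkExist.exists_dblk (M := normalizer (vl BS M : Set G))
        hT.solv hT.char2 hT.two hT.TX hT.syl
        (by
          rw [hTB]
          refine inf_le_right.trans (le_trans ?_ (C.cent_le hM hr hr1))
          exact centralizer_le (by simpa using rl_le_zc BS M hr))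
        (by
          rw [hb]
          intro x hx
          exact mem_normalizer_vl C.char C.sol S C.comm hM hp hx.2
            (Four.conj_eq_iff_comm.mpr (mem_centralizer_singleton_iff.mp hx.1)))
        hX
      rw [hb] at hN
      exact hcon N n hN ⟨hp.2.1, mem_centralizer_iff.mpr fun l hl =>
        mem_centralizer_singleton_iff.mp (hNX hl)⟩
    obtain ⟨u, hu, w, hw, huw⟩ := hnc
    exact huw (Four.comm_of_sq (vl_sq hM) hu
      (Four.conj_mem (key (mem_centralizer_singleton_iff.mpr hh)) hw))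
  obtain ⟨M'', m'', hM'', hpr⟩ := h3
  obtain ⟨z'', hz''⟩ := exists_pt hM''
  obtain ⟨g, hg, hgp⟩ := moves hM hp
  obtain ⟨y, hy, -, -, -, hy4, hy5⟩ := hM''.dih
  set q := g * p * g⁻¹ with hq
  have hqV : q ∈ vl BS M := Four.conj_mem (le_normalizer_vl BS M hg) hp.1
  have hq1 : q ≠ 1 := fun h0 => hp.2.2 (conj_eq_one_iff.mp h0)
  refine LemPKill.kill (p := p) (q := q) (y := y) (z := z'') (g := g) (V := vl BS M)
    (V'' := vl BS M'') hM.card_vl (vl_sq hM) hM''.card_vl (vl_sq hM'') hp.1 hqV hp.2.2 hq1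
    (Ne.symm hgp) hz''.1 hz''.2.2 ?_ ?_ ?_ ?_ ?_ ⟨h, hh, hnc⟩ ?_ (le_normalizer_vl BS M hg) rfl
    ?_ ?_
  · intro x hx
    exact C.cent_le hM'' hpr hp.2.2 (mem_centralizer_singleton_iff.mpr hx)
  · intro x hx hxz
    refine C.cent_le hM hr hr1 (mem_centralizer_singleton_iff.mpr ?_)
    exact C.comm_zc hM'' hz'' hpr hp.2.2 (Four.conj_eq_iff_comm.mp hxz) hx (rl_le_zc BS M hr)
  · exact rl_comm hpr hy
  · exact fun h0 => hz''.2.2 (hy4 _ hz''.1 h0)
  · exact Four.mem_cent_iff.mpr hy5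
  · intro x hx v hv
    exact conj_mem_normalizer C.toHyp hM hp hx hv
  · intro v hv
    exact C.comm _ _ _ _ hM'' hM v hv q hqV
  · intro hqV''
    obtain ⟨b, hb, hbQ⟩ := exists_b hM
    have h1 := conj_eq hM hp hqV hq1 hgp hb hbQ
    have h2 : b * q * b⁻¹ ∈ vl BS M'' :=
      Four.conj_mem (le_normalizer_vl BS M'' (hM''.le hb)) hqV''
    rw [h1] at h2
    have h3 : p ∈ vl BS M'' := by
      have := mul_mem h2 (inv_mem hqV'')
      rwa [mul_inv_cancel_right] at this
    have h4 : p ∈ rl BS M'' ⊓ vl BS M'' := ⟨hpr, h3⟩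
    rw [hM''.disj, mem_bot] at h4
    exact hp.2.2 h4

/-- (2) The same in terms of two blocks with conjugate points and noncommuting lines. -/
theorem false_of_conj (C : Ctx S L L' k k') {M M₁ : Subgroup G} {m m₁ : ℕ} {z z₁ x : G}
    (hM : IsDBlk BS M m) (hM₁ : IsDBlk BS M₁ m₁) (hz : IsPt BS M z) (hz₁ : IsPt BS M₁ z₁)
    (hx : x * z * x⁻¹ = z₁)
    (hnc : ∃ u ∈ vl BS M₁, ∃ w ∈ vl BS M, u * (x * w * x⁻¹) ≠ (x * w * x⁻¹) * u) : False := by
  obtain ⟨T, hT, hb, hBT, hs⟩ := C.exists_loc_cent hz₁.sq hz₁.2.2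
    (le_centralizer_of_mem_zc hz₁.2.1)
  -- `B ^ x ≤ C(z₁)`
  have hBx : ChoiceBase.cj x BS ≤ centralizer ({z₁} : Set G) := by
    rintro _ ⟨b, hb', rfl⟩
    rw [mem_centralizer_singleton_iff, ← hx]
    have := hz.comm hb'
    calc x * b * x⁻¹ * (x * z * x⁻¹) = x * (b * z) * x⁻¹ := by group
      _ = x * (z * b) * x⁻¹ := by rw [this]
      _ = x * z * x⁻¹ * (x * b * x⁻¹) := by group
  obtain ⟨T', hT', hBT'⟩ := ChoiceSit.exists_syl
    (ChoiceBase.isPGroup_cj x (isPGroup_bau S.isPGroup')) hBx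
  obtain ⟨y, hy, hyT⟩ := ChoiceSit.syl_conj hT' hs
  -- `h x` normalizes `B`
  have h1 : ChoiceBase.cj (y * x) BS ≤ T := by
    rw [← ChoiceBase.cj_cj, ← hyT]
    exact ChoiceBase.cj_mono y hBT'
  have h2 : bau T = ChoiceBase.cj (y * x) BS := by
    have h3 : ((y * x) • S : Sylow 2 G) = ChoiceBase.cj (y * x) (S : Subgroup G) := by
      rw [Sylow.coe_subgroup_smul]; rfl
    have h4 := SamePt.bau_eq ((y * x) • S) hT.two (by
      rw [h3, ChoiceBase.bau_cj]; exact h1)
    rw [h4, h3, ChoiceBase.bau_cj]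
  have h3 : y * x ∈ normalizer (BS : Set G) := by
    rw [ChoiceBase.mem_normalizer_iff_cj, ← h2, hb]
  have hyz := mem_centralizer_singleton_iff.mp hy
  have hM2 := LemXPerm.isDBlk_conj hM h3
  have hz2 : IsPt BS (M.map (MulAut.conj (y * x)).toMonoidHom) z₁ := by
    have := isPt_conj hz (y * x)
    rw [show (BS).map (MulAut.conj (y * x)).toMonoidHom = BS from
      ChoiceBase.mem_normalizer_iff_cj.mp h3] at this
    have e : y * x * z * (y * x)⁻¹ = z₁ := by
      calc y * x * z * (y * x)⁻¹ = y * (x * z * x⁻¹) * y⁻¹ := by group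
        _ = (y * z₁) * y⁻¹ := by rw [hx]
        _ = z₁ := by rw [hyz]; group
    rwa [e] at this
  have h4 : vl BS M₁ = vl BS (M.map (MulAut.conj (y * x)).toMonoidHom) :=
    vl_eq_of_pt C.char C.sol S hM₁ hM2 hz₁ hz2 (C.comm _ _ _ _ hM₁ hM2)
  rw [← LemXPerm.vl_map_conj h3] at h4
  -- so `V_M ^ x = V_{M₁} ^ (y⁻¹)`
  have h5 : ∀ w ∈ vl BS M, ∃ w' ∈ vl BS M₁, x * w * x⁻¹ = y⁻¹ * w' * y⁻¹⁻¹ := by
    intro w hw
    refine ⟨y * x * w * (y * x)⁻¹, ?_, by group⟩
    rw [h4]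
    exact ⟨w, hw, rfl⟩
  obtain ⟨u, hu, w, hw, huw⟩ := hnc
  obtain ⟨w', hw', he⟩ := h5 w hw
  rw [he] at huw
  have hyz' : y⁻¹ * z₁ = z₁ * y⁻¹ := by
    calc y⁻¹ * z₁ = y⁻¹ * (z₁ * y) * y⁻¹ := by group
      _ = y⁻¹ * (y * z₁) * y⁻¹ := by rw [hyz]
      _ = z₁ * y⁻¹ := by group
  by_cases hL : vl BS M₁ = vl BS L
  · exact C.false_of_crit hM₁ C.blk' (by rw [hL]; exact C.vne) hz₁ hyz' ⟨u, hu, w', hw', huw⟩
  · exact C.false_of_crit hM₁ C.blk hL hz₁ hyz' ⟨u, hu, w', hw', huw⟩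

end Ctx

end Cfsg.Agent.MinSimple.LemP
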