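import Mathlib
import Cfsg.Agent.Classification.TitsFin.Tri

/-!
# The natural block: the structure `NTri`

Blueprint `P21-NatBlock-helper789.md`, part A. `V` is a four-group, its involutions are the points `p`; `U p` is
elementary abelian of order 8 and contains `V`, `C p ≤ C_G(p)` normalises `U p` and contains
`N_G(V) ∩ C_G(p)`, and `C p` contains a 3-element not acting trivially on `U p / ⟨p⟩`.
-/

set_option autoImplicit false
set_option linter.unusedSectionVars false

namespace Cfsg.Agent.MinSimple.NatTri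

open Subgroup Cfsg Cfsg.Agent.ZN Cfsg.Agent.MinSimple.Geo
open Cfsg.Agent.Classification.TitsFin.Tri (Pt kst cj_kst K Q)
open Cfsg.Agent.ZN.Block (conj_mem_of_normalizer conj_mem_of_normalizer' le_normalizer_of_forall
  mem_normalizer_of card_sup_mul_card_inf card_mul_relIndex' mul_mem_of_relIndex_two)

universe u

variable {G : Type u} [Group G]

/-- The configuration of the three points of the line `V`, natural block. -/
structure NTri (V : Subgroup G) (U C : G → Subgroup G) : Prop where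
  cardV : Nat.card V = 4
  sqV : ∀ v ∈ V, v * v = 1
  cardU : ∀ p, Pt V p → Nat.card (U p) = 8
  sqU : ∀ p, Pt V p → ∀ u ∈ U p, u * u = 1
  V_le : ∀ p, Pt V p → V ≤ U p
  C_le : ∀ p, Pt V p → C p ≤ centralizer ({p} : Set G)
  C_norm : ∀ p, Pt V p → C p ≤ normalizer (U p : Set G)
  le_C : ∀ p, Pt V p → normalizer (V : Set G) ⊓ centralizer ({p} : Set G) ≤ C p
  sym : ∀ p q p' q', Pt V p → Pt V q → p ≠ q → Pt V p' → Pt V q' → p' ≠ q' →
    ∃ n ∈ normalizer (V : Set G), n * p * n⁻¹ = p' ∧ n * q * n⁻¹ = q'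
  conjU : ∀ n ∈ normalizer (V : Set G), ∀ p, Pt V p → cj n (U p) = U (n * p * n⁻¹)
  conjC : ∀ n ∈ normalizer (V : Set G), ∀ p, Pt V p → cj n (C p) = C (n * p * n⁻¹)
  three : ∀ p, Pt V p → ∃ f ∈ C p, (∃ n : ℕ, f ^ 3 ^ n = 1) ∧ f ∉ kst (C p) (U p) p
  nc : ∀ p q, Pt V p → Pt V q → p ≠ q → ∃ a ∈ U p, ∃ b ∈ U q, a * b ≠ b * a
  solv : ∀ R : Subgroup G, IsPGroup 2 R → R ≠ ⊥ → Group.IsSolvable (normalizer (R : Set G))
  char2 : ∀ p, Pt V p → C p ⊓ centralizer (o2 (C p) : Set G) ≤ o2 (C p)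
  soc : ∀ p, Pt V p → ∀ X : Subgroup G, X ≤ normalizer (V : Set G) ⊓ centralizer ({p} : Set G) →
    IsPGroup 2 X → X ≠ ⊥ → normalizer (V : Set G) ⊓ centralizer ({p} : Set G) ≤ normalizer (X : Set G) → p ∈ X

namespace NTri

variable {V : Subgroup G} {U C : G → Subgroup G}

variable (h : NTri V U C) {p q : G}

section Basic

include h

theorem pp (hp : Pt V p) : p * p = 1 := h.sqV p hp.1

theorem commU (hp : Pt V p) {a b : G} (ha : a ∈ U p) (hb : b ∈ U p) : a * b = b * a := by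
  have h1 := h.sqU p hp _ (mul_mem ha hb)
  have h2 := inv_eq_self (h.sqU p hp a ha)
  have h3 := inv_eq_self (h.sqU p hp b hb)
  calc a * b = (a * b)⁻¹ := (inv_eq_self h1).symm
    _ = b⁻¹ * a⁻¹ := by group
    _ = b * a := by rw [h2, h3]

theorem invU (hp : Pt V p) {a : G} (ha : a ∈ U p) : a⁻¹ = a := inv_eq_self (h.sqU p hp a ha)

theorem invp (hp : Pt V p) : p⁻¹ = p := inv_eq_self (h.pp hp)

theorem p_mem (hp : Pt V p) (hq : Pt V q) : p ∈ U q := h.V_le q hq hp.1

theorem centV_le (hp : Pt V p) : centralizer (V : Set G) ≤ C p := by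
  refine le_trans ?_ (h.le_C p hp)
  intro g hg
  have hg' := mem_centralizer_iff.mp hg
  refine ⟨?_, mem_centralizer_singleton_iff.mpr (hg' p hp.1).symm⟩
  refine mem_normalizer_of (fun m hm => ?_) (fun m hm => ?_)
  · rw [← hg' m hm, mul_inv_cancel_right]; exact hm
  · rw [mul_assoc, hg' m hm, inv_mul_cancel_left]; exact hm

theorem centV_le_norm : centralizer (V : Set G) ≤ normalizer (V : Set G) := by
  intro g hg
  have hg' := mem_centralizer_iff.mp hg
  refine mem_normalizer_of (fun m hm => ?_) (fun m hm => ?_)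
  · rw [← hg' m hm, mul_inv_cancel_right]; exact hm
  · rw [mul_assoc, hg' m hm, inv_mul_cancel_left]; exact hm

theorem U_le_centV (hp : Pt V p) : U p ≤ centralizer (V : Set G) := fun _ hu =>
  mem_centralizer_iff.mpr fun _ hv => h.commU hp (h.V_le p hp hv) hu

theorem U_le_C (hp : Pt V p) (hq : Pt V q) : U q ≤ C p := (h.U_le_centV hq).trans (h.centV_le hp)

theorem K_le_centV (hp : Pt V p) : K U p ≤ centralizer (V : Set G) :=
  centralizer_le (h.V_le p hp)

theorem K_le_C (hp : Pt V p) (hq : Pt V q) : K U q ≤ C p := (h.K_le_centV hq).trans (h.centV_le hp)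

theorem U_le_K (hp : Pt V p) : U p ≤ K U p := fun _ hu =>
  mem_centralizer_iff.mpr fun _ hv => h.commU hp hv hu

theorem K_comm {k u : G} (hk : k ∈ K U p) (hu : u ∈ U p) : k * u = u * k :=
  (mem_centralizer_iff.mp hk u hu).symm

theorem c_comm (hp : Pt V p) {c : G} (hc : c ∈ C p) : c * p = p * c :=
  mem_centralizer_singleton_iff.mp (h.C_le p hp hc)

theorem conj_memU (hp : Pt V p) {c u : G} (hc : c ∈ C p) (hu : u ∈ U p) : c * u * c⁻¹ ∈ U p :=
  conj_mem_of_normalizer (h.C_norm p hp) hc hu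

theorem conj_memU' (hp : Pt V p) {c u : G} (hc : c ∈ C p) (hu : u ∈ U p) : c⁻¹ * u * c ∈ U p :=
  conj_mem_of_normalizer' (h.C_norm p hp) hc hu

theorem mem_Q_iff (hp : Pt V p) {c : G} :
    c ∈ Q U C p ↔ c ∈ C p ∧ ∀ u ∈ U p, c * u * c⁻¹ = u ∨ c * u * c⁻¹ = p * u := by
  have hpp := h.pp hp
  constructor
  · rintro ⟨h0, -, h2, -⟩
    refine ⟨h0, fun u hu => ?_⟩
    rcases (mem_zpowers_iff_of_mul_self hpp).mp (h2 u hu) with e | e
    · left; exact mul_inv_eq_one.mp e
    · right; exact mul_inv_eq_iff_eq_mul.mp e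
  · rintro ⟨h0, h1⟩
    have key : ∀ u ∈ U p, c * u * c⁻¹ * u⁻¹ ∈ zpowers p := by
      intro u hu
      rcases h1 u hu with e | e
      · rw [e, mul_inv_cancel]; exact one_mem _
      · rw [e, mul_inv_cancel_right]; exact mem_zpowers p
    refine ⟨h0, h.c_comm hp h0, key, fun u hu => ?_⟩
    have h3 := key _ (h.conj_memU' hp h0 hu)
    have e : c⁻¹ * u * c * u⁻¹ = (c * (c⁻¹ * u * c) * c⁻¹ * (c⁻¹ * u * c)⁻¹)⁻¹ := by group
    rw [e]
    exact inv_mem h3

theorem K_le_Q (hp : Pt V p) : K U p ≤ Q U C p := fun k hk =>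
  (h.mem_Q_iff hp).mpr ⟨h.K_le_C hp hp hk, fun u hu => Or.inl (by
    rw [← mem_centralizer_iff.mp hk u hu, mul_inv_cancel_right])⟩

theorem C_le_normK (hp : Pt V p) : C p ≤ normalizer (K U p : Set G) := by
  refine le_normalizer_of_forall fun c hc k hk => mem_centralizer_iff.mpr fun u hu => ?_
  have h1 := mem_centralizer_iff.mp hk _ (h.conj_memU' hp hc hu)
  calc u * (c * k * c⁻¹) = c * ((c⁻¹ * u * c) * k) * c⁻¹ := by group
    _ = c * (k * (c⁻¹ * u * c)) * c⁻¹ := by rw [h1]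
    _ = c * k * c⁻¹ * u := by group

theorem C_le_normQ (hp : Pt V p) : C p ≤ normalizer (Q U C p : Set G) := by
  refine le_normalizer_of_forall fun c hc k hk => ?_
  obtain ⟨h0, h1⟩ := (h.mem_Q_iff hp).mp hk
  refine (h.mem_Q_iff hp).mpr ⟨mul_mem (mul_mem hc h0) (inv_mem hc), fun u hu => ?_⟩
  have hcp := h.c_comm hp hc
  have e : c * k * c⁻¹ * u * (c * k * c⁻¹)⁻¹ = c * (k * (c⁻¹ * u * c) * k⁻¹) * c⁻¹ := by group
  rw [e]
  rcases h1 _ (h.conj_memU' hp hc hu) with h2 | h2
  · left; rw [h2]; group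
  · right; rw [h2]
    calc c * (p * (c⁻¹ * u * c)) * c⁻¹ = (c * p) * c⁻¹ * u := by group
      _ = p * u := by rw [hcp, mul_inv_cancel_right]

/-- the third point -/
theorem third (hp : Pt V p) (hq : Pt V q) (hpq : p ≠ q) : Pt V (p * q) ∧ p * q ≠ p ∧ p * q ≠ q := by
  refine ⟨⟨mul_mem hp.1 hq.1, fun e => hpq ?_⟩, fun e => hq.2 (by simpa using e), fun e => hp.2 (by simpa using e)⟩
  rw [mul_eq_one_iff_eq_inv.mp e, inv_eq_self (h.pp hq)]

theorem commV (hp : Pt V p) (hq : Pt V q) : p * q = q * p :=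
  h.commU hp (h.V_le p hp hp.1) (h.V_le p hp hq.1)

/-- conjugation by an element of `N_G(V)` exchanging two points -/
theorem exists_swap (hp : Pt V p) (hq : Pt V q) (hpq : p ≠ q) : ∃ n ∈ normalizer (V : Set G),
    n * p * n⁻¹ = q ∧ n * q * n⁻¹ = p ∧ cj n (U p) = U q ∧ cj n (U q) = U p ∧
      cj n (C p) = C q ∧ cj n (C q) = C p := by
  obtain ⟨n, hn, h1, h2⟩ := h.sym p q q p hp hq hpq hq hp hpq.symm
  refine ⟨n, hn, h1, h2, ?_, ?_, ?_, ?_⟩
  · rw [h.conjU n hn p hp, h1]
  · rw [h.conjU n hn q hq, h2]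
  · rw [h.conjC n hn p hp, h1]
  · rw [h.conjC n hn q hq, h2]

/-- (A2) `U_q ≰ Q_p` -/
theorem exists_t (hp : Pt V p) (hq : Pt V q) (hpq : p ≠ q) : ∃ t ∈ U q, t ∉ Q U C p := by
  by_contra hcon
  push Not at hcon
  obtain ⟨n, hn, h1, h2, h3, h4, -, -⟩ := h.exists_swap hp hq hpq
  obtain ⟨a, ha, b, hb, hab⟩ := h.nc p q hp hq hpq
  apply hab
  have hpp := h.pp hp
  have hqq := h.pp hq
  have e1 : b * a * b⁻¹ = a ∨ b * a * b⁻¹ = p * a := ((h.mem_Q_iff hp).mp (hcon b hb)).2 a ha
  have e2 : a * b * a⁻¹ = b ∨ a * b * a⁻¹ = q * b := by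
    rw [← h4] at ha
    rw [← h3] at hb
    obtain ⟨b', hb', rfl⟩ := ha
    obtain ⟨a', ha', rfl⟩ := hb
    change n * b' * n⁻¹ * (n * a' * n⁻¹) * (n * b' * n⁻¹)⁻¹ = n * a' * n⁻¹ ∨
      n * b' * n⁻¹ * (n * a' * n⁻¹) * (n * b' * n⁻¹)⁻¹ = q * (n * a' * n⁻¹)
    have e : n * b' * n⁻¹ * (n * a' * n⁻¹) * (n * b' * n⁻¹)⁻¹ = n * (b' * a' * b'⁻¹) * n⁻¹ := by group
    rw [e]
    rcases ((h.mem_Q_iff hp).mp (hcon b' hb')).2 a' ha' with h5 | h5
    · left; rw [h5]
    · right; rw [h5, ← h1]; group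
  rcases e1 with e1 | e1
  · calc a * b = (b * a * b⁻¹) * b := by rw [e1]
      _ = b * a := by group
  rcases e2 with e2 | e2
  · calc a * b = (a * b * a⁻¹) * a := by group
      _ = b * a := by rw [e2]
  · exfalso
    have f1 : b * a = p * (a * b) := by
      calc b * a = (b * a * b⁻¹) * b := by group
        _ = p * (a * b) := by rw [e1, mul_assoc]
    have f2 : a * b = q * (b * a) := by
      calc a * b = (a * b * a⁻¹) * a := by group
        _ = q * (b * a) := by rw [e2, mul_assoc]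
    have f3 : p * q = 1 := by
      have : b * a = p * q * (b * a) := by
        calc b * a = p * (a * b) := f1
          _ = p * (q * (b * a)) := by rw [f2]
          _ = p * q * (b * a) := by group
      exact (mul_eq_right.mp this.symm)
    exact (h.third hp hq hpq).1.2 f3

/-- the elements of `V` -/
theorem mem_V (hp : Pt V p) (hq : Pt V q) (hpq : p ≠ q) {v : G} (hv : v ∈ V) :
    v = 1 ∨ v = p ∨ v = q ∨ v = p * q := by
  classical
  obtain ⟨h1, h2, h3⟩ := h.third hp hq hpq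
  have hfin : Finite V := Nat.finite_of_card_ne_zero (by rw [h.cardV]; norm_num)
  have e1 : (1 : G) ∉ ({p, q, p * q} : Finset G) := by
    simp only [Finset.mem_insert, Finset.mem_singleton, not_or]
    exact ⟨fun e => hp.2 e.symm, fun e => hq.2 e.symm, fun e => h1.2 e.symm⟩
  have e2 : p ∉ ({q, p * q} : Finset G) := by
    simp only [Finset.mem_insert, Finset.mem_singleton, not_or]
    exact ⟨hpq, fun e => h2 e.symm⟩
  have e3 : q ∉ ({p * q} : Finset G) := by
    simp only [Finset.mem_singleton]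
    exact fun e => h3 e.symm
  have hcard : ({1, p, q, p * q} : Finset G).card = 4 := by
    rw [Finset.card_insert_of_notMem e1, Finset.card_insert_of_notMem e2, Finset.card_insert_of_notMem e3,
      Finset.card_singleton]
  have hsub : (({1, p, q, p * q} : Finset G) : Set G) ⊆ (V : Set G) := by
    intro x hx
    simp only [Finset.coe_insert, Finset.coe_singleton, Set.mem_insert_iff, Set.mem_singleton_iff] at hx
    rcases hx with rfl | rfl | rfl | rfl
    · exact one_mem V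
    · exact hp.1
    · exact hq.1
    · exact h1.1
  have hfinV : (V : Set G).Finite := Set.toFinite _
  have heq := Set.eq_of_subset_of_ncard_le hsub (by
    rw [Set.ncard_coe_finset, hcard]
    have : (V : Set G).ncard = 4 := by rw [← h.cardV]; exact (Nat.card_coe_set_eq (V : Set G)).symm
    rw [this]) hfinV
  have : v ∈ (({1, p, q, p * q} : Finset G) : Set G) := by rw [heq]; exact hv
  simpa using this

theorem relIndex_V (hp : Pt V p) : V.relIndex (U p) = 2 := by
  have h1 := card_mul_relIndex' (h.V_le p hp)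
  rw [h.cardV, h.cardU p hp] at h1
  omega

theorem mul_memV (hp : Pt V p) {a b : G} (ha : a ∈ U p) (ha' : a ∉ V) (hb : b ∈ U p) (hb' : b ∉ V) :
    a * b ∈ V := mul_mem_of_relIndex_two (h.relIndex_V hp) ha hb ha' hb'

theorem exists_notMem (hp : Pt V p) : ∃ a ∈ U p, a ∉ V := by
  by_contra hcon
  push Not at hcon
  have h1 : U p = V := le_antisymm hcon (h.V_le p hp)
  have h2 := h.cardU p hp
  rw [h1, h.cardV] at h2
  omega

/-- (A1) -/
theorem inf_eq (hp : Pt V p) (hq : Pt V q) (hpq : p ≠ q) : U p ⊓ U q = V := by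
  refine le_antisymm ?_ (le_inf (h.V_le p hp) (h.V_le q hq))
  intro a ha
  by_contra haV
  have hle : U p ≤ U q := by
    intro x hx
    by_cases hxV : x ∈ V
    · exact h.V_le q hq hxV
    · have h1 := h.mul_memV hp hx hxV ha.1 haV
      have h2 : x = (x * a) * a := by rw [mul_assoc, h.sqU p hp a ha.1, mul_one]
      rw [h2]
      exact mul_mem (h.V_le q hq h1) ha.2
  obtain ⟨x, hx, y, hy, hxy⟩ := h.nc p q hp hq hpq
  exact hxy (h.commU hq (hle hx) hy)

theorem comm_mem (hp : Pt V p) (hq : Pt V q) (hpq : p ≠ q) {a b : G} (ha : a ∈ U p) (hb : b ∈ U q) :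
    a * b * a⁻¹ * b⁻¹ ∈ V := by
  rw [← h.inf_eq hp hq hpq]
  refine mem_inf.mpr ⟨?_, mul_mem (h.conj_memU hq (h.U_le_C hq hp ha) hb) (inv_mem hb)⟩
  have h1 := h.conj_memU hp (h.U_le_C hp hq hb) (inv_mem ha)
  have e : a * b * a⁻¹ * b⁻¹ = a * (b * a⁻¹ * b⁻¹) := by group
  rw [e]
  exact mul_mem (S := Subgroup G) ha h1

theorem V_le_Q (hp : Pt V p) : V ≤ Q U C p := (h.V_le p hp).trans ((h.U_le_K hp).trans (h.K_le_Q hp))

theorem notMem_Q (hp : Pt V p) (hq : Pt V q) (hpq : p ≠ q) {b : G} (hb : b ∈ U q) (hbV : b ∉ V) :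
    b ∉ Q U C p := by
  intro hbQ
  obtain ⟨t, ht, htQ⟩ := h.exists_t hp hq hpq
  have htV : t ∉ V := fun e => htQ (h.V_le_Q hp e)
  apply htQ
  have h1 := h.V_le_Q hp (h.mul_memV hq ht htV hb hbV)
  have e : t = (t * b) * b := by rw [mul_assoc, h.sqU q hq b hb, mul_one]
  rw [e]
  exact mul_mem h1 hbQ

/-- (A1), the commutator: `[u_p, u_q] = pq` -/
theorem comm_eq (hp : Pt V p) (hq : Pt V q) (hpq : p ≠ q) {a b : G} (ha : a ∈ U p) (haV : a ∉ V)
    (hb : b ∈ U q) (hbV : b ∉ V) : a * b * a⁻¹ * b⁻¹ = p * q := by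
  -- one sided statement
  have key : ∀ {p q : G}, Pt V p → Pt V q → p ≠ q → ∀ {a b : G}, a ∈ U p → a ∉ V → b ∈ U q → b ∉ V →
      a * b * a⁻¹ * b⁻¹ ≠ 1 ∧ a * b * a⁻¹ * b⁻¹ ≠ p := by
    intro p q hp hq hpq a b ha haV hb hbV
    have hbQ := h.notMem_Q hp hq hpq hb hbV
    have hbC := h.U_le_C hp hq hb
    have hai := h.invU hp ha
    constructor
    · intro e
      apply hbQ
      refine (h.mem_Q_iff hp).mpr ⟨hbC, fun u hu => Or.inl ?_⟩
      have e1 : a * b = b * a := by
        have : a * b = (a * b * a⁻¹ * b⁻¹) * (b * a) := by group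
        rw [this, e, one_mul]
      by_cases huV : u ∈ V
      · rw [h.commU hq hb (h.V_le q hq huV), mul_inv_cancel_right]
      · have h1 := h.mul_memV hp hu huV ha haV
        have h2 : b * (u * a) = (u * a) * b := h.commU hq hb (h.V_le q hq h1)
        have e2 : u = (u * a) * a := by rw [mul_assoc, h.sqU p hp a ha, mul_one]
        calc b * u * b⁻¹ = b * ((u * a) * a) * b⁻¹ := by rw [← e2]
          _ = (b * (u * a)) * a * b⁻¹ := by group
          _ = (u * a) * (b * a) * b⁻¹ := by rw [h2]; group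
          _ = (u * a) * (a * b) * b⁻¹ := by rw [e1]
          _ = (u * a) * a := by group
          _ = u := e2.symm
    · intro e
      apply hbQ
      refine (h.mem_Q_iff hp).mpr ⟨hbC, fun u hu => ?_⟩
      have e1 : a * b = p * (b * a) := by
        have : a * b = (a * b * a⁻¹ * b⁻¹) * (b * a) := by group
        rw [this, e]
      have e1' : b * a = p * (a * b) := by
        rw [e1, ← mul_assoc, h.pp hp, one_mul]
      by_cases huV : u ∈ V
      · left; rw [h.commU hq hb (h.V_le q hq huV), mul_inv_cancel_right]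
      · right
        have h1 := h.mul_memV hp hu huV ha haV
        have h2 : b * (u * a) = (u * a) * b := h.commU hq hb (h.V_le q hq h1)
        have e2 : u = (u * a) * a := by rw [mul_assoc, h.sqU p hp a ha, mul_one]
        have hpua : (u * a) * p = p * (u * a) := h.commU hp (mul_mem hu ha) (h.V_le p hp hp.1)
        calc b * u * b⁻¹ = b * ((u * a) * a) * b⁻¹ := by rw [← e2]
          _ = (b * (u * a)) * a * b⁻¹ := by group
          _ = (u * a) * (b * a) * b⁻¹ := by rw [h2]; group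
          _ = (u * a) * (p * (a * b)) * b⁻¹ := by rw [e1']
          _ = (u * a) * p * a := by group
          _ = p * ((u * a) * a) := by rw [hpua]; group
          _ = p * u := by rw [← e2]
  obtain ⟨k1, k2⟩ := key hp hq hpq ha haV hb hbV
  obtain ⟨k3, k4⟩ := key hq hp hpq.symm hb hbV ha haV
  rcases h.mem_V hp hq hpq (h.comm_mem hp hq hpq ha hb) with e | e | e | e
  · exact absurd e k1
  · exact absurd e k2
  · exfalso
    apply k4
    have : b * a * b⁻¹ * a⁻¹ = (a * b * a⁻¹ * b⁻¹)⁻¹ := by group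
    rw [this, e, h.invp hq]
  · exact e

/-- `u_p u_q = r u_q u_p` -/
theorem mul_comm_eq (hp : Pt V p) (hq : Pt V q) (hpq : p ≠ q) {a b : G} (ha : a ∈ U p) (haV : a ∉ V)
    (hb : b ∈ U q) (hbV : b ∉ V) : a * b = p * q * (b * a) := by
  rw [← h.comm_eq hp hq hpq ha haV hb hbV]; group

/-- an element of `C_G(V)` moves elements of `U q` by elements of `V` -/
theorem D_act (hq : Pt V q) {g b : G} (hg : g ∈ centralizer (V : Set G)) (hb : b ∈ U q) :
    g * b * g⁻¹ * b⁻¹ ∈ V := by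
  have hg' := mem_centralizer_iff.mp hg
  by_cases hbV : b ∈ V
  · rw [← hg' b hbV, mul_inv_cancel_right, mul_inv_cancel]
    exact one_mem V
  · have h1 := h.conj_memU hq (h.centV_le hq hg) hb
    rw [h.invU hq hb]
    refine h.mul_memV hq h1 (fun e => hbV ?_) hb hbV
    have h2 : g * b * g⁻¹ * g = g * (g * b * g⁻¹) := hg' _ e
    have h4 : g * b = g * (g * b * g⁻¹) := by
      calc g * b = g * b * g⁻¹ * g := by group
        _ = g * (g * b * g⁻¹) := h2
    rw [mul_left_cancel h4]; exact e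

end Basic

end NTri

end Cfsg.Agent.MinSimple.NatTri
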