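import Mathlib
import Cfsg.Agent.MinSimple.NatEnd
import Cfsg.Agent.SectRankFour.C2.Fin64
import Cfsg.Agent.SectRankFour.C2.FinAut

/-!
# The natural block does not occur in a simple group all of whose 2-local subgroups are solvable of characteristic 2
-/

set_option autoImplicit false

namespace Cfsg.Agent.MinSimple.NatFalse

open Subgroup Cfsg
open Cfsg.Agent.Classification.TitsFin.Tri (Pt)
open Cfsg.Agent.MinSimple.NatTri (NTri)

universe u

/-- The configuration `NTri`, with `N_G(V) ∩ C_G(p)` a Sylow 2-subgroup of `G`, is impossible. -/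
theorem false_of_NTri {G : Type u} [Group G] [Finite G] (hG : IsSimpleGroup G)
    (hL : ∀ N : Subgroup G, IsTwoLocal N → Group.IsSolvable N) (hc : IsCharacteristicTwoType G)
    {V : Subgroup G} {U C : G → Subgroup G} (h : NTri V U C) {p : G} (hp : Pt V p) (P : Sylow 2 G)
    (hP : (P : Subgroup G) = normalizer (V : Set G) ⊓ centralizer ({p} : Set G)) : False := by
  rcases h.exists_conf hp with ⟨A, B, u, s, x, h1⟩ | ⟨A, B, u, f, s, x, h1⟩
  · rw [← hP] at h1
    exact Cfsg.Agent.SectRankFour.C2.Fin64.false_of_simple hG hL hc P h1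
  · exact Cfsg.Agent.SectRankFour.C2.FinAut.false_of_simple hG hL hc P hP h1

end Cfsg.Agent.MinSimple.NatFalse
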