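import Mathlib
import Cfsg.Prelude.Def_Transfer
import Cfsg.Agent.Solvable.HallAux
import Cfsg.Agent.SignalizersComponents.NoOffender
import Cfsg.Agent.PLocal.OffenderBound

/-!
# Nonsolvability criteria and the offender bound in a solvable group

* `not_isSolvable_of_transitive`: a group `H` acting on an elementary abelian group `E` of order 8
  transitively on `E ∖ 1`, with an element acting as an involution, is not solvable (it induces
  `GL₃(2)`); `not_isSolvable_of_transitive_sq` allows any element of 2-power order acting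
  nontrivially;
* `card_mul_card_le`: `H` solvable acting on an elementary abelian `p`-group `V` (any abelian `p`-group)
  with `O_p(H / C_H(V)) = 1`, `A` a subgroup of `H` elementary abelian modulo `C_H(V)`: then
  `|A / C_A(V)| |C_V(A)| ≤ |V|`.
-/

set_option autoImplicit false

namespace Cfsg.Agent.MinSimple.Nonsolv

open Subgroup

section Auto

variable {E : Type*} [Group E] [Finite E]

/-- The non-identity elements. -/
abbrev Pt (E : Type*) [Group E] : Type _ := {x : E // x ≠ 1}

/-- The action of the automorphisms of `E` on the non-identity elements. -/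
def act (E : Type*) [Group E] : MulAction (MulAut E) (Pt E) where
  smul m x := ⟨m x, fun h => x.2 ((map_eq_one_iff m m.injective).1 h)⟩
  one_smul _ := rfl
  mul_smul _ _ _ := rfl

theorem card_pt (h : Nat.card E = 8) : Nat.card (Pt E) = 7 := by
  classical
  have := Fintype.ofFinite E
  have h1 : Nat.card {x : E // x ≠ 1} = Fintype.card E - 1 := by
    rw [Nat.card_eq_fintype_card, Fintype.card_subtype_compl, Fintype.card_subtype_eq]
  rw [h1, ← Nat.card_eq_fintype_card, h]

/-- An involutory automorphism of an elementary abelian 2-group of order 8 fixes at least three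
non-identity elements. -/
theorem exists_two_fixed (hE : ∀ x : E, x * x = 1) (hc : Nat.card E = 8) (w : MulAut E)
    (hw : w * w = 1) : ∃ x y : E, x ≠ 1 ∧ y ≠ 1 ∧ x ≠ y ∧ w x = x ∧ w y = y := by
  classical
  have hcomm : ∀ x y : E, x * y = y * x := by
    intro x y
    have h1 := hE (x * y)
    have h2 : x * y = (x * y)⁻¹ := eq_inv_of_mul_eq_one_left h1
    rw [h2, _root_.mul_inv_rev, ← eq_inv_of_mul_eq_one_left (hE x),
      ← eq_inv_of_mul_eq_one_left (hE y)]
  have hww : ∀ x, w (w x) = x := by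
    intro x
    have := DFunLike.congr_fun hw x
    exact this
  let δ : E →* E :=
    { toFun := fun x => x * w x
      map_one' := by rw [map_one, mul_one]
      map_mul' := fun x y => by
        rw [map_mul, mul_assoc, ← mul_assoc y, hcomm y (w x)]
        simp only [mul_assoc] }
  have hδ : ∀ x, δ x = x * w x := fun _ => rfl
  have hker : ∀ x, x ∈ δ.ker ↔ w x = x := by
    intro x
    rw [MonoidHom.mem_ker, hδ]
    constructor
    · intro h
      have h1 : x * w x = x * x := by rw [h, hE]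
      exact mul_left_cancel h1
    · intro h
      rw [h, hE]
  have hrange : δ.range ≤ δ.ker := by
    rintro _ ⟨x, rfl⟩
    rw [hker, hδ, map_mul, hww, hcomm]
  have h1 : Nat.card δ.range * Nat.card δ.ker = 8 := by
    rw [← hc, mul_comm, ← δ.ker.card_mul_index]
    congr 1
    exact (Subgroup.index_ker δ).symm
  have h2 : Nat.card δ.range ≤ Nat.card δ.ker := Nat.card_le_card_of_injective
    (Subgroup.inclusion hrange) (Subgroup.inclusion_injective hrange)
  have h3 : 3 ≤ Nat.card δ.ker := by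
    by_contra hcon
    push Not at hcon
    have h4 : Nat.card δ.ker ≤ 2 := by omega
    have h5 : Nat.card δ.range ≤ 2 := h2.trans h4
    have h6 := Nat.mul_le_mul h5 h4
    omega
  have := Fintype.ofFinite δ.ker
  rw [Nat.card_eq_fintype_card] at h3
  obtain ⟨a, b, c, hab, hac, hbc⟩ := Fintype.two_lt_card_iff.1 (show 2 < Fintype.card δ.ker by omega)
  by_cases ha : a = 1
  · subst ha
    exact ⟨b, c, fun h => hab (Subtype.ext h.symm), fun h => hac (Subtype.ext h.symm),
      fun h => hbc (Subtype.ext h), (hker b).1 b.2, (hker c).1 c.2⟩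
  · by_cases hb : b = 1
    · subst hb
      exact ⟨a, c, fun h => ha (Subtype.ext h), fun h => hbc (Subtype.ext h.symm),
        fun h => hac (Subtype.ext h), (hker a).1 a.2, (hker c).1 c.2⟩
    · exact ⟨a, b, fun h => ha (Subtype.ext h), fun h => hb (Subtype.ext h),
        fun h => hab (Subtype.ext h), (hker a).1 a.2, (hker b).1 b.2⟩

/-- **Solvable transitive linear groups of degree 3 over `𝔽₂` have odd order**, automorphism form. -/
theorem eq_one_of_sq (hE : ∀ x : E, x * x = 1) (hc : Nat.card E = 8) (K : Subgroup (MulAut E))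
    (hK : Group.IsSolvable K) (htr : ∀ x y : E, x ≠ 1 → y ≠ 1 → ∃ k ∈ K, k x = y) {w : MulAut E}
    (hw : w ∈ K) (hw2 : w * w = 1) : w = 1 := by
  classical
  have : Finite (MulAut E) := Finite.of_injective (fun m : MulAut E => (m : E → E))
    DFunLike.coe_injective
  by_contra hw1
  have hnt : Nontrivial K := ⟨⟨⟨w, hw⟩, 1, fun h => hw1 (congrArg Subtype.val h)⟩⟩
  obtain ⟨r, N, hr, hN, hN1, hNc, hNr⟩ := Solvable.HallAux.exists_normal_elementary (G := K)
  have hrf : Fact r.Prime := ⟨hr⟩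
  let _ : MulAction (MulAut E) (Pt E) := act E
  let _ : MulAction N (Pt E) := MulAction.compHom (Pt E) (K.subtype.comp N.subtype)
  have hsm : ∀ (n : N) (x : Pt E), ((n • x : Pt E) : E) = ((n : K) : MulAut E) x := fun _ _ => rfl
  have hNp : IsPGroup r N := by
    intro n
    refine ⟨1, ?_⟩
    rw [pow_one]
    exact Subtype.ext (hNr n n.2)
  -- no fixed point of `N`
  have hfix : ∀ x : E, x ≠ 1 → ¬ ∀ n : N, ((n : K) : MulAut E) x = x := by
    intro x hx hall
    apply hN1
    rw [eq_bot_iff]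
    intro n hn
    rw [Subgroup.mem_bot]
    refine Subtype.ext (MulEquiv.ext fun y => ?_)
    show ((n : K) : MulAut E) y = y
    by_cases hy : y = 1
    · rw [hy, map_one]
    · obtain ⟨k, hk, hky⟩ := htr x y hx hy
      have h1 : (⟨k, hk⟩ : K)⁻¹ * n * (⟨k, hk⟩ : K)⁻¹⁻¹ ∈ N := hN.conj_mem n hn _
      have h2 := hall ⟨_, h1⟩
      have h3 : k⁻¹ ((n : MulAut E) (k x)) = x := by
        have h4 : ((⟨k, hk⟩ : K)⁻¹ * n * (⟨k, hk⟩ : K)⁻¹⁻¹ : K) = (⟨k, hk⟩ : K)⁻¹ * n * ⟨k, hk⟩ := by
          rw [inv_inv]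
        simp only [h4] at h2
        exact h2
      have h5 : (n : MulAut E) (k x) = k x := by
        have := congrArg k h3
        rwa [MulAut.apply_inv_self] at this
      rw [← hky]
      exact h5
  have hr7 : r = 7 := by
    by_contra hr7
    have h1 : ¬ r ∣ Nat.card (Pt E) := by
      rw [card_pt hc]
      intro h2
      exact hr7 ((Nat.prime_dvd_prime_iff_eq hr (by norm_num)).1 h2)
    obtain ⟨x, hx⟩ := hNp.nonempty_fixed_point_of_prime_not_dvd_card (Pt E) h1
    exact hfix x x.2 fun n => congrArg Subtype.val (hx n)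
  subst hr7
  -- every non-identity element of `N` is transitive
  have htrans : ∀ m : N, m ≠ 1 → ∀ x y : Pt E, ∃ j : ℤ, m ^ j • x = y := by
    intro m hm x y
    -- some point is moved by `m`
    obtain ⟨z, hz⟩ : ∃ z : Pt E, m • z ≠ z := by
      by_contra hcon
      push Not at hcon
      apply hm
      refine Subtype.ext (Subtype.ext (MulEquiv.ext fun e => ?_))
      show ((m : K) : MulAut E) e = e
      by_cases he : e = 1
      · rw [he, map_one]
      · exact congrArg Subtype.val (hcon ⟨e, he⟩)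
    have hmp : IsPGroup 7 (zpowers m) := hNp.to_subgroup _
    have horb : ∀ v : Pt E, v ∈ MulAction.orbit (zpowers m) z := by
      obtain ⟨n, hn⟩ := hmp.card_orbit z
      have hn0 : n ≠ 0 := by
        rintro rfl
        rw [pow_zero] at hn
        apply hz
        have h1 := Nat.card_eq_one_iff_unique.1 hn
        have h2 : (⟨m • z, ⟨⟨m, mem_zpowers m⟩, rfl⟩⟩ : MulAction.orbit (zpowers m) z) =
            ⟨z, MulAction.mem_orbit_self z⟩ := h1.1.elim _ _
        exact congrArg Subtype.val h2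
      have h7 : 7 ≤ Nat.card (MulAction.orbit (zpowers m) z) := by
        rw [hn]
        exact Nat.le_self_pow hn0 7
      have huniv : MulAction.orbit (zpowers m) z = Set.univ := by
        apply Set.eq_of_subset_of_ncard_le (Set.subset_univ _)
        · rw [Set.ncard_univ, card_pt hc]
          exact h7
      intro v
      rw [huniv]
      exact Set.mem_univ v
    obtain ⟨⟨g, hg⟩, hgx⟩ := horb x
    obtain ⟨⟨g', hg'⟩, hgy⟩ := horb y
    obtain ⟨i, rfl⟩ := mem_zpowers_iff.1 hg
    obtain ⟨j, rfl⟩ := mem_zpowers_iff.1 hg'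
    refine ⟨j - i, ?_⟩
    have hgx' : m ^ i • z = x := hgx
    have hgy' : m ^ j • z = y := hgy
    rw [← hgx', ← mul_smul, ← zpow_add, sub_add_cancel, hgy']
  obtain ⟨x, y, hx, hy, hxy, hwx, hwy⟩ := exists_two_fixed hE hc w hw2
  -- an element of `N` mapping `x` to `y`
  obtain ⟨n₀, hn₀⟩ : ∃ n₀ : N, n₀ ≠ 1 := by
    by_contra hcon
    push Not at hcon
    exact hN1 (eq_bot_iff.2 fun n hn => mem_bot.2 (congrArg Subtype.val (hcon ⟨n, hn⟩)))
  obtain ⟨j, hj⟩ := htrans n₀ hn₀ ⟨x, hx⟩ ⟨y, hy⟩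
  set m : N := n₀ ^ j with hm
  have hmx : ((m : K) : MulAut E) x = y := congrArg Subtype.val hj
  have hm1 : m ≠ 1 := by
    intro h
    apply hxy
    rw [← hmx, h]
    rfl
  -- `w` commutes with `m`
  let W : K := ⟨w, hw⟩
  have hconj : W * (m : K) * W⁻¹ ∈ N := hN.conj_mem m m.2 W
  have hWinv : w⁻¹ = w := inv_eq_of_mul_eq_one_left hw2
  have heq : (⟨W * (m : K) * W⁻¹, hconj⟩ : N) = m := by
    -- the quotient fixes `x` and commutes with the transitive element `m`
    set k : N := m⁻¹ * ⟨W * (m : K) * W⁻¹, hconj⟩ with hk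
    have hkx : k • (⟨x, hx⟩ : Pt E) = ⟨x, hx⟩ := by
      apply Subtype.ext
      show ((m : K) : MulAut E)⁻¹ (w (((m : K) : MulAut E) (w⁻¹ x))) = x
      rw [hWinv, hwx, hmx, hwy, ← hmx]
      exact MulAut.inv_apply_self _ _ x
    have hk1 : k = 1 := by
      refine Subtype.ext (Subtype.ext (MulEquiv.ext fun e => ?_))
      show ((k : K) : MulAut E) e = e
      by_cases he : e = 1
      · rw [he, map_one]
      · obtain ⟨i, hi⟩ := htrans m hm1 ⟨x, hx⟩ ⟨e, he⟩
        have h1 : k * m ^ i = m ^ i * k := hNc.is_comm.comm _ _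
        have h2 : k • (⟨e, he⟩ : Pt E) = ⟨e, he⟩ := by
          rw [← hi, ← mul_smul, h1, mul_smul, hkx]
        exact congrArg Subtype.val h2
    rw [hk] at hk1
    exact (inv_mul_eq_one.1 hk1).symm
  have hcom : ∀ e, w (((m : K) : MulAut E) e) = ((m : K) : MulAut E) (w e) := by
    intro e
    have h1 : w * ((m : K) : MulAut E) * w⁻¹ = ((m : K) : MulAut E) :=
      congrArg (fun v : N => ((v : K) : MulAut E)) heq
    have h2 : w * ((m : K) : MulAut E) = ((m : K) : MulAut E) * w := by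
      rwa [mul_inv_eq_iff_eq_mul] at h1
    exact DFunLike.congr_fun h2 e
  apply hw1
  refine MulEquiv.ext fun e => ?_
  show w e = e
  by_cases he : e = 1
  · rw [he, map_one]
  · obtain ⟨i, hi⟩ := htrans m hm1 ⟨x, hx⟩ ⟨e, he⟩
    have h1 : (((m ^ i : N) : K) : MulAut E) x = e := congrArg Subtype.val hi
    have h2 : Commute w ((m : K) : MulAut E) := MulEquiv.ext hcom
    have h3 : Commute w (((m ^ i : N) : K) : MulAut E) := by
      have h4 : (((m ^ i : N) : K) : MulAut E) = ((m : K) : MulAut E) ^ i := by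
        push_cast
        rfl
      rw [h4]
      exact h2.zpow_right i
    rw [← h1]
    have h5 := DFunLike.congr_fun h3.eq x
    change w ((((m ^ i : N) : K) : MulAut E) x) = (((m ^ i : N) : K) : MulAut E) (w x) at h5
    rw [h5, hwx]

end Auto

section Main

variable {G : Type*} [Group G] [Finite G]

/-- The action of `H` on `E` by conjugation. -/
def conjHom {E H : Subgroup G} (hHE : ∀ h ∈ H, ∀ x, x ∈ E ↔ h * x * h⁻¹ ∈ E) : H →* MulAut E where
  toFun h :=
    { toFun := fun x => ⟨h * x * (h : G)⁻¹, (hHE h h.2 x).1 x.2⟩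
      invFun := fun x => ⟨(h : G)⁻¹ * x * h, by
        have h1 := (hHE (h : G)⁻¹ (inv_mem h.2) x).1 x.2
        rwa [inv_inv] at h1⟩
      left_inv := fun x => Subtype.ext (by
        show (h : G)⁻¹ * (h * x * (h : G)⁻¹) * h = x
        group)
      right_inv := fun x => Subtype.ext (by
        show (h : G) * ((h : G)⁻¹ * x * h) * (h : G)⁻¹ = x
        group)
      map_mul' := fun x y => Subtype.ext (by
        show (h : G) * (x * y) * (h : G)⁻¹ = (h * x * (h : G)⁻¹) * (h * y * (h : G)⁻¹)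
        group) }
  map_one' := MulEquiv.ext fun x => Subtype.ext (by
    show (1 : G) * x * (1 : G)⁻¹ = x
    group)
  map_mul' h k := MulEquiv.ext fun x => Subtype.ext (by
    show ((h * k : H) : G) * x * ((h * k : H) : G)⁻¹ = h * (k * x * (k : G)⁻¹) * (h : G)⁻¹
    push_cast
    group)

theorem conjHom_apply {E H : Subgroup G} (hHE : ∀ h ∈ H, ∀ x, x ∈ E ↔ h * x * h⁻¹ ∈ E) (h : H)
    (x : E) : ((conjHom hHE h x : E) : G) = h * x * (h : G)⁻¹ := rfl

theorem mem_iff_of_conj {E H : Subgroup G} (hHE : ∀ h ∈ H, ∀ x ∈ E, h * x * h⁻¹ ∈ E) :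
    ∀ h ∈ H, ∀ x, x ∈ E ↔ h * x * h⁻¹ ∈ E := by
  intro h hh x
  refine ⟨hHE h hh x, fun hx => ?_⟩
  have h1 := hHE h⁻¹ (inv_mem hh) _ hx
  have h2 : h⁻¹ * (h * x * h⁻¹) * h⁻¹⁻¹ = x := by group
  rwa [h2] at h1

/-- **A solvable group acting transitively on the non-identity elements of an elementary abelian group
of order 8 contains no element acting as an involution.** -/
theorem commute_of_isSolvable {E H : Subgroup G} (hE : ∀ x ∈ E, x * x = 1)
    (hc : Nat.card E = 8) (hHE : ∀ h ∈ H, ∀ x ∈ E, h * x * h⁻¹ ∈ E)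
    (htr : ∀ x ∈ E, x ≠ 1 → ∀ y ∈ E, y ≠ 1 → ∃ h ∈ H, h * x * h⁻¹ = y)
    (hH : Group.IsSolvable H) {w : G} (hw : w ∈ H) (hw2 : ∀ x ∈ E, w * w * x = x * (w * w)) :
    ∀ x ∈ E, w * x = x * w := by
  have hHE' := mem_iff_of_conj hHE
  set φ := conjHom hHE' with hφ
  have hK : Group.IsSolvable φ.range := by
    have := hH
    exact Group.isSolvable_of_surjective φ.rangeRestrict_surjective
  have h1 : φ ⟨w, hw⟩ = 1 := by
    refine eq_one_of_sq (fun x => Subtype.ext (hE x x.2)) hc φ.range hK ?_ ⟨_, rfl⟩ ?_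
    · intro x y hx hy
      obtain ⟨h, hh, he⟩ := htr x x.2 (fun h1 => hx (Subtype.ext h1)) y y.2
        (fun h1 => hy (Subtype.ext h1))
      exact ⟨φ ⟨h, hh⟩, ⟨_, rfl⟩, Subtype.ext he⟩
    · rw [← map_mul]
      refine MulEquiv.ext fun x => Subtype.ext ?_
      show w * w * x * (w * w)⁻¹ = x
      rw [hw2 x x.2, mul_assoc, mul_inv_cancel, mul_one]
  intro x hx
  have h3 := congrArg (fun y : E => (y : G)) (DFunLike.congr_fun h1 (⟨x, hx⟩ : E))
  have h2 : w * x * w⁻¹ = x := h3
  rwa [mul_inv_eq_iff_eq_mul] at h2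

theorem not_isSolvable_of_transitive {E H : Subgroup G} (hE : ∀ x ∈ E, x * x = 1)
    (hc : Nat.card E = 8) (hHE : ∀ h ∈ H, ∀ x ∈ E, h * x * h⁻¹ ∈ E)
    (htr : ∀ x ∈ E, x ≠ 1 → ∀ y ∈ E, y ≠ 1 → ∃ h ∈ H, h * x * h⁻¹ = y) {w : G} (hw : w ∈ H)
    (hw2 : ∀ x ∈ E, w * w * x = x * (w * w)) (hw1 : ∃ x ∈ E, w * x ≠ x * w) :
    ¬ Group.IsSolvable H := by
  intro hH
  obtain ⟨x, hx, h1⟩ := hw1
  exact h1 (commute_of_isSolvable hE hc hHE htr hH hw hw2 x hx)

/-- The same for a 2-element not centralizing `E`. -/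
theorem commute_of_isSolvable_pow {E H : Subgroup G} (hE : ∀ x ∈ E, x * x = 1)
    (hc : Nat.card E = 8) (hHE : ∀ h ∈ H, ∀ x ∈ E, h * x * h⁻¹ ∈ E)
    (htr : ∀ x ∈ E, x ≠ 1 → ∀ y ∈ E, y ≠ 1 → ∃ h ∈ H, h * x * h⁻¹ = y)
    (hH : Group.IsSolvable H) : ∀ (n : ℕ) {w : G} (_ : w ∈ H)
    (_ : ∀ x ∈ E, w ^ 2 ^ n * x = x * w ^ 2 ^ n), ∀ x ∈ E, w * x = x * w := by
  intro n
  induction n with
  | zero =>
    intro w _ h x hx
    have := h x hx
    rwa [pow_zero, pow_one] at this
  | succ n ih =>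
    intro w hw h
    have h1 := ih (w := w * w) (mul_mem hw hw) (fun x hx => by
      have h2 := h x hx
      rwa [pow_succ', pow_mul, sq] at h2)
    exact commute_of_isSolvable hE hc hHE htr hH hw h1

/-- **The offender bound.** `H` solvable, acting on the abelian `p`-group `V` with
`O_p(H / C_H(V)) = 1`; `A ≤ H` elementary abelian modulo `C_H(V)`. Then
`|A / C_A(V)| |C_V(A)| ≤ |V|`. -/
theorem card_mul_card_le {p : ℕ} [hp : Fact p.Prime] {V H A : Subgroup G}
    (hV : IsPGroup p V) (hVc : ∀ x ∈ V, ∀ y ∈ V, x * y = y * x)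
    (hHV : ∀ h ∈ H, ∀ x ∈ V, h * x * h⁻¹ ∈ V) (hH : Group.IsSolvable H)
    (hO : ∀ D : Subgroup G, D ≤ H → (∀ h ∈ H, ∀ x ∈ D, h * x * h⁻¹ ∈ D) →
      H ⊓ centralizer (V : Set G) ≤ D →
      (∃ k : ℕ, (H ⊓ centralizer (V : Set G)).relIndex D = p ^ k) → D ≤ centralizer (V : Set G))
    (hAH : A ≤ H) (hAc : ∀ a ∈ A, ∀ b ∈ A, a * b * a⁻¹ * b⁻¹ ∈ centralizer (V : Set G))
    (hAp : ∀ a ∈ A, a ^ p ∈ centralizer (V : Set G)) :
    (A ⊓ centralizer (V : Set G)).relIndex A * Nat.card ↥(V ⊓ centralizer (A : Set G)) ≤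
      Nat.card V := by
  classical
  have hHV' := mem_iff_of_conj hHV
  set φ := conjHom hHV' with hφ
  have hφ1 : ∀ h : H, φ h = 1 ↔ (h : G) ∈ centralizer (V : Set G) := by
    intro h
    rw [mem_centralizer_iff]
    constructor
    · intro h1 x hx
      have h3 := congrArg (fun y : V => (y : G)) (DFunLike.congr_fun h1 (⟨x, hx⟩ : V))
      have h2 : (h : G) * x * (h : G)⁻¹ = x := h3
      rw [mul_inv_eq_iff_eq_mul] at h2
      exact h2.symm
    · intro h1
      refine MulEquiv.ext fun x => Subtype.ext ?_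
      show (h : G) * x * (h : G)⁻¹ = x
      rw [← h1 x x.2, mul_assoc, mul_inv_cancel, mul_one]
  let K : Subgroup (MulAut V) := φ.range
  have : Finite (MulAut V) := Finite.of_injective (fun m : MulAut V => (m : V → V))
    DFunLike.coe_injective
  let ρ : H →* K := φ.rangeRestrict
  have hρ : Function.Surjective ρ := φ.rangeRestrict_surjective
  have hρ1 : ∀ h : H, ρ h = 1 ↔ (h : G) ∈ centralizer (V : Set G) := by
    intro h
    rw [← hφ1]
    exact ⟨fun h1 => congrArg Subtype.val h1, fun h1 => Subtype.ext h1⟩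
  have hK : Group.IsSolvable K := by
    have := hH
    exact Group.isSolvable_of_surjective hρ
  -- `O_p(K) = 1`
  have hOK : pCore p K = ⊥ := by
    rw [eq_bot_iff]
    intro k hk
    obtain ⟨h, rfl⟩ := hρ k
    set D : Subgroup G := ((pCore p K).comap ρ).map H.subtype with hD
    have hmem : ∀ x : H, (x : G) ∈ D ↔ ρ x ∈ pCore p K := by
      intro x
      rw [hD, mem_map]
      constructor
      · rintro ⟨y, hy, hyx⟩
        have : y = x := Subtype.ext hyx
        rw [← this]
        exact hy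
      · intro hx
        exact ⟨x, hx, rfl⟩
    have hDH : D ≤ H := map_subtype_le _
    have hcD : H ⊓ centralizer (V : Set G) ≤ D := by
      rintro x ⟨hx, hxc⟩
      have h1 := (hρ1 ⟨x, hx⟩).2 hxc
      refine (hmem ⟨x, hx⟩).2 ?_
      rw [h1]
      exact one_mem _
    have h1 : D ≤ centralizer (V : Set G) := by
      refine hO D hDH ?_ hcD ?_
      · intro g hg x hx
        have h2 := (hmem ⟨x, hDH hx⟩).1 hx
        refine (hmem (⟨g, hg⟩ * ⟨x, hDH hx⟩ * ⟨g, hg⟩⁻¹)).2 ?_
        rw [map_mul, map_mul, map_inv]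
        exact (Lib.Cores.pCore_normal (G := K) p).conj_mem _ h2 _
      · -- the quotient is isomorphic to `O_p(K)`
        let ψ : D →* pCore p K :=
          (ρ.comp (inclusion hDH)).codRestrict (pCore p K) (fun x => (hmem ⟨x, hDH x.2⟩).1 x.2)
        have hψ : Function.Surjective ψ := by
          rintro ⟨y, hy⟩
          obtain ⟨x, rfl⟩ := hρ y
          exact ⟨⟨x, (hmem x).2 hy⟩, rfl⟩
        have hker : ψ.ker = (H ⊓ centralizer (V : Set G)).subgroupOf D := by
          ext x
          rw [MonoidHom.mem_ker, mem_subgroupOf, mem_inf]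
          constructor
          · intro h2
            have h3 : ρ ⟨x, hDH x.2⟩ = 1 := congrArg Subtype.val h2
            exact ⟨hDH x.2, (hρ1 _).1 h3⟩
          · rintro ⟨_, h3⟩
            exact Subtype.ext ((hρ1 ⟨x, hDH x.2⟩).2 h3)
        obtain ⟨n, hn⟩ := IsPGroup.iff_card.1 (Lib.Cores.pCore_isPGroup (G := K) p)
        refine ⟨n, ?_⟩
        rw [relIndex, ← hker, index_ker, MonoidHom.range_eq_top.2 hψ, card_top, hn]
    have h2 : (h : G) ∈ D := (hmem h).2 hk
    exact (mem_bot).2 ((hρ1 h).2 (h1 h2))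
  set Q := pPrimeCore p K with hQ
  have hQn : Q.Normal := Lib.Cores.pPrimeCore_normal p
  have hCQ : centralizer (Q : Set K) ≤ Q :=
    SignalizersComponents.NoOffender.centralizer_pPrimeCore_le hK hOK
  have hQc : (Nat.card Q).Coprime p := Lib.Cores.pPrimeCore_coprime p
  set Ab : Subgroup K := (A.subgroupOf H).map ρ with hAb
  have hAbp : Cfsg.IsElementaryAbelian p Ab := by
    constructor
    · refine ⟨⟨?_⟩⟩
      rintro ⟨_, x, hx, rfl⟩ ⟨_, y, hy, rfl⟩
      refine Subtype.ext ?_
      show ρ x * ρ y = ρ y * ρ x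
      rw [← map_mul, ← map_mul]
      have h1 : ρ (x * y * x⁻¹ * y⁻¹) = 1 := (hρ1 _).2 (hAc x hx y hy)
      have h2 : x * y = (x * y * x⁻¹ * y⁻¹) * (y * x) := by group
      rw [h2, map_mul, h1, one_mul]
    · rintro _ ⟨x, hx, rfl⟩
      rw [← map_pow]
      exact (hρ1 _).2 (hAp x hx)
  have hAbQ : Ab ⊓ centralizer (Q : Set K) = ⊥ := by
    rw [eq_bot_iff]
    rintro x ⟨hx1, hx2⟩
    have h1 : x ∈ Q := hCQ hx2
    have h2 : x ^ p = 1 := hAbp.2 x hx1
    have h3 : orderOf x ∣ p := orderOf_dvd_of_pow_eq_one h2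
    have h4 : orderOf x ∣ Nat.card Q := by
      have := orderOf_dvd_natCard (⟨x, h1⟩ : Q)
      rwa [Subgroup.orderOf_mk] at this
    have h5 := Nat.dvd_gcd h4 h3
    rw [hQc] at h5
    exact mem_bot.2 (orderOf_eq_one_iff.1 (Nat.dvd_one.1 h5))
  let _ : CommGroup V := { (inferInstance : Group V) with
    mul_comm := fun x y => Subtype.ext (hVc x x.2 y y.2) }
  have key := PLocal.OffenderBound.card_mul_card_fix_le (p := p) K.subtype hV Q hQc
    (fun x _ hx => Subtype.ext hx) (Nat.card Ab) Ab le_rfl hAbp hAbQ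
  -- comparison of the cardinalities
  have h1 : Nat.card Ab = (A ⊓ centralizer (V : Set G)).relIndex A := by
    let ψ : A →* Ab := (ρ.comp (inclusion hAH)).codRestrict Ab (fun x => ⟨inclusion hAH x, x.2, rfl⟩)
    have hψ : Function.Surjective ψ := by
      rintro ⟨_, x, hx, rfl⟩
      exact ⟨⟨x, hx⟩, rfl⟩
    have hker : ψ.ker = (A ⊓ centralizer (V : Set G)).subgroupOf A := by
      ext x
      rw [MonoidHom.mem_ker, mem_subgroupOf, mem_inf]
      constructor
      · intro h2
        have h3 : ρ ⟨x, hAH x.2⟩ = 1 := congrArg Subtype.val h2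
        exact ⟨x.2, (hρ1 _).1 h3⟩
      · rintro ⟨_, h3⟩
        exact Subtype.ext ((hρ1 ⟨x, hAH x.2⟩).2 h3)
    rw [relIndex, ← hker, index_ker, MonoidHom.range_eq_top.2 hψ, card_top]
  have h2 : Nat.card ↥(V ⊓ centralizer (A : Set G)) = Nat.card (PLocal.OffenderBound.fix K.subtype Ab) := by
    refine Nat.card_congr
      { toFun := fun x => ⟨⟨x, x.2.1⟩, ?_⟩
        invFun := fun x => ⟨x.1, x.1.2, ?_⟩
        left_inv := fun x => rfl
        right_inv := fun x => rfl }
    · rw [PLocal.OffenderBound.mem_fix]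
      rintro _ ⟨y, hy, rfl⟩
      refine Subtype.ext ?_
      show (y : G) * x * (y : G)⁻¹ = x
      rw [mem_centralizer_iff.1 x.2.2 y hy, mul_assoc, mul_inv_cancel, mul_one]
    · show ((x.1 : V) : G) ∈ centralizer (A : Set G)
      rw [mem_centralizer_iff]
      intro y hy
      have h3 := (PLocal.OffenderBound.mem_fix K.subtype Ab x.1).1 x.2 (ρ ⟨y, hAH hy⟩)
        ⟨⟨y, hAH hy⟩, hy, rfl⟩
      have h4 : y * x.1 * y⁻¹ = x.1 := congrArg Subtype.val h3
      rwa [mul_inv_eq_iff_eq_mul] at h4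
  rw [← h1, h2]
  exact key

end Main

end Cfsg.Agent.MinSimple.Nonsolv
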