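import Cfsg.Agent.MinSimple.OddPair
import Cfsg.Agent.MinSimple.OddTwoRep

/-!
# (E1)(b), Case 1: the weight over `O₃` and the facts on `ws V p1 ⊓ ws V w1`
-/

set_option autoImplicit false
set_option linter.unusedSectionVars false

namespace Cfsg.Agent.MinSimple.OddCase

open Subgroup Cfsg Cfsg.Agent.ZN Cfsg.Agent.MinSimple.Geo Cfsg.Agent.MinSimple.BTwoA
  Cfsg.Agent.MinSimple.OddLine Cfsg.Agent.MinSimple.OddBase Cfsg.Agent.MinSimple.OddTwoWeight
  Cfsg.Agent.MinSimple.OddTwoStar Cfsg.Agent.MinSimple.OddPair Cfsg.Agent.MinSimple.OddRep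
  Cfsg.Agent.MinSimple.OddTwoMod Cfsg.Agent.MinSimple.OddTwoDefs Cfsg.Agent.MinSimple.OddTwoRep
open Cfsg.Agent.ZN.Block (conj_mem_of_normalizer conj_mem_of_normalizer' le_normalizer_of_forall
  mem_normalizer_of)

universe u

variable {G : Type u} [Group G] [Finite G] {T V : Subgroup G} {z r d t w : G}

/-- a weight with the property (CTL) -/
theorem exists_ctl_weight {M X : Type u} [AddCommGroup M] [Group X] [DistribMulAction X M]
    (h : Tr T V z r d t) (hw : w ∈ ws V d) (hn : w ∉ centralizer (ws V r : Set G)) (R : Rep V r M X)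
    {P : Subgroup (MulAut (Multiplicative M))} (hP : Ctl (act M X).range P) :
    ∃ y ∈ centralizer ({r} : Set G), _root_.Odd (orderOf y) ∧ act M X (R.rho y) ∈ P ∧
      Blk (act M X (R.rho w)) (ve R t) (act M X (R.rho y)) := by
  have hwr := h.cr hw
  have hte : ve R t ≠ 1 := by
    intro e
    have h1 : R.pi t = 0 := Multiplicative.ofAdd.injective e
    rcases (Rep.pi_eq_zero' h.odd h.ptr R h.t_memr).mp h1 with e | e
    · exact h.t_ne e
    · exact h.rd (e ▸ h.t_memd)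
  have htv : Tv (act M X (R.rho w)) (ve R t) := by
    refine ⟨fun m => ?_, ?_, ?_⟩
    · obtain ⟨a, ha, rfl⟩ := ve_surj R m
      rw [act_ve R hwr ha]
      rcases h.conj_cases hw ha with e | e
      · left; rw [conj_eq_iff_comm.mpr e]
      · right; rw [e, ve_mul R ha h.t_memr]
    · rw [act_ve R hwr h.t_memr, conj_eq_iff_comm.mpr (h.comm_t hw)]
    · obtain ⟨v, hv, hne⟩ := exists_noncomm hn
      refine ⟨ve R v, ?_⟩
      rw [act_ve R hwr hv, h.conj_eq hw hv hne, ve_mul R hv h.t_memr]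
      intro e
      exact hte (mul_eq_left.mp e)
  obtain ⟨ξ, hξ, hb⟩ := hP.ex _ ⟨_, rfl⟩ _ htv
  obtain ⟨g0, rfl⟩ := hP.le hξ
  have hg3 : g0 ^ 3 ^ 1 = 1 := by
    have hinj : Function.Injective (act M X) := by
      rw [injective_iff_map_eq_one]
      intro g hg
      refine R.faithful g fun m => ?_
      have h1 : act M X g (Multiplicative.ofAdd m) = Multiplicative.ofAdd m := by rw [hg]; rfl
      rw [act_apply] at h1
      exact Multiplicative.ofAdd.injective h1
    apply hinj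
    rw [map_pow, map_one, pow_one, pow_succ, pow_two]
    exact hb.cube
  obtain ⟨y, hy, rfl, j, hj⟩ := R.exists_lift Nat.prime_three hg3
  refine ⟨y, hy, ?_, hξ, hb⟩
  refine (Odd.pow (n := j) (by decide : _root_.Odd 3)).of_dvd_nat (orderOf_dvd_of_pow_eq_one hj)

theorem act_injective {M X : Type u} [AddCommGroup M] [Group X] [DistribMulAction X M]
    (R : Rep V r M X) : Function.Injective (act M X) := by
  rw [injective_iff_map_eq_one]
  intro g hg
  refine R.faithful g fun m => ?_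
  have h1 : act M X g (Multiplicative.ofAdd m) = Multiplicative.ofAdd m := by rw [hg]; rfl
  rw [act_apply] at h1
  exact Multiplicative.ofAdd.injective h1

/-- **(CTL)** -/
theorem exists_side_ctl (h : Tr T V z r d t) (hw : w ∈ ws V d)
    (hn : w ∉ centralizer (ws V r : Set G)) : ∃ s : G, Side V r w t s ∧
      ∀ g ∈ centralizer ({r} : Set G), (g * t * g⁻¹ = t ∨ g * t * g⁻¹ = t * r) →
        g * s * g⁻¹ * s⁻¹ ∈ kq V r ∨ g * s * g⁻¹ * s ∈ kq V r := by
  obtain ⟨M, X, _, _, _, ⟨R⟩⟩ := exists_rep h.odd h.ptr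
  obtain ⟨P, hP⟩ := exists_ctl_rep h.odd h.ptr R
  obtain ⟨y, hy, hyo, hyP, hb⟩ := exists_ctl_weight h hw hn R hP
  have hwr := h.cr hw
  have hinj := act_injective R
  have hynk : y ∉ kq V r := by
    intro hk
    apply hb.move
    rw [(Rep.rho_eq_one R hy).mpr hk, map_one]; rfl
  have hyinv : w * y * w⁻¹ * y ∈ kq V r := by
    rw [← Rep.rho_eq_one R (mul_mem (mul_mem (mul_mem hwr hy) (inv_mem hwr)) hy),
      R.rho_mul _ (mul_mem (mul_mem hwr hy) (inv_mem hwr)) _ hy, R.rho_conj hwr hy]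
    apply hinj
    rw [map_one, map_mul, map_mul, map_mul, map_inv, hb.inv', inv_mul_cancel]
  obtain ⟨s, hs, hsy⟩ := h.side_of hw hy hyo hynk hyinv
  refine ⟨s, hs, fun g hg hgt => ?_⟩
  have hfix : act M X (R.rho g) (ve R t) = ve R t := by
    rw [act_ve R hg h.t_memr]
    rcases hgt with e | e
    · rw [e]
    · have hr := self_mem_ws h.odd.toGeo h.ptr
      rw [e, ve_eq h.odd h.ptr R (mul_mem h.t_memr hr) h.t_memr]
      right
      exact OddBase.ws_comm h.odd h.ptr h.t_memr hr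
  -- modulo `kq V r`
  set C := centralizer ({r} : Set G) with hC
  set K : Subgroup C := (kq V r).subgroupOf C with hK
  haveI hKn : K.Normal := kq_normal V r
  let π : C →* C ⧸ K := QuotientGroup.mk' K
  have hπ : ∀ c : C, π c = 1 ↔ (c : G) ∈ kq V r := by
    intro c
    change (QuotientGroup.mk c : C ⧸ K) = 1 ↔ _
    rw [QuotientGroup.eq_one_iff, hK, mem_subgroupOf]
  let g' : C := ⟨g, hg⟩
  let y' : C := ⟨y, hy⟩
  let s' : C := ⟨s, hs.mem⟩
  have hsy' : π s' = π y' * π y' := by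
    have h1 : π (s' * (y' * y')⁻¹) = 1 := (hπ _).mpr hsy
    rw [map_mul, map_inv, map_mul] at h1
    exact mul_inv_eq_one.mp h1
  have hcase : π g' * π y' * (π g')⁻¹ = π y' ∨ π g' * π y' * (π g')⁻¹ = (π y')⁻¹ := by
    rcases hP.conj_x hyP hb.toRTwo ⟨_, rfl⟩ hfix with e | e
    · left
      have h1 : R.rho (g * y * g⁻¹ * y⁻¹) = 1 := by
        rw [R.rho_mul _ (mul_mem (mul_mem hg hy) (inv_mem hg)) _ (inv_mem hy), R.rho_conj hg hy,
          R.rho_inv hy]
        apply hinj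
        rw [map_one, map_mul, map_mul, map_mul, map_inv, map_inv, e, mul_inv_cancel]
      rw [Rep.rho_eq_one R (mul_mem (mul_mem (mul_mem hg hy) (inv_mem hg)) (inv_mem hy))] at h1
      have h2 : π (g' * y' * g'⁻¹ * y'⁻¹) = 1 := (hπ _).mpr h1
      rw [map_mul, map_mul, map_mul, map_inv, map_inv] at h2
      exact mul_inv_eq_one.mp h2
    · right
      have h1 : R.rho (g * y * g⁻¹ * y) = 1 := by
        rw [R.rho_mul _ (mul_mem (mul_mem hg hy) (inv_mem hg)) _ hy, R.rho_conj hg hy]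
        apply hinj
        rw [map_one, map_mul, map_mul, map_mul, map_inv, e, inv_mul_cancel]
      rw [Rep.rho_eq_one R (mul_mem (mul_mem (mul_mem hg hy) (inv_mem hg)) hy)] at h1
      have h2 : π (g' * y' * g'⁻¹ * y') = 1 := (hπ _).mpr h1
      rw [map_mul, map_mul, map_mul, map_inv] at h2
      exact eq_inv_of_mul_eq_one_left h2
  rcases hcase with e | e
  · left
    have h1 : π (g' * s' * g'⁻¹ * s'⁻¹) = 1 := by
      rw [map_mul, map_mul, map_mul, map_inv, map_inv, hsy']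
      calc π g' * (π y' * π y') * (π g')⁻¹ * (π y' * π y')⁻¹ =
          (π g' * π y' * (π g')⁻¹) * (π g' * π y' * (π g')⁻¹) * (π y' * π y')⁻¹ := by group
        _ = 1 := by rw [e, mul_inv_cancel]
    exact (hπ _).mp h1
  · right
    have h1 : π (g' * s' * g'⁻¹ * s') = 1 := by
      rw [map_mul, map_mul, map_mul, map_inv, hsy']
      calc π g' * (π y' * π y') * (π g')⁻¹ * (π y' * π y') =
          (π g' * π y' * (π g')⁻¹) * (π g' * π y' * (π g')⁻¹) * (π y' * π y') := by group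
        _ = 1 := by rw [e]; group
    exact (hπ _).mp h1

/-- the consequences of (CTL): `b ∈ [ws V r, s]` is moved into `b⟨t, r⟩` -/
theorem conj_cases_of_ctl (h : Tr T V z r d t) {s b g : G} (hS : Side V r w t s)
    (hb : b ∈ uu (ws V r) s) (hb1 : b ≠ 1) (hbt : b ≠ t) (hg : g ∈ centralizer ({r} : Set G))
    (hgt : g * t = t * g) (hctl : g * s * g⁻¹ * s⁻¹ ∈ kq V r ∨ g * s * g⁻¹ * s ∈ kq V r) :
    g * b * g⁻¹ = b ∨ g * b * g⁻¹ = b * t ∨ g * b * g⁻¹ = b * r ∨ g * b * g⁻¹ = b * t * r := by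
  have hr := self_mem_ws h.odd.toGeo h.ptr
  have hrr := OddBase.Pt.sq h.odd.toGeo h.ptr
  have htt := h.tt_sq
  have hbW := hS.four.uu_le hb
  have hgr : g * r = r * g := mem_centralizer_singleton_iff.mp hg
  have hsr : s * r = r * s := mem_centralizer_singleton_iff.mp hS.mem
  have htr : t ≠ r := fun e => h.rd (e ▸ h.t_memd)
  -- elements of `uu`
  have hcases : ∀ u ∈ uu (ws V r) s, u = 1 ∨ u = t ∨ u = b ∨ u = b * t := by
    intro u hu
    have h1 := hS.four.cases t hS.t_mem h.t_ne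
    have hst := hS.conj_conj h
    set t1 := s * t * s⁻¹ with ht1
    have ht1W : t1 ∈ ws V r := hS.four.uu_le (hS.four.uu_conj hS.t_mem)
    have htc : t * t1 = t1 * t := hS.four.comm h.t_memr ht1W
    have ht11 : t1 * t1 = 1 := hS.four.sq _ ht1W
    rcases h1 b hb with e | e | e | e
    · exact absurd e hb1
    · exact absurd e hbt
    · rw [e]
      rcases h1 u hu with e' | e' | e' | e'
      · exact Or.inl e'
      · exact Or.inr (Or.inl e')
      · exact Or.inr (Or.inr (Or.inl e'))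
      · right; right; right; rw [e', htc]
    · rw [e]
      rcases h1 u hu with e' | e' | e' | e'
      · exact Or.inl e'
      · exact Or.inr (Or.inl e')
      · right; right; right
        rw [e', htc, mul_assoc, htt, mul_one]
      · exact Or.inr (Or.inr (Or.inl e'))
  obtain ⟨u', hu', hcase⟩ := uu_conj_cases h.odd h.ptr hS.mem hS.odd hg hctl hb
  have hu'W := hS.four.uu_le hu'
  -- `r ∉ uu`
  have hruu : r ∉ uu (ws V r) s := fun hru => OddBase.Pt.ne_one h.odd.toGeo h.ptr (hS.four.eq_one hru hsr)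
  have hginv : ∀ {a c : G}, g * a * g⁻¹ = c → a = g⁻¹ * c * g := by
    intro a c e; rw [← e]; group
  have hgt' : g⁻¹ * t * g = t := by rw [mul_assoc, ← hgt]; group
  have hgr' : g⁻¹ * r * g = r := by rw [mul_assoc, ← hgr]; group
  rcases hcases u' hu' with rfl | rfl | rfl | rfl
  · exfalso
    rcases hcase with e | e
    · exact hb1 (by rw [hginv e]; group)
    · rw [one_mul] at e
      have h1 := hginv e
      rw [hgr'] at h1
      exact hruu (h1 ▸ hb)
  · exfalso
    rcases hcase with e | e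
    · have h1 := hginv e
      rw [hgt'] at h1
      exact hbt h1
    · have h1 := hginv e
      have h2 : g⁻¹ * (u' * r) * g = (g⁻¹ * u' * g) * (g⁻¹ * r * g) := by group
      rw [h2, hgt', hgr'] at h1
      apply hruu
      have h3 : r = u' * b := by rw [h1, ← mul_assoc, htt, one_mul]
      have h4 : u' * b ∈ uu (ws V r) s := mul_mem hS.t_mem hb
      rwa [← h3] at h4
  · rcases hcase with e | e
    · exact Or.inl e
    · exact Or.inr (Or.inr (Or.inl e))
  · rcases hcase with e | e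
    · exact Or.inr (Or.inl e)
    · exact Or.inr (Or.inr (Or.inr e))

/-- **(CTL)**, elementwise -/
theorem exists_ctl (h : Tr T V z r d t) {v : G} (hv : v ∈ ws V r)
    (hvn : v ∉ centralizer (ws V d : Set G)) : ∃ w ∈ ws V d, w ∉ centralizer (ws V r : Set G) ∧
    ∀ g ∈ centralizer ({d} : Set G), g * t = t * g →
      g * w * g⁻¹ = w ∨ g * w * g⁻¹ = t * w ∨ g * w * g⁻¹ = d * w ∨ g * w * g⁻¹ = d * (t * w) := by
  obtain ⟨s', hS', hctl⟩ := exists_side_ctl h.symm hv hvn
  set w := s' * t * s'⁻¹ with hw'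
  have hwm : w ∈ uu (ws V d) s' := hS'.four.uu_conj hS'.t_mem
  have hwW := hS'.four.uu_le hwm
  have hwt : w ≠ t := fun e => hS'.t_ne h.symm (conj_eq_iff_comm.mp e)
  refine ⟨w, hwW, ?_, ?_⟩
  · intro h3
    have h4 : v * w = w * v := mem_centralizer_iff.mp h3 v hv
    exact hwt (hS'.uniq h.symm hv hwm (conj_ne_one h.t_ne) h4)
  · intro g hg hgt
    have hdW := self_mem_ws h.odd.toGeo h.ptd
    have c1 : w * t = t * w := OddBase.ws_comm h.odd h.ptd hwW h.t_memd
    have c2 : w * d = d * w := OddBase.ws_comm h.odd h.ptd hwW hdW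
    rcases conj_cases_of_ctl h.symm hS' hwm (conj_ne_one h.t_ne) hwt hg hgt
      (hctl g hg (Or.inl (conj_eq_iff_comm.mpr hgt))) with e | e | e | e
    · exact Or.inl e
    · right; left; rw [e, c1]
    · right; right; left; rw [e, c2]
    · right; right; right
      rw [e, OddBase.ws_comm h.odd h.ptd (mul_mem hwW h.t_memd) hdW, c1]

/-! ### the configuration -/

/-- Case 1 at distance `n`, with path `p, p1, …, q` -/
structure Cfg (T V : Subgroup G) (z : G) (n : ℕ) (p p1 q t w s v s' : G) : Prop where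
  oddN : OddN T V z n
  three : 3 ≤ n
  crit : Crit V z n p q
  tr : Tr T V z p q t
  col : Col V p p1
  walk : Walk V (n - 1) p1 q
  w_mem : w ∈ uu (ws V q) s'
  w_not : w ∉ centralizer (ws V p : Set G)
  v_mem : v ∈ ws V p
  v_not : v ∉ centralizer (ws V q : Set G)
  side : Side V p w t s
  side' : Side V q v t s'
  ctl : ∀ g ∈ centralizer ({q} : Set G), (g * t * g⁻¹ = t ∨ g * t * g⁻¹ = t * q) →
    g * s' * g⁻¹ * s'⁻¹ ∈ kq V q ∨ g * s' * g⁻¹ * s' ∈ kq V q

section cfg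

variable {n : ℕ} {p p1 p2 pn q s v s' : G}

theorem exists_cfg (h : OddN T V z n) (hn : 3 ≤ n) (hc : Crit V z n p q) (h1 : p ∉ ws V q)
    (h2 : q ∉ ws V p) (hcol : Col V p p1) (hw : Walk V (n - 1) p1 q) :
    ∃ t w s v s' : G, Cfg T V z n p p1 q t w s v s' := by
  obtain ⟨t, hT⟩ := tr_of_crit h hc h1 h2
  obtain ⟨_, _, v, hv, b, hb, hvb⟩ := id hc
  have hvn : v ∉ centralizer (ws V q : Set G) := fun h3 => hvb (mem_centralizer_iff.mp h3 b hb).symm
  obtain ⟨s', hS', hctl⟩ := exists_side_ctl hT.symm hv hvn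
  set w := s' * t * s'⁻¹ with hw'
  have hwm : w ∈ uu (ws V q) s' := hS'.four.uu_conj hS'.t_mem
  have hwW := hS'.four.uu_le hwm
  have hwn : w ∉ centralizer (ws V p : Set G) := by
    intro h3
    have h4 : v * w = w * v := mem_centralizer_iff.mp h3 v hv
    have h5 := hS'.uniq hT.symm hv hwm (conj_ne_one hT.t_ne) h4
    exact hS'.t_ne hT.symm (conj_eq_iff_comm.mp h5)
  obtain ⟨s, hS⟩ := hT.exists_side hwW hwn
  exact ⟨t, w, s, v, s', h, hn, hc, hT, hcol, hw, hwm, hwn, hv, hvn, hS, hS', hctl⟩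

namespace Cfg

theorem wW (h : Cfg T V z n p p1 q t w s v s') : w ∈ ws V q := h.side'.four.uu_le h.w_mem

theorem ptp (h : Cfg T V z n p p1 q t w s v s') : Pt z p := h.crit.pt

theorem ptq (h : Cfg T V z n p p1 q t w s v s') : Pt z q := h.crit.pt' h.oddN.toGeo

theorem ptp1 (h : Cfg T V z n p p1 q t w s v s') : Pt z p1 := h.col.pt h.oddN.toGeo

theorem lt (h : Cfg T V z n p p1 q t w s v s') : n - 1 < n := Nat.sub_lt h.oddN.pos Nat.one_pos

/-- `ws V q` commutes with `ws V p1` -/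
theorem comm1 (h : Cfg T V z n p p1 q t w s v s') {a b : G} (ha : a ∈ ws V q) (hb : b ∈ ws V p1) :
    a * b = b * a :=
  (mem_centralizer_iff.mp (comm_of_walk h.oddN h.ptp1 h.lt h.walk ha) b hb).symm

/-- `s` moves `p1` -/
theorem sp1 (h : Cfg T V z n p p1 q t w s v s') : s * p1 ≠ p1 * s :=
  h.side.ne h.oddN h.ptp1 h.lt h.walk h.wW

theorem stp1 (h : Cfg T V z n p p1 q t w s v s') : s * (t * p1) = t * p1 * s :=
  h.side.comm_tp h.oddN h.tr h.ptp1 h.col.mem_ws h.lt h.walk h.wW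

/-- `w1 = s p1 s⁻¹` is collinear with `p` -/
theorem col_w1 (h : Cfg T V z n p p1 q t w s v s') : Col V p (s * p1 * s⁻¹) := by
  have h1 := h.col.conj s
  rwa [conj_eq_iff_comm.mpr (mem_centralizer_singleton_iff.mp h.side.mem)] at h1

theorem ptw1 (h : Cfg T V z n p p1 q t w s v s') : Pt z (s * p1 * s⁻¹) := h.ptp1.conj s

/-- `w` moves `w1` -/
theorem w_w1 (h : Cfg T V z n p p1 q t w s v s') : w * (s * p1 * s⁻¹) ≠ s * p1 * s⁻¹ * w := by
  intro e
  have h1 := h.side.comm_cases h.tr h.wW h.col_w1.mem_ws e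
  have hsp := h.sp1
  rcases h1 with h1 | h1
  · apply hsp
    have c1 : Commute s (s * p1 * s⁻¹) := h1
    have c2 : Commute s s := Commute.refl s
    have c3 := (c2.inv_right.mul_right c1).mul_right c2
    have e3 : s⁻¹ * (s * p1 * s⁻¹) * s = p1 := by group
    rw [e3] at c3
    exact c3.eq
  · -- `w1 = s t s⁻¹ (t p1)`
    have h2 := h.stp1
    have htt := h.tr.tt_sq
    have c1 : Commute s (t * (s * p1 * s⁻¹)) := h1
    have c2 : Commute s (t * p1) := h2
    have e1 : s * p1 * s⁻¹ = s * t * s⁻¹ * (t * p1) := by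
      have : s * (t * p1) * s⁻¹ = t * p1 := conj_eq_iff_comm.mpr h2
      calc s * p1 * s⁻¹ = s * (t * t) * p1 * s⁻¹ := by rw [htt, mul_one]
        _ = s * t * s⁻¹ * (s * (t * p1) * s⁻¹) := by group
        _ = s * t * s⁻¹ * (t * p1) := by rw [this]
    have c3 := c1.mul_right c2.inv_right
    have e2 : t * (s * p1 * s⁻¹) * (t * p1)⁻¹ = t * (s * t * s⁻¹) := by rw [e1]; group
    rw [e2] at c3
    have h3 := h.side.four.eq_one (mul_mem h.side.t_mem (h.side.four.uu_conj h.side.t_mem)) c3.eq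
    have h4 : s * t * s⁻¹ = t := by
      rw [eq_inv_of_mul_eq_one_right h3, inv_eq_self htt]
    exact h.side.t_ne h.tr (conj_eq_iff_comm.mp h4)

/-- an element commuting with `w` and `s w s⁻¹` commutes with `s` -/
theorem comm_s (h : Cfg T V z n p p1 q t w s v s') {f : G} (h1 : w * f = f * w)
    (h2 : s * w * s⁻¹ * f = f * (s * w * s⁻¹)) : s * f = f * s := by
  have c1 : Commute w f := h1
  have c2 : Commute (s * w * s⁻¹) f := h2
  have c3 := c1.mul_left c2.inv_left
  have e : w * (s * w * s⁻¹)⁻¹ = (s * s)⁻¹ := by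
    calc w * (s * w * s⁻¹)⁻¹ = (w * s * w⁻¹) * s⁻¹ := by group
      _ = (s * s)⁻¹ := by rw [h.side.inv]; group
  rw [e] at c3
  have c4 := c3.inv_left
  rw [inv_inv] at c4
  obtain ⟨k, hk⟩ := exists_sq_pow h.side.odd
  have c5 := c4.pow_left k
  rw [hk] at c5
  exact c5.eq

theorem ws_w1 (_ : Cfg T V z n p p1 q t w s v s') : ws V (s * p1 * s⁻¹) = cj s (ws V p1) :=
  (cj_ws V s p1).symm

/-- **(D)** -/
theorem mem_D_iff (h : Cfg T V z n p p1 q t w s v s') {f : G} (hf : f ∈ ws V (s * p1 * s⁻¹)) :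
    f ∈ ws V p1 ↔ w * f = f * w := by
  constructor
  · exact fun h1 => h.comm1 h.wW h1
  · intro h1
    have hf' : s⁻¹ * f * s ∈ ws V p1 := by
      rw [h.ws_w1] at hf
      exact mem_cj.mp hf
    have h2 := h.comm1 h.wW hf'
    have h3 := h.comm_s h1 (by
      calc s * w * s⁻¹ * f = s * (w * (s⁻¹ * f * s)) * s⁻¹ := by group
        _ = s * ((s⁻¹ * f * s) * w) * s⁻¹ := by rw [h2]
        _ = f * (s * w * s⁻¹) := by group)
    have h4 : s⁻¹ * f * s = f := by rw [mul_assoc, ← h3]; group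
    rwa [h4] at hf'

theorem D_comm_s (h : Cfg T V z n p p1 q t w s v s') {f : G} (hf : f ∈ ws V (s * p1 * s⁻¹))
    (hf1 : f ∈ ws V p1) : s * f = f * s := by
  have hf' : s⁻¹ * f * s ∈ ws V p1 := by
    rw [h.ws_w1] at hf
    exact mem_cj.mp hf
  have h2 := h.comm1 h.wW hf'
  exact h.comm_s (h.comm1 h.wW hf1) (by
    calc s * w * s⁻¹ * f = s * (w * (s⁻¹ * f * s)) * s⁻¹ := by group
      _ = s * ((s⁻¹ * f * s) * w) * s⁻¹ := by rw [h2]
      _ = f * (s * w * s⁻¹) := by group)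

/-- **(*)** -/
theorem not_mem_D (h : Cfg T V z n p p1 q t w s v s') (h12 : Col V p1 p2) (h2 : Walk V (n - 2) p2 q) {a : G}
    (ha : a = p1 ∨ a = p2 ∨ a = p1 * p2) (hs : s * a = a * s) : False := by
  have hn := h.three
  obtain ⟨g, hg, hp2, h'⟩ := exists_odd_col h.oddN.toOdd h12
  have hp1g : p1 ∈ cj g V := h'.z_mem
  have key : ∀ a : G, Col V p1 a → Walk V (n - 1) a q → s * a ≠ a * s := by
    intro a hca hwa hsa
    have h1 : s * p1 * s⁻¹ ∈ ws V a := by
      have h2 := h12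
      have h3 : p1 ∈ ws V a := hca.symm.mem_ws
      have h4 : s * p1 * s⁻¹ ∈ cj s (ws V a) := conj_mem_cj h3
      rw [cj_ws, conj_eq_iff_comm.mpr hsa] at h4
      exact h4
    have h5 := comm_of_walk h.oddN (hca.pt h.oddN.toGeo) h.lt hwa h.wW
    exact h.w_w1 (mem_centralizer_iff.mp h5 _ h1).symm
  have h2' : Walk V (n - 1) p2 q := h2.mono (by omega)
  rcases ha with rfl | rfl | rfl
  · exact h.sp1 hs
  · exact key _ h12 h2' hs
  · have hp11 : p1 ≠ 1 := h12.1
    have hp21 : p2 ≠ 1 := h12.2.1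
    have hne : p1 ≠ p2 := h12.2.2.1
    have hm : p1 * p2 ∈ cj g V := mul_mem hp1g hp2
    have hm1 : p1 * p2 ≠ 1 := fun e => hne (by
      rw [eq_inv_of_mul_eq_one_left e, inv_eq_self (h'.sq p2 hp2)])
    have hmp1 : p1 ≠ p1 * p2 := fun e => hp21 (mul_eq_left.mp e.symm)
    have hmp2 : p2 ≠ p1 * p2 := fun e => hp11 (mul_eq_right.mp e.symm)
    have hc1 : Col V p1 (p1 * p2) := col_cj_left.mp (col_of_mem h'.toGeo hp1g hm hp11 hm1 hmp1)
    have hc2 : Col V (p1 * p2) p2 := (col_cj_left.mp (col_of_mem h'.toGeo hp2 hm hp21 hm1 hmp2)).symm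
    refine key _ hc1 ?_ hs
    have := hc2.walk.trans h2
    have e : 1 + (n - 2) = n - 1 := by omega
    rwa [e] at this

theorem w_ne_one (h : Cfg T V z n p p1 q t w s v s') : w ≠ 1 := by
  rintro rfl
  exact h.w_not (one_mem _)

theorem w_ne_t (h : Cfg T V z n p p1 q t w s v s') : w ≠ t := by
  rintro rfl
  apply h.w_not
  exact mem_centralizer_iff.mpr fun a ha =>
    OddBase.ws_comm h.oddN.toOdd h.ptp ha h.tr.t_memr

/-- elements of `ws V w1` commute with `ws V p` -/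
theorem comm_p (h : Cfg T V z n p p1 q t w s v s') {f a : G} (hf : f ∈ ws V (s * p1 * s⁻¹))
    (ha : a ∈ ws V p) : f * a = a * f := by
  have hn := h.three
  have h1 := comm_of_walk h.oddN h.ptp (show 1 < n by omega) h.col_w1.walk hf
  exact (mem_centralizer_iff.mp h1 a ha).symm

/-- (CTL) for the elements of `ws V w1` commuting with `q` -/
theorem conj_cases (h : Cfg T V z n p p1 q t w s v s') {f : G} (hfq : f * q = q * f)
    (hft : f * t = t * f) : f * w * f⁻¹ = w ∨ f * w * f⁻¹ = w * t ∨ f * w * f⁻¹ = w * q ∨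
      f * w * f⁻¹ = w * t * q := by
  have hfc : f ∈ centralizer ({q} : Set G) := mem_centralizer_singleton_iff.mpr hfq
  exact conj_cases_of_ctl h.tr.symm h.side' h.w_mem h.w_ne_one h.w_ne_t hfc hft
    (h.ctl f hfc (Or.inl (conj_eq_iff_comm.mpr hft)))

/-- the elements of `ws V w1` and of `ws V (w w1 w⁻¹)` commute -/
theorem comm_ww (h : Cfg T V z n p p1 q t w s v s') {f g : G} (hf : f ∈ ws V (s * p1 * s⁻¹))
    (hg : g ∈ ws V (s * p1 * s⁻¹)) : f * (w * g * w⁻¹) = w * g * w⁻¹ * f := by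
  have hn := h.three
  have hwp : w * p = p * w := mem_centralizer_singleton_iff.mp (h.tr.cr h.wW)
  have h1 : Col V p (w * (s * p1 * s⁻¹) * w⁻¹) := by
    have := h.col_w1.conj w
    rwa [conj_eq_iff_comm.mpr hwp] at this
  have h2 : w * g * w⁻¹ ∈ ws V (w * (s * p1 * s⁻¹) * w⁻¹) := by
    rw [← cj_ws]; exact conj_mem_cj hg
  have h3 : Walk V 2 (s * p1 * s⁻¹) (w * (s * p1 * s⁻¹) * w⁻¹) := h.col_w1.symm.walk.trans h1.walk
  have h4 := comm_of_walk h.oddN h.ptw1 (show 2 < n by omega) h3 h2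
  exact mem_centralizer_iff.mp h4 f hf

/-- `q`, `t q` do not lie in `ws V w1 · ws V w2` if `ws V w1` moves `q` -/
theorem idx (h : Cfg T V z n p p1 q t w s v s') (hns : ∃ g ∈ ws V (s * p1 * s⁻¹), g * q ≠ q * g) {f : G}
    (hf : f ∈ ws V (s * p1 * s⁻¹)) (hfq : f * q = q * f) :
    f ∈ ws V p1 ∨ f * (s * p1 * s⁻¹) ∈ ws V p1 := by
  obtain ⟨g, hg, hgq⟩ := hns
  set w1 := s * p1 * s⁻¹ with hw1
  have hw1W : w1 ∈ ws V w1 := self_mem_ws h.oddN.toGeo h.ptw1
  have hft := h.comm_p hf h.tr.t_memr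
  have hgt := h.comm_p hg h.tr.t_memr
  have htt := h.tr.tt_sq
  have hqW := self_mem_ws h.oddN.toGeo h.ptq
  have hww := OddBase.ws_sq h.oddN.toOdd h.ptq h.wW
  have hff := OddBase.ws_sq h.oddN.toOdd h.ptw1 hf
  -- `c = w⁻¹ (f w f⁻¹)` commutes with `g`
  have hc : g * (f * w * f⁻¹ * w⁻¹) = f * w * f⁻¹ * w⁻¹ * g := by
    have h1 : g * f = f * g := OddBase.ws_comm h.oddN.toOdd h.ptw1 hg hf
    have h2 := h.comm_ww hg (inv_mem hf)
    have e : f * w * f⁻¹ * w⁻¹ = f * (w * f⁻¹ * w⁻¹) := by group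
    rw [e]
    have c1 : Commute g f := h1
    have c2 : Commute g (w * f⁻¹ * w⁻¹) := h2
    exact (c1.mul_right c2).eq
  have hwt : w * t = t * w := OddBase.ws_comm h.oddN.toOdd h.ptq h.wW h.tr.t_memd
  have hwq : w * q = q * w := OddBase.ws_comm h.oddN.toOdd h.ptq h.wW hqW
  have htq : t * q = q * t := OddBase.ws_comm h.oddN.toOdd h.ptq h.tr.t_memd hqW
  rcases h.conj_cases hfq hft with e | e | e | e
  · left
    exact (h.mem_D_iff hf).mpr (conj_eq_iff_comm.mp e).symm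
  · right
    refine (h.mem_D_iff (mul_mem hf hw1W)).mpr ?_
    -- `w1 w w1⁻¹ = w t`
    have h1 : w * w1 * w⁻¹ = w1 * t := h.tr.conj_eq h.wW h.col_w1.mem_ws h.w_w1
    have hw1t : w1 * t = t * w1 := h.comm_p hw1W h.tr.t_memr
    have h2 : w1 * w * w1⁻¹ = w * t := by
      have e1 : w * w1 = w1 * t * w := mul_inv_eq_iff_eq_mul.mp h1
      calc w1 * w * w1⁻¹ = w1 * t * (t * w) * w1⁻¹ := by
            rw [← mul_assoc (w1 * t) t w, mul_assoc w1 t t, htt, mul_one]
        _ = (w1 * t) * (w * t) * w1⁻¹ := by rw [hwt]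
        _ = (w1 * t * w) * t * w1⁻¹ := by group
        _ = w * (w1 * t) * w1⁻¹ := by rw [← e1]; group
        _ = w * t := by rw [hw1t]; group
    have h3 : f * w1 * w * (f * w1)⁻¹ = w := by
      calc f * w1 * w * (f * w1)⁻¹ = f * (w1 * w * w1⁻¹) * f⁻¹ := by group
        _ = (f * w * f⁻¹) * (f * t * f⁻¹) := by rw [h2]; group
        _ = w * t * t := by rw [e, conj_eq_iff_comm.mpr hft]
        _ = w := by rw [mul_assoc, htt, mul_one]
    exact (conj_eq_iff_comm.mp h3).symm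
  · exfalso
    apply hgq
    have e1 : f * w * f⁻¹ * w⁻¹ = q := by rw [e, hwq]; group
    rwa [e1] at hc
  · exfalso
    apply hgq
    have e1 : f * w * f⁻¹ * w⁻¹ = t * q := by
      rw [e, mul_assoc w t q]
      have c1 : Commute w (t * q) := (show Commute w t from hwt).mul_right hwq
      rw [c1.eq]; group
    rw [e1] at hc
    have c1 : Commute g (t * q) := hc
    have c2 : Commute g t := hgt
    have c3 := c2.inv_right.mul_right c1
    rw [inv_mul_cancel_left] at c3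
    exact c3.eq

theorem w1_not_mem (h : Cfg T V z n p p1 q t w s v s') : s * p1 * s⁻¹ ∉ ws V p1 := fun h1 =>
  h.w_w1 (h.comm1 h.wW h1)

/-- `p2^s` moves `q` -/
theorem sp2_move (h : Cfg T V z n p p1 q t w s v s') (hns : ∃ g ∈ ws V (s * p1 * s⁻¹), g * q ≠ q * g)
    (h12 : Col V p1 p2) (h2 : Walk V (n - 2) p2 q) : s * p2 * s⁻¹ * q ≠ q * (s * p2 * s⁻¹) := by
  intro e
  have hm : s * p2 * s⁻¹ ∈ ws V (s * p1 * s⁻¹) := by
    rw [← cj_ws]; exact conj_mem_cj h12.mem_ws
  have hm1 : s * p1 * s⁻¹ ∈ ws V (s * p1 * s⁻¹) := self_mem_ws h.oddN.toGeo h.ptw1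
  rcases h.idx hns hm e with h1 | h1
  · have h3 := h.D_comm_s hm h1
    refine h.not_mem_D h12 h2 (Or.inr (Or.inl rfl)) ?_
    have h4 : s⁻¹ * (s * p2 * s⁻¹) * s = s * p2 * s⁻¹ := by rw [mul_assoc, ← h3]; group
    have h5 : p2 = s * p2 * s⁻¹ := by rw [← h4]; group
    exact conj_eq_iff_comm.mp h5.symm
  · have h3 := h.D_comm_s (mul_mem hm hm1) h1
    refine h.not_mem_D h12 h2 (Or.inr (Or.inr rfl)) ?_
    have hpp : p1 * p2 = p2 * p1 := OddBase.ws_comm h.oddN.toOdd h.ptp1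
      (self_mem_ws h.oddN.toGeo h.ptp1) h12.mem_ws
    have e0 : s * p2 * s⁻¹ * (s * p1 * s⁻¹) = s * (p2 * p1) * s⁻¹ := by group
    rw [e0] at h3
    have h4 : s⁻¹ * (s * (p2 * p1) * s⁻¹) * s = s * (p2 * p1) * s⁻¹ := by rw [mul_assoc, ← h3]; group
    have h5 : p2 * p1 = s * (p2 * p1) * s⁻¹ := by rw [← h4]; group
    rw [hpp]
    exact conj_eq_iff_comm.mp h5.symm

/-- `ws V q` commutes with `ws V pn` -/
theorem comm_pn (h : Cfg T V z n p p1 q t w s v s') (hqn : Col V pn q) {a b : G} (ha : a ∈ ws V q)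
    (hb : b ∈ ws V pn) : a * b = b * a := by
  have hn := h.three
  have h1 := comm_of_walk h.oddN (hqn.pt_left h.oddN.toGeo) (show 1 < n by omega) hqn.walk ha
  exact (mem_centralizer_iff.mp h1 b hb).symm

theorem next_crit (h : Cfg T V z n p p1 q t w s v s') (hns : ∃ g ∈ ws V (s * p1 * s⁻¹), g * q ≠ q * g)
    (hqn : Col V pn q) (hpn : Walk V (n - 1) p pn) : Crit V z n (s * p1 * s⁻¹) pn := by
  obtain ⟨g, hg, hgq⟩ := hns
  have hn := h.three
  refine ⟨h.ptw1, ?_, g, hg, q, hqn.mem_ws, hgq⟩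
  have := h.col_w1.symm.walk.trans hpn
  have e : 1 + (n - 1) = n := by omega
  rwa [e] at this

theorem next_not_mem (h : Cfg T V z n p p1 q t w s v s') (hqn : Col V pn q) :
    s * p1 * s⁻¹ ∉ ws V pn := fun h1 => h.w_w1 (h.comm_pn hqn h.wW h1)

theorem next_not_mem' (h : Cfg T V z n p p1 q t w s v s') (hqn : Col V pn q) :
    pn ∉ ws V (s * p1 * s⁻¹) := by
  intro h1
  have hn := h.three
  have hpt := hqn.pt_left h.oddN.toGeo
  have h2 := h.comm_pn hqn h.wW (self_mem_ws h.oddN.toGeo hpt)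
  have h3 := h.D_comm_s h1 ((h.mem_D_iff h1).mpr h2)
  exact h.side.ne h.oddN hpt (show 1 < n by omega) hqn.walk h.wW h3

/-- the centre `u` of the next pair is centralized by `s` -/
theorem next_u (h : Cfg T V z n p p1 q t w s v s') (hqn : Col V pn q) {u : G}
    (hu : Tr T V z (s * p1 * s⁻¹) pn u) : u ∈ ws V p1 ∧ s * u = u * s := by
  have h1 := h.comm_pn hqn h.wW hu.t_memd
  have h2 := (h.mem_D_iff hu.t_memr).mpr h1
  exact ⟨h2, h.D_comm_s hu.t_memr h2⟩

end Cfg

end cfg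

end Cfsg.Agent.MinSimple.OddCase
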