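import Cfsg.Agent.MinSimple.OddCaseOne
import Cfsg.Agent.MinSimple.OddCase

/-!
# (E1)(b), `n ≥ 3`: Case 1 is impossible if there is no non-sliding configuration (`OddCase.Cfg`)
-/

set_option autoImplicit false

namespace Cfsg.Agent.MinSimple.OddSlide

open Subgroup Cfsg Cfsg.Agent.ZN Cfsg.Agent.MinSimple.Geo Cfsg.Agent.MinSimple.BTwoA
  Cfsg.Agent.MinSimple.OddLine Cfsg.Agent.MinSimple.OddBase Cfsg.Agent.MinSimple.OddPair

universe u

variable {G : Type u} [Group G] [Finite G] {T V : Subgroup G} {z : G} {m : ℕ}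

/-- **one step of the sliding** from a configuration `Cfg` with the non-sliding hypothesis -/
theorem exists_step_of_cfg {x y p t w s v s' : G} (h2 : 2 ≤ m)
    (hC : OddCase.Cfg T V z (m + 1) x p y t w s v s')
    (hmv : ∃ a ∈ ws V (s * p * s⁻¹), a * y ≠ y * a) :
    ∃ y' q t s w u, Step T V z m x y p y' q t s w u := by
  have h := hC.oddN
  have hc := hC.crit
  have hT := hC.tr
  have hxp := hC.col
  have hpy : Walk V m p y := hC.walk
  have hw := hC.wW
  have hwn := hC.w_not
  have hS := hC.side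
  obtain ⟨k, rfl⟩ : ∃ k, m = k + 1 := ⟨m - 1, by omega⟩
  obtain ⟨y', hpy', hy'⟩ := id hpy
  have hy'y : Col V y' y := by
    rcases hy' with e | e
    · exfalso
      rw [e] at hpy'
      have h1 := hxp.walk.trans hpy'
      exact hc.not_walk h (m := 1 + k) (by omega) h1
    · exact e
  have hP : Pre T V z (k + 1) x y p y' t s w := ⟨h, h2, hc, hxp, hpy', hy'y, hT, hw, hwn, hS⟩
  have hsp : Pre.Sp y t w := by
    intro g hg hgt
    have hgy : g * y = y * g := mem_centralizer_singleton_iff.mp hg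
    have hyw : y * w = w * y := OddBase.ws_comm h.toOdd hT.ptd (self_mem_ws h.toGeo hT.ptd) hw
    have hyt : y * t = t * y := OddBase.ws_comm h.toOdd hT.ptd (self_mem_ws h.toGeo hT.ptd) hT.t_memd
    rcases hC.conj_cases hgy hgt with e | e | e | e
    · exact Or.inl e
    · exact Or.inr (Or.inr (Or.inl e))
    · exact Or.inr (Or.inl (by rw [e, hyw]))
    · right; right; right
      rw [e, mul_assoc w t y, ← hyt, ← mul_assoc w y t, ← hyw, mul_assoc]
  have hc' := hP.crit' hmv
  obtain ⟨u, hu⟩ := tr_of_crit h hc' hP.q_not_mem hP.y'_not_mem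
  have hwu : w * u = u * w := hP.comm_y' hw hu.t_memd
  refine ⟨y', s * p * s⁻¹, t, s, w, u, ?_⟩
  exact
    { odd := h, two := h2, crit := hc, xp := hxp, py' := hpy', y'y := hy'y, tr := hT, w_mem := hw,
      w_not := hwn, side := hS, q_eq := rfl, xq := hP.xq, wq := hP.wq,
      D_comm := fun d hd => hP.D_comm hd
      crit' := hc', tr' := hu, mv := hmv
      u_D := by
        refine ⟨?_, hu.t_memr⟩
        have h1 : u * y = y * u :=
          (hP.comm_y' (self_mem_ws h.toGeo hT.ptd) hu.t_memd).symm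
        rcases hP.idx hsp hmv hu.t_memr h1 with e | e
        · exact e
        · exfalso
          apply hP.wq
          have c1 : Commute w (u * (s * p * s⁻¹)) := hP.comm_p hw e
          have c2 : Commute w u := hwu
          have c3 := c2.inv_right.mul_right c1
          rw [inv_mul_cancel_left] at c3
          exact c3.eq
      idx := fun a ha hay => hP.idx hsp hmv ha hay
      star := fun r hr hry => hP.star hsp hmv hr hry
      sep := fun g hg c hc2 hgc hcc hgt h3 h4 h5 h6 hgq =>
        sep h.toOdd hT hw hS hxp.mem_ws hP.sp rfl hg hc2 hgc hcc hgt h3 h4 h5 h6 hgq }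

/-- **Case 1** from the impossibility of non-sliding for `Cfg` -/
theorem false_of_cfg {n : ℕ} (h : OddN T V z n) (h3 : 3 ≤ n)
    (hNS : ∀ p p1 q t w s v s' : G, OddCase.Cfg T V z n p p1 q t w s v s' →
      ∃ a ∈ ws V (s * p1 * s⁻¹), a * q ≠ q * a) {x y : G}
    (hc : Crit V z n x y) (hxy : x ∉ ws V y) (hyx : y ∉ ws V x) : False := by
  obtain ⟨m, rfl⟩ : ∃ m, n = m + 1 := ⟨n - 1, by omega⟩
  have h2 : 2 ≤ m := by omega
  refine OddSlideEnd.false_of_case1 (fun x y p hc h1 h3' h4 h5 => ?_) h hc hxy hyx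
  obtain ⟨t, w, s, v, s', hC⟩ := OddCase.exists_cfg h h3 hc h1 h3' h4 h5
  exact exists_step_of_cfg h2 hC (hNS _ _ _ _ _ _ _ _ hC)

end Cfsg.Agent.MinSimple.OddSlide
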