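import Cfsg.Agent.MinSimple.OddPair

/-!
# (E1)(b), `n ≥ 3`, Case 1: one step of the sliding

`x`, `y` is a critical pair of Case 1 (`x ∉ ws V y`, `y ∉ ws V x`), `n = m + 1`, `p` the neighbour of `x` on a path
to `y`, `y'` the neighbour of `y` on it, `w ∈ ws V y`, `s` of odd order inverted by `w` (`OddPair.Side`),
`q = s p s⁻¹`.
-/

set_option autoImplicit false
set_option linter.unusedSectionVars false

namespace Cfsg.Agent.MinSimple.OddSlide

open Subgroup Cfsg Cfsg.Agent.ZN Cfsg.Agent.MinSimple.Geo Cfsg.Agent.MinSimple.BTwoA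
  Cfsg.Agent.MinSimple.OddLine Cfsg.Agent.MinSimple.OddBase Cfsg.Agent.MinSimple.OddPair

universe u

variable {G : Type u} [Group G] [Finite G]

/-- non-sliding is impossible -/
def NS (T V : Subgroup G) (z : G) (m : ℕ) : Prop :=
  ∀ x y p t w s : G, Crit V z (m + 1) x y → x ∉ ws V y → y ∉ ws V x → Col V x p → Walk V m p y →
    Tr T V z x y t → w ∈ ws V y → w ∉ centralizer (ws V x : Set G) → Side V x w t s →
    ∃ a ∈ ws V (s * p * s⁻¹), a * y ≠ y * a

/-- one step of the sliding -/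
structure Step (T V : Subgroup G) (z : G) (m : ℕ) (x y p y' q t s w u : G) : Prop where
  odd : OddN T V z (m + 1)
  two : 2 ≤ m
  crit : Crit V z (m + 1) x y
  xp : Col V x p
  py' : Walk V (m - 1) p y'
  y'y : Col V y' y
  tr : Tr T V z x y t
  w_mem : w ∈ ws V y
  w_not : w ∉ centralizer (ws V x : Set G)
  side : Side V x w t s
  q_eq : q = s * p * s⁻¹
  xq : Col V x q
  wq : w * q ≠ q * w
  D_comm : ∀ d ∈ ws V p ⊓ ws V q, s * d = d * s
  crit' : Crit V z (m + 1) q y'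
  tr' : Tr T V z q y' u
  mv : ∃ a ∈ ws V q, a * y ≠ y * a
  u_D : u ∈ ws V p ⊓ ws V q
  /-- `C_{V_q}(y) = ⟨q⟩ (V_p ∩ V_q)` -/
  idx : ∀ a ∈ ws V q, a * y = y * a → a ∈ ws V p ∨ a * q ∈ ws V p
  /-- `V_{y'}` moves `s r s⁻¹` for the next point `r` of the path -/
  star : ∀ r, Col V p r → Walk V (m - 1) r y → ∃ a ∈ ws V y', a * (s * r * s⁻¹) ≠ (s * r * s⁻¹) * a
  /-- transvections with centre `c ≠ t` which fix `t` and `q` fix `p` -/
  sep : ∀ g ∈ centralizer ({x} : Set G), ∀ c ∈ ws V x,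
    (∀ a ∈ ws V x, g * a * g⁻¹ = a ∨ g * a * g⁻¹ = c * a) → g * c = c * g → g * t = t * g →
    c ≠ 1 → c ≠ x → c ≠ t → c ≠ x * t → g * q = q * g → g * p = p * g

end Cfsg.Agent.MinSimple.OddSlide
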