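import Cfsg.Agent.MinSimple.OddTwoRep
import Cfsg.Agent.MinSimple.OddSlideDefs

/-!
# (E1)(b), Case 1: the end of the argument

Two slides `Step` in a row give a contradiction (helper292's `(R)`).
-/

set_option autoImplicit false
set_option linter.unusedSectionVars false

namespace Cfsg.Agent.MinSimple.OddSlideEnd

open Subgroup Cfsg Cfsg.Agent.ZN Cfsg.Agent.MinSimple.Geo Cfsg.Agent.MinSimple.BTwoA
  Cfsg.Agent.MinSimple.OddLine Cfsg.Agent.MinSimple.OddBase Cfsg.Agent.MinSimple.OddTwoWeight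
  Cfsg.Agent.MinSimple.OddTwoStar Cfsg.Agent.MinSimple.OddPair Cfsg.Agent.MinSimple.OddSlide
  Cfsg.Agent.MinSimple.OddRep Cfsg.Agent.MinSimple.OddTwoDefs Cfsg.Agent.MinSimple.OddTwoMod
  Cfsg.Agent.MinSimple.OddTwoRep Cfsg.Agent.MinSimple.SecRep

universe u

variable {G : Type u} [Group G] [Finite G] {T V : Subgroup G} {z : G} {m : ℕ}

section tv

variable {M X : Type u} [AddCommGroup M] [Group X] [DistribMulAction X M] {x : G}

/-- elements of `C(x)` which act on `ws V x` with centre `c` -/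
theorem tv_mk (h : Odd T V z) (hx : Pt z x) (R : Rep V x M X) {g c b : G}
    (hg : g ∈ centralizer ({x} : Set G)) (hc : c ∈ ws V x)
    (hact : ∀ a ∈ ws V x, g * a = a * g ∨ g * a * g⁻¹ = a * c) (hgc : g * c = c * g)
    (hc1 : c ≠ 1) (hcx : c ≠ x) (hb : b ∈ ws V x) (hgb : g * b ≠ b * g) :
    Tv (act M X (R.rho g)) (ve R c) := by
  refine ⟨fun v => ?_, ?_, ve R b, ?_⟩
  · obtain ⟨a, ha, rfl⟩ := ve_surj R v
    rw [act_ve R hg ha]
    rcases hact a ha with e | e
    · left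
      rw [conj_eq_iff_comm.mpr e]
    · right
      rw [e, ve_mul R ha hc]
  · rw [act_ve R hg hc, conj_eq_iff_comm.mpr hgc]
  · rw [act_ve R hg hb, (hact b hb).resolve_left hgb, ve_mul R hb hc]
    intro e
    have e1 : ve R c = 1 := mul_eq_left.mp e
    have e2 : R.pi c = 0 := Multiplicative.ofAdd.injective e1
    rcases (Rep.pi_eq_zero' h hx R hc).mp e2 with e3 | e3
    · exact hc1 e3
    · exact hcx e3

end tv

/-- **(R)** -/
theorem false_of_steps {p1 yN p2 yn p0 t1 s1 w1 u1 y' pm t s w u : G}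
    (S1 : Step T V z m p1 yN p2 yn p0 t1 s1 w1 u1) (S2 : Step T V z m p0 yn p1 y' pm t s w u) : False := by
  have h := S1.odd
  have hm := S1.two
  have ho : Odd T V z := h.toOdd
  have hx : Pt z p1 := S1.crit.pt
  have hy' : Pt z y' := S2.crit'.pt' h.toGeo
  -- `s` commutes with `u`, `p0`
  have hsu : s * u = u * s := S2.D_comm u S2.u_D
  have hs0 : s * p0 = p0 * s := mem_centralizer_singleton_iff.mp S2.side.mem
  have hu1 : u ∈ ws V p1 := S2.u_D.1
  have huy : u ∈ ws V y' := S2.tr'.t_memd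
  have hune : u ≠ 1 := S2.tr'.t_ne
  have hux : u ≠ p1 := by
    intro e
    rw [e] at hsu
    have e1 : pm = p1 := by rw [S2.q_eq]; exact conj_eq_iff_comm.mpr hsu
    apply S2.wq
    rw [e1]
    have hw : Walk V m p1 yn := by
      have := S1.xp.walk.trans S1.py'
      rwa [Nat.add_comm, Nat.sub_add_cancel (by omega)] at this
    exact (h.lt p1 yn m (Nat.lt_succ_self m) hx hw p1 (self_mem_ws h.toGeo hx) w S2.w_mem).symm
  have ht1 : t1 ∈ ws V p1 := S1.tr.t_memr
  have ht1x : t1 ≠ p1 := fun e => S1.tr.rd (e ▸ S1.tr.t_memd)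
  have hp0 : p0 ∈ ws V p1 := S1.xq.mem_ws
  have hp2 : p2 ∈ ws V p1 := S1.xp.mem_ws
  have hw1 : w1 ∈ centralizer ({p1} : Set G) := S1.tr.cr S1.w_mem
  -- the element `a` of `V_r`
  obtain ⟨a', ha', hne'⟩ := S2.star p2 S1.xp S1.py'
  set a := s⁻¹ * a' * s with ha
  have ha'e : a' = s * a * s⁻¹ := by rw [ha]; group
  have hpm : pm = s * p1 * s⁻¹ := S2.q_eq
  have ha'pm : a' * pm = pm * a' := mem_centralizer_singleton_iff.mp (S2.tr'.cr ha')
  have conj_comm : ∀ b : G, a' * (s * b * s⁻¹) = (s * b * s⁻¹) * a' ↔ a * b = b * a := by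
    intro b
    rw [ha'e]
    constructor
    · intro e
      calc a * b = s⁻¹ * (s * a * s⁻¹ * (s * b * s⁻¹)) * s := by group
        _ = s⁻¹ * (s * b * s⁻¹ * (s * a * s⁻¹)) * s := by rw [e]
        _ = b * a := by group
    · intro e
      calc s * a * s⁻¹ * (s * b * s⁻¹) = s * (a * b) * s⁻¹ := by group
        _ = s * (b * a) * s⁻¹ := by rw [e]
        _ = s * b * s⁻¹ * (s * a * s⁻¹) := by group
  have haC : a ∈ centralizer ({p1} : Set G) := by
    rw [mem_centralizer_singleton_iff]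
    rw [hpm] at ha'pm
    exact (conj_comm p1).mp ha'pm
  have ha2 : a * p2 ≠ p2 * a := fun e => hne' ((conj_comm p2).mpr e)
  have hsu' : s * u * s⁻¹ = u := conj_eq_iff_comm.mpr hsu
  have hau : a * u = u * a := by
    rw [← conj_comm, hsu']
    exact S2.tr'.comm_t ha'
  have ha0 : a * p0 = p0 * a := by
    rw [← conj_comm, conj_eq_iff_comm.mpr hs0]
    have hw : Walk V m p0 y' := by
      have := S2.xp.walk.trans S2.py'
      rwa [Nat.add_comm, Nat.sub_add_cancel (by omega)] at this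
    have hp0' : Pt z p0 := S2.crit.pt
    exact (h.lt p0 y' m (Nat.lt_succ_self m) hp0' hw p0 (self_mem_ws h.toGeo hp0') a' ha').symm
  have hact : ∀ b ∈ ws V p1, a * b = b * a ∨ a * b * a⁻¹ = b * u := by
    intro b hb
    have hb' : s * b * s⁻¹ ∈ ws V pm := by rw [hpm, ← cj_ws]; exact conj_mem_cj hb
    rcases S2.tr'.conj_cases ha' hb' with e | e
    · left; exact (conj_comm b).mp e
    · right
      calc a * b * a⁻¹ = s⁻¹ * (a' * (s * b * s⁻¹) * a'⁻¹) * s := by rw [ha'e]; group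
        _ = s⁻¹ * (s * b * s⁻¹ * (s * u * s⁻¹)) * s := by rw [e, hsu']
        _ = b * u := by group
  -- the module at `p1`
  obtain ⟨M, X, _, _, _, ⟨R⟩⟩ := exists_rep ho hx
  obtain ⟨P, hP⟩ := exists_ctl_rep ho hx R
  have T1 : Tv (act M X (R.rho w1)) (ve R t1) :=
    tv_mk ho hx R hw1 ht1 (fun b hb => S1.tr.conj_cases S1.w_mem hb) (S1.tr.comm_t S1.w_mem) S1.tr.t_ne
      ht1x hp0 S1.wq
  have T2 : Tv (act M X (R.rho a)) (ve R u) :=
    tv_mk ho hx R haC hu1 hact hau hune hux hp2 ha2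
  -- `w1` fixes `u`
  have hw1u : w1 * u = u * w1 := by
    have hw : Walk V 2 y' yN := by
      have := S2.y'y.walk.trans S1.y'y.walk
      exact this
    exact (h.lt y' yN 2 (by omega) hy' hw u huy w1 S1.w_mem).symm
  have hfix : act M X (R.rho a) (ve R t1) = ve R t1 := by
    by_contra hne
    have h1 := hP.sym ⟨_, rfl⟩ ⟨_, rfl⟩ T2 T1 hne
    apply h1
    rw [act_ve R hw1 hu1, conj_eq_iff_comm.mpr hw1u]
  have hat : a * t1 = t1 * a := by
    rcases hact t1 ht1 with e | e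
    · exact e
    · exfalso
      rw [act_ve R haC ht1, e, ve_mul R ht1 hu1] at hfix
      have e1 : ve R u = 1 := mul_eq_left.mp hfix
      have e2 : R.pi u = 0 := Multiplicative.ofAdd.injective e1
      rcases (Rep.pi_eq_zero' ho hx R hu1).mp e2 with e3 | e3
      · exact hune e3
      · exact hux e3
  by_cases hc : u = t1 ∨ u = p1 * t1
  · have e1 : ve R u = ve R t1 := (ve_eq ho hx R hu1 ht1).mpr hc
    rw [e1] at T2
    have h1 := hP.unique ⟨_, rfl⟩ ⟨_, rfl⟩ T2 T1
    have h2 : act M X (R.rho w1) (ve R p0) = ve R p0 := by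
      rw [h1, act_ve R haC hp0, conj_eq_iff_comm.mpr ha0]
    rw [act_ve R hw1 hp0, S1.tr.conj_eq S1.w_mem hp0 S1.wq, ve_mul R hp0 ht1] at h2
    exact tv_ne T1 (mul_eq_left.mp h2)
  · push Not at hc
    exact ha2 (S1.sep a haC u hu1 (fun b hb => by
      rcases hact b hb with e | e
      · left; exact conj_eq_iff_comm.mpr e
      · right; rw [e, ws_comm ho hx hb hu1]) hau hat hune hux hc.1 hc.2 ha0)

/-- **Case 1 is impossible**, given the existence of slides -/
theorem false_of_case1 (hstep : ∀ x y p : G, Crit V z (m + 1) x y → x ∉ ws V y → y ∉ ws V x → Col V x p →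
      Walk V m p y → ∃ y' q t s w u : G, Step T V z m x y p y' q t s w u)
    (h : OddN T V z (m + 1)) {x y : G} (hc : Crit V z (m + 1) x y) (h1 : x ∉ ws V y) (h2 : y ∉ ws V x) :
    False := by
  obtain ⟨p, hp, hpy⟩ := hc.head h
  obtain ⟨y', q, t, s, w, u, S1⟩ := hstep x y p hc h1 h2 hp hpy
  have hm := S1.two
  have hw : Walk V m x y' := by
    have := S1.xp.walk.trans S1.py'
    rwa [Nat.add_comm, Nat.sub_add_cancel (by omega)] at this
  obtain ⟨y'', q', t', s', w', u', S2⟩ := hstep q y' x S1.crit' S1.tr'.rd S1.tr'.dr S1.xq.symm hw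
  exact false_of_steps S1 S2

end Cfsg.Agent.MinSimple.OddSlideEnd
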