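import Cfsg.Agent.MinSimple.OddSlide
import Cfsg.Agent.MinSimple.OddSlideEnd

/-!
# (E1)(b), `n ≥ 3`: Case 1 is impossible if there is no non-sliding
-/

set_option autoImplicit false

namespace Cfsg.Agent.MinSimple.OddSlide

open Subgroup Cfsg Cfsg.Agent.ZN Cfsg.Agent.MinSimple.Geo Cfsg.Agent.MinSimple.BTwoA
  Cfsg.Agent.MinSimple.OddLine Cfsg.Agent.MinSimple.OddBase

universe u

variable {G : Type u} [Group G] [Finite G] {T V : Subgroup G} {z : G} {m : ℕ}

/-- **Case 1** -/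
theorem false_of_ns (h : OddN T V z (m + 1)) (h2 : 2 ≤ m) (hNS : NS T V z m) {x y : G}
    (hc : Crit V z (m + 1) x y) (hxy : x ∉ ws V y) (hyx : y ∉ ws V x) : False :=
  OddSlideEnd.false_of_case1 (fun _ _ _ hc h1 h3 h4 h5 => exists_step h h2 hNS hc h1 h3 h4 h5) h hc hxy hyx

end Cfsg.Agent.MinSimple.OddSlide
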