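import Mathlib
import Cfsg.Agent.MinSimple.OddK
import Cfsg.Agent.MinSimple.OddRankTwo

/-!
# (D1) in the form used by `OddRankTwo`
-/

set_option autoImplicit false
set_option linter.unusedSectionVars false

namespace Cfsg.Agent.MinSimple.OddKPlug

open Subgroup Cfsg Cfsg.Agent.ZN Cfsg.Agent.MinSimple.Geo Cfsg.Agent.MinSimple.BTwoA
  Cfsg.Agent.MinSimple.OddLine Cfsg.Agent.MinSimple.OddBase Cfsg.Agent.MinSimple.SecRep
  Cfsg.Agent.MinSimple.OddRep Cfsg.Agent.MinSimple.OddOne Cfsg.Agent.MinSimple.OddRTMod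

universe u

/-- An involution acting on a group of order four: all commutators lie in `{0, n₀}`. -/
theorem exists_common {M : Type u} [AddCommGroup M] (N : AddSubgroup M)
    (hN : Nat.card N = 4) (f : M →+ M) (hf : ∀ m, f (f m) = 0) (hfN : ∀ m ∈ N, f m ∈ N) :
    ∃ n₀ : M, ∀ m ∈ N, f m = 0 ∨ f m = n₀ := by
  have hfin : Finite N := Nat.finite_of_card_ne_zero (by rw [hN]; norm_num)
  let φ : N →+ N := (f.comp N.subtype).codRestrict N (fun m => hfN m m.2)
  have hφ : ∀ m : N, ((φ m : N) : M) = f m := fun m => rfl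
  have h1 : φ.range ≤ φ.ker := by
    rintro _ ⟨m, rfl⟩
    rw [AddMonoidHom.mem_ker]
    apply Subtype.ext
    rw [hφ, hφ, hf]; rfl
  have h2 := AddSubgroup.card_mul_index φ.ker
  rw [AddSubgroup.index_ker, hN] at h2
  have h3 : Nat.card φ.range ≤ Nat.card φ.ker := AddSubgroup.card_le_of_le h1
  have h4 : Nat.card φ.range ≤ 2 := by
    by_contra hcon
    push Not at hcon
    have := Nat.mul_le_mul (le_trans hcon h3) hcon
    omega
  by_cases hex : ∃ m₀ ∈ N, f m₀ ≠ 0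
  · obtain ⟨m₀, hm₀, hne⟩ := hex
    refine ⟨f m₀, fun m hm => ?_⟩
    by_contra hcon
    push Not at hcon
    obtain ⟨h5, h6⟩ := hcon
    have hinj : Function.Injective (fun i : Fin 3 => (if i = 0 then (0 : φ.range) else
        if i = 1 then ⟨φ ⟨m₀, hm₀⟩, ⟨_, rfl⟩⟩ else ⟨φ ⟨m, hm⟩, ⟨_, rfl⟩⟩)) := by
      have e01 : (0 : φ.range) ≠ ⟨φ ⟨m₀, hm₀⟩, ⟨_, rfl⟩⟩ := fun e => hne
        (congrArg (fun t : φ.range => ((t : N) : M)) e).symm
      have e02 : (0 : φ.range) ≠ ⟨φ ⟨m, hm⟩, ⟨_, rfl⟩⟩ := fun e => h5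
        (congrArg (fun t : φ.range => ((t : N) : M)) e).symm
      have e12 : (⟨φ ⟨m₀, hm₀⟩, ⟨_, rfl⟩⟩ : φ.range) ≠ ⟨φ ⟨m, hm⟩, ⟨_, rfl⟩⟩ := fun e => h6
        (congrArg (fun t : φ.range => ((t : N) : M)) e).symm
      intro i j hij
      fin_cases i <;> fin_cases j <;> simp_all
    have := Nat.card_le_card_of_injective _ hinj
    rw [Nat.card_eq_fintype_card (α := Fin 3), Fintype.card_fin] at this
    omega
  · push Not at hex
    exact ⟨0, fun m hm => Or.inl (hex m hm)⟩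

variable {G : Type u} [Group G] [Finite G] {T V : Subgroup G} {z x : G} {M X : Type u} [AddCommGroup M] [Group X]
  [DistribMulAction X M]

/-- **(D1)** for `OddRankTwo` -/
theorem pi_mem_cm (h : Odd T V z) (R : Rep V x M X) {y b : G} {g : X} (hc : Col V x y)
    (hb : b ∈ ws V y) (hg3 : g ^ 3 = 1) (hg1 : g ≠ 1) (hinv : R.rho b * g * R.rho b = g⁻¹)
    (hcard : Nat.card (cm M g) = 4) : R.pi y ∈ cm M g := by
  have hx := hc.pt_left h.toGeo
  have hbc := ws_le_cent h hc hb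
  have hbb : R.rho b * R.rho b = 1 := by
    rw [← R.rho_mul b hbc b hbc, OddBase.ws_sq h (hc.pt h.toGeo) hb, R.rho_one]
  have hbi : (R.rho b)⁻¹ = R.rho b := inv_eq_of_mul_eq_one_left hbb
  have hinv' : R.rho b * g * (R.rho b)⁻¹ = g⁻¹ := by rw [hbi, hinv]
  have two := OddRep.Rep.two h hx R
  have ho : Odd (orderOf g) := by
    have h1 : orderOf g = 3 := orderOf_eq_prime hg3 hg1
    rw [h1]; decide
  have hff : ∀ m : M, opr M (R.rho b) (opr M (R.rho b) m) = 0 := by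
    intro m
    rw [opr_apply, opr_apply, smul_add, ← mul_smul, hbb, one_smul]
    linear_combination (norm := abel) two (R.rho b • m) + two m
  obtain ⟨n₀, hn₀⟩ := exists_common (cm M g) hcard (opr M (R.rho b)) hff (by
    intro m hm
    rw [opr_apply]
    exact add_mem (smul_mem_cm_of_inv hinv' hm) hm)
  obtain ⟨m, hm⟩ := OddK.pi_mem_of_inverts h hc R hb ho hg1 hinv' ⟨n₀, fun m => hn₀ _ ⟨m, rfl⟩⟩
  exact ⟨m, hm.symm⟩

theorem hD (h : Odd T V z) (R : Rep V x M X) :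
    ∀ y b g, Col V x y → b ∈ ws V y → b ∉ kq V x → g ∈ pCore 3 X → g ^ 3 = 1 → g ≠ 1 →
      R.rho b * g * R.rho b = g⁻¹ → Nat.card (cm M g) = 4 → R.pi y ∈ cm M g :=
  fun _ _ _ hc hb _ _ hg3 hg1 hinv hcard => pi_mem_cm h R hc hb hg3 hg1 hinv hcard

end Cfsg.Agent.MinSimple.OddKPlug
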