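import Mathlib
import Cfsg.Agent.MinSimple.OddKHalf
import Cfsg.Agent.MinSimple.LemmaH

/-!
# Elementary abelian 2-groups and inverted elements of odd order

`X` acts on `M`, `2 M = 0`; `blk M y = [M, y] = {y • m + m}`.
* `exists_inv`: an elementary abelian 2-subgroup `E` of `X`, `1 ≠ a ∈ E`: some `y ≠ 1` of prime order in
  the odd order normal subgroup `F` is inverted by `a` and centralised or inverted by every `e ∈ E`;
* `exists_move`: `a` acts nontrivially on `[M, y]`;
* `smul_mem_blk_of`: `E` normalises `[M, y]`;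
* `exists_add`: if `E` centralises `[M, a]`, `m ∈ [M, y]` and `e ∈ E` then `e • m + m ∈ [[M, y], a]`.
-/

set_option autoImplicit false

namespace Cfsg.Agent.MinSimple.OddMod

open Subgroup Cfsg.Agent.MinSimple.OddKMod Cfsg.Agent.MinSimple.OddKHalf

variable {X M : Type*} [Group X] [AddCommGroup M] [DistribMulAction X M]

theorem exists_move (h2 : ∀ m : M, m + m = 0) (faithful : ∀ g : X, (∀ m : M, g • m = m) → g = 1)
    {a y : X} {k : ℕ} (hk : y ^ (2 * k + 1) = 1) (hay : a * y * a⁻¹ = y⁻¹) (hy : y ≠ 1) :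
    ∃ m ∈ Bad.blk M y, a • m ≠ m := by
  by_contra hcon
  push Not at hcon
  apply hy
  -- `y² ` is trivial on `blk M y`
  have h3 : ∀ m ∈ Bad.blk M y, y • y • m = m := by
    intro m hm
    have hym : y • m ∈ Bad.blk M y := Bad.smul_mem_blk rfl hm
    have e1 := hcon _ hym
    have e2 : a • y • m = y⁻¹ • a • m := by
      rw [← mul_smul, ← mul_smul, ← hay]; congr 1; group
    rw [e2, hcon m hm] at e1
    rw [← e1, smul_inv_smul]
  have h4 : ∀ m ∈ Bad.blk M y, y • m = m := by
    intro m hm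
    have h5 : ∀ j : ℕ, y ^ (2 * j) • m = m := by
      intro j
      induction j with
      | zero => rw [mul_zero, pow_zero, one_smul]
      | succ j ih =>
        rw [show 2 * (j + 1) = 2 * j + 2 by ring, pow_add, mul_smul, pow_two, mul_smul, h3 m hm, ih]
    have h6 : y ^ (2 * k + 1) • m = m := by rw [hk, one_smul]
    rw [pow_succ', mul_smul, h5] at h6
    exact h6
  refine faithful y fun m => ?_
  have h7 : y • m + m = 0 := eq_zero_of_fix h2 hk ⟨m, rfl⟩ (h4 _ ⟨m, rfl⟩)
  have h8 : -m = m := neg_eq_of_add_eq_zero_left (h2 m)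
  exact (eq_neg_of_add_eq_zero_left h7).trans h8

theorem smul_mem_blk_of {e y : X} (he : e * y * e⁻¹ = y ∨ e * y * e⁻¹ = y⁻¹) {m : M}
    (hm : m ∈ Bad.blk M y) : e • m ∈ Bad.blk M y := by
  rcases he with he | he
  · refine Bad.smul_mem_blk ?_ hm
    calc e * y = e * y * e⁻¹ * e := by group
      _ = y * e := by rw [he]
  · exact blk_smul_inv he hm

/-- If `e` centralises `[m, a]` and commutes with `a`, then `[m, e]` is in `[[M, y], a]`. -/
theorem exists_add (h2 : ∀ m : M, m + m = 0) {a e y : X} {k : ℕ} (hk : y ^ (2 * k + 1) = 1)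
    (hay : a * y * a⁻¹ = y⁻¹) (hae : a * e = e * a)
    (hey : e * y * e⁻¹ = y ∨ e * y * e⁻¹ = y⁻¹) {m : M} (hm : m ∈ Bad.blk M y)
    (hfix : e • (a • m + m) = a • m + m) :
    ∃ m' ∈ Bad.blk M y, m' + a • m' = e • m + m := by
  have hv : a • (e • m + m) = e • m + m := by
    have h3 : e • a • m = a • m + m + e • m := by
      rw [smul_add] at hfix
      rw [← hfix, add_assoc, h2, add_zero]
    rw [smul_add, ← mul_smul, hae, mul_smul, h3]
    linear_combination (norm := abel) h2 (a • m)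
  obtain ⟨w, hw, h1, -⟩ := exists_half h2 hk hay hv (blk_add (smul_mem_blk_of hey hm) hm)
  exact ⟨w, hw, h1⟩

theorem exists_inv [Finite X] {E F : Subgroup X} (hF : F.Normal) (hodd : Odd (Nat.card F))
    (hcent : centralizer (F : Set X) ≤ F) (hE : ∀ a ∈ E, ∀ b ∈ E, a * b = b * a)
    (hE2 : ∀ a ∈ E, a * a = 1) {a : X} (ha : a ∈ E) (ha1 : a ≠ 1) :
    ∃ y ∈ F, y ≠ 1 ∧ (orderOf y).Prime ∧ (∃ k : ℕ, y ^ (2 * k + 1) = 1) ∧ a * y * a⁻¹ = y⁻¹ ∧
      ∀ e ∈ E, e * y * e⁻¹ = y ∨ e * y * e⁻¹ = y⁻¹ := by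
  have haF : a ∉ centralizer (F : Set X) := by
    intro h
    apply ha1
    refine LemmaH.eq_one_of_eq_inv hodd (hcent h) ?_
    exact (inv_eq_of_mul_eq_one_left (hE2 a ha)).symm
  obtain ⟨A₁, hA₁, -, -, -, hcase, y, hy, hyp, hyA, hay⟩ := LemmaH.exists_inverted (A := E) (F := F)
    (by rw [normalizer_eq_top]; exact le_top) hE (fun a ha => by rw [pow_two]; exact hE2 a ha) hodd ha haF
  have hy1 : y ≠ 1 := by
    rintro rfl
    rw [orderOf_one] at hyp
    exact Nat.not_prime_one hyp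
  have hyodd : Odd (orderOf y) := by
    have : orderOf y ∣ Nat.card F := by
      have := orderOf_dvd_natCard (⟨y, hy⟩ : F)
      rwa [Subgroup.orderOf_mk] at this
    exact hodd.of_dvd_nat this
  refine ⟨y, hy, hy1, hyp, exists_pow_eq hyodd, hay, fun e he => ?_⟩
  rcases hcase e he with h | h
  · left
    rw [hyA e h]; group
  · right
    have h1 := hyA _ h
    have h3 : e * (a * y * a⁻¹) * e⁻¹ = y := by
      calc e * (a * y * a⁻¹) * e⁻¹ = (e * a * y) * (e * a)⁻¹ := by group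
        _ = y := by rw [h1]; group
    rw [hay] at h3
    calc e * y * e⁻¹ = (e * y⁻¹ * e⁻¹)⁻¹ := by group
      _ = y⁻¹ := by rw [h3]

end Cfsg.Agent.MinSimple.OddMod
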