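import Mathlib
import Cfsg.Agent.MinSimple.OddK
import Cfsg.Agent.MinSimple.OddY
import Cfsg.Agent.MinSimple.OddMod

/-!
# (E1)(b), `n ≥ 3`, in the frame where `C(z)` is a maximal 2-local subgroup

`OddM T V z n`: `OddN T V z n`, `3 ≤ n`, and `N(R) ≤ C(z)` for every 2-subgroup `R ≠ 1` normalised by
`C(z)`.

* `tt_comm`, `tt_sq`: `tt V j r` is elementary abelian if `2 j < n`;
* `OddM.normalizer_tt_le`: `N(tt V j r) ≤ C(r)` for `j < n`;
* `Crit.ws_le_kq` (**Theorem M**): if `(x, y)` is critical and `x ∈ ws V y` then `ws V y ≤ kq V x`.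
-/

set_option autoImplicit false
set_option linter.unusedSectionVars false

namespace Cfsg.Agent.MinSimple.OddMax

open Subgroup Cfsg Cfsg.Agent.ZN Cfsg.Agent.MinSimple.Geo Cfsg.Agent.MinSimple.BTwoA
  Cfsg.Agent.MinSimple.OddLine Cfsg.Agent.MinSimple.OddBase Cfsg.Agent.MinSimple.SecRep
  Cfsg.Agent.MinSimple.OddRep Cfsg.Agent.MinSimple.OddKMod
open Cfsg.Agent.ZN.Block (conj_mem_of_normalizer conj_mem_of_normalizer' le_normalizer_of_forall
  mem_normalizer_of)

universe u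

variable {G : Type u} [Group G]

/-- the frame for `n ≥ 3` -/
structure OddM (T V : Subgroup G) (z : G) (n : ℕ) : Prop extends OddN T V z n where
  three : 3 ≤ n
  max : ∀ R : Subgroup G, IsPGroup 2 R → R ≠ ⊥ →
    centralizer ({z} : Set G) ≤ normalizer (R : Set G) →
      normalizer (R : Set G) ≤ centralizer ({z} : Set G)

variable {T V : Subgroup G} {z x y w : G} {n : ℕ}

theorem OddM.max' (h : OddM T V z n) (hx : Pt z x) {R : Subgroup G} (hR : IsPGroup 2 R)
    (hR1 : R ≠ ⊥) (hC : centralizer ({x} : Set G) ≤ normalizer (R : Set G)) :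
    normalizer (R : Set G) ≤ centralizer ({x} : Set G) := by
  obtain ⟨g, rfl⟩ := hx
  have h1 : IsPGroup 2 (cj g⁻¹ R) := hR.map _
  have h2 : cj g⁻¹ R ≠ ⊥ := fun e => hR1 (by
    have := congrArg (cj g) e
    rw [cj_cj_inv] at this
    rw [this]; exact Subgroup.map_bot _)
  have h3 : centralizer ({z} : Set G) ≤ normalizer ((cj g⁻¹ R : Subgroup G) : Set G) := by
    have := cj_mono (g := g⁻¹) hC
    rw [cj_centralizer_singleton, cj_normalizer] at this
    have e : g⁻¹ * (g * z * g⁻¹) * g⁻¹⁻¹ = z := by group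
    rwa [e] at this
  have h4 := cj_mono (g := g) (h.max _ h1 h2 h3)
  rwa [cj_normalizer, cj_cj_inv, cj_centralizer_singleton] at h4

variable [Finite G]

/-- `tt V j r` is abelian if `2 j < n` -/
theorem tt_comm (h : OddN T V z n) {j : ℕ} (hj : 2 * j < n) {r : G} (hr : Pt z r) {a b : G}
    (ha : a ∈ tt V j r) (hb : b ∈ tt V j r) : a * b = b * a := by
  have h1 : tt V j r ≤ centralizer ((tt V j r : Subgroup G) : Set G) := by
    refine tt_le fun w hw => ?_
    rw [Subgroup.le_centralizer_iff]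
    refine tt_le fun v hv => ?_
    intro b hb
    refine mem_centralizer_iff.mpr fun a ha => ?_
    have h2 : Walk V (j + j) w v := hw.symm.trans hv
    exact h.lt w v (j + j) (by omega) (Walk.pt h.toGeo hr hw) h2 a ha b hb
  exact (mem_centralizer_iff.mp (h1 hb)) a ha

theorem tt_sq (h : OddN T V z n) {j : ℕ} (hj : 2 * j < n) {r : G} (hr : Pt z r) {a : G}
    (ha : a ∈ tt V j r) : a * a = 1 := by
  let A : Subgroup G :=
    { carrier := {w | w ∈ tt V j r ∧ w * w = 1}
      mul_mem' := by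
        rintro a b ⟨ha, ha1⟩ ⟨hb, hb1⟩
        refine ⟨mul_mem ha hb, ?_⟩
        calc a * b * (a * b) = a * (b * a) * b := by group
          _ = (a * a) * (b * b) := by rw [tt_comm h hj hr hb ha]; group
          _ = 1 := by rw [ha1, hb1, one_mul]
      one_mem' := ⟨one_mem _, one_mul 1⟩
      inv_mem' := by
        rintro a ⟨ha, ha1⟩
        refine ⟨inv_mem ha, ?_⟩
        have : a⁻¹ * a⁻¹ = (a * a)⁻¹ := by group
        rw [this, ha1, inv_one] }
  have h1 : tt V j r ≤ A := tt_le fun w hw => fun b hb =>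
    ⟨ws_le_tt hw hb, OddBase.ws_sq h.toOdd (Walk.pt h.toGeo hr hw) hb⟩
  exact (h1 ha).2

theorem tt_ne_bot (h : Geo T V z) {j : ℕ} {r : G} (hr : Pt z r) : tt V j r ≠ ⊥ := fun e => by
  have h1 : r ∈ tt V j r := ws_le_tt (Walk.refl V j r) (self_mem_ws h hr)
  rw [e, mem_bot] at h1
  exact hr.ne_one h h1

theorem OddM.normalizer_tt_le (h : OddM T V z n) {j : ℕ} (hj : j < n) {r : G} (hr : Pt z r) :
    normalizer ((tt V j r : Subgroup G) : Set G) ≤ centralizer ({r} : Set G) :=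
  h.max' hr (tt_isPGroup h.toOddN hj hr) (tt_ne_bot h.toGeo hr) (centralizer_le_normalizer_tt j r)

/-- elements commuting with all neighbours of `y` centralise `ws V y` -/
theorem mem_ws_of_forall (h : Odd T V z) (hy : Pt z y) {K : Subgroup G}
    (hK : ∀ w, Col V y w → w ∈ K) : ws V y ≤ K := by
  refine ws_le fun L hL t ht => ?_
  obtain ⟨w, hw⟩ := OddSmall.exists_col h hy
  have hyK : y ∈ K := by
    have h1 := mul_mem (hK _ (OddSmall.col_mul h hw)) (inv_mem (hK _ hw))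
    have e : y * w * w⁻¹ = y := by group
    rwa [e] at h1
  by_cases ht1 : t = 1
  · rw [ht1]; exact one_mem _
  by_cases hty : t = y
  · rw [hty]; exact hyK
  · exact hK t ⟨hy.ne_one h.toGeo, ht1, fun e => hty e.symm, L, hL, ht⟩

/-- **Theorem M**. -/
theorem ws_le_kq (h : OddM T V z n) (hc : Crit V z n x y) (hxy : x ∈ ws V y) :
    ws V y ≤ kq V x := by
  have hx := hc.pt
  have hy := hc.pt' h.toGeo
  refine mem_ws_of_forall h.toOdd hy fun w hw => ?_
  by_contra hwk
  have hwy : w ∈ ws V y := hw.mem_ws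
  have hwp : Pt z w := hw.pt h.toGeo
  have hn := h.three
  set U := tt V 1 w with hU
  -- `U` centralises `ws V y`
  have hUy : ∀ u ∈ U, ∀ b ∈ ws V y, b * u = u * b := by
    have h1 : U ≤ centralizer ((ws V y : Subgroup G) : Set G) := by
      refine tt_le fun v hv => fun u hu => mem_centralizer_iff.mpr fun b hb => ?_
      have h2 : Walk V (1 + 1) y v := hw.walk.trans hv
      exact h.lt y v (1 + 1) (by omega) hy h2 b hb u hu
    exact fun u hu b hb => mem_centralizer_iff.mp (h1 hu) b hb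
  have hUx : U ≤ centralizer ({x} : Set G) := fun u hu => by
    rw [mem_centralizer_singleton_iff]
    exact (hUy u hu x hxy).symm
  have hyU : ws V y ≤ U := ws_le_tt hw.symm.walk
  have hwU : w ∈ U := hyU hwy
  have hUab : ∀ a ∈ U, ∀ b ∈ U, a * b = b * a := fun a ha b hb =>
    tt_comm h.toOddN (by omega) hwp ha hb
  have hUsq : ∀ a ∈ U, a * a = 1 := fun a ha => tt_sq h.toOddN (by omega) hwp ha
  obtain ⟨M, X, _, _, _, ⟨R⟩⟩ := exists_rep h.toOdd hx
  have hfin : Finite X := R.finite_right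
  have h2 := OddRep.Rep.two h.toOdd hx R
  have hmem : ∀ {g : X}, g ∈ R.img U ↔ ∃ u ∈ U, R.rho u = g := R.mem_img hUx
  have hEc : ∀ a ∈ R.img U, ∀ b ∈ R.img U, a * b = b * a := by
    intro a' ha' b' hb'
    obtain ⟨a, ha, rfl⟩ := hmem.mp ha'
    obtain ⟨b, hb, rfl⟩ := hmem.mp hb'
    rw [← R.rho_mul a (hUx ha) b (hUx hb), hUab a ha b hb, R.rho_mul b (hUx hb) a (hUx ha)]
  have hE2 : ∀ a ∈ R.img U, a * a = 1 := by
    intro a' ha'
    obtain ⟨a, ha, rfl⟩ := hmem.mp ha'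
    rw [← R.rho_mul a (hUx ha) a (hUx ha), hUsq a ha, R.rho_one]
  have hwC : w ∈ centralizer ({x} : Set G) := hUx hwU
  have ha1 : R.rho w ≠ 1 := fun e => hwk ((OddRep.Rep.rho_eq_one R hwC).mp e)
  have hf2 : Fact (Nat.Prime 2) := ⟨Nat.prime_two⟩
  have hsol : Group.IsSolvable X := OddRep.Rep.isSolvable h.toOdd hx R
  obtain ⟨g, hgF, hg1, -, ⟨k, hk⟩, hag, hEg⟩ := OddMod.exists_inv (E := R.img U) (F := fittingSubgroup X)
    Lib.Cores.fittingSubgroup_normal
    (OddK.odd_card_fitting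
      (OddRep.Rep.o2_eq_bot h.toOdd hx R (Lib.Cores.pCore_normal 2) (Lib.Cores.pCore_isPGroup 2)))
    Cfsg.Agent.S0044.result hEc hE2 (hmem.mpr ⟨w, hwU, rfl⟩) ha1
  obtain ⟨m, hm, ham⟩ := OddMod.exists_move h2 R.faithful hk hag hg1
  obtain ⟨v, hv, rfl⟩ := R.pi_surj m
  have hvi : v⁻¹ = v := OddBase.ws_inv h.toOdd hx hv
  have hwi : w⁻¹ = w := OddBase.ws_inv h.toOdd hy hwy
  have hvy : ws V x ≤ normalizer ((ws V y : Subgroup G) : Set G) :=
    (hc.symm h.toOdd).ws_le_normalizer h.toOddN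
  -- `π` of a commutator
  have hpi : ∀ c ∈ centralizer ({x} : Set G), ∀ v ∈ ws V x,
      R.pi (c * v * c⁻¹ * v⁻¹) = R.rho c • R.pi v + R.pi v := by
    intro c hc v hv
    rw [R.pi_mul _ (R.conj_mem hc hv) _ (inv_mem hv), R.pi_inv hv, OddRep.Rep.neg_eq h.toOdd hx R,
      R.smul_pi c hc v hv]
  have key : ∀ u ∈ U, u * v * u⁻¹ * v⁻¹ ∈ ws V y := by
    intro u hu
    have huC := hUx hu
    have hfix : R.rho u • (R.rho w • R.pi v + R.pi v) = R.rho w • R.pi v + R.pi v := by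
      rw [← hpi w hwC v hv]
      have h3 : w * v * w⁻¹ * v⁻¹ ∈ ws V y := by
        have h4 := conj_mem_of_normalizer hvy hv (inv_mem hwy)
        have e : w * v * w⁻¹ * v⁻¹ = w * (v * w⁻¹ * v⁻¹) := by group
        rw [e]; exact mul_mem hwy h4
      rw [R.smul_pi u huC _ (mul_mem (R.conj_mem hwC hv) (inv_mem hv))]
      congr 1
      rw [← hUy u hu _ h3]; group
    obtain ⟨m', -, hm'⟩ := OddMod.exists_add h2 hk hag (hEc _ (hmem.mpr ⟨w, hwU, rfl⟩) _ (hmem.mpr ⟨u, hu, rfl⟩))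
      (hEg _ (hmem.mpr ⟨u, hu, rfl⟩)) hm hfix
    obtain ⟨v', hv', rfl⟩ := R.pi_surj m'
    have h3 : w * v' * w⁻¹ * v'⁻¹ ∈ ws V y := by
      have h4 := conj_mem_of_normalizer hvy hv' (inv_mem hwy)
      have e : w * v' * w⁻¹ * v'⁻¹ = w * (v' * w⁻¹ * v'⁻¹) := by group
      rw [e]; exact mul_mem hwy h4
    have h5 : R.pi (u * v * u⁻¹ * v⁻¹) = R.pi (w * v' * w⁻¹ * v'⁻¹) := by
      rw [hpi u huC v hv, hpi w hwC v' hv', ← hm', add_comm]
    rcases (OddRep.Rep.pi_eq_pi h.toOdd hx R (mul_mem (R.conj_mem huC hv) (inv_mem hv))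
      (mul_mem (R.conj_mem hwC hv') (inv_mem hv'))).mp h5 with e | e
    · rw [e]; exact h3
    · rw [e]; exact mul_mem hxy h3
  have hvn : v ∈ normalizer ((U : Subgroup G) : Set G) := by
    refine mem_normalizer_of (fun u hu => ?_) (fun u hu => ?_)
    · have h3 := inv_mem (hyU (key u hu))
      have e : v * u * v⁻¹ = (u * v * u⁻¹ * v⁻¹)⁻¹ * u := by group
      rw [e]; exact mul_mem h3 hu
    · rw [hvi]
      have h3 := inv_mem (hyU (key u hu))
      have e : v * u * v = (u * v * u⁻¹ * v⁻¹)⁻¹ * u := by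
        have : v * u * v = v * u * v⁻¹ := by rw [hvi]
        rw [this]; group
      rw [e]; exact mul_mem h3 hu
  have hvw : v ∈ centralizer ({w} : Set G) := h.normalizer_tt_le (by omega) hwp hvn
  apply ham
  rw [R.smul_pi w hwC v hv]
  congr 1
  rw [← mem_centralizer_singleton_iff.mp hvw]; group

end Cfsg.Agent.MinSimple.OddMax
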