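import Mathlib
import Cfsg.Agent.MinSimple.OddOneZero
import Cfsg.Agent.MinSimple.OddMp

/-!
# (E1)(b), `n ≥ 3`: everything is Case 1, with `OddMp.Max2`

`le_kq` (Theorem M, helper208) and `exists_case_one` (helper629) with the weaker hypothesis `Max2 V z` (which follows
from `Mp z M`, `OddMp.max2`).
-/

set_option autoImplicit false
set_option linter.unusedSectionVars false

namespace Cfsg.Agent.MinSimple.OddMaxTwo

open Subgroup Cfsg Cfsg.Agent.ZN Cfsg.Agent.MinSimple.Geo Cfsg.Agent.MinSimple.BTwoA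
  Cfsg.Agent.MinSimple.OddLine Cfsg.Agent.MinSimple.OddBase Cfsg.Agent.MinSimple.SecRep
  Cfsg.Agent.MinSimple.OddRep Cfsg.Agent.MinSimple.OddThreeMod
open Cfsg.Agent.MinSimple.OddThreeM hiding le_kq
open Cfsg.Agent.MinSimple.OddOneZero (exists_b norm_of_map_le comm_of_mem_kq)
open Cfsg.Agent.MinSimple.OddMp (Mp Max2)
open Cfsg.Agent.ZN.Block (conj_mem_of_normalizer conj_mem_of_normalizer' le_normalizer_of_forall
  mem_normalizer_of)

universe u

variable {G : Type u} [Group G] [Finite G] {T V : Subgroup G} {z : G} {n : ℕ}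

/-- **Theorem M** -/
theorem le_kq (h : OddN T V z n) (hn : 3 ≤ n) (hmax : Max2 V z) {p q : G} (hc : Crit V z n p q)
    (hpq : p ∈ ws V q) : ws V q ≤ kq V p := by
  by_contra hcon
  have hp : Pt z p := hc.pt
  have hq : Pt z q := hc.pt' h.toGeo
  obtain ⟨w, hqw, hwK⟩ := exists_col_notMem h.toOdd hq hcon
  have hw : Pt z w := hqw.pt h.toGeo
  set A := tt V 1 w with hA
  have hqA : ws V q ≤ A := ws_le_tt hqw.symm.walk
  have hAq : A ≤ centralizer (ws V q : Set G) := tt_le_centralizer h (i := 1) (by omega) hq hqw.walk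
  have hAp : A ≤ centralizer ({p} : Set G) := hAq.trans (centralizer_le (by
    rintro _ rfl; exact hpq))
  have hAsq : ∀ a ∈ A, a * a = 1 := fun a ha => tt_sq h (by omega) hw ha
  have hwA : w ∈ A := hqA hqw.mem_ws
  obtain ⟨M, X, _, _, _, ⟨R⟩⟩ := exists_rep h.toOdd hp
  have : Finite M := R.finite_left
  have two := Rep.two h.toOdd hp R
  obtain ⟨η, hηo, hη1, hinv, hall⟩ := exists_weight_rep h.toOdd hp R hAp hAsq hwA hwK
  -- the elements over `[M, η]` normalize `A`
  have hqp : ws V q ≤ centralizer ({p} : Set G) := hc.ws_le_centralizer h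
  have hpq' : ws V p ≤ normalizer ((ws V q : Subgroup G) : Set G) := (hc.symm h.toOdd).ws_le_normalizer h
  have hfix : ∀ d ∈ rg M η, R.rho w • d = d := by
    intro d hd
    obtain ⟨v, hv, rfl⟩ := R.pi_surj d
    have hvi : v⁻¹ = v := ws_inv h.toOdd hp hv
    have hconj : ∀ u ∈ A, v * u * v⁻¹ ∈ A := by
      intro u hu
      have huv : u * v * u⁻¹ ∈ ws V p := R.conj_mem (hAp hu) hv
      -- `v + u v` is centralized by `w`
      have hωfix : R.rho w • (R.pi v + R.rho u • R.pi v) = R.pi v + R.rho u • R.pi v := by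
        -- `v + w v` is centralized by `u`
        have hwv : w * v * w⁻¹ ∈ ws V p := R.conj_mem (hAp hwA) hv
        have h1 : v * (w * v * w⁻¹) ∈ ws V q := by
          have h2 : v * w * v⁻¹ ∈ ws V q := conj_mem_of_normalizer hpq' hv hqw.mem_ws
          have e : v * (w * v * w⁻¹) = v * w * v⁻¹ * w⁻¹ := by rw [hvi]; group
          rw [e]; exact mul_mem h2 (inv_mem hqw.mem_ws)
        have h2 : u * (v * (w * v * w⁻¹)) * u⁻¹ = v * (w * v * w⁻¹) := by
          rw [← mem_centralizer_iff.mp (hAq hu) _ h1, mul_inv_cancel_right]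
        have h3 : R.rho u • (R.pi v + R.rho w • R.pi v) = R.pi v + R.rho w • R.pi v := by
          rw [R.smul_pi w (hAp hwA) v hv, ← R.pi_mul v hv _ hwv, R.smul_pi u (hAp hu) _ (mul_mem hv hwv), h2]
        have h4 : R.rho u • R.rho w • R.pi v = R.rho w • R.rho u • R.pi v := by
          rw [← mul_smul, ← mul_smul, ← R.rho_mul u (hAp hu) w (hAp hwA), ← R.rho_mul w (hAp hwA) u (hAp hu),
            tt_comm h (by omega) hw hu hwA]
        rw [smul_add, h4] at h3
        rw [smul_add]
        calc R.rho w • R.pi v + R.rho w • R.rho u • R.pi v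
            = (R.rho u • R.pi v + R.rho w • R.rho u • R.pi v) + (R.rho w • R.pi v + R.rho u • R.pi v) := by
              rw [show R.rho u • R.pi v + R.rho w • R.rho u • R.pi v + (R.rho w • R.pi v + R.rho u • R.pi v) =
                R.rho w • R.pi v + R.rho w • R.rho u • R.pi v + (R.rho u • R.pi v + R.rho u • R.pi v) by abel,
                two, add_zero]
          _ = R.pi v + R.rho u • R.pi v := by
              rw [h3]
              rw [show R.pi v + R.rho w • R.pi v + (R.rho w • R.pi v + R.rho u • R.pi v) =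
                R.pi v + R.rho u • R.pi v + (R.rho w • R.pi v + R.rho w • R.pi v) by abel, two, add_zero]
      have hmem : R.pi v + R.rho u • R.pi v ∈ rg M η :=
        add_mem hd (smul_mem_rg two (hall u hu) hd)
      obtain ⟨m, -, hm⟩ := exists_add_smul two hηo hinv hmem hωfix
      obtain ⟨v', hv', rfl⟩ := R.pi_surj m
      have hwv' : w * v' * w⁻¹ ∈ ws V p := R.conj_mem (hAp hwA) hv'
      rw [R.smul_pi u (hAp hu) v hv, ← R.pi_mul v hv _ huv, R.smul_pi w (hAp hwA) v' hv',
        ← R.pi_mul v' hv' _ hwv', Rep.pi_eq_pi h.toOdd hp R (mul_mem hv huv) (mul_mem hv' hwv')] at hm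
      have h1 : v' * (w * v' * w⁻¹) ∈ ws V q := by
        have h2 : v' * w * v'⁻¹ ∈ ws V q := conj_mem_of_normalizer hpq' hv' hqw.mem_ws
        have e : v' * (w * v' * w⁻¹) = v' * w * v'⁻¹ * w⁻¹ := by rw [ws_inv h.toOdd hp hv']; group
        rw [e]; exact mul_mem h2 (inv_mem hqw.mem_ws)
      have h2 : v * (u * v * u⁻¹) ∈ A := by
        apply hqA
        rcases hm with e | e
        · rw [e]; exact h1
        · rw [e]; exact mul_mem hpq h1
      have e : v * u * v⁻¹ = v * (u * v * u⁻¹) * u := by rw [hvi]; group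
      rw [e]; exact mul_mem h2 hu
    have hvN : v ∈ normalizer (A : Set G) := by
      rw [mem_normalizer_iff]
      intro u
      refine ⟨hconj u, fun hu => ?_⟩
      have h1 := hconj _ hu
      have hvv : v * v = 1 := ws_sq h.toOdd hp hv
      have e : v * (v * u * v⁻¹) * v⁻¹ = (v * v) * u * (v * v)⁻¹ := by group
      rw [e, hvv] at h1
      simpa using h1
    have hAne : A ≠ ⊥ := by
      intro e
      rw [e, mem_bot] at hwA
      exact OddBase.Pt.ne_one h.toGeo hw hwA
    have hvq : v ∈ centralizer ({q} : Set G) := (hc.symm h.toOdd).ws_le_centralizer h hv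
    have h1 := hmax w q v A hw hqw.symm (tt_isPGroup h (by omega) hw) hAne
      (centralizer_le_normalizer_tt 1 w) hvN hvq
    rw [R.smul_pi w (hAp hwA) v hv, ← mem_centralizer_singleton_iff.mp h1, mul_inv_cancel_right]
  exact hη1 (R.faithful η (fixed_of_inv two hηo hinv hfix))

/-- **Everything is Case 1.** -/
theorem exists_case_one (h : OddN T V z n) (hn : 3 ≤ n) (hmax : Max2 V z) :
    ∃ x y, Crit V z n x y ∧ x ∉ ws V y ∧ y ∉ ws V x := by
  by_contra hcon
  push Not at hcon
  obtain ⟨p, q, hc, hpq⟩ : ∃ p q, Crit V z n p q ∧ p ∈ ws V q := by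
    obtain ⟨x, y, hx⟩ := h.crit
    have hx : Crit V z n x y := hx
    by_cases hxy : x ∈ ws V y
    · exact ⟨x, y, hx, hxy⟩
    · exact ⟨y, x, hx.symm h.toOdd, hcon x y hx hxy⟩
  have hp : Pt z p := hc.pt
  have hq : Pt z q := hc.pt' h.toGeo
  have hpp := OddBase.Pt.sq h.toGeo hp
  have hp1 := OddBase.Pt.ne_one h.toGeo hp
  have hpq' : p ≠ q := fun e => hc.not_walk h (m := 0) (by omega) e
  have hM := le_kq h hn hmax hc hpq
  -- `w`
  obtain ⟨w, hpw, hwC⟩ := exists_col_notMem h.toOdd hp (K := centralizer (ws V q : Set G)) (by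
    intro hle
    obtain ⟨-, -, a, ha, b, hb, hab⟩ := hc
    exact hab (mem_centralizer_iff.mp (hle ha) b hb).symm)
  have hw : Pt z w := hpw.pt h.toGeo
  have hwp : w ∈ ws V p := hpw.mem_ws
  obtain ⟨a, ha, haw⟩ : ∃ a ∈ ws V q, a * w ≠ w * a := by
    by_contra hcon'
    push Not at hcon'
    exact hwC (mem_centralizer_iff.mpr hcon')
  -- elements of `ws V q` move `w` at most to `p * w`
  have hmove : ∀ b ∈ ws V q, b * w ≠ w * b → b * w * b⁻¹ = p * w := by
    intro b hb hbw
    rcases (mem_zpowers_iff_of_mul_self hpp).mp ((hM hb).2.1 w hwp) with e | e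
    · exfalso; apply hbw
      calc b * w = (b * w * b⁻¹ * w⁻¹) * (w * b) := by group
        _ = w * b := by rw [e, one_mul]
    · calc b * w * b⁻¹ = (b * w * b⁻¹ * w⁻¹) * w := by group
        _ = p * w := by rw [e]
  have hqp : ∀ b ∈ ws V q, b * p * b⁻¹ = p := by
    intro b hb
    rw [mem_centralizer_singleton_iff.mp (hc.ws_le_centralizer h hb)]
    group
  have hwK : w ∉ kq V q := fun hk =>
    haw (comm_of_mem_kq h.toOdd hp hq hpq' hwp ha hk (hM ha)).symm
  -- the neighbour `r` of `q`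
  obtain ⟨r, hqr, hrp⟩ := (hc.symm h.toOdd).head h
  have hr : Pt z r := hqr.pt h.toGeo
  have hrq : r ∈ ws V q := hqr.mem_ws
  have hqr' : q ∈ ws V r := hqr.symm.mem_ws
  have har : a * r * a⁻¹ = r := by
    rw [ws_comm h.toOdd hq ha hrq]; group
  -- `ws V w` and `ws V r` commute
  have hwr : ∀ u ∈ ws V w, ∀ b ∈ ws V r, u * b = b * u := by
    by_contra hcon'
    push Not at hcon'
    obtain ⟨u, hu, b, hb, hub⟩ := hcon'
    have hn1 : n - 1 + 1 = n := by omega
    have hwalk : Walk V n w r := by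
      have h1 := (hrp.trans hpw.walk).symm
      rwa [hn1] at h1
    have hcw : Crit V z n w r := ⟨hw, hwalk, u, hu, b, hb, hub⟩
    by_cases hwr : w ∈ ws V r
    · exact haw (h.lt q r 1 (by omega) hq hqr.walk a ha w hwr)
    · have hrw : r ∈ ws V w := hcon w r hcw hwr
      have h2 : r ∈ ws V (p * w) := by
        rw [← hmove a ha haw, ← cj_ws, ← har]
        exact conj_mem_cj hrw
      have h3 : r ∈ ws V w ⊓ ws V (p * w) := ⟨hrw, h2⟩
      rw [← OddY.inf_eq_mul' h.toOdd hpw] at h3
      exact OddY.not_mem_head h (by omega) hcw hpw.symm (hrp.symm) hrw h3.1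
  -- the group `W`
  have hpwC : Col V w (p * w) := by
    have := OddSmall.col_mul h.toOdd hpw.symm
    rwa [hpw.symm.mul_comm h.toOdd] at this
  set U := tt V 1 w with hU
  have hUsq : ∀ a ∈ U, a * a = 1 := fun a ha => tt_sq h (by omega) hw ha
  set W := ws V p ⊔ (ws V w ⊔ ws V (p * w)) with hW
  have hpW : ws V p ≤ W := le_sup_left
  have hwW : ws V w ≤ W := le_sup_left.trans le_sup_right
  have hpwW : ws V (p * w) ≤ W := le_sup_right.trans le_sup_right
  have hWU : W ≤ U := sup_le (ws_le_tt hpw.symm.walk)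
    (sup_le (ws_le_tt (Walk.refl V 1 w)) (ws_le_tt hpwC.walk))
  have hWr : W ≤ centralizer (ws V r : Set G) := by
    refine sup_le ?_ (sup_le ?_ ?_)
    · exact comm_of_walk h hr (by omega : n - 1 < n) hrp
    · intro u hu
      exact mem_centralizer_iff.mpr fun b hb => (hwr u hu b hb).symm
    · intro u hu
      refine mem_centralizer_iff.mpr fun b hb => ?_
      rw [← hmove a ha haw, ← cj_ws, mem_cj] at hu
      have hb' : a⁻¹ * b * a ∈ ws V r := by
        have hb2 : b ∈ cj a (ws V r) := by rw [cj_ws, har]; exact hb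
        exact mem_cj.mp hb2
      have h1 := hwr _ hu _ hb'
      calc b * u = a * ((a⁻¹ * b * a) * (a⁻¹ * u * a)) * a⁻¹ := by group
        _ = a * ((a⁻¹ * u * a) * (a⁻¹ * b * a)) * a⁻¹ := by rw [h1]
        _ = u * b := by group
  have hWq : W ≤ centralizer ({q} : Set G) := hWr.trans (centralizer_le (by
    rintro _ rfl; exact hqr'))
  have hpmemW : p ∈ W := hpW (self_mem_ws h.toGeo hp)
  have hwmemW : w ∈ W := hpW hwp
  have hwpow : ∀ b ∈ ws V q, w * b * w⁻¹ * b⁻¹ = 1 ∨ w * b * w⁻¹ * b⁻¹ = p := by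
    intro b hb
    by_cases hbw : b * w = w * b
    · left; rw [← hbw]; group
    · right
      have h1 := hmove b hb hbw
      have hwi : w⁻¹ = w := inv_eq_of_mul_eq_one_left (OddBase.Pt.sq h.toGeo hw)
      calc w * b * w⁻¹ * b⁻¹ = w * (b * w⁻¹ * b⁻¹) := by group
        _ = w * (b * w * b⁻¹)⁻¹ := by group
        _ = p⁻¹ := by rw [h1]; group
        _ = p := inv_eq_of_mul_eq_one_left hpp
  -- `q ∈ W`
  have hqW : q ∈ W := by
    by_contra hqW
    obtain ⟨b, hb, hbw, hball⟩ := exists_b h.toOdd hq hWq (fun a ha => hUsq a (hWU ha)) hwmemW hpmemW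
      hpq hwK hwpow
    have hbW : ∀ u ∈ ws V w, b * u * b⁻¹ ∈ W := by
      intro u hu
      have h1 : b * u * b⁻¹ ∈ ws V (b * w * b⁻¹) := by rw [← cj_ws]; exact conj_mem_cj hu
      rw [hmove b hb hbw] at h1
      exact hpwW h1
    have hcw : ∀ u ∈ ws V w, u * b * u⁻¹ * b⁻¹ ∈ ws V w := by
      intro u hu
      have h1 : u * b * u⁻¹ * b⁻¹ ∈ W := by
        have e : u * b * u⁻¹ * b⁻¹ = u * (b * u⁻¹ * b⁻¹) := by group
        rw [e]; exact mul_mem (hwW hu) (hbW _ (inv_mem hu))
      rcases hball u (hwW hu) with e | e | e | e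
      · rw [e]; exact one_mem _
      · exact absurd (e ▸ h1) hqW
      · rw [e]; exact hpw.symm.mem_ws
      · exfalso
        apply hqW
        rw [e] at h1
        have h2 := mul_mem h1 (inv_mem hpmemW)
        rwa [mul_inv_cancel_right] at h2
    have hbn : b ∈ normalizer ((ws V w : Subgroup G) : Set G) := by
      refine norm_of_map_le ?_
      rintro _ ⟨u, hu, rfl⟩
      change b * u * b⁻¹ ∈ ws V w
      have e : b * u * b⁻¹ = (u * b * u⁻¹ * b⁻¹)⁻¹ * u := by group
      rw [e]; exact mul_mem (inv_mem (hcw u hu)) hu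
    have hbp : b ∈ centralizer ({p} : Set G) := hc.ws_le_centralizer h hb
    have h1 := hmax w p b (ws V w) hw hpw.symm (ws_isPGroup h.toOdd hw) (fun e => by
      have h2 := self_mem_ws h.toGeo hw
      rw [e, mem_bot] at h2
      exact OddBase.Pt.ne_one h.toGeo hw h2) (Geo.centralizer_le_normalizer_ws V w) hbn hbp
    exact hbw (mem_centralizer_singleton_iff.mp h1)
  -- the end
  have hpU := hWU hpmemW
  have hqU := hWU hqW
  have hwU := hWU hwmemW
  have hUq : U ≤ centralizer ({q} : Set G) := fun u hu => by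
    rw [mem_centralizer_singleton_iff]
    exact tt_comm h (by omega) hw hu hqU
  obtain ⟨b, hb, hbw, hball⟩ := exists_b h.toOdd hq hUq hUsq hwU hpU hpq hwK hwpow
  have hbn : b ∈ normalizer ((U : Subgroup G) : Set G) := by
    refine norm_of_map_le ?_
    rintro _ ⟨u, hu, rfl⟩
    change b * u * b⁻¹ ∈ U
    have e : b * u * b⁻¹ = (u * b * u⁻¹ * b⁻¹)⁻¹ * u := by group
    rw [e]
    refine mul_mem (inv_mem ?_) hu
    rcases hball u hu with e | e | e | e
    · rw [e]; exact one_mem _
    · rw [e]; exact hqU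
    · rw [e]; exact hpU
    · rw [e]; exact mul_mem hqU hpU
  have hbp : b ∈ centralizer ({p} : Set G) := hc.ws_le_centralizer h hb
  have h1 := hmax w p b U hw hpw.symm (tt_isPGroup h (by omega) hw) (fun e => by
      rw [e, mem_bot] at hwU
      exact OddBase.Pt.ne_one h.toGeo hw hwU) (centralizer_le_normalizer_tt 1 w) hbn hbp
  exact hbw (mem_centralizer_singleton_iff.mp h1)

theorem exists_case_one_of_mp (h : OddN T V z n) (hn : 3 ≤ n) {M : Subgroup G} (hM : Mp z M) :
    ∃ x y, Crit V z n x y ∧ x ∉ ws V y ∧ y ∉ ws V x :=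
  exists_case_one h hn (OddMp.max2 h.toOdd hM)

end Cfsg.Agent.MinSimple.OddMaxTwo
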