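import Cfsg.Agent.MinSimple.OddThreeM

/-!
# (E1)(b), `n ≥ 4`: critical pairs without memberships slide

* `exists_dich`: `(p, q)` critical, `A ≤ C(p)` elementary abelian, `ws V q ≤ A`, `w ∈ ws V q`, `w ∉ kq V p`: there is
  `U ≤ ws V p`, not centralized by `w` modulo `p`, such that every element of `A` acts on `U` modulo `p` trivially or as `w`;
* `key` (`p ∈ A`) and `key2` (`p ∉ A`);
* `non_sliding`: for `n ≥ 4`, `p ∉ ws V q`, `q ∉ ws V p`, a line `L` on `q` moved by `ws V p`: some `ws V x`, `x ∈ L`,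
  does not centralize `p` (the normalizers of the lines are maximal 2-locals, `Max2`).
-/

set_option autoImplicit false
set_option linter.unusedSectionVars false

namespace Cfsg.Agent.MinSimple.OddNS

open Subgroup Cfsg Cfsg.Agent.ZN Cfsg.Agent.MinSimple.Geo Cfsg.Agent.MinSimple.BTwoA
  Cfsg.Agent.MinSimple.OddLine Cfsg.Agent.MinSimple.OddBase Cfsg.Agent.MinSimple.SecRep
  Cfsg.Agent.MinSimple.OddRep Cfsg.Agent.MinSimple.OddThreeMod Cfsg.Agent.MinSimple.OddThreeM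
open Cfsg.Agent.ZN.Block (conj_mem_of_normalizer conj_mem_of_normalizer' le_normalizer_of_forall
  mem_normalizer_of)

universe u

/-! ### the module lemma -/

section Mod

variable {M X : Type*} [AddCommGroup M] [Group X] [DistribMulAction X M]

/-- `μ` commutes with `η` and `ω`, `ω` inverts `η` and `μ` centralizes `[M, ω]`: then `μ` centralizes `[M, η]` -/
theorem fix_of_comm (two : ∀ m : M, m + m = 0) {η ω μ : X} (ho : Odd (orderOf η))
    (hinv : ω * η * ω⁻¹ = η⁻¹) (hμ : μ * η * μ⁻¹ = η) (hc : μ * ω = ω * μ)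
    (hfix : ∀ m : M, μ • (m + ω • m) = m + ω • m) {d : M} (hd : d ∈ rg M η) : μ • d = d := by
  have h1 : ∀ m : M, ω • (m + μ • m) = m + μ • m := by
    intro m
    have h2 := hfix m
    rw [smul_add, ← mul_smul, hc, mul_smul] at h2
    rw [smul_add]
    calc ω • m + ω • μ • m = (μ • m + ω • μ • m) + (μ • m + ω • m) := by
          rw [show μ • m + ω • μ • m + (μ • m + ω • m) = ω • m + ω • μ • m + (μ • m + μ • m) by abel,
            two, add_zero]
      _ = m + μ • m := by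
          rw [h2]
          rw [show m + ω • m + (μ • m + ω • m) = m + μ • m + (ω • m + ω • m) by abel, two, add_zero]
  have hμη : ∀ m : M, μ • η • m = η • μ • m := by
    intro m
    rw [← mul_smul, ← mul_smul, mul_inv_eq_iff_eq_mul.mp hμ]
  have h3 : (η * η) • (d + μ • d) = d + μ • d := by
    have h4 := h1 (η • d)
    rw [hμη, ← smul_add, ← mul_smul, mul_inv_eq_iff_eq_mul.mp hinv, mul_smul, h1 d,
      inv_smul_eq_iff] at h4
    rw [mul_smul]
    exact h4.symm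
  have h5 := eq_zero_of_fixed two ho (add_mem hd (smul_mem_rg two (Or.inl hμ) hd)) (fixed_of_sq ho h3)
  calc μ • d = d + (d + μ • d) := by rw [← add_assoc, two, zero_add]
    _ = d := by rw [h5, add_zero]

end Mod

variable {G : Type u} [Group G] [Finite G] {T V : Subgroup G} {z : G} {n : ℕ}

/-- `A ≤ C(p)` elementary abelian, `w ∈ ws V q ≤ A`, `w ∉ kq V p` -/
theorem exists_dich (h : OddN T V z n) {p q : G} (hc : Crit V z n p q) {A : Subgroup G}
    (hqA : ws V q ≤ A) (hAp : A ≤ centralizer ({p} : Set G)) (hAc : ∀ a ∈ A, ∀ b ∈ A, a * b = b * a)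
    (hAsq : ∀ a ∈ A, a * a = 1) {w : G} (hw : w ∈ ws V q) (hwK : w ∉ kq V p) :
    ∃ U : Subgroup G, U ≤ ws V p ∧ (∃ v ∈ U, w * v * w⁻¹ * v⁻¹ ∉ zpowers p) ∧
      ∀ u ∈ A, (∀ v ∈ U, u * v * u⁻¹ * v⁻¹ ∈ zpowers p) ∨
        ∀ v ∈ U, u * w * v * (u * w)⁻¹ * v⁻¹ ∈ zpowers p := by
  have hp : Pt z p := hc.pt
  have hwA : w ∈ A := hqA hw
  obtain ⟨M, X, _, _, _, ⟨R⟩⟩ := exists_rep h.toOdd hp
  have : Finite M := R.finite_left
  have two := Rep.two h.toOdd hp R
  obtain ⟨η, hηo, hη1, hinv, hall⟩ := exists_weight_rep h.toOdd hp R hAp hAsq hwA hwK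
  have hpq' : ws V p ≤ normalizer ((ws V q : Subgroup G) : Set G) := (hc.symm h.toOdd).ws_le_normalizer h
  have hiff : ∀ u ∈ A, ∀ v ∈ ws V p, R.rho u • R.pi v = R.pi v ↔ u * v * u⁻¹ * v⁻¹ ∈ zpowers p := by
    intro u hu v hv
    have huv : u * v * u⁻¹ ∈ ws V p := R.conj_mem (hAp hu) hv
    rw [R.smul_pi u (hAp hu) v hv, R.pi_eq_iff huv hv]
  let U : Subgroup G :=
    { carrier := {v | v ∈ ws V p ∧ R.pi v ∈ rg M η}
      mul_mem' := by
        rintro a b ⟨ha, ha1⟩ ⟨hb, hb1⟩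
        refine ⟨mul_mem ha hb, ?_⟩
        rw [R.pi_mul a ha b hb]
        exact add_mem ha1 hb1
      one_mem' := ⟨one_mem _, by rw [R.pi_one]; exact zero_mem _⟩
      inv_mem' := by
        rintro a ⟨ha, ha1⟩
        refine ⟨inv_mem ha, ?_⟩
        rw [R.pi_inv ha]
        exact neg_mem ha1 }
  have hfix : ∀ u ∈ A, R.rho u * η * (R.rho u)⁻¹ = η → ∀ v ∈ U, u * v * u⁻¹ * v⁻¹ ∈ zpowers p := by
    intro u hu hu1 v hv
    have hcu : R.rho u * R.rho w = R.rho w * R.rho u := by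
      rw [← R.rho_mul u (hAp hu) w (hAp hwA), ← R.rho_mul w (hAp hwA) u (hAp hu), hAc u hu w hwA]
    refine (hiff u hu v hv.1).mp (fix_of_comm two hηo hinv hu1 hcu (fun m => ?_) hv.2)
    obtain ⟨x, hx, rfl⟩ := R.pi_surj m
    have hwx : w * x * w⁻¹ ∈ ws V p := R.conj_mem (hAp hwA) hx
    have h1 : x * (w * x * w⁻¹) ∈ ws V q := by
      have h2 : x * w * x⁻¹ ∈ ws V q := conj_mem_of_normalizer hpq' hx hw
      have e : x * (w * x * w⁻¹) = x * w * x⁻¹ * w⁻¹ := by rw [ws_inv h.toOdd hp hx]; group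
      rw [e]; exact mul_mem h2 (inv_mem hw)
    have h2 : u * (x * (w * x * w⁻¹)) * u⁻¹ = x * (w * x * w⁻¹) := by
      rw [hAc u hu _ (hqA h1), mul_inv_cancel_right]
    rw [R.smul_pi w (hAp hwA) x hx, ← R.pi_mul x hx _ hwx, R.smul_pi u (hAp hu) _ (mul_mem hx hwx), h2]
  refine ⟨U, fun v hv => hv.1, ?_, fun u hu => ?_⟩
  · by_contra hcon
    push Not at hcon
    refine hη1 (R.faithful η (fixed_of_inv two hηo hinv fun d hd => ?_))
    obtain ⟨v, hv, rfl⟩ := R.pi_surj d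
    exact (hiff w hwA v hv).mpr (hcon v ⟨hv, hd⟩)
  · rcases hall u hu with h1 | h1
    · exact Or.inl (hfix u hu h1)
    · refine Or.inr (hfix (u * w) (mul_mem hu hwA) ?_)
      have e : R.rho (u * w) * η * (R.rho (u * w))⁻¹ = R.rho u * (R.rho w * η * (R.rho w)⁻¹) * (R.rho u)⁻¹ := by
        rw [R.rho_mul u (hAp hu) w (hAp hwA)]; group
      rw [e, hinv]
      have e2 : R.rho u * η⁻¹ * (R.rho u)⁻¹ = (R.rho u * η * (R.rho u)⁻¹)⁻¹ := by group
      rw [e2, h1, inv_inv]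

/-- **KEY**: if `p ∈ A` then some `v ∈ ws V p` normalizes `A` and does not commute with `w` -/
theorem key (h : OddN T V z n) {p q : G} (hc : Crit V z n p q) {A : Subgroup G}
    (hqA : ws V q ≤ A) (hAp : A ≤ centralizer ({p} : Set G)) (hAc : ∀ a ∈ A, ∀ b ∈ A, a * b = b * a)
    (hAsq : ∀ a ∈ A, a * a = 1) (hpA : p ∈ A) {w : G} (hw : w ∈ ws V q) (hwK : w ∉ kq V p) :
    ∃ v ∈ ws V p, v ∈ normalizer (A : Set G) ∧ w * v * w⁻¹ * v⁻¹ ∉ zpowers p := by
  have hp : Pt z p := hc.pt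
  have hpq' : ws V p ≤ normalizer ((ws V q : Subgroup G) : Set G) := (hc.symm h.toOdd).ws_le_normalizer h
  obtain ⟨U, hUp, ⟨v, hv, hvw⟩, hall⟩ := exists_dich h hc hqA hAp hAc hAsq hw hwK
  refine ⟨v, hUp hv, ?_, hvw⟩
  have hzA : zpowers p ≤ A := zpowers_le.mpr hpA
  have key : ∀ u ∈ A, v * u * v⁻¹ ∈ A := by
    intro u hu
    rcases hall u hu with h1 | h1
    · have e : v * u * v⁻¹ = (u * v * u⁻¹ * v⁻¹)⁻¹ * u := by group
      rw [e]
      exact mul_mem (inv_mem (hzA (h1 v hv))) hu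
    · have h2 : v * w * v⁻¹ ∈ A := hqA (conj_mem_of_normalizer hpq' (hUp hv) hw)
      have e : v * u * v⁻¹ = (u * w * v * (u * w)⁻¹ * v⁻¹)⁻¹ * (u * w) * (v * w * v⁻¹)⁻¹ := by group
      rw [e]
      exact mul_mem (mul_mem (inv_mem (hzA (h1 v hv))) (mul_mem hu (hqA hw))) (inv_mem h2)
  rw [mem_normalizer_iff]
  intro u
  refine ⟨key u, fun hu => ?_⟩
  have h1 := key _ hu
  have hvv : v * v = 1 := ws_sq h.toOdd hp (hUp hv)
  have e : v * (v * u * v⁻¹) * v⁻¹ = (v * v) * u * (v * v)⁻¹ := by group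
  rw [e, hvv] at h1
  simpa using h1

/-- **KEY2**: some `v ∈ ws V p` normalizes `A` and does not commute with `w`, or `p ∈ [ws V p, A]` -/
theorem key2 (h : OddN T V z n) {p q : G} (hc : Crit V z n p q) {A : Subgroup G}
    (hqA : ws V q ≤ A) (hAp : A ≤ centralizer ({p} : Set G)) (hAc : ∀ a ∈ A, ∀ b ∈ A, a * b = b * a)
    (hAsq : ∀ a ∈ A, a * a = 1) {w : G} (hw : w ∈ ws V q) (hwK : w ∉ kq V p) :
    (∃ v ∈ ws V p, v ∈ normalizer (A : Set G) ∧ w * v * w⁻¹ * v⁻¹ ∉ zpowers p) ∨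
      ∃ v ∈ ws V p, ∃ u ∈ A, u * v * u⁻¹ * v⁻¹ = p := by
  have hp : Pt z p := hc.pt
  have hpq' : ws V p ≤ normalizer ((ws V q : Subgroup G) : Set G) := (hc.symm h.toOdd).ws_le_normalizer h
  obtain ⟨U, hUp, ⟨v, hv, hvw⟩, hall⟩ := exists_dich h hc hqA hAp hAc hAsq hw hwK
  by_cases hcon : ∃ v ∈ ws V p, ∃ u ∈ A, u * v * u⁻¹ * v⁻¹ = p
  · exact Or.inr hcon
  left
  push Not at hcon
  refine ⟨v, hUp hv, ?_, hvw⟩
  have hz : ∀ u ∈ A, u * v * u⁻¹ * v⁻¹ ∈ zpowers p → u * v * u⁻¹ * v⁻¹ = 1 := by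
    intro u hu hu1
    obtain ⟨k, hk⟩ := hu1
    rcases Int.even_or_odd' k with ⟨m, rfl | rfl⟩
    · rw [← hk]
      change p ^ (2 * m) = 1
      rw [zpow_mul, zpow_ofNat, pow_two, OddBase.Pt.sq h.toGeo hp, one_zpow]
    · exfalso
      apply hcon v (hUp hv) u hu
      rw [← hk]
      change p ^ (2 * m + 1) = p
      rw [zpow_add, zpow_mul, zpow_ofNat, pow_two, OddBase.Pt.sq h.toGeo hp, one_zpow, one_mul, zpow_one]
  have key : ∀ u ∈ A, v * u * v⁻¹ ∈ A := by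
    intro u hu
    rcases hall u hu with h1 | h1
    · have e : v * u * v⁻¹ = (u * v * u⁻¹ * v⁻¹)⁻¹ * u := by group
      rw [e, hz u hu (h1 v hv), inv_one, one_mul]
      exact hu
    · have h2 : v * w * v⁻¹ ∈ A := hqA (conj_mem_of_normalizer hpq' (hUp hv) hw)
      have e : v * u * v⁻¹ = (u * w * v * (u * w)⁻¹ * v⁻¹)⁻¹ * (u * w) * (v * w * v⁻¹)⁻¹ := by group
      rw [e, hz (u * w) (mul_mem hu (hqA hw)) (h1 v hv), inv_one, one_mul]
      exact mul_mem (mul_mem hu (hqA hw)) (inv_mem h2)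
  rw [mem_normalizer_iff]
  intro u
  refine ⟨key u, fun hu => ?_⟩
  have h1 := key _ hu
  have hvv : v * v = 1 := ws_sq h.toOdd hp (hUp hv)
  have e : v * (v * u * v⁻¹) * v⁻¹ = (v * v) * u * (v * v)⁻¹ := by group
  rw [e, hvv] at h1
  simpa using h1

/-! ### the groups of the lines -/

/-- the subgroup generated by the `ws V w`, `w` at distance at most `j` from a point of `L` -/
def tl (V : Subgroup G) (j : ℕ) (L : Subgroup G) : Subgroup G :=
  sSup {U | ∃ x ∈ L, x ≠ 1 ∧ ∃ w, Walk V j x w ∧ U = ws V w}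

omit [Finite G] in
theorem ws_le_tl {j : ℕ} {L : Subgroup G} {x w : G} (hx : x ∈ L) (hx1 : x ≠ 1) (hw : Walk V j x w) :
    ws V w ≤ tl V j L := le_sSup ⟨x, hx, hx1, w, hw, rfl⟩

omit [Finite G] in
theorem tl_le {j : ℕ} {L U : Subgroup G} (hU : ∀ x ∈ L, x ≠ 1 → ∀ w, Walk V j x w → ws V w ≤ U) :
    tl V j L ≤ U := sSup_le (by rintro _ ⟨x, hx, hx1, w, hw, rfl⟩; exact hU x hx hx1 w hw)

omit [Finite G] in
theorem cj_tl (j : ℕ) (L : Subgroup G) (g : G) : cj g (tl V j L) = tl V j (cj g L) := by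
  have key : ∀ (g : G) (L : Subgroup G), cj g (tl V j L) ≤ tl V j (cj g L) := by
    intro g L
    rw [cj_le_iff]
    refine tl_le fun x hx hx1 w hw => ?_
    rw [← cj_le_iff, cj_ws]
    exact ws_le_tl (conj_mem_cj hx) (conj_ne_one hx1) (hw.conj g)
  refine le_antisymm (key g L) ?_
  have h := key g⁻¹ (cj g L)
  rw [cj_inv_cj, cj_le_iff, inv_inv] at h
  exact h

omit [Finite G] in
theorem normalizer_le_normalizer_tl (j : ℕ) (L : Subgroup G) :
    normalizer (L : Set G) ≤ normalizer ((tl V j L : Subgroup G) : Set G) := by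
  intro g hg
  rw [mem_normalizer_iff_cj, cj_tl, mem_normalizer_iff_cj.mp hg]

/-- the points of a line are at distance at most 1 -/
theorem walk_line {L : Subgroup G} {x y : G} (hL : ∃ g : G, L = cj g V) (hx : x ∈ L) (hx1 : x ≠ 1)
    (hy : y ∈ L) (hy1 : y ≠ 1) : Walk V 1 x y := by
  by_cases e : x = y
  · exact walk_one.mpr (Or.inl e)
  · exact walk_one.mpr (Or.inr ⟨hx1, hy1, e, L, ⟨hL, hx⟩, hy⟩)

theorem tl_comm (h : OddN T V z n) {j : ℕ} (hj : j + 1 + j < n) {L : Subgroup G} (hL : ∃ g : G, L = cj g V)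
    {a b : G} (ha : a ∈ tl V j L) (hb : b ∈ tl V j L) : a * b = b * a := by
  have hpt : ∀ x ∈ L, x ≠ 1 → Pt z x := fun x hx hx1 => pt_of_mem_line h.toGeo (x := x) ⟨hL, hx⟩ hx hx1
  have h1 : ∀ x ∈ L, x ≠ 1 → ∀ y, Walk V j x y → tl V j L ≤ centralizer (ws V y : Set G) := by
    intro x hx hx1 y hy
    refine tl_le fun x' hx' hx1' y' hy' b hb => mem_centralizer_iff.mpr fun a ha => ?_
    exact h.lt y y' (j + 1 + j) hj (Walk.pt h.toGeo (hpt x hx hx1) hy)
      ((hy.symm.trans (walk_line hL hx hx1 hx' hx1')).trans hy') a ha b hb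
  have h2 : tl V j L ≤ centralizer ({b} : Set G) := by
    refine tl_le fun x hx hx1 y hy a ha => mem_centralizer_singleton_iff.mpr ?_
    exact mem_centralizer_iff.mp (h1 x hx hx1 y hy hb) a ha
  exact mem_centralizer_singleton_iff.mp (h2 ha)

theorem tl_sq (h : OddN T V z n) {j : ℕ} (hj : j + 1 + j < n) {L : Subgroup G} (hL : ∃ g : G, L = cj g V)
    {a : G} (ha : a ∈ tl V j L) : a * a = 1 := by
  have hpt : ∀ x ∈ L, x ≠ 1 → Pt z x := fun x hx hx1 => pt_of_mem_line h.toGeo (x := x) ⟨hL, hx⟩ hx hx1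
  let B : Subgroup G :=
    { carrier := {b | b ∈ tl V j L ∧ b * b = 1}
      mul_mem' := by
        rintro a b ⟨ha, ha1⟩ ⟨hb, hb1⟩
        refine ⟨mul_mem ha hb, ?_⟩
        calc a * b * (a * b) = a * (b * a) * b := by group
          _ = (a * a) * (b * b) := by rw [tl_comm h hj hL hb ha]; group
          _ = 1 := by rw [ha1, hb1, one_mul]
      one_mem' := ⟨one_mem _, one_mul 1⟩
      inv_mem' := by
        rintro a ⟨ha, ha1⟩
        refine ⟨inv_mem ha, ?_⟩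
        have : a⁻¹ * a⁻¹ = (a * a)⁻¹ := by group
        rw [this, ha1, inv_one] }
  have h1 : tl V j L ≤ B := tl_le fun x hx hx1 y hy a ha =>
    ⟨ws_le_tl hx hx1 hy ha, ws_sq h.toOdd (Walk.pt h.toGeo (hpt x hx hx1) hy) ha⟩
  exact (h1 ha).2

theorem isPGroup_of_sq {A : Subgroup G} (hA : ∀ a ∈ A, a * a = 1) : IsPGroup 2 A := by
  rintro ⟨a, ha⟩
  refine ⟨1, ?_⟩
  ext
  change a ^ 2 ^ 1 = 1
  rw [pow_one, pow_two]
  exact hA a ha

/-- the normalizers of the lines are maximal among the 2-locals -/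
def Max2 (V : Subgroup G) : Prop := ∀ L : Subgroup G, (∃ g : G, L = cj g V) → ∀ R : Subgroup G,
  IsPGroup 2 R → R ≠ ⊥ → normalizer (L : Set G) ≤ normalizer (R : Set G) →
  normalizer (R : Set G) ≤ normalizer (L : Set G)

/-- an element of `ws V p` normalizing a line on `q` centralizes it, if `q ∉ ws V p` -/
theorem comm_of_mem_normalizer (h : OddN T V z n) {p q : G} (hc : Crit V z n p q) (hqp : q ∉ ws V p)
    {L : Subgroup G} (hL : L ∈ lines V q) {v w : G} (hv : v ∈ ws V p) (hvL : v ∈ normalizer (L : Set G))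
    (hw : w ∈ L) : w * v * w⁻¹ * v⁻¹ = 1 := by
  have hq1 : q ≠ 1 := OddBase.Pt.ne_one h.toGeo (hc.pt' h.toGeo)
  have hvq : v * q = q * v := mem_centralizer_singleton_iff.mp ((hc.symm h.toOdd).ws_le_centralizer h hv)
  have hwN : w ∈ normalizer ((ws V p : Subgroup G) : Set G) := hc.ws_le_normalizer h (le_ws hL hw)
  by_cases hw1 : w = 1
  · rw [hw1]; group
  by_cases hwq : w = q
  · rw [hwq]
    have e : q * v * q⁻¹ * v⁻¹ = v * q * q⁻¹ * v⁻¹ := by rw [hvq]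
    rw [e]; group
  have hL' := hL
  obtain ⟨⟨g, rfl⟩, hqL⟩ := hL
  obtain ⟨T', h'⟩ := h.toOdd.line hqL hq1
  have h1 : v * w * v⁻¹ ∈ cj g V := conj_mem_of_normalizer (le_refl _) hvL hw
  have hvne : v * w * v⁻¹ ≠ 1 := conj_ne_one hw1
  have h2 : v * w * v⁻¹ ≠ q := by
    intro e
    apply hwq
    apply conj_inj (g := v)
    rw [e, hvq]; group
  rcases h'.toGeo.four hqL hw hq1 hw1 (Ne.symm hwq) h1 with e | e | e | e
  · exact absurd e hvne
  · exact absurd e h2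
  · have : w * v * w⁻¹ * v⁻¹ = w * (v * w * v⁻¹)⁻¹ := by group
    rw [this, e, mul_inv_cancel]
  · exfalso
    apply hqp
    have h3 : v * (w * v⁻¹ * w⁻¹) ∈ ws V p := mul_mem hv (conj_mem_of_normalizer (le_refl _) hwN (inv_mem hv))
    have e2 : v * (w * v⁻¹ * w⁻¹) = v * w * v⁻¹ * w⁻¹ := by group
    rw [e2, e, mul_inv_cancel_right] at h3
    exact h3

/-- `w ∈ ws V q` in `kq V p` centralizes `ws V p`, if `p ∉ ws V q` -/
theorem comm_of_mem_kq (h : OddN T V z n) {p q : G} (hc : Crit V z n p q) (hpq : p ∉ ws V q) {w v : G}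
    (hw : w ∈ ws V q) (hwK : w ∈ kq V p) (hv : v ∈ ws V p) : w * v * w⁻¹ * v⁻¹ = 1 := by
  have hp : Pt z p := hc.pt
  have h1 : w * v * w⁻¹ * v⁻¹ ∈ zpowers p := (mem_kq'.mp hwK).2.1 v hv
  have h2 : w * v * w⁻¹ * v⁻¹ ∈ ws V q := by
    have h3 : v * w⁻¹ * v⁻¹ ∈ ws V q :=
      conj_mem_of_normalizer ((hc.symm h.toOdd).ws_le_normalizer h) hv (inv_mem hw)
    have e : w * v * w⁻¹ * v⁻¹ = w * (v * w⁻¹ * v⁻¹) := by group
    rw [e]; exact mul_mem hw h3
  obtain ⟨k, hk⟩ := h1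
  rcases Int.even_or_odd' k with ⟨m, rfl | rfl⟩
  · rw [← hk]
    change p ^ (2 * m) = 1
    rw [zpow_mul, zpow_ofNat, pow_two, OddBase.Pt.sq h.toGeo hp, one_zpow]
  · exfalso
    apply hpq
    rw [← hk] at h2
    change p ^ (2 * m + 1) ∈ ws V q at h2
    rwa [zpow_add, zpow_mul, zpow_ofNat, pow_two, OddBase.Pt.sq h.toGeo hp, one_zpow, one_mul, zpow_one] at h2

/-- **Case 1, `n ≥ 4`: critical pairs slide.** -/
theorem non_sliding (h : OddN T V z n) (hn : 4 ≤ n) (hmax : Max2 V) {p q : G} (hc : Crit V z n p q)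
    (hpq : p ∉ ws V q) (hqp : q ∉ ws V p) {L : Subgroup G} (hL : L ∈ lines V q) {w : G} (hwL : w ∈ L)
    (hwp : ∃ v ∈ ws V p, w * v * w⁻¹ * v⁻¹ ≠ 1)
    (hns : ∀ x ∈ L, x ≠ 1 → ws V x ≤ centralizer ({p} : Set G)) : False := by
  have hp : Pt z p := hc.pt
  have hq : Pt z q := hc.pt' h.toGeo
  have hq1 : q ≠ 1 := OddBase.Pt.ne_one h.toGeo hq
  have hL1 := hL.1
  have hqL : q ∈ L := hL.2
  have hw : w ∈ ws V q := le_ws hL hwL
  have hwK : w ∉ kq V p := by
    intro hwK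
    obtain ⟨v, hv, hne⟩ := hwp
    exact hne (comm_of_mem_kq h hc hpq hw hwK hv)
  -- the end: no `v ∈ ws V p` moving `w` normalizes `L`
  have hend : ∀ j : ℕ, j + 1 + j < n → ∀ v ∈ ws V p, v ∈ normalizer ((tl V j L : Subgroup G) : Set G) →
      w * v * w⁻¹ * v⁻¹ ∈ zpowers p := by
    intro j hj v hv hvN
    have hne : tl V j L ≠ ⊥ := by
      intro e
      have h1 : q ∈ tl V j L := ws_le_tl hqL hq1 (Walk.refl V j q) (self_mem_ws h.toGeo hq)
      rw [e, mem_bot] at h1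
      exact hq1 h1
    have h1 := hmax L hL1 (tl V j L) (isPGroup_of_sq fun a ha => tl_sq h hj hL1 ha) hne
      (normalizer_le_normalizer_tl j L) hvN
    rw [comm_of_mem_normalizer h hc hqp hL hv h1 hwL]
    exact one_mem _
  have hqA : ∀ j : ℕ, ws V q ≤ tl V j L := fun j => ws_le_tl hqL hq1 (Walk.refl V j q)
  have hA0 : tl V 0 L ≤ centralizer ({p} : Set G) := tl_le fun x hx hx1 y hy => by
    have e : x = y := hy
    rw [← e]; exact hns x hx hx1
  rcases key2 h hc (hqA 0) hA0 (fun a ha b hb => tl_comm h (by omega) hL1 ha hb)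
    (fun a ha => tl_sq h (by omega) hL1 ha) hw hwK with ⟨v, hv, hvN, hvw⟩ | ⟨v, hv, u, hu, huv⟩
  · exact hvw (hend 0 (by omega) v hv hvN)
  · -- `p ∈ tt V 1 q`
    have hu1 : u ∈ tt V 1 q := by
      refine (tl_le (U := tt V 1 q) fun x hx hx1 y hy => ?_) hu
      have e : x = y := hy
      rw [← e]
      exact ws_le_tt (walk_line hL1 hqL hq1 hx hx1)
    have hp1 : p ∈ tt V 1 q := by
      have h1 : v ∈ normalizer ((tt V 1 q : Subgroup G) : Set G) :=
        centralizer_le_normalizer_tt 1 q ((hc.symm h.toOdd).ws_le_centralizer h hv)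
      have h2 := conj_mem_of_normalizer (le_refl _) h1 (inv_mem hu1)
      rw [← huv]
      have e : u * v * u⁻¹ * v⁻¹ = u * (v * u⁻¹ * v⁻¹) := by group
      rw [e]; exact mul_mem hu1 h2
    have hpA : p ∈ tl V 1 L := (tt_le (U := tl V 1 L) fun y hy => ws_le_tl hqL hq1 hy) hp1
    have hA1 : tl V 1 L ≤ centralizer ({p} : Set G) := by
      refine tl_le fun x hx hx1 y hy a ha => mem_centralizer_singleton_iff.mpr ?_
      have h2 : tt V 1 q ≤ centralizer ({a} : Set G) := by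
        refine tt_le fun y' hy' b hb => mem_centralizer_singleton_iff.mpr ?_
        exact h.lt y' y (1 + 1 + 1) (by omega) (Walk.pt h.toGeo hq hy')
          ((hy'.symm.trans (walk_line hL1 hqL hq1 hx hx1)).trans hy) b hb a ha
      exact (mem_centralizer_singleton_iff.mp (h2 hp1)).symm
    obtain ⟨v, hv, hvN, hvw⟩ := key h hc (hqA 1) hA1 (fun a ha b hb => tl_comm h (by omega) hL1 ha hb)
      (fun a ha => tl_sq h (by omega) hL1 ha) hpA hw hwK
    exact hvw (hend 1 (by omega) v hv hvN)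

/-- **Sliding**: `(p, q)` critical without memberships, `n ≥ 4`, `p₁` the neighbour of `p` on a path, `L` a line on
`q` not centralized by `ws V p`: there is `x ∈ L` such that `(p₁, x)` is critical and `ws V x` does not
centralize `p`. -/
theorem exists_slide (h : OddN T V z n) (hn : 4 ≤ n) (hmax : Max2 V) {p q p₁ : G} (hc : Crit V z n p q)
    (hpq : p ∉ ws V q) (hqp : q ∉ ws V p) (hpp : Col V p p₁) (hwk : Walk V (n - 1) p₁ q)
    {L : Subgroup G} (hL : L ∈ lines V q) {w : G} (hwL : w ∈ L)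
    (hwp : ∃ v ∈ ws V p, w * v * w⁻¹ * v⁻¹ ≠ 1) :
    ∃ x ∈ L, x ≠ 1 ∧ Crit V z n p₁ x ∧ ¬ ws V x ≤ centralizer ({p} : Set G) := by
  by_contra hcon
  push Not at hcon
  refine non_sliding h hn hmax hc hpq hqp hL hwL hwp fun x hx hx1 => ?_
  by_contra hx2
  refine hx2 (hcon x hx hx1 ?_)
  have hq1 : q ≠ 1 := OddBase.Pt.ne_one h.toGeo (hc.pt' h.toGeo)
  have hw : Walk V n p₁ x := by
    have := hwk.trans (walk_line hL.1 hL.2 hq1 hx hx1)
    rwa [Nat.sub_add_cancel h.pos] at this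
  refine ⟨hpp.pt h.toGeo, hw, ?_⟩
  by_contra hcc
  push Not at hcc
  apply hx2
  intro a ha
  rw [mem_centralizer_singleton_iff]
  exact (hcc p hpp.symm.mem_ws a ha).symm

end Cfsg.Agent.MinSimple.OddNS
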