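import Mathlib
import Cfsg.Prelude.Def_CaseTheorems
import Cfsg.Agent.Lib.Cores
import Cfsg.Agent.S0044

/-!
# (E1)(b), natural block: transvections in solvable groups with `O₂ = 1`

`Γ` is a finite solvable group with `O₂(Γ) = 1` acting faithfully on the elementary abelian 2-group `M`,
`a ≠ 1` acts as a transvection with centre `n`.  Then there is `f ∈ O₃(Γ)` of order 3 inverted by `a` with
`[M, f] = {0, n, f n, n + f n}`; `⟨f⟩` is normalised by `C_Γ(a)`, and a conjugate of `f` lies in `⟨f⟩` or
fixes `n` (`exists_block`).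
-/

set_option autoImplicit false

namespace Cfsg.Agent.MinSimple.OddNatA

open Subgroup Cfsg

variable {Γ : Type*} [Group Γ] {M : Type*} [AddCommGroup M] [DistribMulAction Γ M]

/-- `a` acts as a transvection with centre `n` (or trivially). -/
def Tv (a : Γ) (n : M) : Prop := ∀ m : M, a • m = m ∨ a • m = m + n

/-- membership in `{0, n, x, n + x}` -/
def Sp (n x m : M) : Prop := m = 0 ∨ m = n ∨ m = x ∨ m = n + x

section

variable (two : ∀ m : M, m + m = 0)

include two

theorem add_left' (x y : M) : x + (x + y) = y := by rw [← add_assoc, two, zero_add]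

theorem eq_of_add {x y : M} (h : x + y = 0) : x = y := by
  have := add_left' two y x
  rw [add_comm y x, h, add_zero] at this
  exact this.symm

theorem Sp.add {n x m m' : M} (h : Sp n x m) (h' : Sp n x m') : Sp n x (m + m') := by
  have e1 : n + (n + x) = x := add_left' two n x
  have e2 : x + (n + x) = n := by rw [add_comm n x, add_left' two]
  have e3 : n + x + n = x := by rw [add_comm, e1]
  have e4 : n + x + x = n := by rw [add_assoc, two, add_zero]
  have e5 : n + x + (n + x) = 0 := two _
  unfold Sp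
  rcases h with h | h | h | h <;> rcases h' with h' | h' | h' | h' <;> rw [h, h']
  · left; rw [add_zero]
  · right; left; rw [zero_add]
  · right; right; left; rw [zero_add]
  · right; right; right; rw [zero_add]
  · right; left; rw [add_zero]
  · left; exact two _
  · right; right; right; rfl
  · right; right; left; exact e1
  · right; right; left; rw [add_zero]
  · right; right; right; exact add_comm _ _
  · left; exact two _
  · right; left; exact e2
  · right; right; right; rw [add_zero]
  · right; right; left; exact e3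
  · right; left; exact e4
  · left; exact e5

theorem Tv.add {a : Γ} {n : M} (h : Tv a n) (m : M) : a • m + m = 0 ∨ a • m + m = n := by
  rcases h m with e | e
  · left; rw [e, two]
  · right; rw [e, add_comm m n, add_assoc, two, add_zero]

theorem Tv.fix {a : Γ} {n : M} (h : Tv a n) : a • n = n := by
  rcases h n with e | e
  · exact e
  · rw [two] at e
    have : n = 0 := by
      have := congrArg (a⁻¹ • ·) e
      simpa using this
    rw [this, smul_zero]

theorem Tv.sq {a : Γ} {n : M} (h : Tv a n) (m : M) : a • a • m = m := by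
  rcases h m with e | e
  · rw [e, e]
  · rw [e, smul_add, e, h.fix two, add_assoc, two, add_zero]

omit two in
theorem Tv.conj {a : Γ} {n : M} (h : Tv a n) (g : Γ) : Tv (g * a * g⁻¹) (g • n) := by
  intro m
  rcases h (g⁻¹ • m) with e | e
  · left; rw [mul_smul, mul_smul, e, smul_inv_smul]
  · right; rw [mul_smul, mul_smul, e, smul_add, smul_inv_smul]

/-- the product of two transvections acts with order dividing `12` -/
theorem pair_act {a b : Γ} {n x : M} (ha : Tv a n) (hb : Tv b x) (m : M) : (a * b) ^ 12 • m = m := by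
  set k := a * b with hk
  have hS : ∀ m, Sp n x (k • m + m) := by
    intro m
    have e : k • m + m = (a • b • m + b • m) + (b • m + m) := by
      rw [hk, mul_smul]
      rw [add_assoc, add_left' two]
    rw [e]
    refine Sp.add two ?_ ?_
    · rcases ha.add two (b • m) with e | e <;> simp [Sp, e]
    · rcases hb.add two m with e | e <;> simp [Sp, e]
  have h6 : k ^ 6 • n = n ∧ k ^ 6 • x = x := by
    have h1 := ha.fix two
    have h2 := hb.fix two
    have e1 : n + (n + x) = x := add_left' two n x
    have e2 : x + (n + x) = n := by rw [add_comm n x, add_left' two]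
    have e3 : n + x + n = x := by rw [add_comm, e1]
    have e4 : n + x + x = n := by rw [add_assoc, two, add_zero]
    have e5 : x + n + x = n := by rw [add_comm x n, e4]
    have e6 : x + n + n = x := by rw [add_comm x n, e3]
    have hp : ∀ m : M, k ^ 6 • m = k • k • k • k • k • k • m := by
      intro m; simp only [pow_succ, pow_zero, one_mul, mul_smul]
    rcases ha x with h3 | h3 <;> rcases hb n with h4 | h4
    · have hn : k • n = n := by rw [hk, mul_smul, h4, h1]
      have hx : k • x = x := by rw [hk, mul_smul, h2, h3]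
      rw [hp, hp]
      simp only [hn, hx, and_self]
    · have hn : k • n = n + x := by rw [hk, mul_smul, h4, smul_add, h1, h3]
      have hx : k • x = x := by rw [hk, mul_smul, h2, h3]
      rw [hp, hp]
      simp only [hn, hx, smul_add, e4, and_self]
    · have hn : k • n = n := by rw [hk, mul_smul, h4, h1]
      have hx : k • x = x + n := by rw [hk, mul_smul, h2, h3]
      rw [hp, hp]
      simp only [hn, hx, smul_add, e6, and_self]
    · have hn : k • n = x := by rw [hk, mul_smul, h4, smul_add, h1, h3, add_comm x n, e1]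
      have hx : k • x = x + n := by rw [hk, mul_smul, h2, h3]
      rw [hp, hp]
      simp only [hn, hx, smul_add, e5, and_self]
  have hS6 : ∀ s, Sp n x s → k ^ 6 • s = s := by
    rintro s (rfl | rfl | rfl | rfl)
    · simp
    · exact h6.1
    · exact h6.2
    · rw [smul_add, h6.1, h6.2]
  have hSk : ∀ j : ℕ, ∀ m, Sp n x (k ^ j • m + m) := by
    intro j
    induction j with
    | zero => intro m; left; rw [pow_zero, one_smul, two]
    | succ j ih =>
      intro m
      have e : k ^ (j + 1) • m + m = (k ^ j • k • m + k • m) + (k • m + m) := by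
        rw [pow_succ, mul_smul, add_assoc, add_left' two]
      rw [e]
      exact Sp.add two (ih _) (hS _)
  have h7 : k ^ 6 • (k ^ 6 • m + m) = k ^ 6 • m + m := hS6 _ (hSk 6 m)
  have h8 : k ^ 12 • m = k ^ 6 • k ^ 6 • m := by rw [← mul_smul, ← pow_add]
  rw [smul_add, ← h8] at h7
  rw [add_comm (k ^ 6 • m) m] at h7
  exact add_right_cancel h7

theorem pair [FaithfulSMul Γ M] {a b : Γ} {n x : M} (ha : Tv a n) (hb : Tv b x)
    (ho : ¬ 2 ∣ orderOf (a * b)) : (a * b) ^ 3 = 1 := by
  have h12 : (a * b) ^ 12 = 1 := by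
    refine FaithfulSMul.eq_of_smul_eq_smul (α := M) fun m => ?_
    rw [pair_act two ha hb, one_smul]
  have h1 : orderOf (a * b) ∣ 12 := orderOf_dvd_of_pow_eq_one h12
  have h2 : Nat.Coprime (orderOf (a * b)) 4 := by
    have : Nat.Coprime 2 (orderOf (a * b)) := (Nat.Prime.coprime_iff_not_dvd Nat.prime_two).mpr ho
    exact (Nat.Coprime.pow_left 2 this).symm
  have h3 : orderOf (a * b) ∣ 3 := h2.dvd_of_dvd_mul_left (by norm_num; exact h1)
  exact orderOf_dvd_iff_pow_eq_one.mp h3

end

/-- `f` is inverted by the transvection `a`. -/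
structure Blk (a f : Γ) (n : M) : Prop where
  two : ∀ m : M, m + m = 0
  tv : Tv a n
  aa : a * a = 1
  ne : f ≠ 1
  inv : a * f * a⁻¹ = f⁻¹
  odd : ¬ 2 ∣ orderOf f

namespace Blk

variable {a f : Γ} {n : M}

theorem ainv (h : Blk a f n) : a⁻¹ = a := inv_eq_of_mul_eq_one_left h.aa

theorem sq_eq (h : Blk a f n) : (f * a * f⁻¹) * a = f ^ 2 := by
  have h1 := h.inv
  rw [h.ainv] at h1
  have h2 : a * f⁻¹ * a = f := by
    rw [← h1]
    calc a * (a * f * a) * a = (a * a) * f * (a * a) := by group
      _ = f := by rw [h.aa]; group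
  calc f * a * f⁻¹ * a = f * (a * f⁻¹ * a) := by group
    _ = f ^ 2 := by rw [h2, pow_two]

theorem cube [FaithfulSMul Γ M] (h : Blk a f n) : f ^ 3 = 1 := by
  have h1 : ¬ 2 ∣ orderOf ((f * a * f⁻¹) * a) := by
    rw [h.sq_eq]
    intro hd
    exact h.odd (hd.trans (orderOf_pow_dvd 2))
  have h2 := pair h.two (h.tv.conj f) h.tv h1
  rw [h.sq_eq, ← pow_mul] at h2
  have h3 : orderOf f ∣ 6 := orderOf_dvd_of_pow_eq_one h2
  have h4 : Nat.Coprime (orderOf f) 2 := ((Nat.Prime.coprime_iff_not_dvd Nat.prime_two).mpr h.odd).symm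
  exact orderOf_dvd_iff_pow_eq_one.mp (h4.dvd_of_dvd_mul_left (by norm_num; exact h3))

theorem sp2 (h : Blk a f n) (m : M) : Sp n (f • n) (f ^ 2 • m + m) := by
  rw [← h.sq_eq, mul_smul]
  have e : (f * a * f⁻¹) • a • m + m = ((f * a * f⁻¹) • a • m + a • m) + (a • m + m) := by
    rw [add_assoc, add_left' h.two]
  rw [e]
  refine Sp.add h.two ?_ ?_
  · rcases (h.tv.conj f).add h.two (a • m) with e | e <;> simp [Sp, e]
  · rcases h.tv.add h.two m with e | e <;> simp [Sp, e]

theorem sp [FaithfulSMul Γ M] (h : Blk a f n) (m : M) : Sp n (f • n) (f • m + m) := by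
  have e : f • m + m = (f ^ 2 • f ^ 2 • m + f ^ 2 • m) + (f ^ 2 • m + m) := by
    rw [add_assoc, add_left' h.two, ← mul_smul, ← pow_add]
    have : f ^ (2 + 2) = f := by
      rw [show 2 + 2 = 3 + 1 from rfl, pow_succ, h.cube, one_mul]
    rw [this]
  rw [e]
  exact Sp.add h.two (h.sp2 _) (h.sp2 _)

theorem f3 [FaithfulSMul Γ M] (h : Blk a f n) (m : M) : f • f • f • m = m := by
  have : f ^ 3 • m = m := by rw [h.cube, one_smul]
  simpa only [pow_succ, pow_zero, one_mul, mul_smul] using this

theorem fn_ne [FaithfulSMul Γ M] (h : Blk a f n) : f • n ≠ n := by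
  intro e
  apply h.ne
  refine FaithfulSMul.eq_of_smul_eq_smul (α := M) fun m => ?_
  rw [one_smul]
  have h1 : f • f • m = m := by
    have h2 := h.sp m
    rw [e] at h2
    have h3 : f • m + m = 0 ∨ f • m + m = n := by
      rcases h2 with h2 | h2 | h2 | h2
      · exact Or.inl h2
      · exact Or.inr h2
      · exact Or.inr h2
      · rw [h.two] at h2; exact Or.inl h2
    rcases h3 with h3 | h3
    · have := eq_of_add h.two h3
      rw [this, this]
    · have h4 : f • m = n + m := by
        rw [← h3, add_assoc, h.two, add_zero]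
      rw [h4, smul_add, e, h4, add_left' h.two]
  calc f • m = f • (f • f • m) := by rw [h1]
    _ = m := h.f3 m

theorem n_ne [FaithfulSMul Γ M] (h : Blk a f n) : n ≠ 0 := by
  intro e
  apply h.fn_ne
  rw [e, smul_zero]

/-- `f² n = n + f n` -/
theorem ffn [FaithfulSMul Γ M] (h : Blk a f n) : f • f • n = n + f • n := by
  have h1 := h.sp (f • n)
  have h2 : Sp n (f • n) (f • f • n) := by
    have e : f • f • n = (f • f • n + f • n) + f • n := by
      rw [add_assoc, h.two, add_zero]
    rw [e]
    exact Sp.add h.two h1 (Or.inr (Or.inr (Or.inl rfl)))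
  rcases h2 with e | e | e | e
  · exfalso
    apply h.n_ne
    have := h.f3 n
    rw [e, smul_zero] at this
    exact this.symm
  · exfalso
    apply h.fn_ne
    have := h.f3 n
    rw [e] at this
    exact this
  · exfalso
    apply h.fn_ne
    have := h.f3 n
    rw [e, e] at this
    exact this
  · exact e

theorem fn_ne0 [FaithfulSMul Γ M] (h : Blk a f n) : f • n ≠ 0 := by
  intro e
  have := h.f3 n
  rw [e, smul_zero, smul_zero] at this
  exact h.n_ne this.symm

theorem inv_act (h : Blk a f n) (m : M) : a • f • m = f⁻¹ • a • m := by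
  rw [← mul_smul, ← mul_smul, ← h.inv]
  congr 1
  group

theorem a_fn [FaithfulSMul Γ M] (h : Blk a f n) : a • f • n = f • n + n := by
  have h1 := h.inv_act n
  rw [h.tv.fix h.two] at h1
  rw [h1]
  have : f⁻¹ • n = f • f • n := by
    rw [inv_smul_eq_iff, h.f3]
  rw [this, h.ffn, add_comm]

theorem inv_blk (h : Blk a f n) : Blk a f⁻¹ n where
  two := h.two
  tv := h.tv
  aa := h.aa
  ne := inv_ne_one.mpr h.ne
  inv := by
    have := congrArg (·⁻¹) h.inv
    simp only [mul_inv_rev, inv_inv] at this
    rw [inv_inv, ← mul_assoc] at *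
    exact this
  odd := by rw [orderOf_inv]; exact h.odd

theorem f_inv [FaithfulSMul Γ M] (h : Blk a f n) : f⁻¹ = f * f := by
  have := h.cube
  rw [pow_succ, pow_two] at this
  exact inv_eq_of_mul_eq_one_left this

/-- `f = a (f a f⁻¹)` -/
theorem f_eq [FaithfulSMul Γ M] (h : Blk a f n) : f = a * (f * a * f⁻¹) := by
  have h1 := h.inv
  rw [h.ainv] at h1
  calc f = f⁻¹ * f⁻¹ := by
        have := h.inv_blk.f_inv
        rw [inv_inv] at this
        exact this
    _ = a * f * a * f⁻¹ := by rw [h1]
    _ = a * (f * a * f⁻¹) := by group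

/-- the conjugate transvection acts on `x'` -/
theorem key [FaithfulSMul Γ M] {f' : Γ} (h : Blk a f n) (h' : Blk a f' n) :
    f • f' • n = f' • n + n ∨ f • f' • n = f' • n + f • n := by
  have e : f • f' • n = a • (f * a * f⁻¹) • f' • n := by
    rw [← mul_smul, ← mul_smul, ← h.f_eq, ← mul_smul]
  have hn : (f * a * f⁻¹) • n = n + f • n := by
    have h1 : f⁻¹ • n = n + f • n := by rw [inv_smul_eq_iff, ← h.ffn, h.f3]
    rw [mul_smul, mul_smul, h1, smul_add, h.tv.fix h.two, h.a_fn]
    rw [add_comm (f • n) n, add_left' h.two]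
    exact h.ffn
  rcases h.tv.conj f (f' • n) with e1 | e1
  · left
    rw [e, e1, h'.a_fn]
  · right
    rw [e, e1, smul_add, h'.a_fn, h.a_fn]
    calc f' • n + n + (f • n + n) = f' • n + f • n + (n + n) := by abel
      _ = f' • n + f • n := by rw [h.two, add_zero]

/-- a vector fixed by `a` and moved by `f` has component `n` in the block -/
theorem fix_add [FaithfulSMul Γ M] (h : Blk a f n) {x : M} (hax : a • x = x) (hfx : f • x ≠ x) :
    f • (x + n) = x + n := by
  have two := h.two
  have h1 : a • f • x = f⁻¹ • x := by rw [h.inv_act, hax]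
  have h2 : ∀ m, a • f • x = m → f • m = x := by
    intro m hm
    rw [← hm, h1, smul_inv_smul]
  have hn := h.tv.fix two
  rcases h.sp x with e | e | e | e
  · exact absurd (eq_of_add two e) hfx
  · exfalso
    have e1 : f • x = x + n := by rw [← e, add_comm (f • x) x, add_left' two]
    have e2 := h2 (x + n) (by rw [e1, smul_add, hax, hn])
    rw [smul_add, e1] at e2
    apply h.fn_ne
    have e3 : x + (n + f • n) = x + 0 := by rw [add_zero, ← add_assoc]; exact e2
    exact (eq_of_add two (add_left_cancel e3)).symm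
  · exfalso
    have e1 : f • x = x + f • n := by rw [← e, add_comm (f • x) x, add_left' two]
    have e2 := h2 (x + (f • n + n)) (by rw [e1, smul_add, hax, h.a_fn])
    rw [smul_add, smul_add, e1, h.ffn] at e2
    apply h.fn_ne
    have e3 : x + f • n + (n + f • n + f • n) = x + (f • n + n) := by
      rw [add_assoc n, two, add_zero, add_assoc]
    rw [e3] at e2
    have e4 : x + (f • n + n) = x + 0 := by rw [add_zero]; exact e2
    exact eq_of_add two (add_left_cancel e4)
  · have e1 : f • x = x + (n + f • n) := by rw [← e, add_comm (f • x) x, add_left' two]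
    rw [smul_add, e1, add_assoc, add_assoc, two, add_zero]

end Blk

theorem smul_eq_of_four {k : Γ} (hk : ¬ 2 ∣ orderOf k) {n : M} (h : k ^ 4 • n = n) : k • n = n := by
  have h1 : Nat.Coprime 4 (orderOf k) := by
    have : Nat.Coprime 2 (orderOf k) := (Nat.Prime.coprime_iff_not_dvd Nat.prime_two).mpr hk
    exact Nat.Coprime.pow_left 2 this
  obtain ⟨m, hm⟩ := exists_pow_eq_self_of_coprime h1
  have h2 : ∀ j : ℕ, (k ^ 4) ^ j • n = n := by
    intro j
    induction j with
    | zero => simp
    | succ j ih => rw [pow_succ, mul_smul, h, ih]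
  have h3 := h2 m
  rwa [hm] at h3

theorem not_dvd_of_mem {P : Subgroup Γ} [Finite P] (hP : IsPGroup 3 P) {k : Γ} (hk : k ∈ P) :
    ¬ 2 ∣ orderOf k := by
  obtain ⟨j, hj⟩ := hP ⟨k, hk⟩
  have h1 : k ^ 3 ^ j = 1 := by simpa using congrArg Subtype.val hj
  intro hd
  have h2 := hd.trans (orderOf_dvd_of_pow_eq_one h1)
  have h3 := Nat.Prime.dvd_of_dvd_pow Nat.prime_two h2
  norm_num at h3

namespace Blk

variable {a f : Γ} {n : M}

theorem eq_one_of_sq {k : Γ} [FaithfulSMul Γ M] (hk : ¬ 2 ∣ orderOf k) (h : ∀ m : M, k • k • m = m) :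
    k = 1 := by
  refine FaithfulSMul.eq_of_smul_eq_smul (α := M) fun m => ?_
  rw [one_smul]
  refine smul_eq_of_four hk ?_
  have : k ^ 4 • m = k • k • k • k • m := by simp only [pow_succ, pow_zero, one_mul, mul_smul]
  rw [this, h, h]

/-- if `f' n = f n` then `f' = f` -/
theorem eq_of_fn [FaithfulSMul Γ M] {f' : Γ} {P : Subgroup Γ} [Finite P] (hP : IsPGroup 3 P)
    (h : Blk a f n) (h' : Blk a f' n) (hf : f ∈ P) (hf' : f' ∈ P) (e : f' • n = f • n) : f' = f := by
  have hk := not_dvd_of_mem hP (mul_mem (inv_mem hf) hf')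
  have hS : ∀ m, Sp n (f • n) ((f⁻¹ * f') • m + m) := by
    intro m
    have e1 : (f⁻¹ * f') • m + m = (f⁻¹ • f' • m + f' • m) + (f' • m + m) := by
      rw [add_assoc, add_left' h.two, mul_smul]
    rw [e1]
    refine Sp.add h.two ?_ ?_
    · have h1 := h.inv_blk.sp (f' • m)
      have h2 : f⁻¹ • n = n + f • n := by rw [inv_smul_eq_iff, ← h.ffn, h.f3]
      rw [h2] at h1
      rcases h1 with h1 | h1 | h1 | h1 <;> rw [h1]
      · left; rfl
      · right; left; rfl
      · right; right; right; rfl
      · right; right; left; exact add_left' h.two _ _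
    · have h1 := h'.sp m
      rwa [e] at h1
  have hn : (f⁻¹ * f') • n = n := by rw [mul_smul, e, inv_smul_smul]
  have hx : (f⁻¹ * f') • f • n = f • n := by
    rw [mul_smul, ← e, h'.ffn, e, ← h.ffn, inv_smul_smul]
  have hkS : ∀ s, Sp n (f • n) s → (f⁻¹ * f') • s = s := by
    rintro s (rfl | rfl | rfl | rfl)
    · simp
    · exact hn
    · exact hx
    · rw [smul_add, hn, hx]
  have h1 := eq_one_of_sq (M := M) hk fun m => by
    have h2 := hkS _ (hS m)
    rw [smul_add] at h2
    have h3 : (f⁻¹ * f') • (f⁻¹ * f') • m + (f⁻¹ * f') • m = m + (f⁻¹ * f') • m := by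
      rw [h2, add_comm]
    exact add_right_cancel h3
  exact (inv_mul_eq_one.mp h1).symm

/-- uniqueness of the block -/
theorem unique [FaithfulSMul Γ M] {f' : Γ} {P : Subgroup Γ} [Finite P] (hP : IsPGroup 3 P)
    (h : Blk a f n) (h' : Blk a f' n) (hf : f ∈ P) (hf' : f' ∈ P) : f' = f ∨ f' = f⁻¹ := by
  by_cases c1 : f' • n = f • n
  · exact Or.inl (eq_of_fn hP h h' hf hf' c1)
  by_cases c2 : f' • n = n + f • n
  · right
    refine eq_of_fn hP h.inv_blk h' (inv_mem hf) hf' ?_
    rw [c2]
    symm
    rw [inv_smul_eq_iff, ← h.ffn, h.f3]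
  exfalso
  have e4 : ∀ (k : Γ) (m : M), k ^ 4 • m = k • k • k • k • m := by
    intro k m; simp only [pow_succ, pow_zero, one_mul, mul_smul]
  have f3n := h.ffn
  have f3n' := h'.ffn
  have tw := h.two
  -- normal forms modulo `m + m = 0`
  rcases h.key h' with k1 | k1 <;> rcases h'.key h with k2 | k2
  · -- (0,0): `k = f² f'`
    have hk := not_dvd_of_mem hP (mul_mem (mul_mem hf hf) hf')
    have h1 : (f * f * f') • n = f' • n + n + f • n := by
      rw [mul_smul, mul_smul, k1, smul_add, k1]
    have h2 : (f * f * f') • (f' • n + f • n) = f' • n + f • n := by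
      have : f' • (f' • n + f • n) = f' • n + f • n := by
        rw [smul_add, f3n', k2]
        calc n + f' • n + (f • n + n) = f' • n + f • n + (n + n) := by abel
          _ = _ := by rw [tw, add_zero]
      rw [mul_smul, this, mul_smul]
      have h3 : f • (f' • n + f • n) = f' • n + f • n := by
        rw [smul_add, f3n, k1]
        calc f' • n + n + (n + f • n) = f' • n + f • n + (n + n) := by abel
          _ = _ := by rw [tw, add_zero]
      rw [h3, h3]
    have h5 : (f * f * f') • (f' • n + n + f • n) = n := by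
      have : f' • n + n + f • n = n + (f' • n + f • n) := by abel
      rw [this, smul_add, h2, h1]
      calc f' • n + n + f • n + (f' • n + f • n) = n + ((f' • n + f • n) + (f' • n + f • n)) := by abel
        _ = n := by rw [tw, add_zero]
    have h6 := smul_eq_of_four hk (n := n) (by rw [e4, h1, h5, h1, h5])
    rw [h1] at h6
    have h7 : f' • n + f • n = 0 := by
      have h8 : n + (f' • n + f • n) = n + 0 := by
        rw [add_zero]
        calc n + (f' • n + f • n) = f' • n + n + f • n := by abel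
          _ = n := h6
      exact add_left_cancel h8
    exact c1 (eq_of_add tw h7)
  · -- (0,1): `k = f f'`
    have hk := not_dvd_of_mem hP (mul_mem hf hf')
    have h1 : (f * f') • n = f' • n + n := by rw [mul_smul, k1]
    have h2 : (f * f') • (f' • n + n) = f • n := by
      rw [mul_smul, smul_add, f3n']
      have : n + f' • n + f' • n = n := by rw [add_assoc, tw, add_zero]
      rw [this]
    have h3 : (f * f') • (f • n) = f • n + f' • n := by
      rw [mul_smul, k2, smul_add, f3n, k1]
      calc n + f • n + (f' • n + n) = f • n + f' • n + (n + n) := by abel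
        _ = _ := by rw [tw, add_zero]
    have h4 : (f * f') • (f • n + f' • n) = n := by
      have e : f' • n = (f' • n + n) + n := by rw [add_assoc, tw, add_zero]
      rw [smul_add, h3]
      have e2 : (f * f') • f' • n = f • n + (f' • n + n) := by
        conv_lhs => rw [e]
        rw [smul_add, h2, h1]
      rw [e2]
      calc f • n + f' • n + (f • n + (f' • n + n)) = (f • n + f' • n) + (f • n + f' • n) + n := by abel
        _ = n := by rw [tw, zero_add]
    have h6 := smul_eq_of_four hk (n := n) (by rw [e4, h1, h2, h3, h4])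
    rw [h1] at h6
    have : f' • n = 0 := by
      have h8 : f' • n + n = 0 + n := by rw [h6, zero_add]
      exact add_right_cancel h8
    exact h'.fn_ne0 this
  · -- (1,0): `k = f' f`
    have hk := not_dvd_of_mem hP (mul_mem hf' hf)
    have h1 : (f' * f) • n = f • n + n := by rw [mul_smul, k2]
    have h2 : (f' * f) • (f • n + n) = f' • n := by
      rw [mul_smul, smul_add, f3n]
      have : n + f • n + f • n = n := by rw [add_assoc, tw, add_zero]
      rw [this]
    have h3 : (f' * f) • (f' • n) = f' • n + f • n := by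
      rw [mul_smul, k1, smul_add, f3n', k2]
      calc n + f' • n + (f • n + n) = f' • n + f • n + (n + n) := by abel
        _ = _ := by rw [tw, add_zero]
    have h4 : (f' * f) • (f' • n + f • n) = n := by
      have e : f • n = (f • n + n) + n := by rw [add_assoc, tw, add_zero]
      rw [smul_add, h3]
      have e2 : (f' * f) • f • n = f' • n + (f • n + n) := by
        conv_lhs => rw [e]
        rw [smul_add, h2, h1]
      rw [e2]
      calc f' • n + f • n + (f' • n + (f • n + n)) = (f' • n + f • n) + (f' • n + f • n) + n := by abel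
        _ = n := by rw [tw, zero_add]
    have h6 := smul_eq_of_four hk (n := n) (by rw [e4, h1, h2, h3, h4])
    rw [h1] at h6
    have : f • n = 0 := by
      have h8 : f • n + n = 0 + n := by rw [h6, zero_add]
      exact add_right_cancel h8
    exact h.fn_ne0 this
  · -- (1,1): `k = f f'`
    have hk := not_dvd_of_mem hP (mul_mem hf hf')
    have h1 : (f * f') • n = f' • n + f • n := by rw [mul_smul, k1]
    have h2 : (f * f') • (f' • n + f • n) = n := by
      rw [mul_smul, smul_add, f3n', k2]
      have : n + f' • n + (f • n + f' • n) = f • n + n := by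
        calc n + f' • n + (f • n + f' • n) = f • n + n + (f' • n + f' • n) := by abel
          _ = _ := by rw [tw, add_zero]
      rw [this, smul_add, f3n]
      rw [add_assoc, tw, add_zero]
    have h6 := smul_eq_of_four hk (n := n) (by rw [e4, h1, h2, h1, h2])
    rw [h1] at h6
    apply c2
    have h8 : (f' • n + f • n) + f • n = n + f • n := by rw [h6]
    rw [add_assoc, tw, add_zero] at h8
    exact h8

end Blk

/-! ### existence and commuting -/

section Exist

variable [FaithfulSMul Γ M]

/-- `[h, a]` for `h ∈ O₃` -/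
theorem comm_blk [Finite Γ] (two : ∀ m : M, m + m = 0) {a : Γ} {n : M} (hTv : Tv a n) {h : Γ}
    (hh : h ∈ pCore 3 Γ) (hne : h * a * h⁻¹ * a⁻¹ ≠ 1) : Blk a (h * a * h⁻¹ * a⁻¹) n := by
  have haa : a * a = 1 := by
    refine FaithfulSMul.eq_of_smul_eq_smul (α := M) fun m => ?_
    rw [mul_smul, one_smul, hTv.sq two]
  have hainv : a⁻¹ = a := inv_eq_of_mul_eq_one_left haa
  have hN : (pCore 3 Γ).Normal := Lib.Cores.pCore_normal 3
  refine ⟨two, hTv, haa, hne, ?_, ?_⟩
  · calc a * (h * a * h⁻¹ * a⁻¹) * a⁻¹ = a * h * a * h⁻¹ * (a⁻¹ * a⁻¹) := by simp only [mul_assoc]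
      _ = a * h * a * h⁻¹ := by rw [hainv, haa, mul_one]
      _ = a * h * a⁻¹ * h⁻¹ := by rw [hainv]
      _ = (h * a * h⁻¹ * a⁻¹)⁻¹ := by group
  · have h1 : h * a * h⁻¹ * a⁻¹ ∈ pCore 3 Γ := by
      have : h * a * h⁻¹ * a⁻¹ = h * (a * h⁻¹ * a⁻¹) := by group
      rw [this]
      exact mul_mem hh (hN.conj_mem _ (inv_mem hh) a)
    exact not_dvd_of_mem (Lib.Cores.pCore_isPGroup 3) h1

/-- existence of an element of `O₃` inverted by `a` -/
theorem exists_inverted [Finite Γ] [Group.IsSolvable Γ] (ho : pCore 2 Γ = ⊥) (two : ∀ m : M, m + m = 0)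
    {a : Γ} {n : M} (hTv : Tv a n) (ha : a ≠ 1) : ∃ f ∈ pCore 3 Γ, Blk a f n := by
  by_contra hcon
  push Not at hcon
  have haa : a * a = 1 := by
    refine FaithfulSMul.eq_of_smul_eq_smul (α := M) fun m => ?_
    rw [mul_smul, one_smul, hTv.sq two]
  have hainv : a⁻¹ = a := inv_eq_of_mul_eq_one_left haa
  have hf2 : Fact (Nat.Prime 2) := ⟨Nat.prime_two⟩
  -- `a` centralises every `O_p`
  have hp : ∀ (p : ℕ), p.Prime → ∀ h ∈ pCore p Γ, h * a * h⁻¹ * a⁻¹ = 1 := by
    intro p hp h hh
    have hN : (pCore p Γ).Normal := Lib.Cores.pCore_normal p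
    have hmem : h * a * h⁻¹ * a⁻¹ ∈ pCore p Γ := by
      have : h * a * h⁻¹ * a⁻¹ = h * (a * h⁻¹ * a⁻¹) := by group
      rw [this]
      exact mul_mem hh (hN.conj_mem _ (inv_mem hh) a)
    by_cases hp2 : p = 2
    · rw [hp2, ho] at hmem
      exact mem_bot.mp hmem
    by_cases hp3 : p = 3
    · subst hp3
      by_contra hne
      exact hcon _ hmem (comm_blk two hTv hh hne)
    · obtain ⟨j, hj⟩ := Lib.Cores.pCore_isPGroup (G := Γ) p ⟨_, hmem⟩
      have h1 : (h * a * h⁻¹ * a⁻¹) ^ p ^ j = 1 := by simpa using congrArg Subtype.val hj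
      have h2 : ¬ 2 ∣ orderOf ((h * a * h⁻¹) * a) := by
        rw [hainv] at h1
        intro hd
        have h3 := Nat.Prime.dvd_of_dvd_pow Nat.prime_two (hd.trans (orderOf_dvd_of_pow_eq_one h1))
        exact hp2 ((Nat.prime_dvd_prime_iff_eq Nat.prime_two hp).mp h3).symm
      have h3 := pair two (hTv.conj h) hTv h2
      rw [hainv] at h1 ⊢
      have h4 : orderOf (h * a * h⁻¹ * a) ∣ Nat.gcd 3 (p ^ j) :=
        Nat.dvd_gcd (orderOf_dvd_of_pow_eq_one h3) (orderOf_dvd_of_pow_eq_one h1)
      have h5 : Nat.gcd 3 (p ^ j) = 1 :=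
        Nat.Coprime.pow_right j ((Nat.coprime_primes Nat.prime_three hp).mpr (Ne.symm hp3))
      rw [h5, Nat.dvd_one, orderOf_eq_one_iff] at h4
      exact h4
  have hc : a ∈ centralizer (fittingSubgroup Γ : Set Γ) := by
    rw [Lib.Cores.fittingSubgroup_eq_iSup_pCore]
    have : (⨆ p : Nat.Primes, pCore (p : ℕ) Γ) ≤ centralizer ({a} : Set Γ) := by
      refine iSup_le fun p => ?_
      intro h hh
      rw [mem_centralizer_singleton_iff]
      have := hp p p.2 h hh
      calc h * a = (h * a * h⁻¹ * a⁻¹) * (a * h) := by group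
        _ = a * h := by rw [this, one_mul]
    rw [mem_centralizer_iff]
    intro h hh
    exact mem_centralizer_singleton_iff.mp (this hh)
  have h1 := Cfsg.Agent.S0044.result hc
  have h2 : fittingSubgroup Γ ≤ pPrimeCore 2 Γ := by
    rw [Lib.Cores.fittingSubgroup_eq_iSup_pCore]
    refine iSup_le fun p => ?_
    have hp : Fact (p : ℕ).Prime := ⟨p.2⟩
    by_cases hp2 : (p : ℕ) = 2
    · rw [hp2, ho]
      exact bot_le
    · refine Lib.Cores.le_pPrimeCore (Lib.Cores.pCore_normal _) ?_
      obtain ⟨n, hn⟩ := IsPGroup.iff_card.mp (Lib.Cores.pCore_isPGroup (G := Γ) (p : ℕ))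
      rw [hn]
      exact Nat.Coprime.pow_left n ((Nat.coprime_primes p.2 Nat.prime_two).mpr hp2)
  have h3 := h2 h1
  have h4 := Lib.Cores.pPrimeCore_coprime (G := Γ) 2
  have h5 : orderOf a ∣ Nat.gcd (Nat.card (pPrimeCore 2 Γ)) 2 := by
    refine Nat.dvd_gcd ?_ (orderOf_dvd_of_pow_eq_one (by rw [pow_two, haa]))
    have := orderOf_dvd_natCard (⟨a, h3⟩ : pPrimeCore 2 Γ)
    rwa [← orderOf_mk a h3] 
  rw [h4, Nat.dvd_one, orderOf_eq_one_iff] at h5
  exact ha h5

/-- every `[h, a]`, `h ∈ O₃`, lies in `{1, f, f⁻¹}` -/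
theorem comm_cases [Finite Γ] {a f : Γ} {n : M} (hb : Blk a f n) (hf : f ∈ pCore 3 Γ) {h : Γ}
    (hh : h ∈ pCore 3 Γ) : h * a * h⁻¹ * a⁻¹ = 1 ∨ h * a * h⁻¹ * a⁻¹ = f ∨ h * a * h⁻¹ * a⁻¹ = f⁻¹ := by
  by_cases hne : h * a * h⁻¹ * a⁻¹ = 1
  · exact Or.inl hne
  · right
    have hN : (pCore 3 Γ).Normal := Lib.Cores.pCore_normal 3
    have hmem : h * a * h⁻¹ * a⁻¹ ∈ pCore 3 Γ := by
      have : h * a * h⁻¹ * a⁻¹ = h * (a * h⁻¹ * a⁻¹) := by group
      rw [this]
      exact mul_mem hh (hN.conj_mem _ (inv_mem hh) a)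
    exact Blk.unique (Lib.Cores.pCore_isPGroup 3) hb (comm_blk hb.two hb.tv hh hne) hf hmem

/-- `f` is central in `O₃` -/
theorem central [Finite Γ] {a f : Γ} {n : M} (hb : Blk a f n) (hf : f ∈ pCore 3 Γ) {h : Γ}
    (hh : h ∈ pCore 3 Γ) : h * f = f * h := by
  have hff : f⁻¹ = f * f := hb.f_inv
  have hinv : a⁻¹ = a := hb.ainv
  -- `h f² h⁻¹ = [hf, a] [h, a]⁻¹`
  have e1 : h * f⁻¹ * h⁻¹ = (h * f * a * (h * f)⁻¹ * a⁻¹) * (h * a * h⁻¹ * a⁻¹)⁻¹ := by
    have h1 : f * a * f⁻¹ = f * f * a := by
      have h2 := hb.inv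
      rw [hinv] at h2
      calc f * a * f⁻¹ = f * a * (a * f * a) := by rw [h2]
        _ = f * (a * a) * f * a := by group
        _ = f * f * a := by rw [hb.aa, mul_one]
    calc h * f⁻¹ * h⁻¹ = h * (f * f) * h⁻¹ := by rw [hff]
      _ = h * (f * f * a) * h⁻¹ * a⁻¹ * (a * h * a⁻¹ * h⁻¹) := by group
      _ = h * (f * a * f⁻¹) * h⁻¹ * a⁻¹ * (a * h * a⁻¹ * h⁻¹) := by rw [h1]
      _ = _ := by group
  have e2 : h * f⁻¹ * h⁻¹ = 1 ∨ h * f⁻¹ * h⁻¹ = f ∨ h * f⁻¹ * h⁻¹ = f⁻¹ := by
    rw [e1]
    have c1 : f⁻¹ * f⁻¹ = f := by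
      have := hb.inv_blk.f_inv
      rw [inv_inv] at this
      exact this.symm
    rcases comm_cases hb hf (mul_mem hh hf) with h1 | h1 | h1 <;>
      rcases comm_cases hb hf hh with h2 | h2 | h2 <;> rw [h1, h2]
    · left; simp
    · right; right; simp
    · right; left; simp
    · right; left; simp
    · left; simp
    · right; right; rw [inv_inv, ← hff]
    · right; right; simp
    · right; left; exact c1
    · left; simp
  have e3 : h * f⁻¹ * h⁻¹ = f ∨ h * f⁻¹ * h⁻¹ = f⁻¹ := by
    rcases e2 with h1 | h1 | h1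
    · exfalso
      apply hb.ne
      have h2 : f⁻¹ = h⁻¹ * (h * f⁻¹ * h⁻¹) * h := by group
      rw [h1] at h2
      have h3 : f⁻¹ = 1 := by rw [h2]; group
      exact inv_eq_one.mp h3
    · exact Or.inl h1
    · exact Or.inr h1
  rcases e3 with h1 | h1
  · -- `h` inverts `f`, so `h²` centralises it
    exfalso
    have h2 : h * f * h⁻¹ = f⁻¹ := by
      have : h * f * h⁻¹ = (h * f⁻¹ * h⁻¹)⁻¹ := by group
      rw [this, h1]
    have h3 : ∀ j : ℕ, (h ^ 2) ^ j * f * ((h ^ 2) ^ j)⁻¹ = f := by
      intro j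
      induction j with
      | zero => simp
      | succ j ih =>
        calc (h ^ 2) ^ (j + 1) * f * ((h ^ 2) ^ (j + 1))⁻¹
            = (h ^ 2) ^ j * (h * (h * f * h⁻¹) * h⁻¹) * ((h ^ 2) ^ j)⁻¹ := by
              rw [pow_succ, pow_two]; group
          _ = f := by rw [h2, h1, ih]
    have h4 : Nat.Coprime 2 (orderOf h) := (Nat.Prime.coprime_iff_not_dvd Nat.prime_two).mpr
      (not_dvd_of_mem (Lib.Cores.pCore_isPGroup 3) hh)
    obtain ⟨j, hj⟩ := exists_pow_eq_self_of_coprime h4
    have h5 := h3 j
    rw [hj, h2] at h5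
    apply hb.ne
    have h6 : f * f = 1 := by
      calc f * f = f⁻¹ * f := by rw [h5]
        _ = 1 := by group
    rw [← hff] at h6
    exact inv_eq_one.mp h6
  · have h2 : h * f * h⁻¹ = f := by
      have : h * f * h⁻¹ = (h * f⁻¹ * h⁻¹)⁻¹ := by group
      rw [this, h1, inv_inv]
    calc h * f = (h * f * h⁻¹) * h := by group
      _ = f * h := by rw [h2]

/-- two commuting blocks: equal, or `f'` fixes `n` -/
theorem comm_block [Finite Γ] {a f a' f' : Γ} {n n' : M} (hb : Blk a f n) (hb' : Blk a' f' n')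
    (hf : f ∈ pCore 3 Γ) (hf' : f' ∈ pCore 3 Γ) : f' = f ∨ f' = f⁻¹ ∨ f' • n = n := by
  have two := hb.two
  have hcomm : f' * f = f * f' := central hb hf hf'
  have hc : ∀ m : M, f' • f • m = f • f' • m := fun m => by rw [← mul_smul, hcomm, mul_smul]
  have hfS : ∀ s, Sp n (f • n) s → Sp n (f • n) (f • s) := by
    intro s hs
    have e : f • s = (f • s + s) + s := by rw [add_assoc, two, add_zero]
    rw [e]
    exact Sp.add two (hb.sp s) hs
  -- `f' n ∈ S`
  have h1 : Sp n (f • n) (f' • n) := by
    have h2 := hb.sp (f' • n)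
    have e1 : f • f' • n + f' • n = f • f • f' • n := by
      calc f • f' • n + f' • n = f' • f • n + f' • n := by rw [hc]
        _ = f' • (f • n + n) := (smul_add _ _ _).symm
        _ = f' • f • f • n := by rw [hb.ffn, add_comm]
        _ = f • f • f' • n := by rw [hc, hc]
    rw [e1] at h2
    have h3 := hfS _ h2
    rwa [hb.f3] at h3
  have hn0 : f' • n ≠ 0 := fun e => hb.n_ne (by
    have := congrArg (f'⁻¹ • ·) e
    simpa using this)
  -- reduction to `f' n = f n`
  have main : ∀ {f : Γ}, Blk a f n → f ∈ pCore 3 Γ → f' • n = f • n → f' = f := by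
    intro f hb hf e
    have hcomm : f' * f = f * f' := central hb hf hf'
    have hc : ∀ m : M, f' • f • m = f • f' • m := fun m => by rw [← mul_smul, hcomm, mul_smul]
    have hk := not_dvd_of_mem (Lib.Cores.pCore_isPGroup 3) (mul_mem (inv_mem hf) hf')
    -- the block of `f'` is the block of `f`
    have hs : Sp n' (f' • n') (f • f • n) := by
      have := hb'.sp n
      rw [e] at this
      rwa [hb.ffn, add_comm]
    have hS' : ∀ s, Sp n' (f' • n') s → Sp n (f • n) s := by
      have e1 : f' • f • f • n = n := by rw [hc, hc, e, hb.f3]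
      have e2 : f' • n = f • n := e
      have hs0 : f • f • n ≠ 0 := by
        rw [hb.ffn]
        intro h0
        have := eq_of_add two h0
        exact hb.fn_ne this.symm
      have hmem1 : Sp n (f • n) (f • f • n) := by rw [hb.ffn]; right; right; right; rfl
      have hf2' : f' • f' • n' = n' + f' • n' := hb'.ffn
      rcases hs with h0 | h0 | h0 | h0
      · exact absurd h0 hs0
      · -- `n' = f f n`
        have h3 : f' • n' = n := by rw [← h0, e1]
        rintro s (rfl | rfl | rfl | rfl)
        · left; rfl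
        · rw [← h0]; exact hmem1
        · rw [h3]; right; left; rfl
        · rw [h3, ← h0]; exact Sp.add two hmem1 (Or.inr (Or.inl rfl))
      · -- `f' n' = f f n`
        have h3 : f' • f' • n' = n := by rw [← h0, e1]
        have h4 : n' = f • n := by
          have := hb'.f3 n'
          rw [h3, e2] at this
          exact this.symm
        have hm : Sp n (f • n) n' := by rw [h4]; right; right; left; rfl
        have hm2 : Sp n (f • n) (f' • n') := by rw [← h0]; exact hmem1
        rintro s (rfl | rfl | rfl | rfl)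
        · left; rfl
        · exact hm
        · exact hm2
        · exact Sp.add two hm hm2
      · -- `n' + f' n' = f f n`
        have h3 : n' = n := by
          have := hb'.f3 n'
          rw [hf2', ← h0, e1] at this
          exact this.symm
        have hm : Sp n (f • n) n' := by rw [h3]; right; left; rfl
        have hm2 : Sp n (f • n) (f' • n') := by rw [h3, e2]; right; right; left; rfl
        rintro s (rfl | rfl | rfl | rfl)
        · left; rfl
        · exact hm
        · exact hm2
        · exact Sp.add two hm hm2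
    have hn : (f⁻¹ * f') • n = n := by rw [mul_smul, e, inv_smul_smul]
    have hx : (f⁻¹ * f') • f • n = f • n := by
      rw [mul_smul, hc, inv_smul_smul, e]
    have hkS : ∀ s, Sp n (f • n) s → (f⁻¹ * f') • s = s := by
      rintro s (rfl | rfl | rfl | rfl)
      · simp
      · exact hn
      · exact hx
      · rw [smul_add, hn, hx]
    have hS : ∀ m, Sp n (f • n) ((f⁻¹ * f') • m + m) := by
      intro m
      have e1 : (f⁻¹ * f') • m + m = (f⁻¹ • f' • m + f' • m) + (f' • m + m) := by
        rw [add_assoc, add_left' two, mul_smul]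
      rw [e1]
      refine Sp.add two ?_ (hS' _ (hb'.sp m))
      have h1 := hb.inv_blk.sp (f' • m)
      have h2 : f⁻¹ • n = n + f • n := by rw [inv_smul_eq_iff, ← hb.ffn, hb.f3]
      rw [h2] at h1
      rcases h1 with h1 | h1 | h1 | h1 <;> rw [h1]
      · left; rfl
      · right; left; rfl
      · right; right; right; rfl
      · right; right; left; exact add_left' two _ _
    have h1 := Blk.eq_one_of_sq (M := M) hk fun m => by
      have h2 := hkS _ (hS m)
      rw [smul_add] at h2
      have h3 : (f⁻¹ * f') • (f⁻¹ * f') • m + (f⁻¹ * f') • m = m + (f⁻¹ * f') • m := by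
        rw [h2, add_comm]
      exact add_right_cancel h3
    exact (inv_mul_eq_one.mp h1).symm
  rcases h1 with h1 | h1 | h1 | h1
  · exact absurd h1 hn0
  · exact Or.inr (Or.inr h1)
  · exact Or.inl (main hb hf h1)
  · right; left
    refine main hb.inv_blk (inv_mem hf) ?_
    rw [h1]
    symm
    rw [inv_smul_eq_iff, ← hb.ffn, hb.f3]

/-- **Transvections in solvable groups with `O₂ = 1`.** -/
theorem exists_block [Finite Γ] [Group.IsSolvable Γ] (ho : pCore 2 Γ = ⊥) (two : ∀ m : M, m + m = 0)
    {a : Γ} {n : M} (hTv : Tv a n) (ha : a ≠ 1) :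
    ∃ f : Γ, Blk a f n ∧ f ^ 3 = 1 ∧ f • n ≠ n ∧ f • f • n = n + f • n ∧
      (∀ m, Sp n (f • n) (f • m + m)) ∧
      (∀ c : Γ, c * a * c⁻¹ = a → c * f * c⁻¹ = f ∨ c * f * c⁻¹ = f⁻¹) ∧
      ∀ c : Γ, c * f * c⁻¹ = f ∨ c * f * c⁻¹ = f⁻¹ ∨ (c * f * c⁻¹) • n = n := by
  obtain ⟨f, hf, hb⟩ := exists_inverted ho two hTv ha
  have hN : (pCore 3 Γ).Normal := Lib.Cores.pCore_normal 3
  have hconj : ∀ c : Γ, Blk (c * a * c⁻¹) (c * f * c⁻¹) (c • n) := by
    intro c
    refine ⟨two, hTv.conj c, ?_, ?_, ?_, ?_⟩
    · calc c * a * c⁻¹ * (c * a * c⁻¹) = c * (a * a) * c⁻¹ := by group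
        _ = 1 := by rw [hb.aa]; group
    · intro e
      apply hb.ne
      have : f = c⁻¹ * (c * f * c⁻¹) * c := by group
      rw [this, e]; group
    · calc c * a * c⁻¹ * (c * f * c⁻¹) * (c * a * c⁻¹)⁻¹ = c * (a * f * a⁻¹) * c⁻¹ := by group
        _ = (c * f * c⁻¹)⁻¹ := by rw [hb.inv]; group
    · have : orderOf (c * f * c⁻¹) = orderOf f := by
        have := orderOf_injective (MulAut.conj c).toMonoidHom (MulAut.conj c).injective f
        exact this
      rw [this]
      exact hb.odd
  refine ⟨f, hb, hb.cube, hb.fn_ne, hb.ffn, hb.sp, fun c hc => ?_, fun c => ?_⟩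
  · have h1 := hconj c
    have h2 : c • n = n ∨ c • n ≠ n := em _
    rw [hc] at h1
    -- the centre of `a` is `n`
    have h3 : c • n = n := by
      have h4 := h1.tv (f • n)
      rw [hb.a_fn] at h4
      rcases h4 with h4 | h4
      · exfalso
        apply hb.n_ne
        have : f • n + n = f • n + 0 := by rw [h4, add_zero]
        exact add_left_cancel this
      · exact (add_left_cancel h4).symm
    rw [h3] at h1
    exact Blk.unique (Lib.Cores.pCore_isPGroup 3) hb h1 hf (hN.conj_mem f hf c)
  · exact comm_block hb (hconj c) hf (hN.conj_mem f hf c)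

end Exist

end Cfsg.Agent.MinSimple.OddNatA
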