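import Cfsg.Agent.MinSimple.OddLine
import Cfsg.Agent.MinSimple.OddNatA
import Cfsg.Agent.MinSimple.Sec
import Cfsg.Agent.MinSimple.Killing
import Cfsg.Agent.MinSimple.NatTri

/-!
# (E1)(b), `s = 1`, `k = 1`, rank one: from the point-line geometry to `NTri`

* `Nat1 T V z`: the hypotheses; `exists_f`: a 3-element over the transvection.
-/

set_option autoImplicit false
set_option linter.unusedSectionVars false

namespace Cfsg.Agent.MinSimple.OddNatB

open Subgroup Cfsg Cfsg.Agent.ZN Cfsg.Agent.MinSimple.Geo Cfsg.Agent.MinSimple.BTwoA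
  Cfsg.Agent.MinSimple.OddLine
open Cfsg.Agent.MinSimple.BTwoB (mem_kq kq_le centralizer_le_normalizer_kq le_kq z_mem_of_le)
open Cfsg.Agent.ZN.Block (conj_mem_of_normalizer conj_mem_of_normalizer' le_normalizer_of_forall
  mem_normalizer_of)
open Cfsg.Agent.MinSimple.Sec (Sec Mod)
open Cfsg.Agent.MinSimple.Sec.Mod
open Cfsg.Agent.MinSimple.OddNatA (Tv Sp Blk exists_block)

local notation "mkM" => Cfsg.Agent.MinSimple.Sec.Mod.mk

universe u

variable {G : Type u} [Group G] [Finite G] {T V : Subgroup G} {z : G}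

theorem sec (h : Odd T V z) : Sec (ws V z) (centralizer ({z} : Set G)) z where
  zN := h.V_le_ws h.z_mem
  zz := h.zz
  NC := h.ws_le_centralizer
  zC := fun _ hc => h.z_comm hc
  CN := fun _ hc _ hn => conj_mem_of_normalizer (Geo.centralizer_le_normalizer_ws V z) hc hn
  sq := fun _ hn => Or.inl (h.ws_sq hn)

theorem rep_eq_one_iff (h : Odd T V z) {c : G} (hc : c ∈ centralizer ({z} : Set G)) :
    rep (sec h) ⟨c, hc⟩ = 1 ↔ c ∈ kq V z := by
  rw [rep_eq_one, mem_kq]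
  constructor
  · intro h1
    refine ⟨hc, h1, fun w hw => ?_⟩
    have hw' : c⁻¹ * w * c ∈ ws V z := by
      have := (sec h).CN c⁻¹ (inv_mem hc) w hw
      rwa [inv_inv] at this
    have h2 := h1 _ hw'
    have e : c⁻¹ * w * c * w⁻¹ = (c * (c⁻¹ * w * c) * c⁻¹ * (c⁻¹ * w * c)⁻¹)⁻¹ := by group
    rw [e]
    exact inv_mem h2
  · intro h1
    exact h1.2.1

theorem rep_eq_one_iff' (h : Odd T V z) (c : centralizer ({z} : Set G)) :
    rep (sec h) c = 1 ↔ (c : G) ∈ kq V z := rep_eq_one_iff h c.2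

/-- the group induced on `ws V z / ⟨z⟩` has no normal 2-subgroup -/
theorem pCore_range (h : Odd T V z) : pCore 2 (rep (sec h)).range = ⊥ := by
  rw [eq_bot_iff]
  intro x hx
  let N : Subgroup G := ((pCore 2 (rep (sec h)).range).comap (rep (sec h)).rangeRestrict).map
    (centralizer ({z} : Set G)).subtype
  have hN : (pCore 2 (rep (sec h)).range).Normal := Lib.Cores.pCore_normal 2
  have hNC : N ≤ centralizer ({z} : Set G) := map_subtype_le _
  have h1 : N ≤ kq V z := by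
    refine le_kq h.toGeo hNC ?_ ?_
    · refine le_normalizer_of_forall fun c hc y hy => ?_
      obtain ⟨y, hy, rfl⟩ := hy
      refine ⟨⟨c, hc⟩ * y * ⟨c, hc⟩⁻¹, ?_, rfl⟩
      rw [SetLike.mem_coe, mem_comap, map_mul, map_mul, map_inv]
      exact hN.conj_mem _ hy _
    · rintro _ ⟨y, hy, rfl⟩
      obtain ⟨k, hk⟩ := Lib.Cores.pCore_isPGroup (G := (rep (sec h)).range) 2 ⟨_, hy⟩
      refine ⟨k, ?_⟩
      have h2 : (rep (sec h)).rangeRestrict y ^ 2 ^ k = 1 := by simpa using congrArg Subtype.val hk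
      rw [← map_pow] at h2
      have h3 : rep (sec h) (y ^ 2 ^ k) = 1 := congrArg Subtype.val h2
      exact (rep_eq_one_iff' h (y ^ 2 ^ k)).mp h3
  obtain ⟨y, hy⟩ := (rep (sec h)).rangeRestrict_surjective x
  have h2 : (y : G) ∈ kq V z := h1 ⟨y, by rw [SetLike.mem_coe, mem_comap, hy]; exact hx, rfl⟩
  rw [mem_bot, ← hy]
  exact Subtype.ext ((rep_eq_one_iff' h y).mpr h2)

/-- replacing an element by a power which is a 3-element -/
theorem exists_three {Γ : Type*} [Group Γ] {C : Type*} [Group C] [Finite C] (ρ : C →* Γ) (y : C)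
    (hy : ρ y ^ 3 = 1) : ∃ y' : C, ρ y' = ρ y ∧ ∃ j : ℕ, y' ^ 3 ^ j = 1 := by
  have h0 : orderOf y ≠ 0 := (orderOf_pos y).ne'
  obtain ⟨j, m, hm, hj⟩ := Nat.exists_eq_pow_mul_and_not_dvd h0 3 (by norm_num)
  have key : ∀ e : ℕ, e % 3 = 1 → ρ (y ^ e) = ρ y := by
    intro e he
    rw [map_pow]
    have : e = 3 * (e / 3) + 1 := by omega
    rw [this, pow_add, pow_mul, hy, one_pow, one_mul, pow_one]
  have hpow : ∀ e : ℕ, m ∣ e → (y ^ e) ^ 3 ^ j = 1 := by
    rintro e ⟨e', rfl⟩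
    rw [← pow_mul]
    have : m * e' * 3 ^ j = orderOf y * e' := by rw [hj]; ring
    rw [this, pow_mul, pow_orderOf_eq_one, one_pow]
  have h3 : m % 3 = 1 ∨ m % 3 = 2 := by omega
  rcases h3 with h3 | h3
  · exact ⟨y ^ m, key m h3, j, hpow m dvd_rfl⟩
  · exact ⟨y ^ (2 * m), key _ (by omega), j, hpow _ ⟨2, by ring⟩⟩

instance (h : Odd T V z) : FaithfulSMul (Aut (sec h)) (Mod (sec h)) := ⟨fun hh => aut_ext hh⟩

instance (h : Odd T V z) : FaithfulSMul (rep (sec h)).range (Mod (sec h)) :=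
  ⟨fun hh => Subtype.ext (aut_ext hh)⟩

/-- **3-elements over a transvection.** -/
theorem exists_f (h : Odd T V z) (t : centralizer ({z} : Set G)) {n : Mod (sec h)}
    (hTv : ∀ m : Mod (sec h), t • m = m ∨ t • m = m + n) (ht : (t : G) ∉ kq V z) :
    ∃ y : centralizer ({z} : Set G), (∃ j : ℕ, y ^ 3 ^ j = 1) ∧ Blk (rep (sec h) t) (rep (sec h) y) n ∧
      (∀ c : centralizer ({z} : Set G), rep (sec h) c * rep (sec h) t * (rep (sec h) c)⁻¹ = rep (sec h) t →
        rep (sec h) c * rep (sec h) y * (rep (sec h) c)⁻¹ = rep (sec h) y ∨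
        rep (sec h) c * rep (sec h) y * (rep (sec h) c)⁻¹ = (rep (sec h) y)⁻¹) ∧
      ∀ c : centralizer ({z} : Set G),
        rep (sec h) c * rep (sec h) y * (rep (sec h) c)⁻¹ = rep (sec h) y ∨
        rep (sec h) c * rep (sec h) y * (rep (sec h) c)⁻¹ = (rep (sec h) y)⁻¹ ∨
        (rep (sec h) c * rep (sec h) y * (rep (sec h) c)⁻¹) • n = n := by
  have hsol : Group.IsSolvable (centralizer ({z} : Set G)) := h.solv _ (isTwoLocal_centralizer h.zz h.z_ne)
  have hsol' : Group.IsSolvable (rep (sec h)).range :=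
    Group.isSolvable_of_surjective (rep (sec h)).rangeRestrict_surjective
  have hfin : Finite (rep (sec h)).range :=
    Finite.of_surjective _ (rep (sec h)).rangeRestrict_surjective
  obtain ⟨f, hb, h3, h4, h5, h6, h7, h8⟩ := exists_block (Γ := (rep (sec h)).range) (M := Mod (sec h))
    (pCore_range h) add_self (a := (rep (sec h)).rangeRestrict t) (n := n) hTv (by
      intro e
      exact ht ((rep_eq_one_iff' h t).mp (congrArg Subtype.val e)))
  obtain ⟨y0, hy0⟩ := (rep (sec h)).rangeRestrict_surjective f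
  obtain ⟨y, hy, hj⟩ := exists_three (rep (sec h)).rangeRestrict y0 (by rw [hy0]; exact h3)
  rw [hy0] at hy
  have hy' : rep (sec h) y = (f : Aut (sec h)) := congrArg Subtype.val hy
  refine ⟨y, hj, ?_, fun c hc => ?_, fun c => ?_⟩
  · rw [hy']
    exact ⟨hb.two, hb.tv, congrArg Subtype.val hb.aa, fun e => hb.ne (Subtype.ext e),
      congrArg Subtype.val hb.inv, by rw [Subgroup.orderOf_coe]; exact hb.odd⟩
  · rw [hy']
    rcases h7 ((rep (sec h)).rangeRestrict c) (Subtype.ext hc) with e | e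
    · exact Or.inl (congrArg Subtype.val e)
    · exact Or.inr (congrArg Subtype.val e)
  · rw [hy']
    rcases h8 ((rep (sec h)).rangeRestrict c) with e | e | e
    · exact Or.inl (congrArg Subtype.val e)
    · exact Or.inr (Or.inl (congrArg Subtype.val e))
    · exact Or.inr (Or.inr e)

/-- an odd order element whose square commutes with `w` commutes with `w` -/
theorem comm_of_sq {C : Type*} [Group C] {y w : C} {j : ℕ} (hy : y ^ 3 ^ j = 1)
    (h2 : y * y * w = w * (y * y)) : y * w = w * y := by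
  have h1 : ¬ 2 ∣ orderOf y := by
    intro hd
    have h3 := Nat.Prime.dvd_of_dvd_pow Nat.prime_two (hd.trans (orderOf_dvd_of_pow_eq_one hy))
    norm_num at h3
  obtain ⟨m, hm⟩ := exists_pow_eq_self_of_coprime
    ((Nat.Prime.coprime_iff_not_dvd Nat.prime_two).mpr h1)
  have h3 : Commute (y ^ 2) w := by rw [pow_two]; exact h2
  have h4 := h3.pow_left m
  rw [hm] at h4
  exact h4

/-- a 3-element of `C_G(z)` fixing `w` modulo `z` commutes with `w` -/
theorem comm_of_mod {y w z : G} {j : ℕ} (hy : y ^ 3 ^ j = 1) (hz : z * z = 1) (hyz : y * z = z * y)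
    (h : y * w * y⁻¹ * w⁻¹ ∈ zpowers z) : y * w = w * y := by
  rcases (mem_zpowers_iff_of_mul_self hz).mp h with e | e
  · calc y * w = (y * w * y⁻¹ * w⁻¹) * (w * y) := by group
      _ = w * y := by rw [e, one_mul]
  · refine comm_of_sq hy ?_
    have h1 : y * w = z * (w * y) := by
      calc y * w = (y * w * y⁻¹ * w⁻¹) * (w * y) := by group
        _ = z * (w * y) := by rw [e]
    calc y * y * w = y * (y * w) := by group
      _ = (y * z) * w * y := by rw [h1]; group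
      _ = z * (y * w) * y := by rw [hyz]; group
      _ = (z * z) * w * (y * y) := by rw [h1]; group
      _ = w * (y * y) := by rw [hz, one_mul]

/-- natural block: `s = 1`, `k = 1`, rank one -/
structure Nat1 (T V : Subgroup G) (z : G) : Prop extends Odd T V z where
  nc : ∀ p q, p ∈ V → q ∈ V → p ≠ 1 → q ≠ 1 → p ≠ q → ∃ a ∈ ws V p, ∃ b ∈ ws V q, a * b ≠ b * a
  k1 : ∀ p q, p ∈ V → q ∈ V → p ≠ 1 → q ≠ 1 → p ≠ q →
    ∀ a ∈ ws V q, ∀ b ∈ ws V q, a ∉ kq V p → b ∉ kq V p → a * b ∈ kq V p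
  r1 : ∀ p q, p ∈ V → q ∈ V → p ≠ 1 → q ≠ 1 → p ≠ q →
    ∃ n ∈ ws V p, ∀ x ∈ ws V q, ∀ w ∈ ws V p, x * w * x⁻¹ * w⁻¹ ∈ zpowers p ∨
      x * w * x⁻¹ * w⁻¹ * n ∈ zpowers p

theorem Nat1.point (h : Nat1 T V z) {p : G} (hp : p ∈ V) (hp1 : p ≠ 1) :
    ∃ T' : Subgroup G, Nat1 T' V p := by
  obtain ⟨T', h'⟩ := h.toOdd.point hp hp1
  exact ⟨T', h', h.nc, h.k1, h.r1⟩

/-- `N_G(V)` interchanges two points of `V` -/
theorem exists_swap2 (h : Odd T V z) {p q : G} (hp : p ∈ V) (hq : q ∈ V) (hp1 : p ≠ 1) (hq1 : q ≠ 1)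
    (hpq : p ≠ q) : ∃ n ∈ normalizer (V : Set G), n * p * n⁻¹ = q ∧ n * q * n⁻¹ = p := by
  have hr : p * q ∈ V := mul_mem hp hq
  have hr1 : p * q ≠ 1 := fun e => hpq (by
    rw [mul_eq_one_iff_eq_inv.mp e, h.inv_eq hq])
  obtain ⟨w, hw, hwm⟩ := h.exists_swap' hr hr1
  have hn : w ∈ normalizer (V : Set G) := ll_le_normalizer h (kq_le_ll hr hr1 hw)
  refine ⟨w, hn, ?_, ?_⟩
  · rw [hwm p hp hp1 (fun e => hq1 (by simpa using e.symm)), h.comm hp hq, mul_assoc, h.sq p hp, mul_one]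
  · rw [hwm q hq hq1 (fun e => hp1 (by simpa using e.symm)), mul_assoc, h.sq q hq, mul_one]

namespace Nat1

variable (h : Nat1 T V z) {q : G} (hq : q ∈ V) (hq1 : q ≠ 1) (hqz : q ≠ z)

include h hq hq1 hqz

theorem zq_ne : z ≠ q := Ne.symm hqz

/-- `ws V q` is not contained in `kq V z` -/
theorem exists_a : ∃ a ∈ ws V q, a ∉ kq V z := by
  by_contra hcon
  push Not at hcon
  obtain ⟨n, hn, h1, h2⟩ := exists_swap2 h.toOdd h.z_mem hq h.z_ne hq1 (Ne.symm hqz)
  obtain ⟨a, ha, b, hb, hab⟩ := h.nc z q h.z_mem hq h.z_ne hq1 (Ne.symm hqz)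
  obtain ⟨T', h'⟩ := h.toOdd.point hq hq1
  apply hab
  have hle : ws V q ≤ kq V z := hcon
  have hle' : ws V z ≤ kq V q := by
    have := cj_mono (g := n) hle
    rwa [cj_ws, OddLine.cj_kq, h1, h2] at this
  have e1 := (mem_kq.mp (hle hb)).2.1 a ha
  have e2 := (mem_kq.mp (hle' ha)).2.1 b hb
  have hab' : a * b * a⁻¹ * b⁻¹ = (b * a * b⁻¹ * a⁻¹)⁻¹ := by group
  rw [hab'] at e2
  have e3 := inv_mem e2
  rw [inv_inv] at e3
  rcases (mem_zpowers_iff_of_mul_self h.zz).mp e1 with e4 | e4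
  · calc a * b = (b * a * b⁻¹ * a⁻¹)⁻¹ * (b * a) := by group
      _ = b * a := by rw [e4, inv_one, one_mul]
  · exfalso
    rw [e4] at e3
    rcases (mem_zpowers_iff_of_mul_self h'.zz).mp e3 with e5 | e5
    · exact h.z_ne e5
    · exact hqz e5.symm

theorem ws_q_le : ws V q ≤ centralizer ({z} : Set G) :=
  (h.toOdd.ws_le_centralizer_V hq hq1).trans (centralizer_le (Set.singleton_subset_iff.mpr h.z_mem))

/-- `x • m` for `x ∈ ws V q` is `m` or `m + n` -/
theorem exists_center : ∃ n, ∃ hn : n ∈ ws V z, ∀ x (hx : x ∈ ws V q), ∀ m : Mod (sec h.toOdd),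
    (⟨x, h.ws_q_le hq hq1 hqz hx⟩ : centralizer ({z} : Set G)) • m = m ∨
      (⟨x, h.ws_q_le hq hq1 hqz hx⟩ : centralizer ({z} : Set G)) • m = m + mkM (sec h.toOdd) n hn := by
  obtain ⟨n, hn, h1⟩ := h.r1 z q h.z_mem hq h.z_ne hq1 (Ne.symm hqz)
  refine ⟨n, hn, fun x hx m => ?_⟩
  obtain ⟨w, hw, rfl⟩ := mk_surj m
  have hc : x * w * x⁻¹ ∈ ws V z :=
    (sec h.toOdd).CN x (h.ws_q_le hq hq1 hqz hx) w hw
  have e0 : mkM (sec h.toOdd) (x * w * x⁻¹ * w⁻¹) (mul_mem hc (inv_mem hw)) =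
      mkM (sec h.toOdd) (x * w * x⁻¹) hc + mkM (sec h.toOdd) w hw := by
    rw [mk_mul hc (inv_mem hw), mk_inv]
  have e1 : (⟨x, h.ws_q_le hq hq1 hqz hx⟩ : centralizer ({z} : Set G)) • mkM (sec h.toOdd) w hw =
      mkM (sec h.toOdd) (x * w * x⁻¹) hc := rfl
  rcases h1 x hx w hw with e | e
  · left
    rw [e1]
    rw [(mk_eq_zero _).mpr e] at e0
    exact OddNatA.eq_of_add add_self e0.symm
  · right
    rw [e1]
    have e2 : mkM (sec h.toOdd) (x * w * x⁻¹ * w⁻¹ * n) (mul_mem (mul_mem hc (inv_mem hw)) hn) = 0 :=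
      (mk_eq_zero _).mpr e
    rw [mk_mul (mul_mem hc (inv_mem hw)) hn, e0] at e2
    have e3 := OddNatA.eq_of_add add_self e2
    rw [← e3, add_comm (mkM (sec h.toOdd) (x * w * x⁻¹) hc), OddNatA.add_left' add_self]

/-- two elements of `ws V q` outside `kq V z` act in the same way -/
theorem rep_eq {a b : G} (ha : a ∈ ws V q) (hb : b ∈ ws V q) (ha' : a ∉ kq V z) (hb' : b ∉ kq V z) :
    rep (sec h.toOdd) ⟨a, h.ws_q_le hq hq1 hqz ha⟩ = rep (sec h.toOdd) ⟨b, h.ws_q_le hq hq1 hqz hb⟩ := by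
  obtain ⟨T', h'⟩ := h.toOdd.point hq hq1
  have h1 := h.k1 z q h.z_mem hq h.z_ne hq1 (Ne.symm hqz) a ha b hb ha' hb'
  have h2 : rep (sec h.toOdd) (⟨a, h.ws_q_le hq hq1 hqz ha⟩ * ⟨b, h.ws_q_le hq hq1 hqz hb⟩) = 1 :=
    (rep_eq_one_iff' h.toOdd _).mpr h1
  have h3 : rep (sec h.toOdd) (⟨b, h.ws_q_le hq hq1 hqz hb⟩ * ⟨b, h.ws_q_le hq hq1 hqz hb⟩) = 1 := by
    refine (rep_eq_one_iff' h.toOdd _).mpr ?_
    change b * b ∈ kq V z
    rw [h'.ws_sq hb]; exact one_mem _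
  rw [map_mul] at h2 h3
  exact mul_right_cancel (h2.trans h3.symm)

/-- a 3-element of `C_G(z)` which fixes `q` modulo `z` centralizes the transvection -/
theorem rep_comm {a : G} (ha : a ∈ ws V q) (ha' : a ∉ kq V z) {y : centralizer ({z} : Set G)}
    (hyq : (y : G) * q = q * y) :
    rep (sec h.toOdd) y * rep (sec h.toOdd) ⟨a, h.ws_q_le hq hq1 hqz ha⟩ * (rep (sec h.toOdd) y)⁻¹ =
      rep (sec h.toOdd) ⟨a, h.ws_q_le hq hq1 hqz ha⟩ := by
  have h1 : (y : G) * a * (y : G)⁻¹ ∈ ws V q := by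
    have := conj_mem_ws (g := (y : G)) ha
    rwa [hyq, mul_inv_cancel_right] at this
  have h2 : (y : G) * a * (y : G)⁻¹ ∉ kq V z := by
    intro e
    apply ha'
    have := conj_mem_of_normalizer' (centralizer_le_normalizer_kq V z) y.2 e
    have e2 : (y : G)⁻¹ * (y * a * (y : G)⁻¹) * y = a := by group
    rwa [e2] at this
  have h3 := h.rep_eq hq hq1 hqz h1 ha h2 ha'
  rw [← map_inv, ← map_mul, ← map_mul]
  exact h3

/-- a block element `f` moves `q` -/
theorem f_ne {a : G} (ha : a ∈ ws V q) (ha' : a ∉ kq V z) {n : Mod (sec h.toOdd)}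
    {y : centralizer ({z} : Set G)} {j : ℕ} (hy : y ^ 3 ^ j = 1)
    (hb : Blk (rep (sec h.toOdd) ⟨a, h.ws_q_le hq hq1 hqz ha⟩) (rep (sec h.toOdd) y) n) :
    rep (sec h.toOdd) y • mkM (sec h.toOdd) q (h.V_le_ws hq) ≠ mkM (sec h.toOdd) q (h.V_le_ws hq) := by
  intro e
  rw [rep_smul, smul_mk, mk_eq] at e
  have e1 : (y : G) * q * (y : G)⁻¹ * q⁻¹ ∈ zpowers z := by
    have h1 := (sec h.toOdd).conj_z ((sec h.toOdd).NC (h.V_le_ws hq)) (inv_mem e)
    have h2 : (y : G) * q * (y : G)⁻¹ * q⁻¹ = q * (((y : G) * q * (y : G)⁻¹)⁻¹ * q)⁻¹ * q⁻¹ := by group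
    rw [h2, h1]; exact inv_mem e
  have hyz : (y : G) * z = z * y := h.z_comm y.2
  have hyj : (y : G) ^ 3 ^ j = 1 := by simpa using congrArg Subtype.val hy
  have e2 := comm_of_mod hyj h.zz hyz e1
  have e3 := h.rep_comm hq hq1 hqz ha ha' e2
  have e4 := hb.inv
  set A := rep (sec h.toOdd) ⟨a, h.ws_q_le hq hq1 hqz ha⟩
  set F := rep (sec h.toOdd) y
  have e5 : A * F * A⁻¹ = F := by
    have : F * A = A * F := by
      calc F * A = (F * A * F⁻¹) * F := by group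
        _ = A * F := by rw [e3]
    rw [← this, mul_inv_cancel_right]
  rw [e5] at e4
  have e6 : F * F = 1 := by
    calc F * F = F * F⁻¹ := by rw [← e4]
      _ = 1 := mul_inv_cancel F
  have e7 := hb.f_inv
  rw [e6] at e7
  exact hb.ne (inv_eq_one.mp e7)

theorem dd_inter {x v : G} (hv : v ∈ dd V) (hvV : v ∉ V)
    (h1 : x ∈ zpowers z ∨ x * v ∈ zpowers z) (h2 : x ∈ zpowers q ∨ x * v ∈ zpowers q) : x = 1 ∨ x = v := by
  have hvi := h.dd_inv hv
  have hvv := h.dd_sq hv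
  have hzz := h.zz
  have hqq : q * q = 1 := h.sq q hq
  have key : ∀ t : G, x * v = t → x = t * v := by
    intro t ht
    rw [← ht, mul_assoc, hvv, mul_one]
  have hcz : z * v = v * z := h.dd_comm (h.V_le_dd h.z_mem) hv
  have hcq : q * v = v * q := h.dd_comm (h.V_le_dd hq) hv
  have hzq := h.comm h.z_mem hq
  rcases h1 with h1 | h1 <;> rcases (mem_zpowers_iff_of_mul_self hzz).mp h1 with e | e
  · exact Or.inl e
  · -- x = z
    exfalso
    rcases h2 with h2 | h2 <;> rcases (mem_zpowers_iff_of_mul_self hqq).mp h2 with e' | e'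
    · exact h.z_ne (e.symm.trans e')
    · exact hqz (e'.symm.trans e)
    · apply hvV
      have : v = x⁻¹ := (inv_eq_of_mul_eq_one_right e').symm
      rw [this, e]; exact inv_mem h.z_mem
    · apply hvV
      have : v = x⁻¹ * q := by rw [← e']; group
      rw [this, e]; exact mul_mem (inv_mem h.z_mem) hq
  · right
    rw [key 1 e, one_mul]
  · -- x = z v
    exfalso
    have hx := key z e
    rcases h2 with h2 | h2 <;> rcases (mem_zpowers_iff_of_mul_self hqq).mp h2 with e' | e'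
    · apply hvV
      have : v = z⁻¹ := by
        rw [hx] at e'
        exact (inv_eq_of_mul_eq_one_right e').symm
      rw [this]; exact inv_mem h.z_mem
    · apply hvV
      have : v = z⁻¹ * q := by rw [← e', hx]; group
      rw [this]; exact mul_mem (inv_mem h.z_mem) hq
    · exact h.z_ne (e.symm.trans e')
    · exact hqz (e'.symm.trans e)

/-- one side of the killing configuration -/
theorem side {a w v : G} (ha : a ∈ ws V q) (hw : w ∈ ws V z) (hv : v = a * w * a⁻¹ * w⁻¹)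
    (hvV : v ∉ V) : ∃ y ∈ centralizer ({z} : Set G), y * (v * q) = v * q * y ∧
      (∀ b ∈ ws V q, ∀ w' ∈ ws V z, b * w' * b⁻¹ * w'⁻¹ ∈ zpowers z ∨ b * w' * b⁻¹ * w'⁻¹ * v ∈ zpowers z) ∧
      (∀ b ∈ ws V q, b ∉ kq V z → b * (y * v * y⁻¹) * b⁻¹ * (y * v * y⁻¹)⁻¹ ∉ zpowers z) := by
  have haC := h.ws_q_le hq hq1 hqz ha
  obtain ⟨n, hn, hTv⟩ := h.exists_center hq hq1 hqz
  -- `v` is the centre
  have hvz : v ∈ ws V z := by
    rw [hv]; exact mul_mem ((sec h.toOdd).CN a haC w hw) (inv_mem hw)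
  have hvn0 : v ∉ zpowers z := fun e => hvV ((zpowers_le.mpr h.z_mem) e)
  have hval : ∀ b (hb : b ∈ ws V q) w' (hw' : w' ∈ ws V z), ∃ hc : b * w' * b⁻¹ * w'⁻¹ ∈ ws V z,
      mkM (sec h.toOdd) (b * w' * b⁻¹ * w'⁻¹) hc = 0 ∨
      mkM (sec h.toOdd) (b * w' * b⁻¹ * w'⁻¹) hc = mkM (sec h.toOdd) n hn := by
    intro b hb w' hw'
    have hc : b * w' * b⁻¹ ∈ ws V z := (sec h.toOdd).CN b (h.ws_q_le hq hq1 hqz hb) w' hw'
    refine ⟨mul_mem hc (inv_mem hw'), ?_⟩
    have e0 : mkM (sec h.toOdd) (b * w' * b⁻¹ * w'⁻¹) (mul_mem hc (inv_mem hw')) =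
        (⟨b, h.ws_q_le hq hq1 hqz hb⟩ : centralizer ({z} : Set G)) • mkM (sec h.toOdd) w' hw' +
          mkM (sec h.toOdd) w' hw' := by
      rw [mk_mul hc (inv_mem hw'), mk_inv]; rfl
    rw [e0]
    rcases hTv b hb (mkM (sec h.toOdd) w' hw') with e | e
    · left; rw [e, add_self]
    · right; rw [e, add_comm (mkM (sec h.toOdd) w' hw'), add_assoc, add_self, add_zero]
  have hvn : mkM (sec h.toOdd) v hvz = mkM (sec h.toOdd) n hn := by
    obtain ⟨hc, e | e⟩ := hval a ha w hw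
    · exfalso
      rw [mk_eq_zero, ← hv] at e
      exact hvn0 e
    · rw [← e]
      rw [mk_eq]
      rw [hv, inv_mul_cancel]; exact one_mem _
  have haK : a ∉ kq V z := by
    intro e
    apply hvn0
    rw [hv]
    exact (mem_kq.mp e).2.1 w hw
  rw [← hvn] at hTv
  obtain ⟨y, ⟨j, hj⟩, hb, -, -⟩ := exists_f h.toOdd ⟨a, haC⟩ (hTv a ha) haK
  have hf := h.f_ne hq hq1 hqz ha haK hj hb
  have hyj : (y : G) ^ 3 ^ j = 1 := by simpa using congrArg Subtype.val hj
  have hyz : (y : G) * z = z * y := h.z_comm y.2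
  refine ⟨y, y.2, ?_, ?_, ?_⟩
  · have h1 : rep (sec h.toOdd) ⟨a, haC⟩ • mkM (sec h.toOdd) q (h.V_le_ws hq) =
        mkM (sec h.toOdd) q (h.V_le_ws hq) := by
      rw [rep_smul, smul_mk, mk_eq]
      have : a * q * a⁻¹ = q := by
        obtain ⟨T', h'⟩ := h.toOdd.point hq hq1
        rw [h'.ab a ha q (h'.V_le_ws h'.z_mem), mul_inv_cancel_right]
      change (a * q * a⁻¹)⁻¹ * q ∈ zpowers z
      rw [this, inv_mul_cancel]; exact one_mem _
    have h2 := hb.fix_add h1 hf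
    have h3 : mkM (sec h.toOdd) q (h.V_le_ws hq) + mkM (sec h.toOdd) v hvz =
        mkM (sec h.toOdd) (v * q) (mul_mem hvz (h.V_le_ws hq)) := by
      rw [mk_mul hvz (h.V_le_ws hq), add_comm]
    rw [h3, rep_smul, smul_mk, mk_eq] at h2
    have h4 : (y : G) * (v * q) * (y : G)⁻¹ * (v * q)⁻¹ ∈ zpowers z := by
      have h5 := (sec h.toOdd).conj_z ((sec h.toOdd).NC (mul_mem hvz (h.V_le_ws hq))) (inv_mem h2)
      have h6 : (y : G) * (v * q) * (y : G)⁻¹ * (v * q)⁻¹ =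
        (v * q) * (((y : G) * (v * q) * (y : G)⁻¹)⁻¹ * (v * q))⁻¹ * (v * q)⁻¹ := by group
      rw [h6, h5]; exact inv_mem h2
    exact comm_of_mod hyj h.zz hyz h4
  · intro b hb' w' hw'
    obtain ⟨hc, e | e⟩ := hval b hb' w' hw'
    · left; exact (mk_eq_zero _).mp e
    · right
      rw [← hvn] at e
      have : mkM (sec h.toOdd) (b * w' * b⁻¹ * w'⁻¹ * v) (mul_mem hc hvz) = 0 := by
        rw [mk_mul hc hvz, e, add_self]
      exact (mk_eq_zero _).mp this
  · intro b hb' hbK hcon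
    have h1 := h.rep_eq hq hq1 hqz hb' ha hbK haK
    have hyv : (y : G) * v * (y : G)⁻¹ ∈ ws V z := (sec h.toOdd).CN y y.2 v hvz
    have hc : b * ((y : G) * v * (y : G)⁻¹) * b⁻¹ ∈ ws V z :=
      (sec h.toOdd).CN b (h.ws_q_le hq hq1 hqz hb') _ hyv
    have h2 : mkM (sec h.toOdd) (b * ((y : G) * v * (y : G)⁻¹) * b⁻¹ * ((y : G) * v * (y : G)⁻¹)⁻¹)
        (mul_mem hc (inv_mem hyv)) = 0 := (mk_eq_zero _).mpr hcon
    rw [mk_mul hc (inv_mem hyv), mk_inv hyv] at h2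
    have h3 : mkM (sec h.toOdd) (b * ((y : G) * v * (y : G)⁻¹) * b⁻¹) hc =
        rep (sec h.toOdd) ⟨b, h.ws_q_le hq hq1 hqz hb'⟩ • rep (sec h.toOdd) y • mkM (sec h.toOdd) v hvz := rfl
    have h4 : mkM (sec h.toOdd) ((y : G) * v * (y : G)⁻¹) hyv =
        rep (sec h.toOdd) y • mkM (sec h.toOdd) v hvz := rfl
    rw [h3, h4, h1, hb.a_fn] at h2
    apply hb.n_ne
    have h5 := OddNatA.eq_of_add add_self h2
    have h6 : rep (sec h.toOdd) y • mkM (sec h.toOdd) v hvz + mkM (sec h.toOdd) v hvz =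
        rep (sec h.toOdd) y • mkM (sec h.toOdd) v hvz + 0 := by rw [h5, add_zero]
    exact add_left_cancel h6

/-- **the centre of the transvection is `q`**: `[ws V q, ws V z] ≤ V` -/
theorem comm_mem_V {x w : G} (hx : x ∈ ws V q) (hw : w ∈ ws V z) : x * w * x⁻¹ * w⁻¹ ∈ V := by
  by_contra hvV
  obtain ⟨v, hv⟩ : ∃ v, v = x * w * x⁻¹ * w⁻¹ := ⟨_, rfl⟩
  rw [← hv] at hvV
  obtain ⟨T', h'⟩ := h.point hq hq1
  have hzq : z ≠ q := Ne.symm hqz
  have hxC := h.ws_q_le hq hq1 hqz hx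
  have hwC := h'.ws_q_le h.z_mem h.z_ne hzq hw
  have hdd : ∀ {a b : G}, a ∈ ws V q → b ∈ ws V z → a * b * a⁻¹ * b⁻¹ ∈ dd V := by
    intro a b ha hb
    refine h.inf_le_dd hq hq1 hqz (mem_inf.mpr ⟨?_, ?_⟩)
    · exact mul_mem ((sec h.toOdd).CN a (h.ws_q_le hq hq1 hqz ha) b hb) (inv_mem hb)
    · have e : a * b * a⁻¹ * b⁻¹ = a * (b * a⁻¹ * b⁻¹) := by group
      rw [e]
      exact mul_mem ha ((sec h'.toOdd).CN b (h'.ws_q_le h.z_mem h.z_ne hzq hb) _ (inv_mem ha))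
  have hvdd : v ∈ dd V := by rw [hv]; exact hdd hx hw
  have hvi := h.dd_inv hvdd
  have hv' : v = w * x * w⁻¹ * x⁻¹ := by
    have : w * x * w⁻¹ * x⁻¹ = (x * w * x⁻¹ * w⁻¹)⁻¹ := by group
    rw [this, ← hv, hvi]
  obtain ⟨y, hy, hy1, hy2, hy3⟩ := h.side hq hq1 hqz hx hw hv hvV
  obtain ⟨y', hy', hy1', hy2', hy3'⟩ := h'.side h.z_mem h.z_ne hzq hw hx hv' hvV
  have hvz : v ∈ ws V z := h.dd_le_ws h.z_mem h.z_ne hvdd
  have hvq : v ∈ ws V q := h.dd_le_ws hq hq1 hvdd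
  have ha1 : y * v * y⁻¹ ∈ ws V z := (sec h.toOdd).CN y hy v hvz
  have hb1 : y' * v * y'⁻¹ ∈ ws V q := (sec h'.toOdd).CN y' hy' v hvq
  set a1 := y * v * y⁻¹ with ha1d
  set b1 := y' * v * y'⁻¹ with hb1d
  have hvnz : v ∉ zpowers z := fun e => hvV ((zpowers_le.mpr h.z_mem) e)
  have hvnq : v ∉ zpowers q := fun e => hvV ((zpowers_le.mpr hq) e)
  have hxK : x ∉ kq V z := fun e => hvnz (by rw [hv]; exact (mem_kq.mp e).2.1 w hw)
  -- `a1 ∉ kq V q`
  have ha1K : a1 ∉ kq V q := by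
    intro e
    have e1 := (mem_kq.mp e).2.1 x hx
    have e2 : x * a1 * x⁻¹ * a1⁻¹ ∈ zpowers q := by
      have : x * a1 * x⁻¹ * a1⁻¹ = (a1 * x * a1⁻¹ * x⁻¹)⁻¹ := by group
      rw [this]; exact inv_mem e1
    have e3 := hy3 x hx hxK
    rcases h.dd_inter hq hq1 hqz hvdd hvV (hy2 x hx a1 ha1) (Or.inl e2) with e4 | e4
    · apply e3; rw [e4]; exact one_mem _
    · apply hvnq; rw [← e4]; exact e2
  -- `[a1, b1] = v`
  have hc : a1 * b1 * a1⁻¹ * b1⁻¹ = v := by
    have e1 := hy3' a1 ha1 ha1K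
    have e2 := hy2' a1 ha1 b1 hb1
    have e3 := hy2 b1 hb1 a1 ha1
    have e4 := hdd hb1 ha1
    have e5 : a1 * b1 * a1⁻¹ * b1⁻¹ = b1 * a1 * b1⁻¹ * a1⁻¹ := by
      have : a1 * b1 * a1⁻¹ * b1⁻¹ = (b1 * a1 * b1⁻¹ * a1⁻¹)⁻¹ := by group
      rw [this, h.dd_inv e4]
    rw [e5] at e1 e2 ⊢
    rcases h.dd_inter hq hq1 hqz hvdd hvV e3 e2 with e | e
    · exfalso; apply e1; rw [e]; exact one_mem _
    · exact e
  -- the involution centralized by both sides
  have hudd : v * q * z ∈ dd V := mul_mem (mul_mem hvdd (h.V_le_dd hq)) (h.V_le_dd h.z_mem)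
  have hu1 : v * q * z ≠ 1 := by
    intro e
    apply hvV
    have : v = (q * z)⁻¹ := eq_inv_of_mul_eq_one_left (by rw [← mul_assoc]; exact e)
    rw [this]
    exact inv_mem (mul_mem hq h.z_mem)
  have hu : orderOf (v * q * z) = 2 := by
    rw [orderOf_eq_prime_iff]
    exact ⟨by rw [pow_two]; exact h.dd_sq hudd, hu1⟩
  have hL : ∀ U : Subgroup G, IsPGroup 2 U → U ≠ ⊥ → Group.IsSolvable (normalizer (U : Set G)) :=
    fun U hU hU1 => h.solv _ ⟨U, hU, hU1, rfl⟩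
  have hzy : y * z = z * y := h.z_comm hy
  have hqy' : y' * q = q * y' := h'.z_comm hy'
  have hqz' := h.comm hq h.z_mem
  have cvu : v * (v * q * z) = v * q * z * v := h.dd_comm hvdd hudd
  refine Killing.killing_centralizer hL (X := closure {v, y}) (Y := closure {v, y'}) (v := v)
    (subset_closure (by simp)) (fun e => hvV (by rw [e]; exact one_mem V)) le_rfl le_rfl ?_ hu ?_ ?_
  · rw [← hc]
    refine commutator_mem_commutator (g₁ := a1) (g₂ := b1) ?_ ?_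
    · rw [hc]
      exact Killing.conj_mem_ncl (subset_closure (by simp))
    · rw [hc]
      exact Killing.conj_mem_ncl (subset_closure (by simp))
  · rw [closure_le]
    rintro g (rfl | rfl)
    · exact mem_centralizer_singleton_iff.mpr cvu
    · refine mem_centralizer_singleton_iff.mpr ?_
      calc g * (v * q * z) = (g * (v * q)) * z := by group
        _ = v * q * (g * z) := by rw [hy1]; group
        _ = v * q * z * g := by rw [hzy]; group
  · rw [closure_le]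
    rintro g (rfl | rfl)
    · exact mem_centralizer_singleton_iff.mpr cvu
    · refine mem_centralizer_singleton_iff.mpr ?_
      calc g * (v * q * z) = g * (v * z) * q := by rw [mul_assoc v q z, hqz']; group
        _ = v * z * (g * q) := by rw [hy1']; group
        _ = v * (z * q) * g := by rw [hqy']; group
        _ = v * q * z * g := by rw [← hqz']; group

end Nat1

end Cfsg.Agent.MinSimple.OddNatB
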