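import Cfsg.Agent.MinSimple.OddNatB

/-!
# (E1)(b), natural block: the block `uu V p` and `NTri`

* `uu V p`: generated by `V` and the lines through `p` not centralised by all `ws V q`, `q ∈ V`.
-/

set_option autoImplicit false
set_option linter.unusedSectionVars false

namespace Cfsg.Agent.MinSimple.OddNatC

open Subgroup Cfsg Cfsg.Agent.ZN Cfsg.Agent.MinSimple.Geo Cfsg.Agent.MinSimple.BTwoA
  Cfsg.Agent.MinSimple.OddLine Cfsg.Agent.MinSimple.OddNatB
open Cfsg.Agent.MinSimple.BTwoB (mem_kq kq_le centralizer_le_normalizer_kq le_kq z_mem_of_le)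
open Cfsg.Agent.ZN.Block (conj_mem_of_normalizer conj_mem_of_normalizer' le_normalizer_of_forall
  mem_normalizer_of)
open Cfsg.Agent.MinSimple.Sec (Sec Mod)
open Cfsg.Agent.MinSimple.Sec.Mod
open Cfsg.Agent.MinSimple.OddNatA (Tv Sp Blk)

local notation "mkM" => Cfsg.Agent.MinSimple.Sec.Mod.mk

universe u

variable {G : Type u} [Group G]

/-- the lines through `p` not centralised by all `ws V q`, `q ∈ V` -/
def adj (V : Subgroup G) (p : G) : Set (Subgroup G) :=
  {L | L ∈ lines V p ∧ ∃ q ∈ V, q ≠ 1 ∧ ∃ x ∈ ws V q, ∃ l ∈ L, x * l ≠ l * x}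

/-- the block at `p` -/
def uu (V : Subgroup G) (p : G) : Subgroup G := V ⊔ sSup (adj V p)

theorem V_le_uu (V : Subgroup G) (p : G) : V ≤ uu V p := le_sup_left

theorem le_uu {V L : Subgroup G} {p : G} (h : L ∈ adj V p) : L ≤ uu V p := (le_sSup h).trans le_sup_right

theorem uu_le {V : Subgroup G} {p : G} {U : Subgroup G} (hV : V ≤ U) (h : ∀ L ∈ adj V p, L ≤ U) :
    uu V p ≤ U := sup_le hV (sSup_le h)

theorem adj_cj {V L : Subgroup G} {p n : G} (hn : n ∈ normalizer (V : Set G)) (h : L ∈ adj V p) :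
    cj n L ∈ adj V (n * p * n⁻¹) := by
  obtain ⟨h1, q, hq, hq1, x, hx, l, hl, hxl⟩ := h
  refine ⟨mem_lines_cj h1, n * q * n⁻¹, (mem_normalizer_iff.mp hn q).mp hq, fun e => hq1 ?_, n * x * n⁻¹, ?_,
    n * l * n⁻¹, conj_mem_cj hl, fun e => hxl ?_⟩
  · have : q = n⁻¹ * (n * q * n⁻¹) * n := by group
    rw [this, e]; group
  · rw [← cj_ws]; exact conj_mem_cj hx
  · calc x * l = n⁻¹ * (n * x * n⁻¹ * (n * l * n⁻¹)) * n := by group
      _ = n⁻¹ * (n * l * n⁻¹ * (n * x * n⁻¹)) * n := by rw [e]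
      _ = l * x := by group

theorem cj_uu {V : Subgroup G} {n : G} (hn : n ∈ normalizer (V : Set G)) (p : G) :
    cj n (uu V p) = uu V (n * p * n⁻¹) := by
  have key : ∀ n ∈ normalizer (V : Set G), ∀ p, cj n (uu V p) ≤ uu V (n * p * n⁻¹) := by
    intro n hn p
    rw [cj_le_iff]
    refine uu_le ?_ fun L hL => ?_
    · rw [← cj_le_iff, cj_eq_of_mem_normalizer hn]
      exact V_le_uu _ _
    · rw [← cj_le_iff]
      exact le_uu (adj_cj hn hL)
  refine le_antisymm (key n hn p) ?_
  have h := key n⁻¹ (inv_mem hn) (n * p * n⁻¹)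
  have e : n⁻¹ * (n * p * n⁻¹) * n⁻¹⁻¹ = p := by group
  rw [e, cj_le_iff, inv_inv] at h
  exact h

variable [Finite G] {T V : Subgroup G} {z : G}

theorem uu_le_ws (h : Odd T V z) : uu V z ≤ ws V z := uu_le h.V_le_ws fun _ hL => le_ws hL.1

/-- the block is invariant under `f` -/
theorem sp_smul {Γ M : Type*} [Group Γ] [AddCommGroup M] [DistribMulAction Γ M] [FaithfulSMul Γ M]
    {a f : Γ} {n : M} (hb : Blk a f n) {s : M} (hs : Sp n (f • n) s) : Sp n (f • n) (f • s) := by
  have e : f • s = (f • s + s) + s := by rw [add_assoc, hb.two, add_zero]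
  rw [e]
  exact Sp.add hb.two (hb.sp s) hs

section Main

variable (h : Nat1 T V z) {q : G} (hq : q ∈ V) (hq1 : q ≠ 1) (hqz : q ≠ z)

include h hq hq1 hqz

/-- elements of `V` modulo `z` -/
theorem mem_V_iff {w : G} (hw : w ∈ ws V z) : w ∈ V ↔
    mkM (sec h.toOdd) w hw = 0 ∨ mkM (sec h.toOdd) w hw = mkM (sec h.toOdd) q (h.V_le_ws hq) := by
  constructor
  · intro hwV
    rcases h.four h.z_mem hq h.z_ne hq1 (Ne.symm hqz) hwV with e | e | e | e
    · left; rw [mk_eq_zero, e]; exact one_mem _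
    · left; rw [mk_eq_zero, e]; exact mem_zpowers z
    · right; rw [mk_eq, e, inv_mul_cancel]; exact one_mem _
    · right
      rw [mk_eq, e]
      have : (z * q)⁻¹ * q = z⁻¹ := by
        rw [h.comm h.z_mem hq]; group
      rw [this]; exact inv_mem (mem_zpowers z)
  · rintro (e | e)
    · exact (zpowers_le.mpr h.z_mem) ((mk_eq_zero _).mp e)
    · have h1 := (mk_eq _ _).mp e
      have h2 : w = q * (w⁻¹ * q)⁻¹ := by group
      rw [h2]
      exact mul_mem hq (inv_mem ((zpowers_le.mpr h.z_mem) h1))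

/-- the 3-element of the block -/
theorem exists_y {a : G} (ha : a ∈ ws V q) (ha' : a ∉ kq V z) :
    ∃ y : centralizer ({z} : Set G), (∃ j : ℕ, y ^ 3 ^ j = 1) ∧
      Blk (rep (sec h.toOdd) ⟨a, h.ws_q_le hq hq1 hqz ha⟩) (rep (sec h.toOdd) y)
        (mkM (sec h.toOdd) q (h.V_le_ws hq)) ∧
      ∀ c : centralizer ({z} : Set G),
        rep (sec h.toOdd) c * rep (sec h.toOdd) y * (rep (sec h.toOdd) c)⁻¹ = rep (sec h.toOdd) y ∨
        rep (sec h.toOdd) c * rep (sec h.toOdd) y * (rep (sec h.toOdd) c)⁻¹ = (rep (sec h.toOdd) y)⁻¹ ∨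
        (rep (sec h.toOdd) c * rep (sec h.toOdd) y * (rep (sec h.toOdd) c)⁻¹) •
          mkM (sec h.toOdd) q (h.V_le_ws hq) = mkM (sec h.toOdd) q (h.V_le_ws hq) := by
  have hTv : ∀ m : Mod (sec h.toOdd), (⟨a, h.ws_q_le hq hq1 hqz ha⟩ : centralizer ({z} : Set G)) • m = m ∨
      (⟨a, h.ws_q_le hq hq1 hqz ha⟩ : centralizer ({z} : Set G)) • m = m +
        mkM (sec h.toOdd) q (h.V_le_ws hq) := by
    intro m
    obtain ⟨w, hw, rfl⟩ := mk_surj m
    have hc : a * w * a⁻¹ ∈ ws V z := (sec h.toOdd).CN a (h.ws_q_le hq hq1 hqz ha) w hw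
    have e0 : mkM (sec h.toOdd) (a * w * a⁻¹ * w⁻¹) (mul_mem hc (inv_mem hw)) =
        (⟨a, h.ws_q_le hq hq1 hqz ha⟩ : centralizer ({z} : Set G)) • mkM (sec h.toOdd) w hw +
          mkM (sec h.toOdd) w hw := by
      rw [mk_mul hc (inv_mem hw), mk_inv hw]; rfl
    rcases (mem_V_iff h hq hq1 hqz (mul_mem hc (inv_mem hw))).mp
      (h.comm_mem_V hq hq1 hqz ha hw) with e | e
    · left
      rw [e0] at e
      exact OddNatA.eq_of_add add_self e
    · right
      rw [e0] at e
      rw [← e, add_comm _ (mkM (sec h.toOdd) w hw), OddNatA.add_left' add_self]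
  obtain ⟨y, hj, hb, -, h3⟩ := exists_f h.toOdd ⟨a, h.ws_q_le hq hq1 hqz ha⟩ hTv ha'
  exact ⟨y, hj, hb, h3⟩

/-- **The dichotomy for the lines through `z`**: a line through `z` lies in the block, or is centralised by
all `ws V q'`, `q' ∈ V`, and contained in `kq V q`. -/
theorem dich {a : G} (ha : a ∈ ws V q) (ha' : a ∉ kq V z) {y : centralizer ({z} : Set G)}
    (hj : ∃ j : ℕ, y ^ 3 ^ j = 1)
    (hb : Blk (rep (sec h.toOdd) ⟨a, h.ws_q_le hq hq1 hqz ha⟩) (rep (sec h.toOdd) y)
        (mkM (sec h.toOdd) q (h.V_le_ws hq)))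
    (h3 : ∀ c : centralizer ({z} : Set G),
        rep (sec h.toOdd) c * rep (sec h.toOdd) y * (rep (sec h.toOdd) c)⁻¹ = rep (sec h.toOdd) y ∨
        rep (sec h.toOdd) c * rep (sec h.toOdd) y * (rep (sec h.toOdd) c)⁻¹ = (rep (sec h.toOdd) y)⁻¹ ∨
        (rep (sec h.toOdd) c * rep (sec h.toOdd) y * (rep (sec h.toOdd) c)⁻¹) •
          mkM (sec h.toOdd) q (h.V_le_ws hq) = mkM (sec h.toOdd) q (h.V_le_ws hq))
    (c : centralizer ({z} : Set G)) :
    Sp (mkM (sec h.toOdd) q (h.V_le_ws hq)) (rep (sec h.toOdd) y • mkM (sec h.toOdd) q (h.V_le_ws hq))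
        (c • mkM (sec h.toOdd) q (h.V_le_ws hq)) ∨
      ((c : G) * q * (c : G)⁻¹ ∈ kq V q ∧ ∀ x ∈ ws V q, x * ((c : G) * q * (c : G)⁻¹) =
        (c : G) * q * (c : G)⁻¹ * x) := by
  set s := sec h.toOdd with hs
  set n := mkM s q (h.V_le_ws hq) with hn
  set f := rep s y with hf
  set A := rep s ⟨a, h.ws_q_le hq hq1 hqz ha⟩ with hA
  have two : ∀ m : Mod s, m + m = 0 := add_self
  -- the case `f^c = f^{±1}`
  have main : ∀ {g : Aut s}, Blk A g n → rep s c * f * (rep s c)⁻¹ = g → Sp n (g • n) (c • n) := by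
    intro g hg hc
    have e1 : g • c • n = c • f • n := by
      rw [← hc, mul_smul, mul_smul]
      change rep s c • f • (rep s c)⁻¹ • rep s c • n = _
      rw [inv_smul_smul]; rfl
    have e2 : g • g • c • n = c • f • f • n := by
      rw [e1, ← hc, mul_smul, mul_smul]
      change rep s c • f • (rep s c)⁻¹ • rep s c • f • n = _
      rw [inv_smul_smul]; rfl
    have e3 := hg.sp (c • n)
    rw [e1, ← smul_add] at e3
    have e4 : f • n + n = f • f • n := by rw [hb.ffn, add_comm]
    rw [e4, ← e2] at e3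
    have e5 := sp_smul hg e3
    rwa [hg.f3] at e5
  rcases h3 c with e | e | e
  · left; exact main hb e
  · left
    have h1 := main hb.inv_blk e
    have h2 : f⁻¹ • n = n + f • n := by rw [inv_smul_eq_iff, ← hb.ffn, hb.f3]
    rw [h2] at h1
    rcases h1 with h1 | h1 | h1 | h1 <;> rw [h1]
    · left; rfl
    · right; left; rfl
    · right; right; right; rfl
    · right; right; left; exact OddNatA.add_left' two _ _
  · right
    -- the 3-element `k = y^c` centralizes `q`
    obtain ⟨j, hj⟩ := hj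
    obtain ⟨k, hk⟩ : ∃ k : centralizer ({z} : Set G), k = c * y * c⁻¹ := ⟨_, rfl⟩
    have hkf : rep s k = rep s c * f * (rep s c)⁻¹ := by rw [hk, map_mul, map_mul, map_inv]
    have hkj : (k : G) ^ 3 ^ j = 1 := by
      have h1 : k ^ 3 ^ j = 1 := by
        rw [hk, conj_pow, hj, mul_one, mul_inv_cancel]
      simpa using congrArg Subtype.val h1
    have hkz : (k : G) * z = z * k := h.z_comm k.2
    have hkq : (k : G) * q = q * k := by
      refine comm_of_mod hkj h.zz hkz ?_
      rw [← hkf] at e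
      change k • n = n at e
      rw [hn, smul_mk, mk_eq] at e
      have h1 := s.conj_z (s.NC (h.V_le_ws hq)) (inv_mem e)
      have h2 : (k : G) * q * (k : G)⁻¹ * q⁻¹ = q * (((k : G) * q * (k : G)⁻¹)⁻¹ * q)⁻¹ * q⁻¹ := by group
      rw [h2, h1]; exact inv_mem e
    have hkC : (k : G) ∈ centralizer ({q} : Set G) := mem_centralizer_singleton_iff.mpr hkq
    obtain ⟨T', h'⟩ := h.point hq hq1
    have hzq : z ≠ q := Ne.symm hqz
    -- `[ws V z, k] ≤ kq V q`
    have hcomm : ∀ w ∈ ws V z, (k : G) * w * (k : G)⁻¹ * w ∈ kq V q := by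
      intro w hw
      have hw' : (k : G) * w * (k : G)⁻¹ ∈ ws V z := s.CN k k.2 w hw
      by_cases hwK : w ∈ kq V q
      · exact mul_mem (conj_mem_of_normalizer (centralizer_le_normalizer_kq V q) hkC hwK) hwK
      · refine h.k1 q z hq h.z_mem hq1 h.z_ne hqz _ hw' _ hw (fun e1 => hwK ?_) hwK
        have := conj_mem_of_normalizer' (centralizer_le_normalizer_kq V q) hkC e1
        have e2 : (k : G)⁻¹ * (k * w * (k : G)⁻¹) * k = w := by group
        rwa [e2] at this
    have hzK : z ∈ kq V q := by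
      rw [← rep_eq_one_iff h'.toOdd (h'.ws_le_centralizer (h'.V_le_ws h.z_mem)), rep_eq_one]
      intro w hw
      have : z * w = w * z := h'.ab z (h'.V_le_ws h.z_mem) w hw
      change z * w * z⁻¹ * w⁻¹ ∈ _
      rw [this, mul_inv_cancel_right, mul_inv_cancel]; exact one_mem _
    set l := (c : G) * q * (c : G)⁻¹ with hl
    have hlw : l ∈ ws V z := s.CN c c.2 q (h.V_le_ws hq)
    have hlm : mkM s l hlw = c • n := rfl
    -- action of `k` on `l`
    have ek : k • c • n = c • f • n := by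
      change rep s k • c • n = _
      rw [hkf, mul_smul, mul_smul]
      change rep s c • f • (rep s c)⁻¹ • rep s c • n = _
      rw [inv_smul_smul]; rfl
    have ekk : k • k • c • n = c • f • f • n := by
      rw [ek]
      change rep s k • c • f • n = _
      rw [hkf, mul_smul, mul_smul]
      change rep s c • f • (rep s c)⁻¹ • rep s c • f • n = _
      rw [inv_smul_smul]; rfl
    have ek1 : k • c • n + c • n = k • k • c • n := by
      rw [ekk, ek, hb.ffn, smul_add, add_comm]
    have ek3 : k • k • k • c • n = c • n := by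
      rw [ekk]
      change rep s k • c • f • f • n = _
      rw [hkf, mul_smul, mul_smul]
      change rep s c • f • (rep s c)⁻¹ • rep s c • f • f • n = _
      rw [inv_smul_smul, hb.f3]; rfl
    have hlK : l ∈ kq V q := by
      have h1 := hcomm l hlw
      have hm1 : (k : G) * l * (k : G)⁻¹ * l ∈ ws V z := mul_mem (s.CN k k.2 l hlw) hlw
      have h2 : mkM s ((k : G) * l * (k : G)⁻¹ * l) hm1 = k • k • c • n := by
        rw [mk_mul (s.CN k k.2 l hlw) hlw, ← ek1]; rfl
      have hm2 : (k : G) * ((k : G) * l * (k : G)⁻¹ * l) * (k : G)⁻¹ ∈ ws V z := s.CN k k.2 _ hm1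
      have h3 : mkM s ((k : G) * ((k : G) * l * (k : G)⁻¹ * l) * (k : G)⁻¹) hm2 = mkM s l hlw := by
        have : mkM s ((k : G) * ((k : G) * l * (k : G)⁻¹ * l) * (k : G)⁻¹) hm2 =
          k • mkM s ((k : G) * l * (k : G)⁻¹ * l) hm1 := rfl
        rw [this, h2, ek3]; rfl
      have h4 := (mk_eq _ _).mp h3
      have h5 : (k : G) * ((k : G) * l * (k : G)⁻¹ * l) * (k : G)⁻¹ ∈ kq V q :=
        conj_mem_of_normalizer (centralizer_le_normalizer_kq V q) hkC h1
      have h6 : l = (k : G) * ((k : G) * l * (k : G)⁻¹ * l) * (k : G)⁻¹ *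
        (((k : G) * ((k : G) * l * (k : G)⁻¹ * l) * (k : G)⁻¹)⁻¹ * l) := by group
      rw [h6]
      exact mul_mem h5 ((zpowers_le.mpr hzK) h4)
    refine ⟨hlK, fun x hx => ?_⟩
    -- `x` acts on `l` modulo `z` trivially
    have hxz : x * l * x⁻¹ * l⁻¹ ∈ zpowers z := by
      by_cases hxK : x ∈ kq V z
      · exact (mem_kq.mp hxK).2.1 l hlw
      · have h1 := h.rep_eq hq hq1 hqz hx ha hxK ha'
        have h2 := h.rep_comm hq hq1 hqz ha ha' hkq
        have hact : ∀ m : Mod s, A • (k • m) = k • (A • m) := by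
          intro m
          change A • rep s k • m = rep s k • A • m
          rw [← mul_smul, ← mul_smul]
          congr 1
          calc A * rep s k = (rep s k * A * (rep s k)⁻¹) * rep s k := by rw [h2]
            _ = rep s k * A := by group
        have hAl : A • c • n = c • n := by
          rcases hb.tv (c • n) with e1 | e1
          · exact e1
          · exfalso
            have hkn : k • n = n := by rw [← hkf] at e; exact e
            have e2 : A • k • c • n = k • c • n + n := by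
              rw [hact, e1, smul_add, hkn]
            have e3 : A • (k • k • c • n) = k • k • c • n := by
              rw [← ek1, smul_add, e1, e2]
              calc k • c • n + n + (c • n + n) = k • c • n + c • n + (n + n) := by abel
                _ = _ := by rw [two, add_zero]
            have e4 : A • (k • k • c • n) = k • k • c • n + n := by
              rw [hact, e2, smul_add, hkn]
            rw [e4] at e3
            apply hb.n_ne
            have : k • k • c • n + n = k • k • c • n + 0 := by rw [e3, add_zero]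
            exact add_left_cancel this
        have h4 : rep s ⟨x, h.ws_q_le hq hq1 hqz hx⟩ • mkM s l hlw = mkM s l hlw := by
          rw [h1]; exact hAl
        have h5 : mkM s (x * l * x⁻¹) (s.CN x (h.ws_q_le hq hq1 hqz hx) l hlw) = mkM s l hlw := h4
        have h6 := (mk_eq _ _).mp h5
        have h7 := s.conj_z (s.NC hlw) (inv_mem h6)
        have h8 : x * l * x⁻¹ * l⁻¹ = l * ((x * l * x⁻¹)⁻¹ * l)⁻¹ * l⁻¹ := by group
        rw [h8, h7]; exact inv_mem h6
    have hxq : x * l * x⁻¹ * l⁻¹ ∈ zpowers q := by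
      have h1 := (mem_kq.mp hlK).2.1 x hx
      have h2 : x * l * x⁻¹ * l⁻¹ = (l * x * l⁻¹ * x⁻¹)⁻¹ := by group
      rw [h2]; exact inv_mem h1
    rcases (mem_zpowers_iff_of_mul_self h.zz).mp hxz with e1 | e1
    · calc x * l = (x * l * x⁻¹ * l⁻¹) * (l * x) := by group
        _ = l * x := by rw [e1, one_mul]
    · exfalso
      rw [e1] at hxq
      rcases (mem_zpowers_iff_of_mul_self h'.zz).mp hxq with e2 | e2
      · exact h.z_ne e2
      · exact hqz e2.symm

/-- elements of the block modulo `z` -/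
theorem mem_uu_iff {a : G} (ha : a ∈ ws V q) (ha' : a ∉ kq V z) {y : centralizer ({z} : Set G)}
    (hj : ∃ j : ℕ, y ^ 3 ^ j = 1)
    (hb : Blk (rep (sec h.toOdd) ⟨a, h.ws_q_le hq hq1 hqz ha⟩) (rep (sec h.toOdd) y)
        (mkM (sec h.toOdd) q (h.V_le_ws hq)))
    (h3 : ∀ c : centralizer ({z} : Set G),
        rep (sec h.toOdd) c * rep (sec h.toOdd) y * (rep (sec h.toOdd) c)⁻¹ = rep (sec h.toOdd) y ∨
        rep (sec h.toOdd) c * rep (sec h.toOdd) y * (rep (sec h.toOdd) c)⁻¹ = (rep (sec h.toOdd) y)⁻¹ ∨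
        (rep (sec h.toOdd) c * rep (sec h.toOdd) y * (rep (sec h.toOdd) c)⁻¹) •
          mkM (sec h.toOdd) q (h.V_le_ws hq) = mkM (sec h.toOdd) q (h.V_le_ws hq))
    {w : G} (hw : w ∈ ws V z) :
    w ∈ uu V z ↔ Sp (mkM (sec h.toOdd) q (h.V_le_ws hq))
      (rep (sec h.toOdd) y • mkM (sec h.toOdd) q (h.V_le_ws hq)) (mkM (sec h.toOdd) w hw) := by
  set s := sec h.toOdd with hs
  set n := mkM s q (h.V_le_ws hq) with hn
  set f := rep s y with hf
  have two : ∀ m : Mod s, m + m = 0 := add_self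
  let A : Subgroup G :=
    { carrier := {w | ∃ hw : w ∈ ws V z, Sp n (f • n) (mkM s w hw)}
      mul_mem' := by
        rintro a b ⟨ha, ha1⟩ ⟨hb, hb1⟩
        exact ⟨mul_mem ha hb, by rw [mk_mul ha hb]; exact Sp.add two ha1 hb1⟩
      one_mem' := ⟨one_mem _, Or.inl mk_one⟩
      inv_mem' := by
        rintro a ⟨ha, ha1⟩
        exact ⟨inv_mem ha, by rw [mk_inv ha]; exact ha1⟩ }
  have hVA : V ≤ A := by
    intro v hv
    refine ⟨h.V_le_ws hv, ?_⟩
    rcases (mem_V_iff h hq hq1 hqz (h.V_le_ws hv)).mp hv with e | e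
    · left; exact e
    · right; left; exact e
  have hAV : uu V z ≤ A := by
    refine uu_le hVA ?_
    rintro L ⟨hL, q', hq', hq1', x, hx, l, hl, hxl⟩
    obtain ⟨c, hc, rfl⟩ := h.exists_of_mem_lines hL
    have hmem : Sp n (f • n) ((⟨c, hc⟩ : centralizer ({z} : Set G)) • n) → cj c V ≤ A := by
      intro hS l hl
      rw [mem_cj] at hl
      have hv := h.V_le_ws hl
      have hlw : c * (c⁻¹ * l * c) * c⁻¹ ∈ ws V z := s.CN c hc _ hv
      have e1 : c * (c⁻¹ * l * c) * c⁻¹ = l := by group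
      rw [e1] at hlw
      refine ⟨hlw, ?_⟩
      have e2 : mkM s l hlw = (⟨c, hc⟩ : centralizer ({z} : Set G)) • mkM s (c⁻¹ * l * c) hv := by
        rw [smul_mk, mk_eq]
        change l⁻¹ * (c * (c⁻¹ * l * c) * c⁻¹) ∈ _
        rw [e1, inv_mul_cancel]; exact one_mem _
      rw [e2]
      rcases (mem_V_iff h hq hq1 hqz hv).mp hl with e | e
      · rw [e, smul_zero]; left; rfl
      · rw [e]; exact hS
    rcases dich h hq hq1 hqz ha ha' hj hb h3 ⟨c, hc⟩ with hS | ⟨-, hcomm⟩
    · exact hmem hS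
    · -- `ws V q'` centralizes the line
      exfalso
      apply hxl
      change ∀ x ∈ ws V q, x * (c * q * c⁻¹) = c * q * c⁻¹ * x at hcomm
      have hzV : ∀ q' ∈ V, q' ≠ 1 → ∀ x ∈ ws V q', x * z = z * x := by
        intro q' hq' hq1' x hx
        exact (mem_centralizer_iff.mp (h.toOdd.ws_le_centralizer_V hq' hq1' hx) z h.z_mem).symm
      -- reduction to `l = c q c⁻¹`
      have hred : ∀ q' ∈ V, q' ≠ 1 → (∀ x ∈ ws V q', x * (c * q * c⁻¹) = c * q * c⁻¹ * x) →
          ∀ x ∈ ws V q', ∀ l ∈ cj c V, x * l = l * x := by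
        intro q' hq' hq1' hc1 x hx l hl
        rw [mem_cj] at hl
        have hcz : c * z * c⁻¹ = z := by rw [h.z_comm hc, mul_inv_cancel_right]
        have hxz := hzV q' hq' hq1' x hx
        have e1 : l = c * (c⁻¹ * l * c) * c⁻¹ := by group
        rcases h.four h.z_mem hq h.z_ne hq1 (Ne.symm hqz) hl with e | e | e | e
        · rw [e1, e]; simp
        · rw [e1, e, hcz]; exact hxz
        · rw [e1, e]; exact hc1 x hx
        · rw [e1, e]
          have e2 : c * (z * q) * c⁻¹ = z * (c * q * c⁻¹) := by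
            calc c * (z * q) * c⁻¹ = (c * z * c⁻¹) * (c * q * c⁻¹) := by group
              _ = _ := by rw [hcz]
          rw [e2, ← mul_assoc, hxz, mul_assoc z x, hc1 x hx, ← mul_assoc]
      rcases h.four h.z_mem hq h.z_ne hq1 (Ne.symm hqz) hq' with e | e | e | e
      · exact absurd e hq1'
      · rw [e] at hx
        exact h.ab x hx l (le_ws hL hl)
      · rw [e] at hx
        exact hred q hq hq1 hcomm x hx l hl
      · -- conjugate by an element of `kq V z`
        rw [e] at hx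
        obtain ⟨t, ht, htm⟩ := h.toOdd.exists_swap' h.z_mem h.z_ne
        have ht1 := htm q hq hq1 hqz
        have hzq : z * q ≠ 1 := fun e' => hq1' (e.trans e')
        refine hred (z * q) (mul_mem h.z_mem hq) hzq ?_ x hx l hl
        intro x hx
        have hx' : t⁻¹ * x * t ∈ ws V q := by
          rw [← ht1, ← cj_ws, mem_cj] at hx
          exact hx
        have h4 := hcomm _ hx'
        have hlw : c * q * c⁻¹ ∈ ws V z := s.CN c hc q (h.V_le_ws hq)
        have h5 : x * (t * (c * q * c⁻¹) * t⁻¹) = t * (c * q * c⁻¹) * t⁻¹ * x := by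
          calc x * (t * (c * q * c⁻¹) * t⁻¹) = t * ((t⁻¹ * x * t) * (c * q * c⁻¹)) * t⁻¹ := by group
            _ = t * ((c * q * c⁻¹) * (t⁻¹ * x * t)) * t⁻¹ := by rw [h4]
            _ = _ := by group
        rcases kq_ws h.toGeo ht hlw with e5 | e5
        · rwa [e5] at h5
        · rw [e5] at h5
          have hxz := hzV (z * q) (mul_mem h.z_mem hq) hzq x hx
          have h6 : z * (x * (c * q * c⁻¹)) = z * (c * q * c⁻¹ * x) := by
            calc z * (x * (c * q * c⁻¹)) = (x * z) * (c * q * c⁻¹) := by rw [hxz]; group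
              _ = x * (z * (c * q * c⁻¹)) := by group
              _ = z * (c * q * c⁻¹ * x) := by rw [h5]; group
          exact mul_left_cancel h6
  constructor
  · intro hwu
    obtain ⟨hw', h1⟩ := hAV hwu
    exact h1
  · intro hS
    have hVu := V_le_uu V z
    have hqy : (y : G) * q * (y : G)⁻¹ ∈ uu V z := by
      have hL : cj (y : G) V ∈ adj V z := by
        refine ⟨h.cj_mem_lines y.2, q, hq, hq1, a, ha, (y : G) * q * (y : G)⁻¹, conj_mem_cj hq, fun e => ?_⟩
        have h1 := hb.a_fn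
        have hyq : (y : G) * q * (y : G)⁻¹ ∈ ws V z := s.CN y y.2 q (h.V_le_ws hq)
        have h2 : rep s ⟨a, h.ws_q_le hq hq1 hqz ha⟩ • f • n =
            mkM s (a * ((y : G) * q * (y : G)⁻¹) * a⁻¹) (s.CN a (h.ws_q_le hq hq1 hqz ha) _ hyq) := rfl
        have h3 : f • n = mkM s ((y : G) * q * (y : G)⁻¹) hyq := rfl
        have h4 : mkM s (a * ((y : G) * q * (y : G)⁻¹) * a⁻¹) (s.CN a (h.ws_q_le hq hq1 hqz ha) _ hyq) =
            mkM s ((y : G) * q * (y : G)⁻¹) hyq := by
          rw [mk_eq, e]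
          have : ((y : G) * q * (y : G)⁻¹ * a * a⁻¹)⁻¹ * ((y : G) * q * (y : G)⁻¹) = 1 := by group
          rw [this]; exact one_mem _
        rw [h2, h4, ← h3] at h1
        apply hb.n_ne
        have h5 : f • n + n = f • n + 0 := by rw [← h1, add_zero]
        exact add_left_cancel h5
      exact le_uu hL (conj_mem_cj hq)
    have hqy' : (y : G) * q * (y : G)⁻¹ ∈ ws V z := s.CN y y.2 q (h.V_le_ws hq)
    have hzu : zpowers z ≤ uu V z := zpowers_le.mpr (hVu h.z_mem)
    have key : ∀ {b : G} (hb : b ∈ ws V z), b ∈ uu V z → mkM s w hw = mkM s b hb → w ∈ uu V z := by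
      intro b hb hbu e
      have h1 := (mk_eq _ _).mp e
      have h2 : w = b * (w⁻¹ * b)⁻¹ := by group
      rw [h2]
      exact mul_mem hbu (inv_mem (hzu h1))
    rcases hS with e | e | e | e
    · exact key (one_mem _) (one_mem _) (e.trans mk_one.symm)
    · exact key (h.V_le_ws hq) (hVu hq) e
    · exact key hqy' hqy e
    · refine key (mul_mem (h.V_le_ws hq) hqy') (mul_mem (hVu hq) hqy) (e.trans ?_)
      rw [mk_mul (h.V_le_ws hq) hqy']; rfl

end Main

end Cfsg.Agent.MinSimple.OddNatC
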