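import Cfsg.Agent.MinSimple.OddNatC
import Cfsg.Agent.MinSimple.Basic
import Cfsg.Agent.MinSimple.FFBlock
import Cfsg.Agent.MinSimple.NatTri

/-!
# (E1)(b), natural block: `Nat1 T V z` gives `NTri`
-/

set_option autoImplicit false
set_option linter.unusedSectionVars false

namespace Cfsg.Agent.MinSimple.OddNatD

open Subgroup Cfsg Cfsg.Agent.ZN Cfsg.Agent.MinSimple.Geo Cfsg.Agent.MinSimple.BTwoA
  Cfsg.Agent.MinSimple.OddLine Cfsg.Agent.MinSimple.OddNatB Cfsg.Agent.MinSimple.OddNatC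
open Cfsg.Agent.MinSimple.BTwoB (mem_kq kq_le centralizer_le_normalizer_kq le_kq z_mem_of_le)
open Cfsg.Agent.ZN.Block (conj_mem_of_normalizer conj_mem_of_normalizer' le_normalizer_of_forall
  mem_normalizer_of card_mul_relIndex')
open Cfsg.Agent.MinSimple.Sec (Sec Mod)
open Cfsg.Agent.MinSimple.Sec.Mod
open Cfsg.Agent.MinSimple.OddNatA (Tv Sp Blk)
open Cfsg.Agent.Classification.TitsFin.Tri (Pt kst)

local notation "mkM" => Cfsg.Agent.MinSimple.Sec.Mod.mk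

universe u

variable {G : Type u} [Group G] [Finite G] {T V : Subgroup G} {z : G}

theorem sym (h : Odd T V z) {p q p' q' : G} (hp : Pt V p) (hq : Pt V q) (hpq : p ≠ q) (hp' : Pt V p')
    (hq' : Pt V q') (hpq' : p' ≠ q') : ∃ n ∈ normalizer (V : Set G), n * p * n⁻¹ = p' ∧ n * q * n⁻¹ = q' := by
  obtain ⟨n1, hn1, h1⟩ : ∃ n1 ∈ normalizer (V : Set G), n1 * p * n1⁻¹ = p' := by
    by_cases e : p = p'
    · exact ⟨1, one_mem _, by rw [e]; group⟩
    · obtain ⟨n, hn, h1, -⟩ := exists_swap2 h hp.1 hp'.1 hp.2 hp'.2 e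
      exact ⟨n, hn, h1⟩
  obtain ⟨q1, hq1⟩ : ∃ q1, q1 = n1 * q * n1⁻¹ := ⟨_, rfl⟩
  have hq1V : q1 ∈ V := by rw [hq1]; exact (mem_normalizer_iff.mp hn1 q).mp hq.1
  have hq11 : q1 ≠ 1 := by
    rw [hq1]; intro e
    apply hq.2
    have : q = n1⁻¹ * (n1 * q * n1⁻¹) * n1 := by group
    rw [this, e]; group
  have hq1p : q1 ≠ p' := by
    rw [hq1, ← h1]; intro e
    apply hpq
    have e1 : p = n1⁻¹ * (n1 * p * n1⁻¹) * n1 := by group
    have e2 : q = n1⁻¹ * (n1 * q * n1⁻¹) * n1 := by group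
    rw [e1, e2, e]
  by_cases e : q1 = q'
  · exact ⟨n1, hn1, h1, by rw [← hq1, e]⟩
  · obtain ⟨n2, hn2, h2, h3⟩ := exists_swap2 h hq1V hq'.1 hq11 hq'.2 e
    have h4 : p' = q1 * q' := by
      rcases h.four hq1V hq'.1 hq11 hq'.2 e hp'.1 with e1 | e1 | e1 | e1
      · exact absurd e1 hp'.2
      · exact absurd e1.symm hq1p
      · exact absurd e1 hpq'
      · exact e1
    refine ⟨n2 * n1, mul_mem hn2 hn1, ?_, ?_⟩
    · calc n2 * n1 * p * (n2 * n1)⁻¹ = n2 * (n1 * p * n1⁻¹) * n2⁻¹ := by group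
        _ = n2 * (q1 * q') * n2⁻¹ := by rw [h1, h4]
        _ = (n2 * q1 * n2⁻¹) * (n2 * q' * n2⁻¹) := by group
        _ = q' * q1 := by rw [h2, h3]
        _ = p' := by rw [h4, h.comm hq1V hq'.1]
    · calc n2 * n1 * q * (n2 * n1)⁻¹ = n2 * (n1 * q * n1⁻¹) * n2⁻¹ := by group
        _ = q' := by rw [← hq1, h2]

/-- `V ≤ kq V q` -/
theorem V_le_kq (h : Odd T V z) : V ≤ kq V z := by
  intro v hv
  have hvC : v ∈ centralizer ({z} : Set G) := h.ws_le_centralizer (h.V_le_ws hv)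
  rw [← rep_eq_one_iff h hvC, rep_eq_one]
  intro w hw
  change v * w * v⁻¹ * w⁻¹ ∈ _
  rw [h.ab v (h.V_le_ws hv) w hw, mul_inv_cancel_right, mul_inv_cancel]; exact one_mem _

section Main

variable (h : Nat1 T V z)

include h

theorem card_uu : Nat.card (uu V z) = 8 := by
  obtain ⟨q, hq, hq1, hqz⟩ := h.exists_y
  obtain ⟨a, ha, ha'⟩ := h.exists_a hq hq1 hqz
  obtain ⟨y, hj, hb, h3⟩ := exists_y h hq hq1 hqz ha ha'
  have hiff := fun {w : G} (hw : w ∈ ws V z) => mem_uu_iff h hq hq1 hqz ha ha' hj hb h3 hw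
  set s := sec h.toOdd with hs
  set n := mkM s q (h.V_le_ws hq) with hn
  set f := rep s y with hf
  have two : ∀ m : Mod s, m + m = 0 := add_self
  have hyq : (y : G) * q * (y : G)⁻¹ ∈ ws V z := s.CN y y.2 q (h.V_le_ws hq)
  have hyqm : mkM s ((y : G) * q * (y : G)⁻¹) hyq = f • n := rfl
  have hyqu : (y : G) * q * (y : G)⁻¹ ∈ uu V z := by
    rw [hiff hyq, hyqm]; right; right; left; rfl
  have hVu := V_le_uu V z
  have hrel : V.relIndex (uu V z) = 2 := by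
    refine FFBlock.relIndex_eq_two (e := (y : G) * q * (y : G)⁻¹) hyqu ?_ ?_
    · rw [mem_V_iff h hq hq1 hqz hyq, hyqm]
      rintro (e | e)
      · exact hb.fn_ne0 e
      · exact hb.fn_ne e
    · intro w hwu
      have hw : w ∈ ws V z := uu_le_ws h.toOdd hwu
      rw [mem_V_iff h hq hq1 hqz hw, mem_V_iff h hq hq1 hqz (mul_mem hw hyq), mk_mul hw hyq, hyqm]
      rcases (hiff hw).mp hwu with e | e | e | e <;> rw [e]
      · left; left; rfl
      · left; right; rfl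
      · right; left; exact two _
      · right; right
        rw [add_assoc, two, add_zero]
  have := card_mul_relIndex' hVu
  rw [h.card_V, hrel] at this
  omega

/-- the 3-element of the block at `z` -/
theorem exists_three : ∃ y ∈ centralizer ({z} : Set G), (∃ j : ℕ, y ^ 3 ^ j = 1) ∧
    y ∈ normalizer (uu V z : Set G) ∧ ∃ q ∈ V, y * q * y⁻¹ * q⁻¹ ∉ zpowers z := by
  obtain ⟨q, hq, hq1, hqz⟩ := h.exists_y
  obtain ⟨a, ha, ha'⟩ := h.exists_a hq hq1 hqz
  obtain ⟨y, hj, hb, h3⟩ := exists_y h hq hq1 hqz ha ha'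
  have hiff := fun {w : G} (hw : w ∈ ws V z) => mem_uu_iff h hq hq1 hqz ha ha' hj hb h3 hw
  set s := sec h.toOdd with hs
  refine ⟨y, y.2, ?_, ?_, q, hq, ?_⟩
  · obtain ⟨j, hj⟩ := hj
    exact ⟨j, by simpa using congrArg Subtype.val hj⟩
  · refine FFBlock.mem_normalizer_of_forall fun w hwu => ?_
    have hw : w ∈ ws V z := uu_le_ws h.toOdd hwu
    have hw' : (y : G) * w * (y : G)⁻¹ ∈ ws V z := s.CN y y.2 w hw
    rw [hiff hw']
    exact sp_smul hb ((hiff hw).mp hwu)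
  · intro e
    apply hb.fn_ne
    have hyq : (y : G) * q * (y : G)⁻¹ ∈ ws V z := s.CN y y.2 q (h.V_le_ws hq)
    have h1 : mkM s ((y : G) * q * (y : G)⁻¹ * q⁻¹) (mul_mem hyq (inv_mem (h.V_le_ws hq))) = 0 :=
      (mk_eq_zero _).mpr e
    rw [mk_mul hyq (inv_mem (h.V_le_ws hq)), mk_inv (h.V_le_ws hq)] at h1
    exact OddNatA.eq_of_add add_self h1

/-- `uu V z` is not contained in `kq V q` -/
theorem exists_u {q : G} (hq : q ∈ V) (hq1 : q ≠ 1) (hqz : q ≠ z) : ∃ u ∈ uu V z, u ∉ kq V q := by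
  by_contra hcon
  push Not at hcon
  obtain ⟨a, ha, ha'⟩ := h.exists_a hq hq1 hqz
  obtain ⟨y, hj, hb, h3⟩ := exists_y h hq hq1 hqz ha ha'
  have hiff := fun {w : G} (hw : w ∈ ws V z) => mem_uu_iff h hq hq1 hqz ha ha' hj hb h3 hw
  obtain ⟨T', h'⟩ := h.point hq hq1
  obtain ⟨b, hb1, hb2⟩ := h'.exists_a h.z_mem h.z_ne (Ne.symm hqz)
  apply hb2
  refine ws_le (U := kq V q) (fun L hL => ?_) hb1
  obtain ⟨c, hc, rfl⟩ := h.exists_of_mem_lines hL
  have hlw : c * q * c⁻¹ ∈ ws V z := (sec h.toOdd).CN c hc q (h.V_le_ws hq)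
  have hlK : c * q * c⁻¹ ∈ kq V q := by
    rcases dich h hq hq1 hqz ha ha' hj hb h3 ⟨c, hc⟩ with hS | ⟨h1, -⟩
    · exact hcon _ ((hiff hlw).mpr hS)
    · exact h1
  have hzK : z ∈ kq V q := V_le_kq h'.toOdd h.z_mem
  intro l hl
  rw [mem_cj] at hl
  have hcz : c * z * c⁻¹ = z := by rw [h.z_comm hc, mul_inv_cancel_right]
  have e1 : l = c * (c⁻¹ * l * c) * c⁻¹ := by group
  rcases h.four h.z_mem hq h.z_ne hq1 (Ne.symm hqz) hl with e | e | e | e
  · rw [e1, e]; simp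
  · rw [e1, e, hcz]; exact hzK
  · rw [e1, e]; exact hlK
  · rw [e1, e]
    have e2 : c * (z * q) * c⁻¹ = z * (c * q * c⁻¹) := by
      calc c * (z * q) * c⁻¹ = (c * z * c⁻¹) * (c * q * c⁻¹) := by group
        _ = _ := by rw [hcz]
    rw [e2]; exact mul_mem hzK hlK

theorem nc {q : G} (hq : q ∈ V) (hq1 : q ≠ 1) (hqz : q ≠ z) :
    ∃ u ∈ uu V z, ∃ u' ∈ uu V q, u * u' ≠ u' * u := by
  obtain ⟨T', h'⟩ := h.point hq hq1
  obtain ⟨u, hu, huK⟩ := exists_u h hq hq1 hqz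
  obtain ⟨u', hu', huK'⟩ := exists_u h' h.z_mem h.z_ne (Ne.symm hqz)
  refine ⟨u, hu, u', hu', fun e => ?_⟩
  obtain ⟨a, ha, ha'⟩ := h.exists_a hq hq1 hqz
  obtain ⟨y, hj, hb, h3⟩ := exists_y h hq hq1 hqz ha ha'
  have hiff := fun {w : G} (hw : w ∈ ws V z) => mem_uu_iff h hq hq1 hqz ha ha' hj hb h3 hw
  have huw : u ∈ ws V z := uu_le_ws h.toOdd hu
  have huw' : u' ∈ ws V q := uu_le_ws h'.toOdd hu'
  have huV : ¬ u ∈ V := fun e => huK (V_le_kq h'.toOdd e)
  rw [mem_V_iff h hq hq1 hqz huw] at huV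
  have hrep := h.rep_eq hq hq1 hqz huw' ha huK' ha'
  set s := sec h.toOdd with hs
  have hfix : rep s ⟨a, h.ws_q_le hq hq1 hqz ha⟩ • mkM s u huw = mkM s u huw := by
    rw [← hrep, rep_smul, smul_mk, mk_eq]
    change (u' * u * u'⁻¹)⁻¹ * u ∈ _
    rw [← e, mul_inv_cancel_right, inv_mul_cancel]; exact one_mem _
  have hne : ∀ m : Mod s, m + mkM s q (h.V_le_ws hq) = m → False := by
    intro m hm
    apply hb.n_ne
    have : m + mkM s q (h.V_le_ws hq) = m + 0 := by rw [hm, add_zero]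
    exact add_left_cancel this
  rcases (hiff huw).mp hu with e1 | e1 | e1 | e1
  · exact huV (Or.inl e1)
  · exact huV (Or.inr e1)
  · rw [e1, hb.a_fn] at hfix
    exact hne _ hfix
  · rw [e1, smul_add, hb.a_fn, hb.tv.fix hb.two, ← add_assoc] at hfix
    exact hne _ hfix

/-- **from the geometry to `NTri`** -/
theorem ntri : NatTri.NTri V (uu V) (fun p => centralizer ({p} : Set G) ⊓ normalizer (uu V p : Set G)) where
  cardV := h.card_V
  sqV := h.sq
  cardU := by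
    intro p hp
    obtain ⟨T', h'⟩ := h.point hp.1 hp.2
    exact card_uu h'
  sqU := by
    intro p hp u hu
    obtain ⟨T', h'⟩ := h.point hp.1 hp.2
    exact h'.ws_sq (uu_le_ws h'.toOdd hu)
  V_le := fun p _ => V_le_uu V p
  C_le := fun p _ => inf_le_left
  C_norm := fun p _ => inf_le_right
  le_C := by
    intro p _ n hn
    refine mem_inf.mpr ⟨hn.2, ?_⟩
    rw [mem_normalizer_iff_cj, cj_uu hn.1, mem_centralizer_singleton_iff.mp hn.2, mul_inv_cancel_right]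
  sym := fun p q p' q' hp hq hpq hp' hq' hpq' => sym h.toOdd hp hq hpq hp' hq' hpq'
  conjU := fun n hn p _ => cj_uu hn p
  conjC := by
    intro n hn p _
    change cj n (centralizer ({p} : Set G) ⊓ normalizer (uu V p : Set G)) = _
    rw [cj_inf, cj_centralizer_singleton, cj_normalizer, cj_uu hn]
  three := by
    intro p hp
    obtain ⟨T', h'⟩ := h.point hp.1 hp.2
    obtain ⟨y, hy, hj, hn, q, hq, hyq⟩ := exists_three h'
    refine ⟨y, mem_inf.mpr ⟨hy, hn⟩, hj, fun e => hyq ?_⟩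
    exact e.2.2.1 q (V_le_uu V p hq)
  nc := by
    intro p q hp hq hpq
    obtain ⟨T', h'⟩ := h.point hp.1 hp.2
    exact nc h' hq.1 hq.2 (Ne.symm hpq)
  solv := fun R hR hR1 => h.solv _ ⟨R, hR, hR1, rfl⟩
  char2 := by
    intro p hp
    obtain ⟨T', h'⟩ := h.point hp.1 hp.2
    have hloc := isTwoLocal_centralizer h'.zz h'.z_ne
    refine Basic.char2_of_le (inf_centralizer_o2_le h.charTwo hloc) ?_ inf_le_left
    have hpu : p ∈ uu V p := V_le_uu V p hp.1
    refine le_inf (o2_le _) (le_normalizer_of_forall fun x hx u hu => ?_)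
    have h1 := h'.comm_mem (uu_le_ws h'.toOdd hu) hx
    have h2 : zpowers p ≤ uu V p := (zpowers_le).mpr hpu
    have e : x * u * x⁻¹ = (u * x * u⁻¹ * x⁻¹)⁻¹ * u := by group
    rw [e]
    exact mul_mem (inv_mem (h2 h1)) hu
  soc := by
    intro p hp X hX hX2 hX1 hXn
    obtain ⟨T', h'⟩ := h.point hp.1 hp.2
    have hT'P : T' ≤ normalizer (V : Set G) ⊓ centralizer ({p} : Set G) := le_inf h'.T_norm h'.T_le
    have hT's : ¬ 2 ∣ T'.relIndex (normalizer (V : Set G) ⊓ centralizer ({p} : Set G)) := by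
      intro hd
      apply h'.T_syl
      rw [← relIndex_mul_relIndex _ _ _ hT'P (inf_le_right)]
      exact Dvd.dvd.mul_right hd _
    exact z_mem_of_le h'.toGeo ((le_o2 hX hX2 hXn).trans (o2_le_of_sylow hT'P h'.two hT's)) (hT'P.trans hXn) hX1

end Main

end Cfsg.Agent.MinSimple.OddNatD
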