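import Cfsg.Agent.MinSimple.OddNatD
import Cfsg.Agent.MinSimple.OddOne

/-!
# (E1)(b), natural block: `One T V z` and one transvection give `Nat1 T V z`
-/

set_option autoImplicit false
set_option linter.unusedSectionVars false

namespace Cfsg.Agent.MinSimple.OddNatE

open Subgroup Cfsg Cfsg.Agent.ZN Cfsg.Agent.MinSimple.Geo Cfsg.Agent.MinSimple.BTwoA
  Cfsg.Agent.MinSimple.OddLine Cfsg.Agent.MinSimple.OddBase Cfsg.Agent.MinSimple.OddRep
  Cfsg.Agent.MinSimple.OddOne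
open Cfsg.Agent.ZN.Block (conj_mem_of_normalizer conj_mem_of_normalizer' le_normalizer_of_forall
  mem_normalizer_of)
open Cfsg.Agent.MinSimple.OddNatB (Nat1)

universe u

variable {G : Type u} [Group G] [Finite G] {T V : Subgroup G} {z x y : G}

/-- two ordered pairs of distinct collinear points are conjugate -/
theorem exists_conj_col (h : Odd T V z) {x y p q : G} (hc : Col V x y) (hc' : Col V p q) :
    ∃ g : G, g * x * g⁻¹ = p ∧ g * y * g⁻¹ = q := by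
  have key : ∀ {x y : G}, Col V x y → ∃ g : G, g⁻¹ * x * g ∈ V ∧ g⁻¹ * y * g ∈ V ∧ g⁻¹ * x * g ≠ 1 ∧
      g⁻¹ * y * g ≠ 1 ∧ g⁻¹ * x * g ≠ g⁻¹ * y * g := by
    intro x y hc
    obtain ⟨h1, h2, h3, L, ⟨⟨g, rfl⟩, hxL⟩, hyL⟩ := hc
    have hcj : ∀ {a b : G}, g⁻¹ * a * g = g⁻¹ * b * g → a = b := by
      intro a b e
      have ea : a = g * (g⁻¹ * a * g) * g⁻¹ := by group
      have eb : b = g * (g⁻¹ * b * g) * g⁻¹ := by group
      rw [ea, eb, e]
    refine ⟨g, mem_cj.mp hxL, mem_cj.mp hyL, fun e => h1 ?_, fun e => h2 ?_, fun e => h3 (hcj e)⟩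
    · exact hcj (by rw [e]; group)
    · exact hcj (by rw [e]; group)
  obtain ⟨g, a1, a2, a3, a4, a5⟩ := key hc
  obtain ⟨k, b1, b2, b3, b4, b5⟩ := key hc'
  obtain ⟨n, -, h1, h2⟩ := OddNatD.sym h ⟨a1, a3⟩ ⟨a2, a4⟩ a5 ⟨b1, b3⟩ ⟨b2, b4⟩ b5
  refine ⟨k * n * g⁻¹, ?_, ?_⟩
  · calc k * n * g⁻¹ * x * (k * n * g⁻¹)⁻¹ = k * (n * (g⁻¹ * x * g) * n⁻¹) * k⁻¹ := by group
      _ = p := by rw [h1]; group
  · calc k * n * g⁻¹ * y * (k * n * g⁻¹)⁻¹ = k * (n * (g⁻¹ * y * g) * n⁻¹) * k⁻¹ := by group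
      _ = q := by rw [h2]; group

theorem conj_mem_zpowers {g x c : G} (h : c ∈ zpowers x) : g * c * g⁻¹ ∈ zpowers (g * x * g⁻¹) := by
  obtain ⟨n, rfl⟩ := h
  refine ⟨n, ?_⟩
  simp only [conj_zpow]

/-- **`One` and one transvection give `Nat1`.** -/
theorem nat1_of_one (h : One T V z) {M X : Type u} [AddCommGroup M] [Group X] [DistribMulAction X M]
    (R : Rep V x M X) (hc : Col V x y) {b : G} (hb : b ∈ ws V y) (hn : b ∉ kq V x) {n : M}
    (hR : ∀ m : M, R.rho b • m = m ∨ R.rho b • m = m + n) : Nat1 T V z where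
  toOdd := h.toOdd
  nc := by
    intro p q hp hq hp1 hq1 hpq
    have hpc : Col V p q := col_of_mem h.toGeo hp hq hp1 hq1 hpq
    obtain ⟨b, hb, hn⟩ := h.exists_not_mem hpc
    by_contra hcon
    push Not at hcon
    apply hn
    refine ⟨ws_le_cent h.toOdd hpc hb, fun w hw => ?_, fun w hw => ?_⟩
    · rw [← hcon w hw b hb, mul_inv_cancel_right, mul_inv_cancel]; exact one_mem _
    · rw [mul_assoc b⁻¹, hcon w hw b hb, inv_mul_cancel_left, mul_inv_cancel]; exact one_mem _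
  k1 := by
    intro p q hp hq hp1 hq1 hpq a ha b hb ha' hb'
    exact h.mul_mem_kq (col_of_mem h.toGeo hp hq hp1 hq1 hpq) ha hb ha' hb'
  r1 := by
    intro p q hp hq hp1 hq1 hpq
    have hpc : Col V p q := col_of_mem h.toGeo hp hq hp1 hq1 hpq
    have hx := hc.pt_left h.toGeo
    obtain ⟨g, hgx, hgy⟩ := exists_conj_col h.toOdd hc hpc
    obtain ⟨n0, hn0, rfl⟩ := R.pi_surj n
    have hbc := ws_le_cent h.toOdd hc hb
    have key : ∀ w ∈ ws V x, b * w * b⁻¹ * w⁻¹ ∈ zpowers x ∨ b * w * b⁻¹ * w⁻¹ * n0 ∈ zpowers x := by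
      intro w hw
      have hbw : b * w * b⁻¹ ∈ ws V x := R.conj_mem hbc hw
      rcases hR (R.pi w) with e | e
      · left
        rw [R.smul_pi b hbc w hw, R.pi_eq_iff hbw hw] at e
        exact e
      · right
        rw [R.smul_pi b hbc w hw, ← R.pi_mul w hw n0 hn0, R.pi_eq_iff hbw (mul_mem hw hn0)] at e
        have e2 : b * w * b⁻¹ * w⁻¹ * n0 = b * w * b⁻¹ * (w * n0)⁻¹ := by
          rw [mul_inv_rev, OddBase.ws_inv h.toOdd hx hn0, OddBase.ws_inv h.toOdd hx hw,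
            OddBase.ws_comm h.toOdd hx hn0 hw, mul_assoc]
        rw [e2]; exact e
    obtain ⟨c, hc'⟩ : ∃ c, c = g * b * g⁻¹ := ⟨_, rfl⟩
    obtain ⟨m0, hm0'⟩ : ∃ m0, m0 = g * n0 * g⁻¹ := ⟨_, rfl⟩
    have key' : ∀ w ∈ ws V p, c * w * c⁻¹ * w⁻¹ ∈ zpowers p ∨ c * w * c⁻¹ * w⁻¹ * m0 ∈ zpowers p := by
      intro w hw
      rw [← hgx, ← cj_ws, mem_cj] at hw
      rcases key _ hw with e | e
      · left
        have := conj_mem_zpowers (g := g) e
        have e2 : g * (b * (g⁻¹ * w * g) * b⁻¹ * (g⁻¹ * w * g)⁻¹) * g⁻¹ = c * w * c⁻¹ * w⁻¹ := by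
          rw [hc']; group
        rwa [e2, hgx] at this
      · right
        have := conj_mem_zpowers (g := g) e
        have e2 : g * (b * (g⁻¹ * w * g) * b⁻¹ * (g⁻¹ * w * g)⁻¹ * n0) * g⁻¹ = c * w * c⁻¹ * w⁻¹ * m0 := by
          rw [hc', hm0']; group
        rwa [e2, hgx] at this
    have hb' : c ∈ ws V q := by
      rw [← hgy, ← cj_ws, hc']; exact conj_mem_cj hb
    have hm0 : m0 ∈ ws V p := by
      rw [← hgx, ← cj_ws, hm0']; exact conj_mem_cj hn0
    have hn' : c ∉ kq V p := by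
      intro e
      apply hn
      rw [← hgx, ← OddBase.cj_kq, mem_cj] at e
      have e2 : g⁻¹ * c * g = b := by rw [hc']; group
      rwa [e2] at e
    refine ⟨m0, hm0, fun a ha w hw => ?_⟩
    by_cases hak : a ∈ kq V p
    · exact Or.inl (hak.2.1 w hw)
    · have hk := h.mul_mem_kq hpc ha hb' hak hn'
      have hc2 : c * c = 1 := OddBase.ws_sq h.toOdd (hpc.pt h.toGeo) hb'
      have hw' : c * w * c⁻¹ ∈ ws V p := conj_mem_of_normalizer (ws_le_norm h.toOdd hpc) hb' hw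
      have h1 := hk.2.1 _ hw'
      have e : a * w * a⁻¹ * w⁻¹ = (a * c * (c * w * c⁻¹) * (a * c)⁻¹ * (c * w * c⁻¹)⁻¹) *
          (c * w * c⁻¹ * w⁻¹) := by
        have e3 : a * c * (c * w * c⁻¹) * (a * c)⁻¹ = a * w * a⁻¹ := by
          calc a * c * (c * w * c⁻¹) * (a * c)⁻¹ = a * (c * c) * w * (c * c)⁻¹ * a⁻¹ := by group
            _ = a * w * a⁻¹ := by rw [hc2]; group
        rw [e3]; group
      rw [e]
      rcases key' w hw with e' | e'
      · left; exact mul_mem h1 e'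
      · right; rw [mul_assoc]; exact mul_mem h1 e'

end Cfsg.Agent.MinSimple.OddNatE
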