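import Cfsg.Agent.MinSimple.OddNatE
import Cfsg.Agent.MinSimple.BTwoEndC
import Cfsg.Agent.MinSimple.NatFalse

/-!
# (E1)(b), natural block: the contradiction

`false_of_tv`: `One T V z` and one transvection are impossible in a simple group.
-/

set_option autoImplicit false
set_option linter.unusedSectionVars false

namespace Cfsg.Agent.MinSimple.OddNatEnd

open Subgroup Cfsg Cfsg.Agent.ZN Cfsg.Agent.MinSimple.Geo Cfsg.Agent.MinSimple.BTwoA
  Cfsg.Agent.MinSimple.OddLine Cfsg.Agent.MinSimple.OddBase Cfsg.Agent.MinSimple.OddRep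
  Cfsg.Agent.MinSimple.OddOne
open Cfsg.Agent.MinSimple.OddNatB (Nat1)

universe u

variable {G : Type u} [Group G] [Finite G] {T V : Subgroup G} {z x y : G}

/-- a 2-group `N_G(V) ∩ C_G(z)` is a Sylow 2-subgroup -/
theorem exists_sylow (h : Geo T V z)
    (hS : IsPGroup 2 (normalizer (V : Set G) ⊓ centralizer ({z} : Set G) : Subgroup G)) :
    ∃ P : Sylow 2 G, (P : Subgroup G) = normalizer (V : Set G) ⊓ centralizer ({z} : Set G) := by
  haveI : Fact (Nat.Prime 2) := ⟨Nat.prime_two⟩
  obtain ⟨P, hP⟩ := BTwoEndC.exists_sylow h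
  have h1 : T ≤ normalizer (V : Set G) ⊓ centralizer ({z} : Set G) := le_inf h.T_norm h.T_le
  exact ⟨P, (P.is_maximal' hS (by rw [hP]; exact h1)).symm⟩

/-- the natural block does not occur -/
theorem false_of_nat1 (hG : IsSimpleGroup G) (h : Nat1 T V z) : False := by
  have hN := OddNatD.ntri h
  have hz : Classification.TitsFin.Tri.Pt V z := ⟨h.z_mem, h.z_ne⟩
  have hS : IsPGroup 2 (normalizer (V : Set G) ⊓ centralizer ({z} : Set G) : Subgroup G) := by
    rcases hN.exists_conf hz with ⟨a, b, u, s, x, hc⟩ | ⟨a, b, u, f, s, x, hc⟩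
    · exact IsPGroup.of_card (n := 6) (by rw [hc.card]; norm_num)
    · exact IsPGroup.of_card (n := 7) (by rw [hc.card]; norm_num)
  obtain ⟨P, hP⟩ := exists_sylow h.toGeo hS
  exact NatFalse.false_of_NTri hG h.solv h.charTwo hN hz P hP

/-- **(R1)**: `One T V z` and one transvection are impossible in a simple group. -/
theorem false_of_tv (hG : IsSimpleGroup G) (h : One T V z) {M X : Type u} [AddCommGroup M] [Group X]
    [DistribMulAction X M] (R : Rep V x M X) (hc : Col V x y) {b : G} (hb : b ∈ ws V y) (hn : b ∉ kq V x)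
    (hR : ∃ n : M, ∀ m : M, R.rho b • m = m ∨ R.rho b • m = m + n) : False := by
  obtain ⟨n, hR⟩ := hR
  exact false_of_nat1 hG (OddNatE.nat1_of_one h R hc hb hn hR)

end Cfsg.Agent.MinSimple.OddNatEnd
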