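import Cfsg.Agent.MinSimple.OddTwoStar

/-!
# (E1)(b), Case 1: `r ∉ ws V d`, `d ∉ ws V r`, `[ws V r, ws V d] ≠ 1`

`Pair T V z r d` (see `OddTwoStar`).  We prove `[ws V r, ws V d] = ⟨t⟩`, `|ws V r : C(ws V d)| = 2 = |ws V d : C(ws V r)|`
(`Pair.comm_cases`, `Pair.index_two`) and construct the elements `h` of odd order (`Side`).
-/

set_option autoImplicit false
set_option linter.unusedSectionVars false

namespace Cfsg.Agent.MinSimple.OddPair

open Subgroup Cfsg Cfsg.Agent.ZN Cfsg.Agent.MinSimple.Geo Cfsg.Agent.MinSimple.BTwoA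
  Cfsg.Agent.MinSimple.OddLine Cfsg.Agent.MinSimple.OddBase Cfsg.Agent.MinSimple.OddTwoWeight
  Cfsg.Agent.MinSimple.OddTwoStar
open Cfsg.Agent.ZN.Block (conj_mem_of_normalizer conj_mem_of_normalizer' le_normalizer_of_forall
  mem_normalizer_of)

universe u

variable {G : Type u} [Group G] [Finite G] {T V : Subgroup G} {z r d : G}

/-- two weights with a nontrivial commutator `[w, v]` -/
structure Nuc (V : Subgroup G) (r d a0 y v y' w : G) : Prop where
  a0_mem : a0 ∈ ws V d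
  wt : Pair.Wt V r d a0 y
  v_mem : v ∈ uu (ws V r) y
  a0v : a0 * v ≠ v * a0
  wt' : Pair.Wt V d r v y'
  w_mem : w ∈ uu (ws V d) y'
  vw : v * w ≠ w * v
  wy : w * y * w⁻¹ * y ∈ kq V r
  four : Four (ws V r) y
  four' : Four (ws V d) y'
  ty : y * (w * v * w⁻¹ * v⁻¹) ≠ w * v * w⁻¹ * v⁻¹ * y
  ty' : y' * (w * v * w⁻¹ * v⁻¹) ≠ w * v * w⁻¹ * v⁻¹ * y'

theorem exists_nuc (h : Pair T V z r d) {a0 y : G} (ha0 : a0 ∈ ws V d) (hy : Pair.Wt V r d a0 y) :
    ∃ v y' w : G, Nuc V r d a0 y v y' w := by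
  have hact := act h.odd h.ptr hy.mem hy.odd
  obtain ⟨v, hv, ha0v⟩ := h.exists_v ha0 hy
  have hvW := hact.uu_le hv
  obtain ⟨y', hy'⟩ := h.symm.exists_wt hvW ha0 (fun e => ha0v e.symm)
  have hact' := act h.odd h.ptd hy'.mem hy'.odd
  obtain ⟨w, hw, hvw⟩ := h.symm.exists_v hvW hy'
  have hwW := hact'.uu_le hw
  have hidx := h.symm.index_v hvW hy' hw
  have hidx' := h.index_v ha0 hy hv
  have hwy : w * y * w⁻¹ * y ∈ kq V r := (hy.all w hwW).resolve_left fun hk =>
    hvw (h.comm_uu ha0 hy hwW hk hv).symm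
  obtain ⟨hf, -⟩ := OddTwoWeight.four h.odd h.ptr hy.mem hy.odd hy.nk (h.cr hwW) hwy hidx
  obtain ⟨hf', -⟩ := OddTwoWeight.four h.odd h.ptd hy'.mem hy'.odd hy'.nk (h.cd hvW) hy'.inv hidx'
  refine ⟨v, y', w, ha0, hy, hv, ha0v, hy', hw, hvw, hwy, hf, hf', ?_, ?_⟩
  · set t := w * v * w⁻¹ * v⁻¹ with ht
    intro hc
    obtain ⟨u', hu', hcase⟩ := uu_conj_cases h.odd h.ptr hy.mem hy.odd (h.cr hwW) (Or.inr hwy) hv
    have hyr : y * r = r * y := mem_centralizer_singleton_iff.mp hy.mem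
    have hr := self_mem_ws h.odd.toGeo h.ptr
    have hvi := hact.inv_eq hvW
    have h1 : u' * v = 1 := by
      refine hact.eq_one (mul_mem hu' hv) ?_
      rcases hcase with e1 | e1
      · have : t = u' * v := by rw [ht, e1, hvi]
        rw [← this]; exact hc
      · have h2 : t = u' * v * r := by
          rw [ht, e1, hvi, mul_assoc, hact.comm hr hvW, ← mul_assoc]
        have h3 : u' * v = t * r := by rw [h2, mul_assoc, h.sqr hr, mul_one]
        rw [h3]
        have c1 : Commute y t := hc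
        have c2 : Commute y r := hyr
        exact (c1.mul_right c2).eq
    have h2 : u' = v := by
      rw [eq_inv_of_mul_eq_one_left h1, hvi]
    apply hvw
    refine (h.comm_of hvW hwW ?_).symm
    rw [← h2]
    rcases hcase with e1 | e1
    · left; rw [← h2] at e1; exact e1
    · right; rw [← h2] at e1; exact e1
  · set t := w * v * w⁻¹ * v⁻¹ with ht
    intro hc
    obtain ⟨u', hu', hcase⟩ := uu_conj_cases h.odd h.ptd hy'.mem hy'.odd (h.cd hvW) (Or.inr hy'.inv) hw
    have hyr : y' * d = d * y' := mem_centralizer_singleton_iff.mp hy'.mem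
    have hr := self_mem_ws h.odd.toGeo h.ptd
    have hwi := hact'.inv_eq hwW
    have htt : t = w * (v * w * v⁻¹) := by
      have e : w * (v * w⁻¹ * v⁻¹) = t := by rw [ht]; group
      rw [← e, hwi]
    have h1 : w * u' = 1 := by
      refine hact'.eq_one (mul_mem hw hu') ?_
      rcases hcase with e1 | e1
      · have : t = w * u' := by rw [htt, e1]
        rw [← this]; exact hc
      · have h2 : t = w * u' * d := by rw [htt, e1, ← mul_assoc]
        have h3 : w * u' = t * d := by rw [h2, mul_assoc, h.sqd hr, mul_one]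
        rw [h3]
        have c1 : Commute y' t := hc
        have c2 : Commute y' d := hyr
        exact (c1.mul_right c2).eq
    have h2 : u' = w := by
      rw [eq_inv_of_mul_eq_one_right h1, hwi]
    apply hvw
    refine (h.symm.comm_of hwW hvW ?_)
    rcases hcase with e1 | e1
    · left; rw [h2] at e1; exact e1
    · right; rw [h2] at e1; exact e1

/-- a commutator `[a, b]` of elements `a` centralizing `y`, where `a` centralizes `[W, y]`, is centralized by `y` -/
theorem comm_comm (h : Pair T V z r d) {a0 y a b : G} (ha0 : a0 ∈ ws V d) (hy : Pair.Wt V r d a0 y)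
    (ha : a ∈ ws V d) (hay : a * y * a⁻¹ * y⁻¹ ∈ kq V r) (hb : b ∈ ws V r) :
    y * (a * b * a⁻¹ * b⁻¹) = a * b * a⁻¹ * b⁻¹ * y := by
  have hact := act h.odd h.ptr hy.mem hy.odd
  have hyr : y * r = r * y := mem_centralizer_singleton_iff.mp hy.mem
  have hr := self_mem_ws h.odd.toGeo h.ptr
  refine comm_of_odd hy.odd hyr ?_ (h.sqr hr)
  set k := a * y * a⁻¹ * y⁻¹ with hk
  set b2 := y * b * y⁻¹ with hb2
  have hb2W : b2 ∈ ws V r := hact.conj b hb
  have hu : b * b2 ∈ uu (ws V r) y := hact.mem_uu.mpr ⟨b, hb, rfl⟩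
  have hau := h.comm_uu ha0 hy ha hay hu
  have hbb := h.sqr hb
  -- `a b2 a⁻¹ = (b b2) (a b a⁻¹)`
  have hXW := conj_mem (V := V) (h.cr ha) hb2W
  have hYW := conj_mem (V := V) (h.cr ha) hb
  have e1 : a * b2 * a⁻¹ = a * b * a⁻¹ * (b * b2) := by
    have e2 : b2 = b * (b * b2) := by rw [← mul_assoc, hbb, one_mul]
    have e3 : a * (b * b2) * a⁻¹ = b * b2 := conj_eq_iff_comm.mpr hau
    calc a * b2 * a⁻¹ = a * (b * (b * b2)) * a⁻¹ := by rw [← e2]
      _ = a * b * a⁻¹ * (a * (b * b2) * a⁻¹) := by group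
      _ = a * b * a⁻¹ * (b * b2) := by rw [e3]
  have e4 : y * (a * b * a⁻¹) * y⁻¹ = k⁻¹ * (a * b2 * a⁻¹) * k := by rw [hk, hb2]; group
  have hc1 := hact.comm hYW hb
  have key : ∀ X : G, y * (a * b * a⁻¹) * y⁻¹ = a * b * a⁻¹ * (b * b2) * X →
      X * b2 = b2 * X → y * (a * b * a⁻¹ * b⁻¹) * y⁻¹ = a * b * a⁻¹ * b⁻¹ * X := by
    intro X hX hXb
    have hbi : b⁻¹ = b := hact.inv_eq hb
    have hb2i : b2⁻¹ = b2 := hact.inv_eq hb2W
    have e5 : y * (a * b * a⁻¹ * b⁻¹) * y⁻¹ = y * (a * b * a⁻¹) * y⁻¹ * b2⁻¹ := by rw [hb2]; group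
    rw [e5, hX, hb2i]
    calc a * b * a⁻¹ * (b * b2) * X * b2 = a * b * a⁻¹ * b * b2 * (X * b2) := by group
      _ = a * b * a⁻¹ * b * (b2 * b2) * X := by rw [hXb]; group
      _ = a * b * a⁻¹ * b⁻¹ * X := by rw [h.sqr hb2W, mul_one, hbi]
  rcases kq_cases' h.odd h.ptr hay hXW with e5 | e5
  · left
    have := key 1 (by rw [e4, e5, e1, mul_one]) (by rw [one_mul, mul_one])
    rw [this, mul_one]
  · right
    exact key r (by rw [e4, e5, e1]) (hact.comm hr hb2W)

theorem Nuc.kill (h : Pair T V z r d) {a0 y v y' w : G} (hN : Nuc V r d a0 y v y' w) {q : G}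
    (h1 : y * q = q * y) (h2 : y' * q = q * y')
    (h3 : w * v * w⁻¹ * v⁻¹ * q = q * (w * v * w⁻¹ * v⁻¹)) (hq : q * q = 1) : q = 1 := by
  have hvW := hN.four.uu_le hN.v_mem
  have hwW := hN.four'.uu_le hN.w_mem
  have htI := h.comm_mem hvW hwW
  exact OddTwoStar.kill h.odd.toGeo hN.four hN.four' htI.1 htI.2 hN.ty hN.ty' hN.v_mem hN.w_mem rfl
    h1 h2 h3 hq

/-- an element of `ws V d` which centralizes the weight `y` centralizes `ws V r` -/
theorem Nuc.comm (h : Pair T V z r d) {a0 y v y' w : G} (hN : Nuc V r d a0 y v y' w) {a b : G}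
    (ha : a ∈ ws V d) (hay : a * y * a⁻¹ * y⁻¹ ∈ kq V r) (hb : b ∈ ws V r) : a * b = b * a := by
  have hvW := hN.four.uu_le hN.v_mem
  have hwW := hN.four'.uu_le hN.w_mem
  have htI := h.comm_mem hvW hwW
  have key : ∀ b ∈ ws V r, b * y' * b⁻¹ * y'⁻¹ ∈ kq V d → a * b = b * a := by
    intro b hb hby
    have h1 := comm_comm h hN.a0_mem hN.wt ha hay hb
    have h2 := comm_comm h.symm hvW hN.wt' hb hby ha
    have hc := h.comm_mem hb ha
    have e : b * a * b⁻¹ * a⁻¹ = (a * b * a⁻¹ * b⁻¹)⁻¹ := by group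
    have hinv : (a * b * a⁻¹ * b⁻¹)⁻¹ = a * b * a⁻¹ * b⁻¹ := hN.four.inv_eq hc.1
    rw [e, hinv] at h2
    have h3 := hN.kill h h1 h2 (hN.four.comm htI.1 hc.1) (h.sqr hc.1)
    have : a * b * a⁻¹ = b := mul_inv_eq_one.mp h3
    exact conj_eq_iff_comm.mp this
  rcases hN.wt'.all b hb with hby | hby
  · exact key b hb hby
  · have hav : a * v = v * a := h.comm_uu hN.a0_mem hN.wt ha hay hN.v_mem
    have h1 := key (v * b) (mul_mem hvW hb) (h.symm.mul_cent hN.wt' hvW hN.wt'.inv hby)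
    have hvv := h.sqr hvW
    have c1 : Commute a (v * b) := h1
    have c2 : Commute a v := hav
    have c3 := c2.mul_right c1
    rw [← mul_assoc, hvv, one_mul] at c3
    exact c3.eq

theorem exists_noncomm {W : Subgroup G} {a : G} (hn : a ∉ centralizer (W : Set G)) :
    ∃ v ∈ W, a * v ≠ v * a := by
  rw [mem_centralizer_iff] at hn
  push Not at hn
  obtain ⟨v, hv, hne⟩ := hn
  exact ⟨v, hv, fun e => hne e.symm⟩

/-- `|ws V d : C(ws V r)| ≤ 2` -/
theorem index_two (h : Pair T V z r d) {a a' : G} (ha : a ∈ ws V d) (ha' : a' ∈ ws V d)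
    (hn : a ∉ centralizer (ws V r : Set G)) (hn' : a' ∉ centralizer (ws V r : Set G)) :
    a * a' ∈ centralizer (ws V r : Set G) := by
  obtain ⟨v0, hv0, hne⟩ := exists_noncomm hn
  obtain ⟨v1, hv1, hne1⟩ := exists_noncomm hn'
  obtain ⟨y, hy⟩ := h.exists_wt ha hv0 hne
  obtain ⟨v, y', w, hN⟩ := exists_nuc h ha hy
  have hay' : a' * y * a'⁻¹ * y ∈ kq V r := (hy.all a' ha').resolve_left fun hk =>
    hne1 (hN.comm h ha' hk hv1)
  rw [mem_centralizer_iff]
  intro b hb
  exact (hN.comm h (mul_mem ha ha') (h.mul_cent hy ha hy.inv hay') hb).symm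

/-- the data of Case 1 -/
structure Tr (T V : Subgroup G) (z r d t : G) : Prop extends Pair T V z r d where
  t_memr : t ∈ ws V r
  t_memd : t ∈ ws V d
  t_ne : t ≠ 1
  cases : ∀ a ∈ ws V d, ∀ b ∈ ws V r, a * b = b * a ∨ a * b * a⁻¹ * b⁻¹ = t

theorem exists_tr (h : Pair T V z r d) (hne : ∃ v ∈ ws V r, ∃ w ∈ ws V d, v * w ≠ w * v) :
    ∃ t, Tr T V z r d t := by
  obtain ⟨v, hv, w, hw, hvw⟩ := hne
  have hc := h.comm_mem hv hw
  refine ⟨w * v * w⁻¹ * v⁻¹, h, hc.1, hc.2, ?_, ?_⟩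
  · intro e
    apply hvw
    have : w * v * w⁻¹ = v := mul_inv_eq_one.mp e
    exact (conj_eq_iff_comm.mp this).symm
  · intro a ha b hb
    by_cases hab : a * b = b * a
    · exact Or.inl hab
    right
    have hnw : w ∉ centralizer (ws V r : Set G) := fun hc => hvw (mem_centralizer_iff.mp hc v hv)
    have hna : a ∉ centralizer (ws V r : Set G) := fun hc => hab (mem_centralizer_iff.mp hc b hb).symm
    have h1 := index_two h hw ha hnw hna
    have hww := h.sqd hw
    have haa := h.sqd ha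
    -- `a` and `w` act in the same way
    have h2 : ∀ b ∈ ws V r, a * b * a⁻¹ = w * b * w⁻¹ := by
      intro b hb
      have h3 := mem_centralizer_iff.mp h1 b hb
      have hwi : w⁻¹ = w := inv_eq_self hww
      have h4 : w * (a * b * a⁻¹) * w⁻¹ = b := by
        calc w * (a * b * a⁻¹) * w⁻¹ = (w * a * b) * (w * a)⁻¹ := by group
          _ = b * (w * a) * (w * a)⁻¹ := by rw [h3]
          _ = b := by group
      calc a * b * a⁻¹ = w⁻¹ * (w * (a * b * a⁻¹) * w⁻¹) * w := by group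
        _ = w⁻¹ * b * w := by rw [h4]
        _ = w * b * w⁻¹ := by rw [hwi]
    rw [h2 b hb]
    have hwb : w * b ≠ b * w := by
      intro e
      apply hab
      have := h2 b hb
      rw [conj_eq_iff_comm.mpr e] at this
      exact conj_eq_iff_comm.mp this
    have hnb : b ∉ centralizer (ws V d : Set G) := fun hc => hwb (mem_centralizer_iff.mp hc w hw)
    have hnv : v ∉ centralizer (ws V d : Set G) := fun hc =>
      hvw (mem_centralizer_iff.mp hc w hw).symm
    have h5 := index_two h.symm hb hv hnb hnv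
    have h6 : w * (b * v) * w⁻¹ = b * v := conj_eq_iff_comm.mpr (mem_centralizer_iff.mp h5 w hw)
    have hvv := h.sqr hv
    have hvi : v⁻¹ = v := inv_eq_self hvv
    have hbi : b⁻¹ = b := inv_eq_self (h.sqr hb)
    have hv' := conj_mem (V := V) (h.cr hw) hv
    have hb' := conj_mem (V := V) (h.cr hw) hb
    have e1 : w * b * w⁻¹ * (w * v * w⁻¹) = b * v := by rw [← h6]; group
    have e2 : w * b * w⁻¹ = b * v * (w * v * w⁻¹) := mul_eq_of_sq (h.sqr hv') e1
    have c1 : b * v * (w * v * w⁻¹) = w * v * w⁻¹ * (b * v) :=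
      OddBase.ws_comm h.odd h.ptr (mul_mem hb hv) hv'
    have c2 : b * v = v * b := OddBase.ws_comm h.odd h.ptr hb hv
    rw [e2, c1, c2, hvi, hbi]
    calc w * v * w⁻¹ * (v * b) * b = w * v * w⁻¹ * v * (b * b) := by group
      _ = w * v * w⁻¹ * v := by rw [h.sqr hb, mul_one]

namespace Tr

variable {t : G}

theorem symm (h : Tr T V z r d t) : Tr T V z d r t where
  toPair := h.toPair.symm
  t_memr := h.t_memd
  t_memd := h.t_memr
  t_ne := h.t_ne
  cases := by
    intro a ha b hb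
    rcases h.cases b hb a ha with e | e
    · exact Or.inl e.symm
    · right
      have htt := h.toPair.sqr h.t_memr
      have e1 : a * b * a⁻¹ * b⁻¹ = (b * a * b⁻¹ * a⁻¹)⁻¹ := by group
      rw [e1, e, inv_eq_self htt]

theorem tt_sq (h : Tr T V z r d t) : t * t = 1 := h.toPair.sqr h.t_memr

theorem comm_t (h : Tr T V z r d t) {a : G} (ha : a ∈ ws V d) : a * t = t * a :=
  OddBase.ws_comm h.odd h.ptd ha h.t_memd

theorem comm_t' (h : Tr T V z r d t) {b : G} (hb : b ∈ ws V r) : b * t = t * b :=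
  OddBase.ws_comm h.odd h.ptr hb h.t_memr

/-- the action of `ws V d` on `ws V r` -/
theorem conj_cases (h : Tr T V z r d t) {a b : G} (ha : a ∈ ws V d) (hb : b ∈ ws V r) :
    a * b = b * a ∨ a * b * a⁻¹ = b * t := by
  rcases h.cases a ha b hb with e | e
  · exact Or.inl e
  · right
    have e1 : a * b * a⁻¹ = t * b := mul_inv_eq_iff_eq_mul.mp e
    rw [e1, h.comm_t' hb]

theorem conj_eq (h : Tr T V z r d t) {a b : G} (ha : a ∈ ws V d) (hb : b ∈ ws V r)
    (hne : a * b ≠ b * a) : a * b * a⁻¹ = b * t := (h.conj_cases ha hb).resolve_left hne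

/-- products of elements moved by `w` -/
theorem mul_comm_of (h : Tr T V z r d t) {w v v' : G} (hw : w ∈ ws V d) (hv : v ∈ ws V r)
    (hv' : v' ∈ ws V r) (h1 : w * v ≠ v * w) (h2 : w * v' ≠ v' * w) : w * (v * v') = v * v' * w := by
  apply conj_eq_iff_comm.mp
  have e1 := h.conj_eq hw hv h1
  have e2 := h.conj_eq hw hv' h2
  calc w * (v * v') * w⁻¹ = (w * v * w⁻¹) * (w * v' * w⁻¹) := by group
    _ = v * (t * v') * t := by rw [e1, e2]; group
    _ = v * (v' * t) * t := by rw [h.comm_t' hv']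
    _ = v * v' * (t * t) := by group
    _ = v * v' := by rw [h.tt_sq, mul_one]

end Tr

/-- a weight `h` inverted by `w`, with `t ∈ [ws V r, h]` -/
structure Side (V : Subgroup G) (r w t h : G) : Prop where
  mem : h ∈ centralizer ({r} : Set G)
  odd : _root_.Odd (orderOf h)
  inv : w * h * w⁻¹ = h⁻¹
  nk : h ∉ kq V r
  four : Four (ws V r) h
  t_mem : t ∈ uu (ws V r) h

theorem exists_inverted {m w : G} (hm : w * m * w⁻¹ = m⁻¹) {s : G} (hs : s ∈ zpowers m) :
    w * s * w⁻¹ = s⁻¹ := by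
  obtain ⟨k, rfl⟩ := mem_zpowers_iff.mp hs
  rw [← conj_zpow, hm, inv_zpow]

/-- **the normal form of the weight** -/
theorem Tr.side_of {t : G} (h : Tr T V z r d t) {w : G} (hw : w ∈ ws V d) {y : G}
    (hym : y ∈ centralizer ({r} : Set G)) (hyodd : _root_.Odd (orderOf y)) (hynk : y ∉ kq V r)
    (hyinv : w * y * w⁻¹ * y ∈ kq V r) : ∃ s : G, Side V r w t s ∧ s * (y * y)⁻¹ ∈ kq V r := by
  have hact := act h.odd h.ptr hym hyodd
  have hww := h.toPair.sqd hw
  have hwi : w⁻¹ = w := inv_eq_self hww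
  have hwr := h.cr hw
  set g := y * w * y⁻¹ with hg
  have hgg : g * g = 1 := by rw [hg]; calc y * w * y⁻¹ * (y * w * y⁻¹) = y * (w * w) * y⁻¹ := by group
      _ = 1 := by rw [hww]; group
  have hgi : g⁻¹ = g := inv_eq_self hgg
  have hgr : g ∈ centralizer ({r} : Set G) := mul_mem (mul_mem hym hwr) (inv_mem hym)
  set m := g * w with hm
  have hmr : m ∈ centralizer ({r} : Set G) := mul_mem hgr hwr
  have hmi : w * m * w⁻¹ = m⁻¹ := by rw [hm, mul_inv_rev, hgi, hwi]; calc
      w * (g * w) * w = w * g * (w * w) := by group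
      _ = w * g := by rw [hww, mul_one]
  set k := w * y * w⁻¹ * y with hk
  have hmk : m = y * y * k⁻¹ := by
    rw [hm, hg, hk]
    have : (w * y * w⁻¹ * y)⁻¹ = y⁻¹ * (w * y⁻¹ * w⁻¹) := by group
    rw [this]
    calc y * w * y⁻¹ * w = y * (w * y⁻¹ * w⁻¹) * (w * w) := by group
      _ = y * y * (y⁻¹ * (w * y⁻¹ * w⁻¹)) := by rw [hww]; group
  -- the odd part of `m`
  set C := centralizer ({r} : Set G) with hC
  set K : Subgroup C := (kq V r).subgroupOf C with hK
  haveI hKn : K.Normal := kq_normal V r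
  let π : C →* C ⧸ K := QuotientGroup.mk' K
  have hπ : ∀ c : C, π c = 1 ↔ (c : G) ∈ kq V r := by
    intro c
    change (QuotientGroup.mk c : C ⧸ K) = 1 ↔ _
    rw [QuotientGroup.eq_one_iff, hK, mem_subgroupOf]
  let y' : C := ⟨y, hym⟩
  let m' : C := ⟨m, hmr⟩
  have hkC : k ∈ C := by rw [hk]; exact mul_mem (mul_mem (mul_mem hwr hym) (inv_mem hwr)) hym
  let k' : C := ⟨k, hkC⟩
  have hπm : π m' = π (y' * y') := by
    have e : m' = y' * y' * k'⁻¹ := Subtype.ext hmk
    rw [e, map_mul, map_inv, (hπ k').mpr hyinv, inv_one, mul_one]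
  have hyo : _root_.Odd (orderOf y') := by rw [← Subgroup.orderOf_coe]; exact hyodd
  have hmo : _root_.Odd (orderOf (π m')) := by
    rw [hπm]
    refine hyo.of_dvd_nat (orderOf_dvd_of_pow_eq_one ?_)
    rw [← map_pow, ← pow_two, ← pow_mul, mul_comm, pow_mul, pow_orderOf_eq_one, one_pow, map_one]
  obtain ⟨s, hs, hso, hsm⟩ := exists_odd_lift π hmo
  have hsz : (s : G) ∈ zpowers m := by
    obtain ⟨j, hj⟩ := mem_zpowers_iff.mp hs
    exact mem_zpowers_iff.mpr ⟨j, by rw [← hj]; simp [m']⟩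
  have hso' : _root_.Odd (orderOf (s : G)) := by rw [Subgroup.orderOf_coe]; exact hso
  have hinv := exists_inverted hmi hsz
  have hsk : (s : G) ∉ kq V r := by
    intro hk1
    have h1 : π (y' * y') = 1 := by rw [← hπm, ← hsm]; exact (hπ s).mpr hk1
    obtain ⟨n, hn⟩ := exists_sq_pow hyo
    have h2 : π y' = 1 := by rw [← hn, map_pow, h1, one_pow]
    exact hynk ((hπ y').mp h2)
  have hact' := act h.odd h.ptr s.2 hso'
  obtain ⟨hf, -⟩ := OddTwoWeight.four h.odd h.ptr s.2 hso' hsk hwr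
    (by rw [hinv, inv_mul_cancel]; exact one_mem _)
    (fun v hv v' hv' h1 h2 => h.mul_comm_of hw hv hv' h1 h2)
  have hsy : (s : G) * (y * y)⁻¹ ∈ kq V r := by
    have h1 : π (s * (y' * y')⁻¹) = 1 := by rw [map_mul, map_inv, hsm, hπm, mul_inv_cancel]
    exact (hπ _).mp h1
  refine ⟨s, ⟨s.2, hso', hinv, hsk, hf, ?_⟩, hsy⟩
  -- `[ws V r, m] ≤ ⟨t, t^y⟩`
  set ty := y * t * y⁻¹ with hty
  have htyW : ty ∈ ws V r := hact.conj t h.t_memr
  have htt := h.tt_sq
  have htyty : ty * ty = 1 := h.toPair.sqr htyW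
  have htc : t * ty = ty * t := hact.comm h.t_memr htyW
  let S : Subgroup G :=
    { carrier := {a | a = 1 ∨ a = t ∨ a = ty ∨ a = t * ty}
      mul_mem' := by
        have e1 : t * (t * ty) = ty := by rw [← mul_assoc, htt, one_mul]
        have e2 : ty * (t * ty) = t := by rw [htc, ← mul_assoc, htyty, one_mul]
        have e3 : t * ty * t = ty := by rw [htc, mul_assoc, htt, mul_one]
        have e4 : t * ty * ty = t := by rw [mul_assoc, htyty, mul_one]
        have e5 : t * ty * (t * ty) = 1 := by rw [← mul_assoc, e3, htyty]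
        rintro a b (rfl | rfl | rfl | rfl) (rfl | rfl | rfl | rfl)
        · left; rw [mul_one]
        · right; left; rw [one_mul]
        · right; right; left; rw [one_mul]
        · right; right; right; rw [one_mul]
        · right; left; rw [mul_one]
        · left; exact htt
        · right; right; right; rfl
        · right; right; left; exact e1
        · right; right; left; rw [mul_one]
        · right; right; right; exact htc.symm
        · left; exact htyty
        · right; left; exact e2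
        · right; right; right; rw [mul_one]
        · right; right; left; exact e3
        · right; left; exact e4
        · left; exact e5
      one_mem' := Or.inl rfl
      inv_mem' := by
        rintro a (rfl | rfl | rfl | rfl)
        · left; exact inv_one
        · right; left; exact inv_eq_self htt
        · right; right; left; exact inv_eq_self htyty
        · right; right; right
          rw [mul_inv_rev, inv_eq_self htt, inv_eq_self htyty]; exact htc.symm }
  have hSt : t ∈ S := Or.inr (Or.inl rfl)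
  have hSty : ty ∈ S := Or.inr (Or.inr (Or.inl rfl))
  have hSW : S ≤ ws V r := by
    rintro a (rfl | rfl | rfl | rfl)
    · exact one_mem _
    · exact h.t_memr
    · exact htyW
    · exact mul_mem h.t_memr htyW
  have hwv : ∀ v ∈ ws V r, w * v * w⁻¹ * v⁻¹ ∈ S := by
    intro v hv
    rcases h.conj_cases hw hv with e | e
    · rw [e]; simp [one_mem]
    · rw [e, h.comm_t' hv]; simpa using hSt
  have hgv : ∀ v ∈ ws V r, g * v * g⁻¹ * v⁻¹ ∈ S := by
    intro v hv
    have hv1 := hact.conj' hv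
    have e0 : g * v * g⁻¹ = y * (w * (y⁻¹ * v * y) * w⁻¹) * y⁻¹ := by rw [hg]; group
    rcases h.conj_cases hw hv1 with e | e
    · have e2 : w * (y⁻¹ * v * y) * w⁻¹ = y⁻¹ * v * y := conj_eq_iff_comm.mpr e
      rw [e0, e2]
      have : y * (y⁻¹ * v * y) * y⁻¹ * v⁻¹ = 1 := by group
      rw [this]; exact one_mem _
    · have e2 : y * (y⁻¹ * v * y * t) * y⁻¹ = v * ty := by rw [hty]; group
      rw [e0, e, e2, hact.comm hv htyW]
      simpa using hSty
  have hSc : ∀ a : G, a ∈ centralizer ({r} : Set G) → (∀ v ∈ ws V r, a * v * a⁻¹ * v⁻¹ ∈ S) →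
      ∀ v ∈ ws V r, v ∈ S → a * v * a⁻¹ ∈ S := by
    intro a _ ha v hv hvS
    have := mul_mem (ha v hv) hvS
    simpa using this
  have hmv : ∀ v ∈ ws V r, m * v * m⁻¹ * v⁻¹ ∈ S := by
    intro v hv
    have h1 := hwv v hv
    have hv1 := conj_mem (V := V) hwr hv
    have h2 := hgv _ hv1
    have e : m * v * m⁻¹ * v⁻¹ = g * (w * v * w⁻¹) * g⁻¹ * (w * v * w⁻¹)⁻¹ * (w * v * w⁻¹ * v⁻¹) := by
      rw [hm]; group
    rw [e]; exact mul_mem h2 h1
  have hmpow : ∀ n : ℕ, ∀ v ∈ ws V r, m ^ n * v * (m ^ n)⁻¹ * v⁻¹ ∈ S := by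
    intro n
    induction n with
    | zero => intro v hv; simp [one_mem]
    | succ n ih =>
      intro v hv
      have h1 := ih v hv
      have hv1 : m ^ n * v * (m ^ n)⁻¹ ∈ ws V r := conj_mem (V := V) (pow_mem hmr n) hv
      have h2 := hmv _ hv1
      have e : m ^ (n + 1) * v * (m ^ (n + 1))⁻¹ * v⁻¹ = m * (m ^ n * v * (m ^ n)⁻¹) * m⁻¹ *
          (m ^ n * v * (m ^ n)⁻¹)⁻¹ * (m ^ n * v * (m ^ n)⁻¹ * v⁻¹) := by
        rw [pow_succ']; group
      rw [e]; exact mul_mem h2 h1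
  have hsS : ∀ v ∈ ws V r, (s : G) * v * (s : G)⁻¹ * v⁻¹ ∈ S := by
    obtain ⟨n, hn⟩ := (mem_powers_iff_mem_zpowers.mpr hsz : (s : G) ∈ Submonoid.powers m)
    have hn' : (s : G) = m ^ n := hn.symm
    rw [hn']
    exact hmpow n
  have huS : ∀ u ∈ uu (ws V r) (s : G), u ∈ S := by
    intro u hu
    obtain ⟨v, hv, rfl⟩ := hact'.mem_uu.mp hu
    have h1 := hsS v hv
    rwa [hact'.inv_eq hv, hact'.comm (hact'.conj v hv) hv] at h1
  obtain ⟨u, hu, hu1⟩ := exists_uu h.odd h.ptr s.2 hso' hsk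
  set u2 := (s : G) * u * (s : G)⁻¹ with hu2
  have hu2m := hact'.uu_conj hu
  have hu21 : u2 ≠ 1 := conj_ne_one hu1
  have hne2 : u ≠ u2 := fun e => hu1 (hact'.eq_one hu (conj_eq_iff_comm.mp e.symm))
  have h3 : u * u2 ≠ 1 := fun e => hne2 (by
    rw [eq_inv_of_mul_eq_one_left e, hact'.inv_eq (hact'.uu_le hu2m)])
  by_contra hcon
  have hn1 : u ≠ t := fun e => hcon (e ▸ hu)
  have hn2 : u2 ≠ t := fun e => hcon (e ▸ hu2m)
  have hn3 : u * u2 ≠ t := fun e => hcon (e ▸ mul_mem hu hu2m)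
  rcases huS u hu with e | e | e | e
  · exact hu1 e
  · exact hn1 e
  · rcases huS u2 hu2m with e' | e' | e' | e'
    · exact hu21 e'
    · exact hn2 e'
    · exact hne2 (e.trans e'.symm)
    · exact hn3 (by rw [e, e', htc, ← mul_assoc, htyty, one_mul])
  · rcases huS u2 hu2m with e' | e' | e' | e'
    · exact hu21 e'
    · exact hn2 e'
    · exact hn3 (by rw [e, e', mul_assoc, htyty, mul_one])
    · exact hne2 (e.trans e'.symm)

theorem Tr.exists_side {t : G} (h : Tr T V z r d t) {w : G} (hw : w ∈ ws V d)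
    (hn : w ∉ centralizer (ws V r : Set G)) : ∃ s : G, Side V r w t s := by
  obtain ⟨v0, hv0, hne⟩ := exists_noncomm hn
  obtain ⟨y, hy⟩ := h.toPair.exists_wt hw hv0 hne
  obtain ⟨s, hs, -⟩ := h.side_of hw hy.mem hy.odd hy.nk hy.inv
  exact ⟨s, hs⟩

namespace Side

variable {t w s : G}

/-- the three nontrivial elements of `[ws V r, s]` are `t`, `s t s⁻¹`, `s⁻¹ t s` -/
theorem t_ne (h : Tr T V z r d t) (hS : Side V r w t s) : s * t ≠ t * s := fun e =>
  h.t_ne (hS.four.eq_one hS.t_mem e)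

/-- `w` commutes with `C(s)` -/
theorem w_comm (h : Tr T V z r d t) (hw : w ∈ ws V d) (hS : Side V r w t s) {c : G}
    (hc : c ∈ ws V r) (hsc : s * c = c * s) : w * c = c * w := by
  by_contra hne
  have e := h.conj_eq hw hc hne
  have h1 := comm_conj h.odd h.ptr hS.mem hS.odd (h.cr hw)
    (Or.inr (by rw [hS.inv, inv_mul_cancel]; exact one_mem _)) hc hsc
  rw [e] at h1
  apply hS.t_ne h
  have c1 : Commute s (c * t) := h1
  have c2 : Commute s c := hsc
  have c3 := c2.inv_right.mul_right c1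
  rw [inv_mul_cancel_left] at c3
  exact c3.eq

theorem inv' (hww : w * w = 1) (hS : Side V r w t s) : w * s⁻¹ * w⁻¹ = s := by
  have h1 := hS.inv
  calc w * s⁻¹ * w⁻¹ = (w * s * w⁻¹)⁻¹ := by group
    _ = s := by rw [h1, inv_inv]

theorem uniq (h : Tr T V z r d t) (hw : w ∈ ws V d) (hS : Side V r w t s) {u : G}
    (hu : u ∈ uu (ws V r) s) (hu1 : u ≠ 1) (hwu : w * u = u * w) : u = t := by
  obtain ⟨-, u0, hu0, hu01, hwu0, huniq⟩ := OddTwoWeight.four h.odd h.ptr hS.mem hS.odd hS.nk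
    (h.cr hw) (by rw [hS.inv, inv_mul_cancel]; exact one_mem _)
    (fun v hv v' hv' h1 h2 => h.mul_comm_of hw hv hv' h1 h2)
  rw [huniq u hu hu1 hwu, huniq t hS.t_mem h.t_ne (h.comm_t hw)]

/-- `C_W(w) = ⟨t⟩ C_W(s)` -/
theorem comm_cases (h : Tr T V z r d t) (hw : w ∈ ws V d) (hS : Side V r w t s) {v : G}
    (hv : v ∈ ws V r) (hwv : w * v = v * w) : s * v = v * s ∨ s * (t * v) = t * v * s := by
  obtain ⟨u, hu, c, hc, hsc, rfl⟩ := hS.four.exists_decomp hv
  have huW := hS.four.uu_le hu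
  by_cases hu1 : u = 1
  · left; rw [hu1, one_mul]; exact hsc
  right
  have hwc := hS.w_comm h hw hc hsc
  have c1 : Commute w (u * c) := hwv
  have c2 : Commute w c := hwc
  have c3 := c1.mul_right c2.inv_right
  rw [mul_inv_cancel_right] at c3
  have h1 := hS.uniq h hw hu hu1 c3.eq
  rw [h1, ← mul_assoc t t c, h.tt_sq, one_mul]
  exact hsc

/-- `C_W(w) = C_W(ws V d)` -/
theorem comm_all (h : Tr T V z r d t) (hw : w ∈ ws V d) (hn : w ∉ centralizer (ws V r : Set G))
    {v a : G} (hv : v ∈ ws V r) (hwv : w * v = v * w) (ha : a ∈ ws V d) : a * v = v * a := by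
  by_cases hna : a ∈ centralizer (ws V r : Set G)
  · exact (mem_centralizer_iff.mp hna v hv).symm
  have h1 := mem_centralizer_iff.mp (index_two h.toPair hw ha hn hna) v hv
  have c1 : Commute (w * a) v := h1.symm
  have c2 : Commute w v := hwv
  have c3 := c2.inv_left.mul_left c1
  rw [inv_mul_cancel_left] at c3
  exact c3.eq

/-- the action of `s` on `[W, s]` -/
theorem conj_conj (h : Tr T V z r d t) (hS : Side V r w t s) :
    s * (s * t * s⁻¹) * s⁻¹ = t * (s * t * s⁻¹) := by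
  set t1 := s * t * s⁻¹ with ht1
  have ht1m := hS.four.uu_conj hS.t_mem
  have hst := hS.t_ne h
  have ht1t : t1 ≠ t := fun e => hst (conj_eq_iff_comm.mp e)
  have h2 := hS.four.uu_conj ht1m
  have htt := h.tt_sq
  rcases hS.four.cases t hS.t_mem h.t_ne _ h2 with e | e | e | e
  · exact absurd e (conj_ne_one (conj_ne_one h.t_ne))
  · -- `s` would fix `t t1`
    exfalso
    have hc : s * (t * t1) * s⁻¹ = t * t1 := by
      calc s * (t * t1) * s⁻¹ = t1 * (s * t1 * s⁻¹) := by rw [ht1]; group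
        _ = t1 * t := by rw [e]
        _ = t * t1 := hS.four.comm (hS.four.uu_le ht1m) h.t_memr
    have h3 := hS.four.eq_one (mul_mem hS.t_mem ht1m) (conj_eq_iff_comm.mp hc)
    exact ht1t (eq_inv_of_mul_eq_one_right h3 |>.trans (inv_eq_self htt))
  · exfalso
    rw [← ht1] at e
    exact ht1t (OddBase.conj_inj (g := s) e)
  · exact e

theorem conj_inv (h : Tr T V z r d t) (hS : Side V r w t s) :
    s⁻¹ * t * s = t * (s * t * s⁻¹) := by
  have h1 := hS.conj_conj h
  set t1 := s * t * s⁻¹ with ht1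
  have ht1W : t1 ∈ ws V r := hS.four.uu_le (hS.four.uu_conj hS.t_mem)
  have htc : t * t1 = t1 * t := hS.four.comm h.t_memr ht1W
  -- `s (t t1) s⁻¹ = t1 t t1 = t`
  have e : s * (t * t1) * s⁻¹ = t := by
    calc s * (t * t1) * s⁻¹ = t1 * (s * t1 * s⁻¹) := by rw [ht1]; group
      _ = t1 * (t * t1) := by rw [h1]
      _ = (t1 * t1) * t := by rw [htc, ← mul_assoc]
      _ = t := by rw [hS.four.sq _ ht1W, one_mul]
  calc s⁻¹ * t * s = s⁻¹ * (s * (t * t1) * s⁻¹) * s := by rw [e]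
    _ = t * t1 := by group

/-- `s³` centralizes `ws V r` -/
theorem cube (h : Tr T V z r d t) (hS : Side V r w t s) {v : G} (hv : v ∈ ws V r) :
    s * (s * (s * v * s⁻¹) * s⁻¹) * s⁻¹ = v := by
  obtain ⟨u, hu, c, hc, hsc, rfl⟩ := hS.four.exists_decomp hv
  have hc' : s * c * s⁻¹ = c := conj_eq_iff_comm.mpr hsc
  have e0 : s * (s * (s * (u * c) * s⁻¹) * s⁻¹) * s⁻¹ = s * (s * (s * u * s⁻¹) * s⁻¹) * s⁻¹ *
      (s * (s * (s * c * s⁻¹) * s⁻¹) * s⁻¹) := by group
  rw [e0, hc', hc', hc']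
  congr 1
  have h1 := hS.conj_conj h
  have h2 := hS.conj_inv h
  set t1 := s * t * s⁻¹ with ht1
  have ht1W := hS.four.uu_le (hS.four.uu_conj hS.t_mem)
  have e1 : s * (t * t1) * s⁻¹ = t := by rw [← h2]; group
  rcases hS.four.cases t hS.t_mem h.t_ne u hu with rfl | rfl | rfl | rfl
  · group
  · rw [← ht1, h1, e1]
  · rw [← ht1, h1, e1]
  · rw [← ht1, e1, ← ht1, h1]

end Side

/-! ### both sides -/

/-- **(N)** -/
theorem Tr.kill {t w v s s' q : G} (h : Tr T V z r d t) (hw : w ∈ ws V d) (hv : v ∈ ws V r)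
    (hS : Side V r w t s) (hS' : Side V d v t s') (h1 : s * q = q * s) (h2 : s' * q = q * s')
    (h3 : t * q = q * t) (hq : q * q = 1) : q = 1 := by
  have hwv : ∀ {r d w v s s' : G}, Tr T V z r d t → w ∈ ws V d → v ∈ ws V r → Side V r w t s →
      Side V d v t s' → ∃ u ∈ uu (ws V r) s, w * u ≠ u * w := by
    intro r d w v s s' h hw hv hS hS'
    by_contra hcon
    push Not at hcon
    have h3 := hS.four.uu_conj hS.t_mem
    have h4 := hS.uniq h hw h3 (conj_ne_one h.t_ne) (hcon _ h3)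
    exact hS.t_ne h (conj_eq_iff_comm.mp h4)
  obtain ⟨u, hu, hwu⟩ := hwv h hw hv hS hS'
  obtain ⟨u', hu', hvu'⟩ := hwv h.symm hv hw hS' hS
  have huW := hS.four.uu_le hu
  have hu'W := hS'.four.uu_le hu'
  have hnw : w ∉ centralizer (ws V r : Set G) := fun hc => hwu (mem_centralizer_iff.mp hc u huW).symm
  have hnv : v ∉ centralizer (ws V d : Set G) := fun hc =>
    hvu' (mem_centralizer_iff.mp hc u' hu'W).symm
  -- `u' u ≠ u u'`
  have huu : u' * u ≠ u * u' := by
    intro e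
    by_cases hnu' : u' ∈ centralizer (ws V r : Set G)
    · exact hvu' (mem_centralizer_iff.mp hnu' v hv)
    · exact hwu (Side.comm_all h hu'W hnu' huW e hw)
  have htc : u' * u * u'⁻¹ * u⁻¹ = t := (h.cases u' hu'W u huW).resolve_left huu
  exact OddTwoStar.kill h.odd.toGeo hS.four hS'.four h.t_memr h.t_memd (hS.t_ne h) (hS'.t_ne h.symm)
    hu hu' htc h1 h2 h3 hq

section walk

variable {n : ℕ} {x y p t w s : G}

theorem pair_of_crit (h : OddN T V z n) (hc : Crit V z n x y) (h1 : x ∉ ws V y) (h2 : y ∉ ws V x) :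
    Pair T V z x y where
  odd := h.toOdd
  ptr := hc.pt
  ptd := hc.pt' h.toGeo
  cr := hc.ws_le_centralizer h
  cd := (hc.symm h.toOdd).ws_le_centralizer h
  rd := h1
  dr := h2

/-- **Case 1** -/
theorem tr_of_crit (h : OddN T V z n) (hc : Crit V z n x y) (h1 : x ∉ ws V y) (h2 : y ∉ ws V x) :
    ∃ t, Tr T V z x y t := by
  obtain ⟨_, _, a, ha, b, hb, hab⟩ := id hc
  exact exists_tr (pair_of_crit h hc h1 h2) ⟨a, ha, b, hb, hab⟩

/-- `s` moves the points of `ws V x` at distance `< n` of `y` -/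
theorem Side.ne (h : OddN T V z n) (hp : Pt z p) {j : ℕ} (hj : j < n) (hpy : Walk V j p y)
    (hw : w ∈ ws V y) (hS : Side V x w t s) : s * p ≠ p * s := by
  intro hsp
  have hY2 := tt_isPGroup h (j := j) hj hp
  have hwY : w ∈ tt V j p := ws_le_tt hpy hw
  have hsY : s * w⁻¹ * s⁻¹ ∈ tt V j p :=
    conj_mem_of_normalizer (centralizer_le_normalizer_tt j p)
      (mem_centralizer_singleton_iff.mpr hsp) (inv_mem hwY)
  obtain ⟨k, hk⟩ := hY2 ⟨w * (s * w⁻¹ * s⁻¹), mul_mem hwY hsY⟩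
  have hk' : (w * (s * w⁻¹ * s⁻¹)) ^ 2 ^ k = 1 := congrArg Subtype.val hk
  have e : w * (s * w⁻¹ * s⁻¹) = (s * s)⁻¹ := by
    calc w * (s * w⁻¹ * s⁻¹) = (w * s * w⁻¹) * s⁻¹ := by group
      _ = (s * s)⁻¹ := by rw [hS.inv]; group
  rw [e, inv_pow, inv_eq_one, ← pow_two, ← pow_mul] at hk'
  have h8 : orderOf s ∣ 2 ^ (k + 1) := orderOf_dvd_of_pow_eq_one (by rw [pow_succ, mul_comm]; exact hk')
  have h9 : Nat.Coprime (orderOf s) (2 ^ (k + 1)) :=
    Nat.Coprime.pow_right _ (Nat.coprime_two_right.mpr hS.odd)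
  have h10 : orderOf s = 1 := Nat.eq_one_of_dvd_coprimes h9 dvd_rfl h8
  apply hS.nk
  rw [orderOf_eq_one_iff.mp h10]
  exact one_mem _

/-- `p = t c` with `c` centralized by `s` -/
theorem Side.comm_tp (h : OddN T V z n) (hT : Tr T V z x y t) (hp : Pt z p) (hpx : p ∈ ws V x) {j : ℕ}
    (hj : j < n) (hpy : Walk V j p y) (hw : w ∈ ws V y) (hS : Side V x w t s) :
    s * (t * p) = t * p * s := by
  have hwp : w * p = p * w :=
    (mem_centralizer_iff.mp (comm_of_walk h hp hj hpy hw) p (self_mem_ws h.toGeo hp)).symm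
  exact (hS.comm_cases hT hw hpx hwp).resolve_left
    (hS.ne h hp hj hpy hw)

end walk

end Cfsg.Agent.MinSimple.OddPair
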