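import Mathlib
import Cfsg.Agent.MinSimple.OddRankTwo
import Cfsg.Agent.Classification.TitsFin.TriEnd

/-!
# (E1)(b), `n = 1`, `k = 1`, rank two: the end

`false_of_rankTwo`: `One T V z` with no transvections (`htv`) and with `π y ∈ [M, g]` for natural elements `g`
inverted by the involution (`hD`) does not occur in a minimal simple group; `finHyp_of_rankTwo`: it gives `FinHyp z q`.
-/

set_option autoImplicit false
set_option linter.unusedSectionVars false
set_option linter.style.haveILetI false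

namespace Cfsg.Agent.MinSimple.OddR2End

open Subgroup Cfsg Cfsg.Agent.ZN Cfsg.Agent.MinSimple.Geo Cfsg.Agent.MinSimple.BTwoA
  Cfsg.Agent.MinSimple.OddLine Cfsg.Agent.MinSimple.OddBase Cfsg.Agent.MinSimple.SecRep
  Cfsg.Agent.MinSimple.OddRep Cfsg.Agent.MinSimple.OddOne Cfsg.Agent.MinSimple.OddRTMod
  Cfsg.Agent.MinSimple.OddRankTwo

open Cfsg.Agent.Classification.TitsFin (FinHyp)
open Cfsg.Agent.Classification.TitsFin.TriGlue (In)

universe u

variable {G : Type u} [Group G] [Finite G] {T V : Subgroup G} {z : G} {M X : Type u} [AddCommGroup M] [Group X]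
  [DistribMulAction X M]

theorem im_eq (a : X) : Cfsg.Agent.Classification.TitsFin.TriBlk.im M a = cm M a := by
  ext m
  exact Iff.rfl

theorem in_of_rankTwo (h : One T V z) (R : Rep V z M X)
    (htv : ∀ y b, Col V z y → b ∈ ws V y → b ∉ kq V z →
      ¬ ∃ n : M, ∀ m : M, R.rho b • m = m ∨ R.rho b • m = m + n)
    (hD : ∀ y b g, Col V z y → b ∈ ws V y → b ∉ kq V z → g ∈ pCore 3 X → g ^ 3 = 1 → g ≠ 1 →
      R.rho b * g * R.rho b = g⁻¹ → Nat.card (cm M g) = 4 → R.pi y ∈ cm M g)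
    {q : G} (hq : q ∈ V) (hq1 : q ≠ 1) (hqz : q ≠ z) {b : G} (hb : b ∈ ws V q) (hn : b ∉ kq V z) :
    In T V z q R (R.rho b) := by
  have hz : Pt z z := Pt.refl z
  have hc : Col V z q := col_of_mem h.toGeo h.z_mem hq h.z_ne hq1 (Ne.symm hqz)
  have hP := pre h hz R htv
  have hE : R.pi q ∈ EE R := ⟨q, hc, rfl⟩
  have ha : aa R (R.pi q) = R.rho b := aa_eq h R hc hb hn
  refine
    { odd := h.toOdd
      q_mem := hq
      q_ne := hq1
      q_ne' := hqz
      ind := ?_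
      exi := ⟨b, hb, rfl⟩
      card := ?_
      mem := ?_
      nl := ?_
      r3 := ?_ }
  · intro w hw
    by_cases hwk : w ∈ kq V z
    · exact Or.inl ((OddRep.Rep.rho_eq_one R (ws_le_cent h.toOdd hc hw)).mpr hwk)
    · exact Or.inr (h.rho_eq R hc hw hb hwk hn)
  · have := hP.card _ hE
    rwa [ha, ← im_eq] at this
  · have := hP.mem _ hE
    rwa [ha, ← im_eq] at this
  · intro c hcm
    obtain ⟨y', hy', e⟩ := exists_smul R hc c
    rw [e, im_eq] at hcm
    rw [e]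
    exact only h R hc hy' hb hcm
  · intro g hg
    rw [pCore_eq_bot h hz R htv hD Nat.prime_three (by norm_num), mem_bot] at hg
    rw [hg, mul_one, one_mul]

theorem finHyp_of_rankTwo (h : One T V z) (R : Rep V z M X)
    (htv : ∀ y b, Col V z y → b ∈ ws V y → b ∉ kq V z →
      ¬ ∃ n : M, ∀ m : M, R.rho b • m = m ∨ R.rho b • m = m + n)
    (hD : ∀ y b g, Col V z y → b ∈ ws V y → b ∉ kq V z → g ∈ pCore 3 X → g ^ 3 = 1 → g ≠ 1 →
      R.rho b * g * R.rho b = g⁻¹ → Nat.card (cm M g) = 4 → R.pi y ∈ cm M g)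
    (hG : ∀ N : Subgroup G, N.index ≠ 2) : ∃ q, FinHyp z q := by
  obtain ⟨q, hq, hq1, hqz⟩ := h.toGeo.exists_y
  have hc : Col V z q := col_of_mem h.toGeo h.z_mem hq h.z_ne hq1 (Ne.symm hqz)
  obtain ⟨b, hb, hn⟩ := h.exists_not_mem hc
  exact ⟨q, Cfsg.Agent.Classification.TitsFin.TriEnd.finHyp_of_in
    (in_of_rankTwo h R htv hD hq hq1 hqz hb hn) hG⟩

theorem false_of_rankTwo (h : One T V z) (hm : IsMinimalSimple G) (R : Rep V z M X)
    (htv : ∀ y b, Col V z y → b ∈ ws V y → b ∉ kq V z →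
      ¬ ∃ n : M, ∀ m : M, R.rho b • m = m ∨ R.rho b • m = m + n)
    (hD : ∀ y b g, Col V z y → b ∈ ws V y → b ∉ kq V z → g ∈ pCore 3 X → g ^ 3 = 1 → g ≠ 1 →
      R.rho b * g * R.rho b = g⁻¹ → Nat.card (cm M g) = 4 → R.pi y ∈ cm M g) : False := by
  obtain ⟨q, hq, hq1, hqz⟩ := h.toGeo.exists_y
  have hc : Col V z q := col_of_mem h.toGeo h.z_mem hq h.z_ne hq1 (Ne.symm hqz)
  obtain ⟨b, hb, hn⟩ := h.exists_not_mem hc
  exact Cfsg.Agent.Classification.TitsFin.TriEnd.false_of_in (in_of_rankTwo h R htv hD hq hq1 hqz hb hn) hm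

end Cfsg.Agent.MinSimple.OddR2End
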