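import Mathlib
import Cfsg.Agent.MinSimple.OddRTMod

/-!
# (E1) with `|V| = 4`, `b` odd, `k = 1`, rank 2: the blocks of order 16

`h : RT E a`. For `e ∈ E` the block `bk E a e` is `[M, z]` for all `z ∈ Z(O_5(H))` of order 5 inverted by `a e`
(`Z5.cm_eq`); it has order 16, meets `E` in `{z^i e}`; `sb e` is its stabilizer, `kb e` its pointwise stabilizer:
`(kb e).relIndex (sb e) = 10 ∨ 20`.
-/

set_option autoImplicit false
set_option linter.unusedSectionVars false
set_option linter.style.haveILetI false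

namespace Cfsg.Agent.MinSimple.OddRTFive

open Subgroup Cfsg Cfsg.Agent.MinSimple.OddRTMod

variable {H M : Type*} [Group H] [AddCommGroup M] [DistribMulAction H M] {E : Set M} {a : M → H}

/-- `z` is a central element of `O_5(H)` of order 5 inverted by `a e` -/
structure Z5 (a : M → H) (e : M) (z : H) : Prop where
  mem : z ∈ zp H 5
  ne : z ≠ 1
  pow : z ^ 5 = 1
  inv : a e * z * a e = z⁻¹

variable [Finite H] [Finite M] {e : M} {z : H}

theorem exists_Z5 (h : RT E a) (he : e ∈ E) : ∃ z, Z5 a e z := by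
  obtain ⟨z, h1, h2, h3, h4⟩ := h.exists_z5 he
  exact ⟨z, h1, h2, h3, h4⟩

theorem Z5.card (hz : Z5 a e z) (h : RT E a) (he : e ∈ E) : Nat.card (cm M z) = 16 :=
  h.card_five he hz.ne hz.pow hz.inv

theorem Z5.le (hz : Z5 a e z) (h : RT E a) (he : e ∈ E) : cm M (a e) ≤ cm M z :=
  (cm_le_of_card h.two (h.sq e he) hz.inv (by norm_num : 5 % 2 = 1) hz.pow (h.card e he) (hz.card h he)).1

theorem Z5.mem_self (hz : Z5 a e z) (h : RT E a) (he : e ∈ E) : e ∈ cm M z := hz.le h he (h.mem e he)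

theorem Z5.exists_eq (hz : Z5 a e z) (h : RT E a) (he : e ∈ E) {m : M} (hm : m ∈ cm M z) :
    ∃ c ∈ cm M (a e), ∃ d ∈ cm M (a e), m = c + z • d :=
  (cm_le_of_card h.two (h.sq e he) hz.inv (by norm_num : 5 % 2 = 1) hz.pow (h.card e he) (hz.card h he)).2.2
    m hm

theorem Z5.zero_of_mem (hz : Z5 a e z) (h : RT E a) {m : M} (hm : m ∈ cm M z) (hm2 : z • m = m) : m = 0 :=
  eq_zero_of_mem h.two (by norm_num : 5 % 2 = 1) hz.pow hm hm2

/-- powers of `z` -/
theorem Z5.pow_fpf (hz : Z5 a e z) (h : RT E a) {i : ℕ} (hi : ¬ 5 ∣ i) {m : M} (hm : m ∈ cm M z)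
    (hm2 : z ^ i • m = m) : m = 0 := by
  have hcop : Nat.Coprime i 5 := ((Nat.Prime.coprime_iff_not_dvd Nat.prime_five).mpr hi).symm
  have h5 : z ^ 5 • m = m := by rw [hz.pow, one_smul]
  -- `z` is a power of `z^i`
  obtain ⟨k, hk⟩ : ∃ k, i * k % 5 = 1 := by
    have : i % 5 = 1 ∨ i % 5 = 2 ∨ i % 5 = 3 ∨ i % 5 = 4 := by
      rcases Nat.lt_or_ge (i % 5) 1 with h0 | h0
      · exfalso; exact hi (Nat.dvd_of_mod_eq_zero (by omega))
      · omega
    rcases this with h1 | h1 | h1 | h1
    · exact ⟨1, by omega⟩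
    · exact ⟨3, by omega⟩
    · exact ⟨2, by omega⟩
    · exact ⟨4, by omega⟩
  have h1 : z ^ (i * k) = z := by
    conv_lhs => rw [← Nat.div_add_mod (i * k) 5, hk, pow_add, pow_mul, hz.pow, one_pow, one_mul, pow_one]
  have h2 := pow_fix hm2 k
  rw [← pow_mul, h1] at h2
  exact hz.zero_of_mem h hm h2

/-- elements of order dividing 5 inverted by `a e` which fix `e` are trivial -/
theorem eq_one_of_fix (h : RT E a) (he : e ∈ E) {y : H} (hy5 : y ^ 5 = 1) (hyi : a e * y * a e = y⁻¹)
    (hye : y • e = e) : y = 1 := by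
  have h1 : a e = y * a e * y⁻¹ := by
    have := h.conj y e he
    rwa [hye] at this
  have h2 : a e * y = y * a e := by
    calc a e * y = y * a e * y⁻¹ * y := by rw [← h1]
      _ = y * a e := by group
  have h3 : y = y⁻¹ := by
    rw [← hyi, h2, mul_assoc, h.sq e he, mul_one]
  have h4 : y * y = 1 := by
    calc y * y = y * y⁻¹ := by rw [← h3]
      _ = 1 := mul_inv_cancel y
  have h5 : y ^ 5 = (y * y) * (y * y) * y := by simp only [pow_succ, pow_zero, one_mul, mul_assoc]
  rw [h5, h4, one_mul, one_mul] at hy5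
  exact hy5

/-- the block does not depend on `z` -/
theorem Z5.cm_eq (hz : Z5 a e z) (h : RT E a) (he : e ∈ E) {w : H} (hw : Z5 a e w) : cm M w = cm M z := by
  have hwz : w * z = z * w := zp_comm hw.mem hz.mem
  have hle : cm M w ≤ cm M z := by
    intro m hm
    obtain ⟨c, hc, d, hd, rfl⟩ := hw.exists_eq h he hm
    exact (cm M z).add_mem (hz.le h he hc) (smul_mem_cm_of_comm hwz (hz.le h he hd))
  exact AddSubgroup.eq_of_le_of_card_ge hle (by rw [hz.card h he, hw.card h he])

theorem inv_pow_eq (h : RT E a) (he : e ∈ E) {y : H} (hyi : a e * y * a e = y⁻¹) (i : ℕ) :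
    a e * y ^ i * a e = (y ^ i)⁻¹ := by
  have h2 : (a e)⁻¹ = a e := inv_eq_of_mul_eq_one_left (h.sq e he)
  have h3 : a e * y ^ i * a e = (a e * y * (a e)⁻¹) ^ i := by rw [conj_pow, h2]
  rw [h3, h2, hyi, inv_pow]

/-- the elements of `Z(O_5(H))` of order 5 inverted by `a e` are the powers of `z` -/
theorem Z5.exists_pow (hz : Z5 a e z) (h : RT E a) (he : e ∈ E) {w : H} (hw : Z5 a e w) :
    ∃ i : ℕ, i < 5 ∧ w = z ^ i := by
  have hwz : w * z = z * w := zp_comm hw.mem hz.mem
  have h1 : w • e ∈ cm M z := smul_mem_cm_of_comm hwz (hz.mem_self h he)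
  obtain ⟨i, hi, h2⟩ := h.exists_five_of_mem he hz.ne hz.pow hz.inv (h.inv w e he) h1
  refine ⟨i, hi, ?_⟩
  have hc : Commute w (z ^ i) := (show Commute w z from hwz).pow_right i
  have h3 : (z ^ i)⁻¹ * w = 1 := by
    refine eq_one_of_fix h he ?_ ?_ ?_
    · rw [hc.symm.inv_left.mul_pow, inv_pow, ← pow_mul, mul_comm i 5, pow_mul, hz.pow, one_pow, hw.pow,
        inv_one, one_mul]
    · have e1 := inv_pow_eq h he hz.inv i
      have e0 : a e * (z ^ i)⁻¹ * a e = z ^ i := by
        calc a e * (z ^ i)⁻¹ * a e = (a e * z ^ i * a e)⁻¹ := by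
              rw [mul_inv_rev, mul_inv_rev, inv_eq_of_mul_eq_one_left (h.sq e he), mul_assoc]
          _ = z ^ i := by rw [e1, inv_inv]
      calc a e * ((z ^ i)⁻¹ * w) * a e = a e * (z ^ i)⁻¹ * (a e * a e) * w * a e := by
            rw [h.sq e he]; group
        _ = (a e * (z ^ i)⁻¹ * a e) * (a e * w * a e) := by group
        _ = ((z ^ i)⁻¹ * w)⁻¹ := by
          rw [e0, hw.inv, mul_inv_rev, inv_inv, hc.inv_left.eq]
    · rw [mul_smul, h2, inv_smul_smul]
  exact (inv_mul_eq_one.mp h3).symm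

/-- conjugates -/
theorem Z5.conj (hz : Z5 a e z) (h : RT E a) (he : e ∈ E) (g : H) : Z5 a (g • e) (g * z * g⁻¹) where
  mem := (zp_normal H 5).conj_mem z hz.mem g
  ne := fun h1 => hz.ne (by
    have : z = g⁻¹ * (g * z * g⁻¹) * g := by group
    rw [this, h1]; group)
  pow := by rw [conj_pow, hz.pow, mul_one, mul_inv_cancel]
  inv := by
    rw [h.conj g e he]
    calc g * a e * g⁻¹ * (g * z * g⁻¹) * (g * a e * g⁻¹) = g * (a e * z * a e) * g⁻¹ := by group
      _ = (g * z * g⁻¹)⁻¹ := by rw [hz.inv]; group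

/-- `z` is also inverted by `a (z^i e)` -/
theorem Z5.move (hz : Z5 a e z) (h : RT E a) (he : e ∈ E) (i : ℕ) : Z5 a (z ^ i • e) z := by
  have := hz.conj h he (z ^ i)
  rwa [(Commute.pow_self z i).eq, mul_inv_cancel_right] at this

/-- the stabilizer of the block -/
def sb (M : Type*) [AddCommGroup M] [DistribMulAction H M] (z : H) : Subgroup H where
  carrier := {g | ∀ m : M, m ∈ cm M z ↔ g • m ∈ cm M z}
  mul_mem' := by
    intro g k hg hk m
    rw [mul_smul, ← hg, ← hk]
  one_mem' := by intro m; rw [one_smul]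
  inv_mem' := by
    intro g hg m
    rw [hg (g⁻¹ • m), smul_inv_smul]

/-- the pointwise stabilizer of the block -/
def kb (M : Type*) [AddCommGroup M] [DistribMulAction H M] (z : H) : Subgroup H where
  carrier := {g | ∀ m ∈ cm M z, g • m = m}
  mul_mem' := by
    intro g k hg hk m hm
    rw [mul_smul, hk m hm, hg m hm]
  one_mem' := by intro m _; rw [one_smul]
  inv_mem' := by
    intro g hg m hm
    rw [inv_smul_eq_iff, hg m hm]

theorem mem_sb {g : H} : g ∈ sb M z ↔ ∀ m : M, m ∈ cm M z ↔ g • m ∈ cm M z := Iff.rfl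

theorem mem_kb {g : H} : g ∈ kb M z ↔ ∀ m ∈ cm M z, g • m = m := Iff.rfl

theorem kb_le_sb : kb M z ≤ sb M z := by
  intro g hg m
  constructor
  · intro hm
    rw [hg m hm]; exact hm
  · intro hm
    have h1 := (inv_mem hg : g⁻¹ ∈ kb M z) _ hm
    rw [inv_smul_smul] at h1
    rw [h1]; exact hm

theorem cm_conj (g z : H) : ∀ m : M, m ∈ cm M z ↔ g • m ∈ cm M (g * z * g⁻¹) := by
  intro m
  constructor
  · exact fun hm => smul_mem_cm hm
  · intro hm
    have := smul_mem_cm (g := g⁻¹) hm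
    rw [inv_smul_smul] at this
    have e1 : g⁻¹ * (g * z * g⁻¹) * g⁻¹⁻¹ = z := by group
    rwa [e1] at this

theorem Z5.a_mem_sb (hz : Z5 a e z) (h : RT E a) (he : e ∈ E) : a e ∈ sb M z := by
  intro m
  have := cm_conj (a e) z m
  rwa [conj_eq_inv (h.sq e he) hz.inv, cm_inv] at this

theorem Z5.z_mem_sb (_ : Z5 a e z) : z ∈ sb M z := by
  intro m
  have := cm_conj z z m
  rwa [mul_inv_cancel_right] at this

/-- the stabilizer of `e` lies in `sb` and normalizes `⟨z⟩` -/
theorem Z5.fix_conj (hz : Z5 a e z) (h : RT E a) (he : e ∈ E) {g : H} (hg : g • e = e) :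
    ∃ i : ℕ, i < 5 ∧ g * z * g⁻¹ = z ^ i := by
  have h1 := hz.conj h he g
  rw [hg] at h1
  exact hz.exists_pow h he h1

theorem Z5.stab_le (hz : Z5 a e z) (h : RT E a) (he : e ∈ E) : MulAction.stabilizer H e ≤ sb M z := by
  intro g hg m
  have hge : g • e = e := hg
  have h1 := hz.conj h he g
  rw [hge] at h1
  have := cm_conj g z m
  rwa [hz.cm_eq h he h1] at this

theorem Z5.exists_pow_smul (hz : Z5 a e z) (h : RT E a) (he : e ∈ E) {g : H} (hg : g ∈ sb M z) :
    ∃ i : ℕ, i < 5 ∧ g • e = z ^ i • e :=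
  h.exists_five_of_mem he hz.ne hz.pow hz.inv (h.inv g e he) ((hg e).mp (hz.mem_self h he))

theorem Z5.sb_conj (hz : Z5 a e z) (h : RT E a) (he : e ∈ E) {g : H} (hg : g ∈ sb M z) :
    ∃ i : ℕ, i < 5 ∧ g * z * g⁻¹ = z ^ i := by
  obtain ⟨j, _, hj⟩ := hz.exists_pow_smul h he hg
  have h1 : ((z ^ j)⁻¹ * g) • e = e := by rw [mul_smul, hj, inv_smul_smul]
  obtain ⟨i, hi, h2⟩ := hz.fix_conj h he h1
  refine ⟨i, hi, ?_⟩
  have e1 : g * z * g⁻¹ = z ^ j * ((z ^ j)⁻¹ * g * z * ((z ^ j)⁻¹ * g)⁻¹) * (z ^ j)⁻¹ := by group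
  rw [e1, h2, (Commute.pow_pow_self z j i).eq, mul_inv_cancel_right]

/-- an element fixing `e` and commuting with `z` is in `kb` -/
theorem Z5.mem_kb_of (hz : Z5 a e z) (h : RT E a) (he : e ∈ E) {g : H} (hg : g • e = e)
    (hgz : g * z = z * g) : g ∈ kb M z := by
  -- `C_{[M,z]}(g)` is a `z`-invariant subgroup
  haveI : Fact (Nat.Prime 5) := ⟨Nat.prime_five⟩
  let B' : AddSubgroup M := fx M g ⊓ cm M z
  have hB'le : B' ≤ cm M z := inf_le_right
  have hP : IsPGroup 5 (zpowers z) := by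
    rintro ⟨y, hy⟩
    obtain ⟨n, rfl⟩ := mem_zpowers_iff.mp hy
    refine ⟨1, ?_⟩
    ext
    change (z ^ n) ^ 5 ^ 1 = 1
    rw [pow_one, ← zpow_natCast, ← zpow_mul, mul_comm, zpow_mul, zpow_natCast, hz.pow, one_zpow]
  have hinv : ∀ y ∈ zpowers z, ∀ m ∈ B', y • m ∈ B' := by
    intro y hy m hm
    obtain ⟨n, rfl⟩ := mem_zpowers_iff.mp hy
    have hc : Commute (z ^ n) z := Commute.zpow_self z n
    have hc2 : Commute (z ^ n) g := (show Commute g z from hgz).symm.zpow_left n
    exact ⟨smul_mem_fx_of_comm hc2 hm.1, smul_mem_cm_of_comm hc hm.2⟩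
  letI : MulAction (zpowers z) B' :=
    { smul := fun y m => ⟨(y : H) • (m : M), hinv y y.2 m m.2⟩
      one_smul := fun m => Subtype.ext (one_smul H (m : M))
      mul_smul := fun x y m => Subtype.ext (mul_smul (x : H) (y : H) (m : M)) }
  have h1 := hP.card_modEq_card_fixedPoints B'
  have h2 : Nat.card (MulAction.fixedPoints (zpowers z) B') = 1 := by
    rw [Nat.card_eq_one_iff_unique]
    constructor
    · constructor
      rintro ⟨m, hm⟩ ⟨m', hm'⟩
      have key : ∀ m ∈ MulAction.fixedPoints (zpowers z) B', m = 0 := by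
        intro m hm
        have := congrArg Subtype.val (hm ⟨z, mem_zpowers z⟩)
        exact Subtype.ext (hz.zero_of_mem h m.2.2 this)
      exact Subtype.ext ((key m hm).trans (key m' hm').symm)
    · exact ⟨⟨0, fun y => Subtype.ext (smul_zero (y : H))⟩⟩
  rw [h2] at h1
  have h3 : Nat.card B' ∣ 16 := by
    rw [← hz.card h he]
    exact AddSubgroup.card_dvd_of_le hB'le
  have h4 : Nat.card B' ≠ 1 := by
    intro h5
    have h6 : B' = ⊥ := AddSubgroup.eq_bot_of_card_eq _ h5
    have h7 : e ∈ B' := ⟨hg, hz.mem_self h he⟩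
    rw [h6, AddSubgroup.mem_bot] at h7
    exact h.ne_zero e he h7
  have h5 : Nat.card B' = 16 := by
    have h6 : Nat.card B' ∈ Nat.divisors 16 := by rw [Nat.mem_divisors]; exact ⟨h3, by norm_num⟩
    have h7 : Nat.divisors 16 = {1, 2, 4, 8, 16} := by decide
    rw [h7] at h6
    simp only [Finset.mem_insert, Finset.mem_singleton] at h6
    rcases h6 with h6 | h6 | h6 | h6 | h6
    · exact absurd h6 h4
    · rw [h6] at h1; exact absurd h1 (by decide)
    · rw [h6] at h1; exact absurd h1 (by decide)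
    · rw [h6] at h1; exact absurd h1 (by decide)
    · exact h6
  have h6 : B' = cm M z := AddSubgroup.eq_of_le_of_card_ge hB'le (by rw [h5, hz.card h he])
  intro m hm
  rw [← h6] at hm
  exact hm.1

theorem Z5.comm_of_mem_kb (hz : Z5 a e z) (h : RT E a) (he : e ∈ E) {g : H} (hg : g ∈ kb M z) :
    g * z = z * g := by
  have hge := hg e (hz.mem_self h he)
  obtain ⟨i, hi, h1⟩ := hz.fix_conj h he hge
  have h2 : (g * z * g⁻¹) • e = z • e := by
    rw [mul_smul, mul_smul, (inv_mem hg : g⁻¹ ∈ kb M z) e (hz.mem_self h he),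
      hg _ (smul_self_mem_cm (hz.mem_self h he))]
  rw [h1] at h2
  -- `z^(i+4)` fixes `e`
  have h3 : z ^ (i + 4) • e = e := by
    rw [add_comm, pow_add, mul_smul, h2, ← mul_smul, ← pow_succ, hz.pow, one_smul]
  have h4 : 5 ∣ i + 4 := by
    by_contra hnd
    exact h.ne_zero e he (hz.pow_fpf h hnd (hz.mem_self h he) h3)
  have h5 : i = 1 := by omega
  rw [h5, pow_one] at h1
  exact mul_inv_eq_iff_eq_mul.mp h1

theorem Z5.a_not_mem_kb (hz : Z5 a e z) (h : RT E a) (he : e ∈ E) : a e ∉ kb M z := by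
  intro hk
  have h1 := hz.comm_of_mem_kb h he hk
  have h2 : z⁻¹ = z := by rw [← hz.inv, h1, mul_assoc, h.sq e he, mul_one]
  have h3 : z * z = 1 := by
    calc z * z = z * z⁻¹ := by rw [h2]
      _ = 1 := mul_inv_cancel z
  have h4 : z ^ 5 = (z * z) * (z * z) * z := by simp only [pow_succ, pow_zero, one_mul, mul_assoc]
  rw [hz.pow, h3, one_mul, one_mul] at h4
  exact hz.ne h4.symm

theorem a_smul_self (h : RT E a) (he : e ∈ E) : a e • e = e := h.a_smul he (h.mem e he)

/-- `sb / kb` has order 10 or 20 -/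
theorem Z5.relIndex (hz : Z5 a e z) (h : RT E a) (he : e ∈ E) :
    (kb M z).relIndex (sb M z) = 10 ∨ (kb M z).relIndex (sb M z) = 20 := by
  haveI : Fact (Nat.Prime 5) := ⟨Nat.prime_five⟩
  have hkS : kb M z ≤ MulAction.stabilizer H e := fun g hg => hg e (hz.mem_self h he)
  have hSs := hz.stab_le h he
  -- the index of the stabilizer of `e`
  have h5 : (MulAction.stabilizer H e).relIndex (sb M z) = 5 := by
    have e1 : (MulAction.stabilizer H e).subgroupOf (sb M z) = MulAction.stabilizer (sb M z) e := by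
      ext g
      rw [mem_subgroupOf, MulAction.mem_stabilizer_iff, MulAction.mem_stabilizer_iff]
      rfl
    rw [Subgroup.relIndex, e1, MulAction.index_stabilizer]
    have e2 : MulAction.orbit (sb M z) e = Set.range (fun i : Fin 5 => z ^ (i : ℕ) • e) := by
      apply Set.Subset.antisymm
      · rintro _ ⟨g, rfl⟩
        obtain ⟨i, hi, h1⟩ := hz.exists_pow_smul h he g.2
        exact ⟨⟨i, hi⟩, h1.symm⟩
      · rintro _ ⟨i, rfl⟩
        exact ⟨⟨z ^ (i : ℕ), pow_mem hz.z_mem_sb _⟩, rfl⟩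
    rw [e2, ← Set.image_univ, Set.ncard_image_of_injective, Set.ncard_univ, Nat.card_fin]
    have key : ∀ i j : ℕ, i < 5 → j < 5 → i ≤ j → z ^ i • e = z ^ j • e → i = j := by
      intro i j hi hj hij he1
      have h1 : z ^ j = z ^ i * z ^ (j - i) := by rw [← pow_add, Nat.add_sub_cancel' hij]
      rw [h1, mul_smul] at he1
      have h2 : z ^ (j - i) • e = e := (MulAction.injective (z ^ i) he1).symm
      by_contra hne
      refine h.ne_zero e he (hz.pow_fpf h ?_ (hz.mem_self h he) h2)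
      intro hd
      have := Nat.le_of_dvd (by omega) hd
      omega
    intro i j hij
    rcases le_total (i : ℕ) (j : ℕ) with hle | hle
    · exact Fin.ext (key i j i.2 j.2 hle hij)
    · exact Fin.ext (key j i j.2 i.2 hle hij.symm).symm
  -- the index of `kb` in the stabilizer
  have h24 : (kb M z).relIndex (MulAction.stabilizer H e) = 2 ∨
      (kb M z).relIndex (MulAction.stabilizer H e) = 4 := by
    have hn : MulAction.stabilizer H e ≤ normalizer ((zpowers z : Subgroup H) : Set H) := by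
      intro g hg
      have key : ∀ g : H, g • e = e → ∀ y ∈ zpowers z, g * y * g⁻¹ ∈ zpowers z := by
        intro g hg y hy
        obtain ⟨n, rfl⟩ := mem_zpowers_iff.mp hy
        obtain ⟨i, _, h1⟩ := hz.fix_conj h he hg
        rw [← conj_zpow, h1]
        exact zpow_mem (pow_mem (mem_zpowers z) i) n
      rw [mem_normalizer_iff]
      intro y
      refine ⟨key g hg y, fun hy => ?_⟩
      have := key g⁻¹ (inv_mem hg : g⁻¹ ∈ MulAction.stabilizer H e) _ hy
      have e1 : g⁻¹ * (g * y * g⁻¹) * g⁻¹⁻¹ = y := by group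
      rwa [e1] at this
    let φ : MulAction.stabilizer H e →* MulAut (zpowers z) :=
      (Subgroup.normalizerMonoidHom (zpowers z)).comp (Subgroup.inclusion hn)
    have hφ : ∀ (g : MulAction.stabilizer H e) (y : zpowers z), ((φ g y : zpowers z) : H) = g * y * (g : H)⁻¹ :=
      fun g y => rfl
    have hker : φ.ker = (kb M z).subgroupOf (MulAction.stabilizer H e) := by
      ext g
      rw [MonoidHom.mem_ker, mem_subgroupOf]
      constructor
      · intro h1
        have h2 : ((φ g ⟨z, mem_zpowers z⟩ : zpowers z) : H) = z := by rw [h1]; rfl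
        rw [hφ] at h2
        exact hz.mem_kb_of h he g.2 (mul_inv_eq_iff_eq_mul.mp h2)
      · intro h1
        have h2 := hz.comm_of_mem_kb h he h1
        ext y
        rw [hφ]
        have h3 : Commute (g : H) (y : H) := by
          obtain ⟨n, hn⟩ := mem_zpowers_iff.mp y.2
          rw [← hn]
          exact (show Commute (g : H) z from h2).zpow_right n
        rw [h3.eq, mul_inv_cancel_right]; rfl
    have h1 : (kb M z).relIndex (MulAction.stabilizer H e) ∣ 4 := by
      rw [Subgroup.relIndex, ← hker, Subgroup.index_ker]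
      have h2 : Nat.card (MulAut (zpowers z)) = 4 := by
        rw [IsCyclic.card_mulAut, Nat.card_zpowers, orderOf_eq_prime hz.pow hz.ne]
        decide
      rw [← h2]
      exact Subgroup.card_subgroup_dvd_card _
    have h2 : (kb M z).relIndex (MulAction.stabilizer H e) ≠ 1 := by
      intro h3
      rw [Subgroup.relIndex_eq_one] at h3
      exact hz.a_not_mem_kb h he (h3 (a_smul_self h he))
    have h3 : (kb M z).relIndex (MulAction.stabilizer H e) ∈ Nat.divisors 4 := by
      rw [Nat.mem_divisors]; exact ⟨h1, by norm_num⟩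
    have h4 : Nat.divisors 4 = {1, 2, 4} := by decide
    rw [h4] at h3
    simp only [Finset.mem_insert, Finset.mem_singleton] at h3
    rcases h3 with h3 | h3 | h3
    · exact absurd h3 h2
    · exact Or.inl h3
    · exact Or.inr h3
  rw [← Subgroup.relIndex_mul_relIndex _ _ _ hkS hSs, h5]
  rcases h24 with h1 | h1 <;> rw [h1]
  · left; norm_num
  · right; norm_num

end Cfsg.Agent.MinSimple.OddRTFive
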