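import Cfsg.Agent.MinSimple.OddSlideDefs
import Cfsg.Agent.MinSimple.TvPoint

/-!
# (E1)(b), `n ≥ 3`, Case 1: one step of the sliding
-/

set_option autoImplicit false
set_option linter.unusedSectionVars false

namespace Cfsg.Agent.MinSimple.OddSlide

open Subgroup Cfsg Cfsg.Agent.ZN Cfsg.Agent.MinSimple.Geo Cfsg.Agent.MinSimple.BTwoA
  Cfsg.Agent.MinSimple.OddLine Cfsg.Agent.MinSimple.OddBase Cfsg.Agent.MinSimple.OddPair
  Cfsg.Agent.MinSimple.OddRep Cfsg.Agent.MinSimple.OddTwoRep Cfsg.Agent.MinSimple.OddTwoWeight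
open Cfsg.Agent.MinSimple.TvMod (Ctx Tv)

universe u

/-! ### the module lemma -/

section mod

variable {M : Type*} [CommGroup M] {J F : Subgroup (MulAut M)} {τ σ θ : MulAut M} {r c : M}

theorem sep_mod (h : Ctx J F) (hτ : τ ∈ J) (hσ : σ ∈ J) (hθ : θ ∈ J) (tτ : Tv τ r) (tσ : Tv σ c)
    (hne : c ≠ r) (hσr : σ r = r) (hmove : τ (θ r) ≠ θ r) (hcase : θ c = c ∨ θ (r * c) = r * c)
    (hyp : σ (θ r) = θ r * c) : False := by
  have hτc : τ c = c := h.symm_fix hσ hτ tσ tτ hσr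
  have tσ' := tσ.conj θ
  have tτ' := tτ.conj θ
  have hσ'J : θ * σ * θ⁻¹ ∈ J := mul_mem (mul_mem hθ hσ) (inv_mem hθ)
  have hτ'J : θ * τ * θ⁻¹ ∈ J := mul_mem (mul_mem hθ hτ) (inv_mem hθ)
  rcases hcase with e | e
  · rw [e] at tσ'
    have h1 : θ * σ * θ⁻¹ = σ := h.uc hσ'J hσ tσ' tσ
    have h2 : σ (θ r) = θ r := by
      have h3 : (θ * σ * θ⁻¹) (θ r) = θ r := by
        rw [MulAut.mul_apply, MulAut.mul_apply, MulAut.inv_apply_self, hσr]
      rwa [h1] at h3
    rw [h2] at hyp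
    exact tσ.1 (by simpa using hyp.symm)
  · have hm1 : τ (θ r) = θ r * r := (tτ.2.2.1 _).resolve_left hmove
    have hc : θ c = θ r * (r * c) := by
      have h1 : θ r * θ c = r * c := by rw [← map_mul, e]
      calc θ c = (θ r * θ r) * θ c := by rw [h.sq, one_mul]
        _ = θ r * (r * c) := by rw [mul_assoc, h1]
    have hm2 : τ (θ c) = θ c * r := by
      rw [hc, map_mul, map_mul, hm1, hτc, tτ.2.1]
      ac_rfl
    obtain ⟨U, hU, hrU⟩ := h.exists_of_cen hτ tτ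
    have h1 : θ r ∈ U := by
      refine h.mem_of_move hU hrU hτ'J tτ' ?_
      rw [h.symm_move hτ hτ'J tτ tτ' hm1]
      exact fun e => tτ'.1 (by simpa using e)
    have h2 : θ c ∈ U := by
      refine h.mem_of_move hU hrU hσ'J tσ' ?_
      rw [h.symm_move hτ hσ'J tτ tσ' hm2]
      exact fun e => tσ'.1 (by simpa using e)
    have h3 : c ∈ U := by
      have h4 : r * (θ r * θ c) = c := by
        have h1 : θ r * θ c = r * c := by rw [← map_mul, e]
        rw [h1, ← mul_assoc, h.sq, one_mul]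
      rw [← h4]
      exact mul_mem hrU (mul_mem h1 h2)
    have h5 := h.blk_smul hU hrU hτ tτ h3 tσ.1 hne
    rw [hτc] at h5
    exact tτ.1 (by simpa using h5.symm)

end mod

variable {G : Type u} [Group G] [Finite G] {T V : Subgroup G} {z : G}

/-! ### the module at a point -/

section rep

variable {M X : Type u} [AddCommGroup M] [Group X] [DistribMulAction X M] {x : G}

theorem exists_ctx_rep (h : Odd T V z) (hx : Pt z x) (R : Rep V x M X) :
    ∃ F, Ctx (act M X).range F := by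
  obtain ⟨g, -, h1⟩ := exists_odd h hx
  have R' : Rep (cj g V) x M X := by
    have e : ws (cj g V) x = ws V x := ws_cj V g x
    unfold OddRep.Rep
    rw [e]
    exact R
  exact TvPoint.exists_ctx_rep h1 R'

/-- the transvection induced by `g` -/
theorem tv_of (h : Odd T V z) (hx : Pt z x) (R : Rep V x M X) {g c : G}
    (hg : g ∈ centralizer ({x} : Set G)) (hc : c ∈ ws V x)
    (hgc : ∀ a ∈ ws V x, g * a * g⁻¹ = a ∨ g * a * g⁻¹ = c * a) (hcc : g * c = c * g)
    (hc1 : c ≠ 1) (hcx : c ≠ x) {a : G} (ha : a ∈ ws V x) (hga : g * a ≠ a * g) :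
    Tv (act M X (R.rho g)) (ve R c) := by
  have h1 : ve R 1 = 1 := by
    unfold ve; rw [R.pi_one]; rfl
  have hc' : ve R c ≠ 1 := by
    rw [← h1, Ne, ve_eq h hx R hc (one_mem _), mul_one]
    rintro (e | e)
    · exact hc1 e
    · exact hcx e
  refine ⟨hc', ?_, fun m => ?_, ve R a, ?_⟩
  · rw [act_ve R hg hc, hcc, mul_inv_cancel_right]
  · obtain ⟨b, hb, rfl⟩ := ve_surj R m
    rw [act_ve R hg hb]
    rcases hgc b hb with e | e
    · left; rw [e]
    · right; rw [e, ve_mul R hc hb, mul_comm]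
  · rw [act_ve R hg ha]
    rcases hgc a ha with e | e
    · exact absurd (mul_inv_eq_iff_eq_mul.mp e) hga
    · rw [e, ve_mul R hc ha]
      exact fun e' => hc' (mul_eq_right.mp e')

end rep

section sep

variable {x y p q t w s : G}

theorem tr_t_ne (hT : Tr T V z x y t) : t ≠ x := fun e => hT.rd (e ▸ hT.t_memd)

/-- `w` moves `s t s⁻¹` -/
theorem move_conj (hT : Tr T V z x y t) (hw : w ∈ ws V y) (hS : Side V x w t s) :
    w * (s * t * s⁻¹) ≠ s * t * s⁻¹ * w := fun e => hS.t_ne hT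
  (conj_eq_iff_comm.mp (hS.uniq hT hw (hS.four.uu_conj hS.t_mem) (conj_ne_one hT.t_ne) e))

/-- `w` moves `t` nowhere and `s t s⁻¹` to `t s t s⁻¹`, so it is a transvection -/
theorem tv_w (h : Odd T V z) (hT : Tr T V z x y t) (hw : w ∈ ws V y) (hS : Side V x w t s)
    {M X : Type u} [AddCommGroup M] [Group X] [DistribMulAction X M] (R : Rep V x M X) :
    Tv (act M X (R.rho w)) (ve R t) := by
  refine tv_of h hT.ptr R (hT.cr hw) hT.t_memr (fun a ha => ?_) (hT.comm_t hw) hT.t_ne (tr_t_ne hT)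
    (hS.four.uu_le (hS.four.uu_conj hS.t_mem)) (move_conj hT hw hS)
  rcases hT.conj_cases hw ha with e | e
  · left; rw [e, mul_inv_cancel_right]
  · right; rw [e, hT.comm_t' ha]

theorem sep (h : Odd T V z) (hT : Tr T V z x y t) (hw : w ∈ ws V y) (hS : Side V x w t s)
    (hp : p ∈ ws V x) (hsp : s * (t * p) = t * p * s) (hq : q = s * p * s⁻¹) {g c : G}
    (hg : g ∈ centralizer ({x} : Set G)) (hc : c ∈ ws V x)
    (hgc : ∀ a ∈ ws V x, g * a * g⁻¹ = a ∨ g * a * g⁻¹ = c * a) (hcc : g * c = c * g)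
    (hgt : g * t = t * g) (hc1 : c ≠ 1) (hcx : c ≠ x) (hct : c ≠ t) (hcxt : c ≠ x * t)
    (hgq : g * q = q * g) : g * p = p * g := by
  by_contra hgp
  have hx := hT.ptr
  obtain ⟨M, X, _, _, _, ⟨R⟩⟩ := exists_rep h hx
  obtain ⟨F, hF⟩ := exists_ctx_rep h hx R
  have hxw := self_mem_ws h.toGeo hx
  have tτ := tv_w h hT hw hS R
  have tσ := tv_of h hx R hg hc hgc hcc hc1 hcx hp hgp
  have htt := hT.tt_sq
  have htx := tr_t_ne hT
  have hst := hS.four.uu_le (hS.four.uu_conj hS.t_mem)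
  have hne : ve R c ≠ ve R t := by
    rw [Ne, ve_eq h hx R hc hT.t_memr]
    rintro (e | e)
    · exact hct e
    · exact hcxt e
  have hσt : act M X (R.rho g) (ve R t) = ve R t := by
    rw [act_ve R hg hT.t_memr, hgt, mul_inv_cancel_right]
  have hθr : act M X (R.rho s) (ve R t) = ve R (s * t * s⁻¹) := act_ve R hS.mem hT.t_memr
  have hθc : act M X (R.rho s) (ve R c) = ve R (s * c * s⁻¹) := act_ve R hS.mem hc
  have hτc := hF.symm_fix ⟨_, rfl⟩ ⟨_, rfl⟩ tσ tτ hσt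
  -- `w` commutes with `c`
  have hwc : w * c = c * w := by
    by_contra hwc
    have e := hT.conj_eq hw hc hwc
    rw [act_ve R (hT.cr hw) hc, e, ve_mul R hc hT.t_memr] at hτc
    exact tτ.1 (mul_eq_left.mp hτc)
  -- the action of `g` on `s t s⁻¹`
  have hgp' : g * p * g⁻¹ = c * p := (hgc p hp).resolve_left fun e => hgp (mul_inv_eq_iff_eq_mul.mp e)
  have hcp : c * p = p * c := OddBase.ws_comm h hx hc hp
  have hpp := OddBase.ws_sq h hx hp
  have hq2 : q = s * t * s⁻¹ * (t * p) := by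
    have e1 : s * (t * p) * s⁻¹ = t * p := conj_eq_iff_comm.mpr hsp
    calc q = s * p * s⁻¹ := hq
      _ = s * (t * t) * p * s⁻¹ := by rw [htt]; group
      _ = s * t * s⁻¹ * (s * (t * p) * s⁻¹) := by group
      _ = s * t * s⁻¹ * (t * p) := by rw [e1]
  have hgst : g * (s * t * s⁻¹) * g⁻¹ = s * t * s⁻¹ * c := by
    have e1 : g * (t * p) * g⁻¹ = t * p * c := by
      calc g * (t * p) * g⁻¹ = (g * t * g⁻¹) * (g * p * g⁻¹) := by group
        _ = t * (c * p) := by rw [hgp', conj_eq_iff_comm.mpr hgt]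
        _ = t * p * c := by rw [hcp, mul_assoc]
    have e2 : g * (s * t * s⁻¹) * g⁻¹ * (g * (t * p) * g⁻¹) = s * t * s⁻¹ * (t * p) := by
      calc g * (s * t * s⁻¹) * g⁻¹ * (g * (t * p) * g⁻¹) = g * (s * t * s⁻¹ * (t * p)) * g⁻¹ := by group
        _ = s * t * s⁻¹ * (t * p) := by rw [← hq2]; exact conj_eq_iff_comm.mpr hgq
    rw [e1] at e2
    have e3 : g * (s * t * s⁻¹) * g⁻¹ = s * t * s⁻¹ * (t * p) * (t * p * c)⁻¹ := eq_mul_inv_of_mul_eq e2
    have hci : c⁻¹ = c := OddBase.ws_inv h hx hc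
    rw [e3, mul_inv_rev, hci]
    have e4 : t * p * c = c * (t * p) := OddBase.ws_comm h hx (mul_mem hT.t_memr hp) hc
    calc s * t * s⁻¹ * (t * p) * (c * (t * p)⁻¹) = s * t * s⁻¹ * (t * p * c) * (t * p)⁻¹ := by group
      _ = s * t * s⁻¹ * c := by rw [e4]; group
  refine sep_mod hF ⟨_, rfl⟩ ⟨_, rfl⟩ (θ := act M X (R.rho s)) ⟨_, rfl⟩ tτ tσ hne hσt ?_ ?_ ?_
  · rw [hθr, act_ve R (hT.cr hw) hst]
    have e := hT.conj_eq hw hst (move_conj hT hw hS)
    rw [e, ve_mul R hst hT.t_memr]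
    exact fun e' => tτ.1 (mul_eq_left.mp e')
  · rcases hS.comm_cases hT hw hc hwc with e | e
    · left; rw [hθc, conj_eq_iff_comm.mpr e]
    · right
      rw [← ve_mul R hT.t_memr hc, act_ve R hS.mem (mul_mem hT.t_memr hc), conj_eq_iff_comm.mpr e]
  · rw [hθr, act_ve R hg hst, hgst, ve_mul R hst hc]

end sep

/-! ### the element `w` -/

section ctl

variable {x y t : G}

theorem exists_ctl (h : Odd T V z) (hT : Tr T V z x y t) (hne : ∃ a ∈ ws V x, ∃ b ∈ ws V y, a * b ≠ b * a) :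
    ∃ w ∈ ws V y, w ∉ centralizer (ws V x : Set G) ∧ ∀ g ∈ centralizer ({y} : Set G), g * t = t * g →
      g * w * g⁻¹ = w ∨ g * w * g⁻¹ = y * w ∨ g * w * g⁻¹ = w * t ∨ g * w * g⁻¹ = y * (w * t) := by
  obtain ⟨v, hv, b, hb, hvb⟩ := hne
  have hy := hT.ptd
  obtain ⟨M, X, _, _, _, ⟨R⟩⟩ := exists_rep h hy
  obtain ⟨F, hF⟩ := exists_ctx_rep h hy R
  have hty : t ≠ y := fun e => hT.dr (e ▸ hT.t_memr)
  have hvy := hT.cd hv
  have tv : Tv (act M X (R.rho v)) (ve R t) := by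
    refine tv_of h hy R hvy hT.t_memd (fun a ha => ?_) (hT.comm_t' hv) hT.t_ne hty hb hvb
    rcases hT.symm.conj_cases hv ha with e | e
    · left; rw [e, mul_inv_cancel_right]
    · right; rw [e, hT.symm.comm_t' ha]
  obtain ⟨c, r, k⟩ := hF.exists_blk ⟨_, rfl⟩ tv
  obtain ⟨w, hw, rfl⟩ := ve_surj R r
  refine ⟨w, hw, fun hcw => ?_, fun g hg hgt => ?_⟩
  · have h1 := k.bs
    have h2 : v * w * v⁻¹ = w := by
      rw [mem_centralizer_iff.mp hcw v hv, mul_inv_cancel_right]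
    rw [act_ve R hvy hw, h2] at h1
    exact tv.1 (by simpa using h1.symm)
  · have k1 := k.conj hF (g := act M X (R.rho g)) ⟨_, rfl⟩
    have e1 : act M X (R.rho g) (ve R t) = ve R t := by
      rw [act_ve R hg hT.t_memd, hgt, mul_inv_cancel_right]
    rw [e1, act_ve R hg hw] at k1
    have hgw := R.conj_mem hg hw
    rcases hF.bl_unique ⟨_, _, k⟩ ⟨_, _, k1⟩ with e | e
    · rcases (ve_eq h hy R hgw hw).mp e with e | e
      · exact Or.inl e
      · exact Or.inr (Or.inl e)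
    · rw [← ve_mul R hw hT.t_memd, ve_eq h hy R hgw (mul_mem hw hT.t_memd)] at e
      rcases e with e | e
      · exact Or.inr (Or.inr (Or.inl e))
      · exact Or.inr (Or.inr (Or.inr e))

end ctl

/-! ### the new pair -/

section step

variable {m : ℕ} {x y p y' q t w s : G}

/-- the hypotheses of one step -/
structure Pre (T V : Subgroup G) (z : G) (m : ℕ) (x y p y' t s w : G) : Prop where
  odd : OddN T V z (m + 1)
  two : 2 ≤ m
  crit : Crit V z (m + 1) x y
  xp : Col V x p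
  py' : Walk V (m - 1) p y'
  y'y : Col V y' y
  tr : Tr T V z x y t
  w_mem : w ∈ ws V y
  w_not : w ∉ centralizer (ws V x : Set G)
  side : Side V x w t s

namespace Pre

theorem ptp (h : Pre T V z m x y p y' t s w) : Pt z p := h.xp.pt h.odd.toGeo

theorem pty' (h : Pre T V z m x y p y' t s w) : Pt z y' := h.y'y.pt_left h.odd.toGeo

theorem walk (h : Pre T V z m x y p y' t s w) : Walk V m p y := by
  have h1 := h.py'.step h.y'y
  have e : m - 1 + 1 = m := Nat.sub_add_cancel (le_trans (by norm_num) h.two)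
  rwa [e] at h1

/-- `ws V y` and `ws V p` commute -/
theorem comm_p (h : Pre T V z m x y p y' t s w) {a b : G} (ha : a ∈ ws V y) (hb : b ∈ ws V p) :
    a * b = b * a :=
  (h.odd.lt p y m (Nat.lt_succ_self m) h.ptp h.walk b hb a ha).symm

/-- `ws V y` and `ws V y'` commute -/
theorem comm_y' (h : Pre T V z m x y p y' t s w) {a b : G} (ha : a ∈ ws V y) (hb : b ∈ ws V y') :
    a * b = b * a :=
  (h.odd.lt y' y 1 (by have := h.two; omega) h.pty' h.y'y.walk b hb a ha).symm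

theorem s_x (h : Pre T V z m x y p y' t s w) : s * x * s⁻¹ = x := by
  have := mem_centralizer_singleton_iff.mp h.side.mem
  rw [this, mul_inv_cancel_right]

theorem sp (h : Pre T V z m x y p y' t s w) : s * (t * p) = t * p * s :=
  h.side.comm_tp h.odd h.tr h.ptp h.xp.mem_ws (Nat.lt_succ_self m) h.walk h.w_mem

theorem xq (h : Pre T V z m x y p y' t s w) : Col V x (s * p * s⁻¹) := by
  have := h.xp.conj s
  rwa [h.s_x] at this

theorem ptq (h : Pre T V z m x y p y' t s w) : Pt z (s * p * s⁻¹) := h.ptp.conj s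

theorem q_eq (h : Pre T V z m x y p y' t s w) : s * p * s⁻¹ = s * t * s⁻¹ * (t * p) := by
  have e1 : s * (t * p) * s⁻¹ = t * p := conj_eq_iff_comm.mpr h.sp
  calc s * p * s⁻¹ = s * (t * t) * p * s⁻¹ := by rw [h.tr.tt_sq]; group
    _ = s * t * s⁻¹ * (s * (t * p) * s⁻¹) := by group
    _ = s * t * s⁻¹ * (t * p) := by rw [e1]

theorem w_tp (h : Pre T V z m x y p y' t s w) : w * (t * p) = t * p * w := by
  have e1 := h.tr.comm_t h.w_mem
  have e2 := h.comm_p h.w_mem (self_mem_ws h.odd.toGeo h.ptp)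
  calc w * (t * p) = (w * t) * p := by group
    _ = t * (w * p) := by rw [e1]; group
    _ = t * p * w := by rw [e2]; group

theorem wq (h : Pre T V z m x y p y' t s w) : w * (s * p * s⁻¹) ≠ s * p * s⁻¹ * w := by
  intro e
  rw [h.q_eq] at e
  apply move_conj h.tr h.w_mem h.side
  have c1 : Commute w (s * t * s⁻¹ * (t * p)) := e
  have c2 : Commute w (t * p) := h.w_tp
  have c3 := c1.mul_right c2.inv_right
  rw [mul_inv_cancel_right] at c3
  exact c3.eq

/-- `w q w⁻¹ = t q` -/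
theorem w_conj_q (h : Pre T V z m x y p y' t s w) : w * (s * p * s⁻¹) * w⁻¹ = s * p * s⁻¹ * t :=
  h.tr.conj_eq h.w_mem h.xq.mem_ws h.wq

/-- `s w s⁻¹` centralizes `ws V q` -/
theorem conj_w_comm (h : Pre T V z m x y p y' t s w) {b : G} (hb : b ∈ ws V (s * p * s⁻¹)) :
    s * w * s⁻¹ * b = b * (s * w * s⁻¹) := by
  rw [← cj_ws, mem_cj] at hb
  have h1 := h.comm_p h.w_mem hb
  calc s * w * s⁻¹ * b = s * (w * (s⁻¹ * b * s)) * s⁻¹ := by group
    _ = s * (s⁻¹ * b * s * w) * s⁻¹ := by rw [h1]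
    _ = b * (s * w * s⁻¹) := by group

theorem w_inv (h : Pre T V z m x y p y' t s w) : w⁻¹ = w := inv_eq_self (h.tr.sqd h.w_mem)

/-- elements commuting with `w` and `s w s⁻¹` commute with `s` -/
theorem comm_s (h : Pre T V z m x y p y' t s w) {b : G} (h1 : w * b = b * w)
    (h2 : s * w * s⁻¹ * b = b * (s * w * s⁻¹)) : s * b = b * s := by
  have e : s * w * s⁻¹ * w = s * s := by
    have h3 := Side.inv' (h.tr.sqd h.w_mem) h.side
    rw [h.w_inv] at h3
    calc s * w * s⁻¹ * w = s * (w * s⁻¹ * w) := by group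
      _ = s * s := by rw [h3]
  have c1 : Commute w b := h1
  have c2 : Commute (s * w * s⁻¹) b := h2
  have c3 := c2.mul_left c1
  rw [e] at c3
  obtain ⟨n, hn⟩ := exists_sq_pow h.side.odd
  have c4 := c3.pow_left n
  rw [hn] at c4
  exact c4.eq

theorem D_comm (h : Pre T V z m x y p y' t s w) {d : G}
    (hd : d ∈ ws V p ⊓ ws V (s * p * s⁻¹)) : s * d = d * s :=
  h.comm_s (h.comm_p h.w_mem hd.1) (h.conj_w_comm hd.2)

theorem s_sq_ne (h : Pre T V z m x y p y' t s w) : s * s * (s * s) ≠ 1 := by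
  intro e
  have h1 : orderOf s ∣ 2 ^ 2 := orderOf_dvd_of_pow_eq_one (by
    rw [show (2 : ℕ) ^ 2 = 2 + 2 by norm_num, pow_add, pow_two]; exact e)
  have h9 : Nat.Coprime (orderOf s) (2 ^ 2) :=
    Nat.Coprime.pow_right _ (Nat.coprime_two_right.mpr h.side.odd)
  have h10 : orderOf s = 1 := Nat.eq_one_of_dvd_coprimes h9 dvd_rfl h1
  apply h.side.nk
  rw [orderOf_eq_one_iff.mp h10]
  exact one_mem _

/-- `q ∉ ws V y'` -/
theorem q_not_mem (h : Pre T V z m x y p y' t s w) : s * p * s⁻¹ ∉ ws V y' := fun e =>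
  h.wq (h.comm_y' h.w_mem e)

/-- `y' ∉ ws V q` -/
theorem y'_not_mem (h : Pre T V z m x y p y' t s w) : y' ∉ ws V (s * p * s⁻¹) := by
  intro e
  have hy' := self_mem_ws h.odd.toGeo h.pty'
  have h1 := h.comm_s (h.comm_y' h.w_mem hy') (h.conj_w_comm e)
  have h2 : s * y' * s⁻¹ = y' := conj_eq_iff_comm.mpr h1
  have h3 := h.y'y.conj s
  rw [h2] at h3
  have h4 : Walk V 2 y (s * y * s⁻¹) := h.y'y.symm.walk.step h3
  have hw' : s * w * s⁻¹ ∈ ws V (s * y * s⁻¹) := by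
    rw [← cj_ws]; exact conj_mem_cj h.w_mem
  have h5 := h.odd.lt y (s * y * s⁻¹) 2 (by have := h.two; omega) (h.crit.pt' h.odd.toGeo) h4 w h.w_mem _ hw'
  apply h.s_sq_ne
  have e1 : s * w * s⁻¹ * w = s * s := by
    have h3 := Side.inv' (h.tr.sqd h.w_mem) h.side
    rw [h.w_inv] at h3
    calc s * w * s⁻¹ * w = s * (w * s⁻¹ * w) := by group
      _ = s * s := by rw [h3]
  have hww := h.tr.sqd h.w_mem
  calc s * s * (s * s) = s * w * s⁻¹ * w * (s * w * s⁻¹ * w) := by rw [e1]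
    _ = s * w * s⁻¹ * (w * (s * w * s⁻¹)) * w := by group
    _ = s * w * s⁻¹ * (s * w * s⁻¹ * w) * w := by rw [h5]
    _ = s * (w * w) * s⁻¹ * (w * w) := by group
    _ = 1 := by rw [hww]; group

/-- the new critical pair -/
theorem crit' (h : Pre T V z m x y p y' t s w) (hmv : ∃ a ∈ ws V (s * p * s⁻¹), a * y ≠ y * a) :
    Crit V z (m + 1) (s * p * s⁻¹) y' := by
  obtain ⟨a, ha, hay⟩ := hmv
  refine ⟨h.ptq, ?_, a, ha, y, ?_, hay⟩
  · have h1 : Walk V (1 + 1) (s * p * s⁻¹) p := h.xq.symm.walk.trans h.xp.walk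
    have h2 := h1.trans h.py'
    have e : 1 + 1 + (m - 1) = m + 1 := by have := h.two; omega
    rwa [e] at h2
  · exact h.y'y.mem_ws

/-- `V_q ∩ V_{w q w⁻¹} ≤ V_p` -/
theorem mem_p_of_comm (h : Pre T V z m x y p y' t s w) {a : G} (ha : a ∈ ws V (s * p * s⁻¹))
    (haw : a * w = w * a) : a ∈ ws V p := by
  -- `a ∈ ws V (s⁻¹ p s)`
  have h1 : a ∈ ws V (s⁻¹ * p * s) := by
    have h2 : a = w * a * w⁻¹ := by rw [← haw, mul_inv_cancel_right]
    have h3 : w * a * w⁻¹ ∈ ws V (w * (s * p * s⁻¹) * w⁻¹) := by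
      rw [← cj_ws]; exact conj_mem_cj ha
    have e : w * (s * p * s⁻¹) * w⁻¹ = s⁻¹ * p * s := by
      have hp : w * p * w⁻¹ = p := by
        rw [h.comm_p h.w_mem (self_mem_ws h.odd.toGeo h.ptp), mul_inv_cancel_right]
      have hs := h.side.inv
      have hs' := Side.inv' (h.tr.sqd h.w_mem) h.side
      calc w * (s * p * s⁻¹) * w⁻¹ = (w * s * w⁻¹) * (w * p * w⁻¹) * (w * s⁻¹ * w⁻¹) := by group
        _ = s⁻¹ * p * s := by rw [hp, hs, hs']
    rw [e] at h3
    rw [h2]; exact h3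
  -- `s⁻¹ a s ∈ ws V p ⊓ ws V q`
  have h2 : s⁻¹ * a * s ∈ ws V p := by
    have h3 : s⁻¹ * a * s⁻¹⁻¹ ∈ ws V (s⁻¹ * (s * p * s⁻¹) * s⁻¹⁻¹) := by
      rw [← cj_ws]; exact conj_mem_cj ha
    have e : s⁻¹ * (s * p * s⁻¹) * s⁻¹⁻¹ = p := by group
    rw [e, inv_inv] at h3
    exact h3
  have h3 : s⁻¹ * a * s ∈ ws V (s * p * s⁻¹) := by
    have h4 : s⁻¹ * a * s⁻¹⁻¹ ∈ ws V (s⁻¹ * (s⁻¹ * p * s) * s⁻¹⁻¹) := by
      rw [← cj_ws]; exact conj_mem_cj h1
    have e : s⁻¹ * (s⁻¹ * p * s) * s⁻¹⁻¹ = s * p * s⁻¹ := by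
      have h5 := h.side.cube h.tr h.xp.mem_ws
      calc s⁻¹ * (s⁻¹ * p * s) * s⁻¹⁻¹ = s⁻¹ * s⁻¹ * p * s * s := by group
        _ = s⁻¹ * s⁻¹ * (s * (s * (s * p * s⁻¹) * s⁻¹) * s⁻¹) * s * s := by rw [h5]
        _ = s * p * s⁻¹ := by group
    rw [e, inv_inv] at h4
    exact h4
  have h4 := h.D_comm ⟨h2, h3⟩
  have h5 : s⁻¹ * a * s = a := by
    have h6 : s * (s⁻¹ * a * s) * s⁻¹ = s⁻¹ * a * s := by rw [h4, mul_inv_cancel_right]
    rw [← h6]; group
  rw [← h5]; exact h2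

/-- the condition on `w` -/
def Sp (y t w : G) : Prop := ∀ g ∈ centralizer ({y} : Set G), g * t = t * g →
  g * w * g⁻¹ = w ∨ g * w * g⁻¹ = y * w ∨ g * w * g⁻¹ = w * t ∨ g * w * g⁻¹ = y * (w * t)

/-- `C_{V_q}(y) = ⟨q⟩ (V_p ∩ V_q)` -/
theorem idx (h : Pre T V z m x y p y' t s w) (hw : Sp y t w) (hmv : ∃ a ∈ ws V (s * p * s⁻¹), a * y ≠ y * a)
    {a : G} (ha : a ∈ ws V (s * p * s⁻¹)) (hay : a * y = y * a) :
    a ∈ ws V p ∨ a * (s * p * s⁻¹) ∈ ws V p := by
  have ho := h.odd.toOdd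
  set q := s * p * s⁻¹ with hq
  -- `ws V q` commutes with `ws V x`
  have hqx : ∀ b ∈ ws V q, ∀ c ∈ ws V x, b * c = c * b := fun b hb c hc =>
    (h.odd.lt x q 1 (by have := h.two; omega) h.tr.ptr h.xq.walk c hc b hb).symm
  have hat : a * t = t * a := hqx a ha t h.tr.t_memr
  -- `ws V q` commutes with `ws V (w q w⁻¹)`
  have hq'm : w * a * w⁻¹ ∈ ws V (w * q * w⁻¹) := by
    rw [← cj_ws]; exact conj_mem_cj ha
  have hwx : w * x * w⁻¹ = x := by
    rw [mem_centralizer_singleton_iff.mp (h.tr.cr h.w_mem), mul_inv_cancel_right]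
  have hcol : Col V x (w * q * w⁻¹) := by
    have := h.xq.conj w
    rwa [hwx] at this
  have hqq : ∀ b ∈ ws V q, ∀ c ∈ ws V (w * q * w⁻¹), b * c = c * b := fun b hb c hc =>
    h.odd.lt q _ 2 (by have := h.two; omega) h.ptq (h.xq.symm.walk.step hcol) b hb c hc
  have hcomm : ∀ b ∈ ws V q, b * (a * w * a⁻¹ * w⁻¹) = a * w * a⁻¹ * w⁻¹ * b := by
    intro b hb
    have h1 : b * a = a * b := OddBase.ws_comm ho h.ptq hb ha
    have h2 := hqq b hb _ hq'm
    have c1 : Commute b a := h1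
    have c2 : Commute b (w * a * w⁻¹) := h2
    have c3 := c1.mul_right c2.inv_right
    have e : a * (w * a * w⁻¹)⁻¹ = a * w * a⁻¹ * w⁻¹ := by group
    rw [e] at c3
    exact c3.eq
  obtain ⟨a1, ha1, hmv1⟩ := hmv
  have ha1t := hqx a1 ha1 t h.tr.t_memr
  have hyt : y * t = t * y :=
    (h.tr.symm.comm_t' (self_mem_ws ho.toGeo h.tr.ptd))
  have hyw : y * w = w * y := OddBase.ws_comm ho h.tr.ptd (self_mem_ws ho.toGeo h.tr.ptd) h.w_mem
  rcases hw a (mem_centralizer_singleton_iff.mpr hay) hat with e | e | e | e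
  · exact Or.inl (h.mem_p_of_comm ha (conj_eq_iff_comm.mp e))
  · exfalso
    have h1 := hcomm a1 ha1
    rw [e, mul_inv_cancel_right] at h1
    exact hmv1 h1
  · right
    refine h.mem_p_of_comm (mul_mem ha (self_mem_ws ho.toGeo h.ptq)) ?_
    have e1 := h.w_conj_q
    rw [← hq] at e1
    have hqq := OddBase.ws_sq ho h.tr.ptr h.xq.mem_ws
    have hqt : q * t = t * q := OddBase.ws_comm ho h.tr.ptr h.xq.mem_ws h.tr.t_memr
    have e2 : q * w * q⁻¹ = t * w := by
      have e3 : w * q = q * t * w := mul_inv_eq_iff_eq_mul.mp e1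
      have e4 : q * w = t * w * q := by
        calc q * w = q * w * (q * q) := by rw [hqq, mul_one]
          _ = q * (w * q) * q := by group
          _ = (q * q) * t * w * q := by rw [e3]; group
          _ = t * w * q := by rw [hqq, one_mul]
      rw [e4, mul_inv_cancel_right]
    have e5 : a * q * w * (a * q)⁻¹ = w := by
      calc a * q * w * (a * q)⁻¹ = a * (q * w * q⁻¹) * a⁻¹ := by group
        _ = (a * t * a⁻¹) * (a * w * a⁻¹) := by rw [e2]; group
        _ = t * (w * t) := by rw [e, hat, mul_inv_cancel_right]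
        _ = (t * t) * w := by rw [h.tr.comm_t h.w_mem, mul_assoc]
        _ = w := by rw [h.tr.tt_sq, one_mul]
    exact conj_eq_iff_comm.mp e5
  · exfalso
    have h1 := hcomm a1 ha1
    have e1 : y * (w * t) * w⁻¹ = y * t := by
      rw [h.tr.comm_t h.w_mem]; group
    rw [e, e1] at h1
    apply hmv1
    have c1 : Commute a1 (y * t) := h1
    have c2 : Commute a1 t := ha1t
    have c3 := c1.mul_right c2.inv_right
    rw [mul_inv_cancel_right] at c3
    exact c3.eq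

/-- `V_{y'}` moves `s r s⁻¹` -/
theorem star (h : Pre T V z m x y p y' t s w) (hw : Sp y t w)
    (hmv : ∃ a ∈ ws V (s * p * s⁻¹), a * y ≠ y * a) {r : G} (hpr : Col V p r)
    (hry : Walk V (m - 1) r y) : ∃ a ∈ ws V y', a * (s * r * s⁻¹) ≠ s * r * s⁻¹ * a := by
  by_contra hcon
  push Not at hcon
  have ho := h.odd.toOdd
  have hrp : r ∈ ws V p := hpr.mem_ws
  have hr' : s * r * s⁻¹ ∈ ws V (s * p * s⁻¹) := by
    rw [← cj_ws]; exact conj_mem_cj hrp
  have h1 := hcon y h.y'y.mem_ws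
  -- `r₁ = r` or `r p`
  have key : ∃ r1, s * r1 * s⁻¹ ∈ ws V p ∧ r1 ∈ ws V p ∧ Col V r1 p ∧ Walk V m r1 y := by
    have hm : m - 1 + 1 = m := Nat.sub_add_cancel (le_trans (by norm_num) h.two)
    rcases h.idx hw hmv hr' h1.symm with e | e
    · refine ⟨r, e, hrp, hpr.symm, ?_⟩
      have := hry.succ
      rwa [hm] at this
    · have hrp' : Col V (r * p) p ∧ Col V r (r * p) := by
        obtain ⟨hp1, hr1, hne, L, hL, hrL⟩ := hpr
        have hpL : p ∈ L := hL.2
        have hne1 : r * p ≠ 1 := fun e => hne (by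
          have h2 := mul_eq_one_iff_eq_inv.mp e
          rw [OddBase.ws_inv ho h.ptp (self_mem_ws ho.toGeo h.ptp)] at h2
          exact h2.symm)
        refine ⟨⟨hne1, hp1, fun e => hr1 (mul_eq_right.mp e), L, ⟨hL.1, mul_mem hrL hpL⟩, hpL⟩,
          ⟨hr1, hne1, fun e => hp1 (mul_eq_left.mp e.symm), L, ⟨hL.1, hrL⟩, mul_mem hrL hpL⟩⟩
      refine ⟨r * p, ?_, mul_mem hrp (self_mem_ws ho.toGeo h.ptp), hrp'.1, ?_⟩
      · have e2 : s * (r * p) * s⁻¹ = s * r * s⁻¹ * (s * p * s⁻¹) := by group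
        rw [e2]; exact e
      · have h2 := hrp'.2.symm.walk.trans hry
        have e3 : 1 + (m - 1) = m := by omega
        rwa [e3] at h2
  obtain ⟨r1, h2, h3, h4, h5⟩ := key
  have h6 : s * r1 * s⁻¹ ∈ ws V (s * p * s⁻¹) := by
    rw [← cj_ws]; exact conj_mem_cj h3
  have h7 := h.D_comm ⟨h2, h6⟩
  have h8 : s * r1 * s⁻¹ = r1 := by
    have h9 : s * (s * r1 * s⁻¹) * s⁻¹ = s * r1 * s⁻¹ := by rw [h7, mul_inv_cancel_right]
    calc s * r1 * s⁻¹ = s⁻¹ * (s * (s * r1 * s⁻¹) * s⁻¹) * s := by group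
      _ = r1 := by rw [h9]; group
  have h9 := h4.conj s
  rw [h8] at h9
  -- `q` is collinear with `r₁`
  have hr1 : Pt z r1 := h4.pt_left ho.toGeo
  exact h.wq (h.odd.lt r1 y m (Nat.lt_succ_self m) hr1 h5 _ h9.mem_ws w h.w_mem).symm

end Pre

/-- **one step of the sliding** -/
theorem exists_step {x y p : G} (h : OddN T V z (m + 1)) (h2 : 2 ≤ m) (hNS : NS T V z m)
    (hc : Crit V z (m + 1) x y) (hxy : x ∉ ws V y) (hyx : y ∉ ws V x) (hxp : Col V x p)
    (hpy : Walk V m p y) : ∃ y' q t s w u, Step T V z m x y p y' q t s w u := by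
  obtain ⟨t, hT⟩ := tr_of_crit h hc hxy hyx
  obtain ⟨w, hw, hwn, hsp⟩ := exists_ctl h.toOdd hT hc.2.2
  obtain ⟨s, hS⟩ := hT.exists_side hw hwn
  obtain ⟨k, rfl⟩ : ∃ k, m = k + 1 := ⟨m - 1, by omega⟩
  obtain ⟨y', hpy', hy'⟩ := id hpy
  have hy'y : Col V y' y := by
    rcases hy' with e | e
    · exfalso
      rw [e] at hpy'
      have h1 := hxp.walk.trans hpy'
      exact hc.not_walk h (m := 1 + k) (by omega) h1
    · exact e
  have hP : Pre T V z (k + 1) x y p y' t s w := ⟨h, h2, hc, hxp, hpy', hy'y, hT, hw, hwn, hS⟩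
  have hmv := hNS x y p t w s hc hxy hyx hxp hpy hT hw hwn hS
  have hc' := hP.crit' hmv
  obtain ⟨u, hu⟩ := tr_of_crit h hc' hP.q_not_mem hP.y'_not_mem
  have hwu : w * u = u * w := hP.comm_y' hw hu.t_memd
  refine ⟨y', s * p * s⁻¹, t, s, w, u, ?_⟩
  exact
    { odd := h, two := h2, crit := hc, xp := hxp, py' := hpy', y'y := hy'y, tr := hT, w_mem := hw,
      w_not := hwn, side := hS, q_eq := rfl, xq := hP.xq, wq := hP.wq,
      D_comm := fun d hd => hP.D_comm hd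
      crit' := hc', tr' := hu, mv := hmv
      u_D := by
        refine ⟨?_, hu.t_memr⟩
        have h1 : u * y = y * u :=
          (hP.comm_y' (self_mem_ws h.toGeo hT.ptd) hu.t_memd).symm
        rcases hP.idx hsp hmv hu.t_memr h1 with e | e
        · exact e
        · exfalso
          apply hP.wq
          have c1 : Commute w (u * (s * p * s⁻¹)) := hP.comm_p hw e
          have c2 : Commute w u := hwu
          have c3 := c2.inv_right.mul_right c1
          rw [inv_mul_cancel_left] at c3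
          exact c3.eq
      idx := fun a ha hay => hP.idx hsp hmv ha hay
      star := fun r hr hry => hP.star hsp hmv hr hry
      sep := fun g hg c hc2 hgc hcc hgt h3 h4 h5 h6 hgq =>
        sep h.toOdd hT hw hS hxp.mem_ws hP.sp rfl hg hc2 hgc hcc hgt h3 h4 h5 h6 hgq }

end step

end Cfsg.Agent.MinSimple.OddSlide
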