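import Mathlib
import Cfsg.Agent.MinSimple.OddSmall
import Cfsg.Agent.MinSimple.OddK

/-!
# (E1)(b), `n ≥ 3`: two general facts

* `exists_move_comm`: `c ∈ ws V x ∩ ws V w` not on the line `xw`: some element commuting with `c` moves `x` to `w`;
* `eq_of_mem` (4'): the line `xw` contains every point `u` collinear with `x` in `ws V w`;
* `not_mem_of_mem` (Y): for a critical pair `x`, `y` at distance `≥ 3` with `y ∈ ws V x`, `y ∉ ws V w` for the neighbour
  `w` of `x` on a path to `y`;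
* `false_of_all_lines`: no element `c` of `ws V x` is in all `ws V u`, `u` collinear with `x`, and on no line on `x`;
* `relIndex_ne_two` (***): `|ws V x : ws V x ∩ ws V w| ≠ 2` if `n ≥ 3`.
-/

set_option autoImplicit false
set_option linter.unusedSectionVars false

namespace Cfsg.Agent.MinSimple.OddThree

open Subgroup Cfsg Cfsg.Agent.ZN Cfsg.Agent.MinSimple.Geo Cfsg.Agent.MinSimple.BTwoA
  Cfsg.Agent.MinSimple.OddLine Cfsg.Agent.MinSimple.OddBase
open Cfsg.Agent.ZN.Block (conj_mem_of_normalizer conj_mem_of_normalizer' le_normalizer_of_forall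
  mem_normalizer_of mul_mem_of_relIndex_two)

universe u

variable {G : Type u} [Group G] [Finite G] {T V : Subgroup G} {z x y w : G} {n : ℕ}

/-- the `Odd` situation of the line `xw` -/
theorem exists_line (h : Odd T V z) (hc : Col V x w) : ∃ (L T' : Subgroup G), Odd T' L x ∧ w ∈ L ∧
    (∀ p, ws L p = ws V p) ∧ (∀ p, kq L p = kq V p) ∧ (∀ p q, Col L p q ↔ Col V p q) ∧ L ∈ lines V x := by
  obtain ⟨hx1, _, _, L, hL, hwL⟩ := hc
  obtain ⟨⟨g, rfl⟩, hxL⟩ := id hL
  obtain ⟨T', h'⟩ := h.line hxL hx1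
  exact ⟨cj g V, T', h', hwL, fun p => ws_cj V g p, fun p => kq_cj_left V g p, fun p q => col_cj_left, hL⟩

/-- the four elements of the line `xw` -/
theorem mem_line_iff (h : Odd T V x) (hw : w ∈ V) (hw1 : w ≠ 1) (hwx : w ≠ x) {v : G} :
    v ∈ V ↔ v = 1 ∨ v = x ∨ v = w ∨ v = x * w := by
  constructor
  · exact h.four h.z_mem hw h.z_ne hw1 (Ne.symm hwx)
  · rintro (rfl | rfl | rfl | rfl)
    · exact one_mem _
    · exact h.z_mem
    · exact hw
    · exact mul_mem h.z_mem hw

/-- `(L)`: an element of `C(c)` moving `x` to `w` -/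
theorem exists_move_comm (h : Odd T V z) (hc : Col V x w) {c : G} (hcx : c ∈ ws V x) (hcw : c ∈ ws V w)
    (h1 : c ≠ 1) (h2 : c ≠ x) (h3 : c ≠ w) (h4 : c ≠ x * w) : ∃ k : G, k * c = c * k ∧ k * x * k⁻¹ = w := by
  obtain ⟨L, T', h', hwL, hws, hkq, -, -⟩ := exists_line h hc
  have hxw : x * w ≠ 1 := fun e => hc.2.2.1 (by
    rw [mul_eq_one_iff_eq_inv.mp e, h'.inv_eq hwL])
  have hcd : c ∈ dd L := by
    rw [← h'.inf_eq_dd h'.z_mem h'.z_ne hwL hc.2.1 hc.2.2.1, hws, hws]
    exact ⟨hcx, hcw⟩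
  have hcL : c ∉ L := by
    rw [mem_line_iff h' hwL hc.2.1 (Ne.symm hc.2.2.1)]
    rintro (e | e | e | e)
    · exact h1 e
    · exact h2 e
    · exact h3 e
    · exact h4 e
  obtain ⟨k, hk, hkc, hkm⟩ := h'.exists_swap_comm hcd hcL (mul_mem h'.z_mem hwL) hxw
  refine ⟨k, hkc, ?_⟩
  rw [hkm x h'.z_mem h'.z_ne (fun e => hc.2.1 (by simpa using e.symm)), h'.comm h'.z_mem hwL, mul_assoc, h'.zz,
    mul_one]

/-- (4') -/
theorem eq_of_mem (h : Odd T V z) (hc : Col V x w) {u : G} (hu : Col V x u) (huw : u ∈ ws V w) :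
    u = w ∨ u = x * w := by
  obtain ⟨L, T', h', hwL, hws, hkq, -, hL⟩ := exists_line h hc
  obtain ⟨L', T'', h'', huL, -, -, -, hL'⟩ := exists_line h hu
  have hx := hc.pt_left h.toGeo
  have hdd : dd L = ws V x ⊓ ws V w := by
    rw [← h'.inf_eq_dd h'.z_mem h'.z_ne hwL hc.2.1 hc.2.2.1, hws, hws]
  have hle : L' ≤ dd L := by
    intro v hv
    rw [hdd]
    have hxm : x ∈ ws V x ⊓ ws V w := ⟨self_mem_ws h.toGeo hx, hc.symm.mem_ws⟩
    have hum : u ∈ ws V x ⊓ ws V w := ⟨hu.mem_ws, huw⟩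
    rcases (mem_line_iff h'' huL hu.2.1 (Ne.symm hu.2.2.1)).mp hv with e | e | e | e
    · rw [e]; exact one_mem _
    · rw [e]; exact hxm
    · rw [e]; exact hum
    · rw [e]; exact mul_mem hxm hum
  have hL'' : L' ∈ lines L x := by
    obtain ⟨⟨g, rfl⟩, _⟩ := hL
    rw [lines_cj]; exact hL'
  have he := h'.eq_of_mem_lines hL'' hle
  rw [he, mem_line_iff h' hwL hc.2.1 (Ne.symm hc.2.2.1)] at huL
  rcases huL with e | e | e | e
  · exact absurd e hu.2.1
  · exact absurd e (Ne.symm hu.2.2.1)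
  · exact Or.inl e
  · exact Or.inr e

/-- points at distance at most one -/
theorem walk_one_of_mem (h : Odd T V z) (hc : Col V x w) (hy : y = x ∨ y = w ∨ y = x * w) : Walk V 1 x y := by
  rw [walk_one]
  rcases hy with e | e | e
  · exact Or.inl e.symm
  · rw [e]; exact Or.inr hc
  · rw [e]; exact Or.inr (OddSmall.col_mul h hc)

/-- **(Y)** -/
theorem not_mem_of_mem (h : OddN T V z n) (hn : 3 ≤ n) (hc : Crit V z n x y) (hxw : Col V x w)
    (hwy : Walk V (n - 1) w y) (hy : y ∈ ws V x) : y ∉ ws V w := by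
  intro hyw
  have hy1 : y ≠ 1 := Pt.ne_one h.toGeo (hc.pt' h.toGeo)
  have hnw : ¬ Walk V 1 x y := hc.not_walk h (by omega)
  obtain ⟨k, hk1, hk2⟩ := exists_move_comm h.toOdd hxw hy hyw hy1
    (fun e => hnw (walk_one_of_mem h.toOdd hxw (Or.inl e)))
    (fun e => hnw (walk_one_of_mem h.toOdd hxw (Or.inr (Or.inl e))))
    (fun e => hnw (walk_one_of_mem h.toOdd hxw (Or.inr (Or.inr e))))
  have h1 := hc.conj k
  have hky : k * y * k⁻¹ = y := by rw [hk1, mul_inv_cancel_right]
  rw [hk2, hky] at h1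
  exact h1.not_walk h (by omega) hwy

/-- elements of `ws V x` are products of points collinear with `x` -/
theorem ws_le_of_col (h : Odd T V z) (hx : Pt z x) {U : Subgroup G} (hxU : x ∈ U) (hU : ∀ u, Col V x u → u ∈ U) :
    ws V x ≤ U := by
  refine ws_le fun L hL v hv => ?_
  by_cases hv1 : v = 1
  · rw [hv1]; exact one_mem _
  by_cases hvx : v = x
  · rw [hvx]; exact hxU
  exact hU v ⟨Pt.ne_one h.toGeo hx, hv1, Ne.symm hvx, L, hL, hv⟩

/-- **no element of `ws V x` off the lines on `x` is contained in all `ws V u`, `u` collinear with `x`** -/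
theorem false_of_all_lines (h : Odd T V z) (hx : Pt z x) {c : G} (hc1 : c ≠ 1) (hcx : c ≠ x) (hcw : c ∈ ws V x)
    (hall : ∀ u, Col V x u → c ∈ ws V u ∧ c ≠ u ∧ c ≠ x * u) : False := by
  obtain ⟨g, rfl, ho⟩ := exists_odd h hx
  set x := g * z * g⁻¹ with hxdef
  -- the orbit of `x` under `C(c)`
  have horb : ∀ m p, Walk V m x p → ∃ k : G, k * c = c * k ∧ p = k * x * k⁻¹ := by
    intro m
    induction m with
    | zero =>
      intro p hp
      have e : x = p := hp
      exact ⟨1, by simp, by rw [← e]; group⟩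
    | succ m ih =>
      rintro p ⟨w, hw, h1⟩
      obtain ⟨k, hk, rfl⟩ := ih w hw
      rcases h1 with rfl | h1
      · exact ⟨k, hk, rfl⟩
      · have hkc : k⁻¹ * c * k = c := by
          rw [mul_assoc, ← hk, inv_mul_cancel_left]
        have h2 : Col V x (k⁻¹ * p * k) := by
          have := h1.conj k⁻¹
          have e1 : k⁻¹ * (k * x * k⁻¹) * k⁻¹⁻¹ = x := by group
          have e2 : k⁻¹ * p * k⁻¹⁻¹ = k⁻¹ * p * k := by group
          rwa [e1, e2] at this
        obtain ⟨h3, h4, h5⟩ := hall _ h2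
        obtain ⟨k', hk', hk'x⟩ := exists_move_comm h h2 hcw h3 hc1 hcx h4 h5
        refine ⟨k * k', ?_, ?_⟩
        · calc k * k' * c = k * (k' * c) := by group
            _ = (k * c) * k' := by rw [hk']; group
            _ = c * (k * k') := by rw [hk]; group
        · calc p = k * (k⁻¹ * p * k) * k⁻¹ := by group
            _ = k * (k' * x * k'⁻¹) * k⁻¹ := by rw [hk'x]
            _ = k * k' * x * (k * k')⁻¹ := by group
  -- the intersection of the `ws V p`, `p` connected to `x`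
  let U : Subgroup G := ⨅ p : {p : G // ∃ m, Walk V m x p}, ws V p
  have hcU : c ∈ U := by
    rw [mem_iInf]
    rintro ⟨p, m, hp⟩
    obtain ⟨k, hk, rfl⟩ := horb m p hp
    have h1 : k * c * k⁻¹ ∈ ws V (k * x * k⁻¹) := conj_mem_ws hcw
    rwa [hk, mul_inv_cancel_right] at h1
  have hUle : U ≤ ws V x := iInf_le (fun p : {p : G // ∃ m, Walk V m x p} => ws V p) ⟨x, 0, rfl⟩
  have hnorm : ∀ k : G, (∃ m, Walk V m x (k * x * k⁻¹)) → k ∈ normalizer (U : Set G) := by
    have key : ∀ k : G, (∃ m, Walk V m x (k * x * k⁻¹)) → ∀ v ∈ U, k⁻¹ * v * k ∈ U := by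
      rintro k ⟨m, hm⟩ v hv
      rw [mem_iInf] at hv ⊢
      rintro ⟨p, m', hp⟩
      have h1 := hv ⟨k * p * k⁻¹, m + m', hm.trans (hp.conj k)⟩
      have h2 : k⁻¹ * v * k⁻¹⁻¹ ∈ ws V (k⁻¹ * (k * p * k⁻¹) * k⁻¹⁻¹) := conj_mem_ws h1
      have e1 : k⁻¹ * (k * p * k⁻¹) * k⁻¹⁻¹ = p := by group
      rw [e1, inv_inv] at h2
      exact h2
    intro k hk
    have hk' : ∃ m, Walk V m x (k⁻¹ * x * k⁻¹⁻¹) := by
      obtain ⟨m, hm⟩ := hk
      refine ⟨m, ?_⟩
      have := (hm.conj k⁻¹).symm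
      have e1 : k⁻¹ * (k * x * k⁻¹) * k⁻¹⁻¹ = x := by group
      rwa [e1] at this
    rw [mem_normalizer_iff]
    intro v
    constructor
    · intro hv
      have := key k⁻¹ hk' v hv
      rwa [inv_inv] at this
    · intro hv
      have := key k hk _ hv
      have e : k⁻¹ * (k * v * k⁻¹) * k = v := by group
      rwa [e] at this
  have hU1 : U = ⊥ := by
    refine ho.core U ((ws_isPGroup h hx).to_le hUle) ?_ ?_
    · intro k hk
      exact hnorm k ⟨1, walk_cj_left.mp (walk_of_mem_normalizer ho.toGeo hk)⟩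
    · intro k hk
      refine hnorm k ⟨0, ?_⟩
      change x = k * x * k⁻¹
      rw [mem_centralizer_singleton_iff.mp hk, mul_inv_cancel_right]
  rw [hU1, mem_bot] at hcU
  exact hc1 hcU

/-- for a critical pair one of the two groups acts nontrivially on the module of the other one -/
theorem exists_crit (h : OddN T V z n) : ∃ x y, Crit V z n x y ∧ ∃ b ∈ ws V y, ∃ e ∈ ws V x,
    b * e * b⁻¹ * e⁻¹ ∉ zpowers x := by
  by_contra hcon
  push Not at hcon
  obtain ⟨x, y, hc'⟩ := h.crit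
  have hc : Crit V z n x y := hc'
  obtain ⟨_, _, a, ha, b, hb, hab⟩ := id hc
  have h1 := hcon x y hc b hb a ha
  have h2 := hcon y x (hc.symm h.toOdd) a ha b hb
  have hx := hc.pt
  have hy := hc.pt' h.toGeo
  have hxx := Pt.sq h.toGeo hx
  have hyy := Pt.sq h.toGeo hy
  have h3 : a * b * a⁻¹ * b⁻¹ = (b * a * b⁻¹ * a⁻¹)⁻¹ := by group
  rcases (mem_zpowers_iff_of_mul_self hxx).mp h1 with e | e
  · apply hab
    calc a * b = (b * a * b⁻¹ * a⁻¹)⁻¹ * (b * a) := by group
      _ = b * a := by rw [e]; group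
  · rw [h3, e, inv_eq_self hxx] at h2
    rcases (mem_zpowers_iff_of_mul_self hyy).mp h2 with e' | e'
    · exact Pt.ne_one h.toGeo hx e'
    · exact hc.not_walk h h.pos (e' : x = y)

/-- (***): `|ws V x : ws V x ∩ ws V w| = 2` for collinear `x`, `w` is impossible for `n ≥ 3` -/
theorem false_of_relIndex (h : OddN T V z n) (hn : 3 ≤ n)
    (hidx : ∀ x w, Col V x w → (ws V w).relIndex (ws V x) = 2) : False := by
  obtain ⟨x, y, hc, b, hb, e0, he0, hbe⟩ := exists_crit h
  obtain ⟨w, hxw, hwy⟩ := hc.head h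
  have hx := hc.pt
  have hxx : x * x = 1 := Pt.sq h.toGeo hx
  have hxm : x ∈ ws V x := self_mem_ws h.toGeo hx
  have hinv : ∀ a ∈ ws V x, a * a = 1 := fun a ha => OddBase.ws_sq h.toOdd hx ha
  have hcomm : ∀ a ∈ ws V x, ∀ b ∈ ws V x, a * b = b * a := fun a ha b hb => OddBase.ws_comm h.toOdd hx ha hb
  have hbx : b * x * b⁻¹ = x := by
    rw [mem_centralizer_singleton_iff.mp (hc.ws_le_centralizer h hb), mul_inv_cancel_right]
  have hbb : b * b = 1 := OddBase.ws_sq h.toOdd (hc.pt' h.toGeo) hb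
  have hbi : b⁻¹ = b := inv_eq_self hbb
  have hbn : ∀ a ∈ ws V x, b * a * b⁻¹ ∈ ws V x := fun a ha => conj_mem_of_normalizer (hc.ws_le_normalizer h) hb ha
  have hbw : ∀ a ∈ ws V w, b * a * b⁻¹ = a := fun a ha => by
    have h1 := mem_centralizer_iff.mp (Crit.ws_comm_head h hxw hwy hb) a ha
    rw [← h1, mul_inv_cancel_right]
  set v := b * e0 * b⁻¹ * e0⁻¹ with hv
  have hvx : v ∈ ws V x := mul_mem (hbn e0 he0) (inv_mem he0)
  have hv1 : v ≠ 1 := fun e => hbe (by rw [e]; exact one_mem _)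
  have hvx1 : v ≠ x := fun e => hbe (by rw [e]; exact mem_zpowers x)
  have hvv := hinv v hvx
  have he0w : e0 ∉ ws V w := fun hw => hv1 (by rw [hv, hbw e0 hw, mul_inv_cancel])
  have hix : ∀ u, Col V x u → ∀ s ∈ ws V x, ∀ t ∈ ws V x, s ∉ ws V u → t ∉ ws V u → s * t ∈ ws V u :=
    fun u hu s hs t ht => mul_mem_of_relIndex_two (hidx x u hu) hs ht
  -- `b` acts on `ws V x` as a transvection
  have hact : ∀ a ∈ ws V x, a ∉ ws V w → b * a * b⁻¹ = v * a := by
    intro a ha haw
    have h1 := hbw _ (hix w hxw a ha e0 he0 haw he0w)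
    have h2 : b * (a * e0) * b⁻¹ = (b * a * b⁻¹) * (b * e0 * b⁻¹) := by group
    rw [h2] at h1
    have h3 : b * e0 * b⁻¹ = v * e0 := by rw [hv, inv_mul_cancel_right]
    rw [h3] at h1
    calc b * a * b⁻¹ = (b * a * b⁻¹ * (v * e0)) * (v * e0)⁻¹ := by group
      _ = a * e0 * (v * e0)⁻¹ := by rw [h1]
      _ = a * (e0 * e0⁻¹) * v⁻¹ := by group
      _ = a * v := by rw [mul_inv_cancel, mul_one, inv_eq_self hvv]
      _ = v * a := hcomm a ha v hvx
  -- points off `ws V w`
  have hmv : ∀ u, Col V x u → u ∉ ws V w → Col V x (v * u) ∧ v * u ∉ ws V w := by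
    intro u hu huw
    have h1 := hu.conj b
    rw [hbx, hact u hu.mem_ws huw] at h1
    refine ⟨h1, fun h2 => huw ?_⟩
    have h3 := hbw _ h2
    have h4 : b * (v * u) * b⁻¹ = u := by
      rw [← hact u hu.mem_ws huw]
      calc b * (b * u * b⁻¹) * b⁻¹ = (b * b) * u * (b * b)⁻¹ := by group
        _ = u := by rw [hbb]; group
    rw [h4] at h3
    rw [h3]; exact h2
  -- a second line
  obtain ⟨u2, hu2, hu2w⟩ : ∃ u, Col V x u ∧ u ∉ ws V w := by
    by_contra hcon
    push Not at hcon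
    have h1 : ws V x ≤ ws V w := ws_le_of_col h.toOdd hx hxw.symm.mem_ws hcon
    have h2 : (ws V w).relIndex (ws V x) = 1 := relIndex_eq_one.mpr h1
    rw [hidx x w hxw] at h2
    norm_num at h2
  obtain ⟨hu2', hu2w'⟩ := hmv u2 hu2 hu2w
  -- `v` is in `ws V w`
  have hvw : v ∈ ws V w := by
    have h1 := hix w hxw _ hu2'.mem_ws _ hu2.mem_ws hu2w' hu2w
    have h2 : v * u2 * u2 = v := by rw [mul_assoc, hinv u2 hu2.mem_ws, mul_one]
    rwa [h2] at h1
  have hxw_mem : x ∈ ws V w := hxw.symm.mem_ws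
  have hww : w ∈ ws V w := self_mem_ws h.toGeo (hxw.pt h.toGeo)
  have hvu : v * u2 * u2 = v := by rw [mul_assoc, hinv u2 hu2.mem_ws, mul_one]
  have hvv' : ∀ a, v * (v * a) = a := fun a => by rw [← mul_assoc, hvv, one_mul]
  have hxxa : ∀ a, x * (x * a) = a := fun a => by rw [← mul_assoc, hxx, one_mul]
  have hxv : x * v = v * x := hcomm x hxm v hvx
  have hvne : ∀ a : G, v * a ≠ a := fun a e => hv1 (by simpa using e)
  have hvxne : ∀ a : G, v * a ≠ x * a := fun a e => hvx1 (mul_right_cancel e)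
  -- every point is on one of three lines
  have hthree : ∀ u, Col V x u → u ∉ ws V w → u = u2 ∨ u = x * u2 ∨ u = v * u2 ∨ u = x * (v * u2) := by
    intro u3 hu3 hu3w
    by_contra hcon
    push Not at hcon
    obtain ⟨n1, n2, n3, n4⟩ := hcon
    obtain ⟨hu3', hu3w'⟩ := hmv u3 hu3 hu3w
    have a1 : u3 ∉ ws V (v * u3) := fun hm => by
      rcases eq_of_mem h.toOdd hu3' hu3 hm with e | e
      · exact hvne u3 e.symm
      · apply hvxne u3
        calc v * u3 = x * (x * (v * u3)) := (hxxa _).symm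
          _ = x * u3 := by rw [← e]
    have a2 : u2 ∉ ws V (v * u3) := fun hm => by
      rcases eq_of_mem h.toOdd hu3' hu2 hm with e | e
      · exact n3 (by rw [e, hvv'])
      · apply n4
        calc u3 = v * (v * u3) := (hvv' _).symm
          _ = v * (x * (x * (v * u3))) := by rw [hxxa]
          _ = v * (x * u2) := by rw [← e]
          _ = x * (v * u2) := by rw [← mul_assoc, ← hxv, mul_assoc]
    have a3 : v * u2 ∉ ws V (v * u3) := fun hm => by
      rcases eq_of_mem h.toOdd hu3' hu2' hm with e | e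
      · exact n1 (mul_left_cancel e).symm
      · apply n2
        have e2 : v * u2 = v * (x * u3) := by rw [e, ← mul_assoc, hxv, mul_assoc]
        rw [mul_left_cancel e2, hxxa]
    have a4 : v ∈ ws V (v * u3) := by
      have := hix _ hu3' _ hu2'.mem_ws _ hu2.mem_ws a3 a2
      rwa [hvu] at this
    apply a1
    have h5 := mul_mem a4 (self_mem_ws h.toGeo (hu3'.pt h.toGeo))
    rwa [hvv'] at h5
  by_cases hvl : v = w ∨ v = x * w
  · -- `|ws V x| = 8`
    apply absurd (OddSmall.le_two_of_card_eight h ?_) (by omega)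
    obtain ⟨L, T', h', hwL, hws, hkq, -, hL⟩ := exists_line h.toOdd hxw
    have hLx : L ≤ ws V x := le_ws hL
    have hvL : v ∈ L := by
      rcases hvl with e | e
      · rw [e]; exact hwL
      · rw [e]; exact mul_mem h'.z_mem hwL
    have hLn : zpowers u2 ≤ normalizer (L : Set G) := by
      rw [zpowers_le]
      refine centralizer_le_normalizer _ (mem_centralizer_iff.mpr fun l hl => hcomm l (hLx hl) u2 hu2.mem_ws)
    have hLw : L ≤ ws V w := by
      intro l hl
      rcases (mem_line_iff h' hwL hxw.2.1 (Ne.symm hxw.2.2.1)).mp hl with e | e | e | e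
      · rw [e]; exact one_mem _
      · rw [e]; exact hxw_mem
      · rw [e]; exact hww
      · rw [e]; exact mul_mem hxw_mem hww
    have hcov : ws V x ≤ zpowers u2 ⊔ L := by
      have hu2s : u2 ∈ zpowers u2 ⊔ L := mem_sup_left (mem_zpowers u2)
      refine ws_le_of_col h.toOdd hx (mem_sup_right h'.z_mem) fun u hu => ?_
      by_cases huw : u ∈ ws V w
      · rcases eq_of_mem h.toOdd hxw hu huw with e | e
        · rw [e]; exact mem_sup_right hwL
        · rw [e]; exact mem_sup_right (mul_mem h'.z_mem hwL)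
      · rcases hthree u hu huw with e | e | e | e
        · rw [e]; exact hu2s
        · rw [e]; exact mul_mem (mem_sup_right h'.z_mem) hu2s
        · rw [e]; exact mul_mem (mem_sup_right hvL) hu2s
        · rw [e]; exact mul_mem (mem_sup_right h'.z_mem) (mul_mem (mem_sup_right hvL) hu2s)
    have hsup : zpowers u2 ⊔ L = ws V x := le_antisymm (sup_le (zpowers_le.mpr hu2.mem_ws) hLx) hcov
    have h1 := Cfsg.Agent.ZN.Block.card_sup_mul_card_inf hLn
    have h2 : Nat.card (zpowers u2) = 2 := by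
      rw [Nat.card_zpowers]
      exact orderOf_eq_prime (by rw [pow_two]; exact hinv u2 hu2.mem_ws) hu2.2.1
    have h3 : zpowers u2 ⊓ L = ⊥ := by
      rw [eq_bot_iff]
      rintro a ⟨ha, haL⟩
      rcases (mem_zpowers_iff_of_mul_self (hinv u2 hu2.mem_ws)).mp ha with e | e
      · rw [e]; exact one_mem _
      · exact absurd (by rw [← e]; exact hLw haL) hu2w
    rw [hsup, h3, h2, h'.card_V, card_bot, mul_one] at h1
    obtain ⟨g, hg⟩ := hx
    rw [hg, ← cj_ws, card_cj] at h1
    exact h1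
  · -- `|ws V x| = 16`
    push Not at hvl
    have hwx : w ∈ ws V x := hxw.mem_ws
    have hwv : w * v = v * w := hcomm w hwx v hvx
    have hxwc : x * w = w * x := hcomm x hxm w hwx
    have hww1 : w * w = 1 := hinv w hwx
    have c1 : w * v ≠ 1 := fun e => hvl.1 (by
      rw [← inv_eq_self hww1]; exact eq_inv_of_mul_eq_one_right e)
    have c2 : w * v ≠ x := fun e => hvl.2 (by
      calc v = w * (w * v) := by rw [← mul_assoc, hww1, one_mul]
        _ = w * x := by rw [e]
        _ = x * w := hxwc.symm)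
    have hcw : w * v ∈ ws V w := mul_mem hww hvw
    -- `w ∉ ws V u` for `u ∉ ws V w`
    have hnw : ∀ u, Col V x u → u ∉ ws V w → w ∉ ws V u := by
      intro u hu huw hm
      rcases eq_of_mem h.toOdd hu hxw hm with e | e
      · exact huw (by rw [← e]; exact hww)
      · apply huw
        have : u = x * w := by rw [e, hxxa]
        rw [this]; exact mul_mem hxw_mem hww
    have hne : ∀ u, u ∉ ws V w → w * v ≠ u ∧ w * v ≠ x * u := by
      intro u huw
      refine ⟨fun e => huw (by rw [← e]; exact hcw), fun e => huw ?_⟩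
      have : u = x * (w * v) := by rw [e, hxxa]
      rw [this]; exact mul_mem hxw_mem hcw
    have hnu : u2 ∉ ws V (v * u2) := fun hm => by
      rcases eq_of_mem h.toOdd hu2' hu2 hm with e | e
      · exact hvne u2 e.symm
      · apply hvxne u2
        calc v * u2 = x * (x * (v * u2)) := (hxxa _).symm
          _ = x * u2 := by rw [← e]
    have hnu' : v * u2 ∉ ws V u2 := fun hm => by
      rcases eq_of_mem h.toOdd hu2 hu2' hm with e | e
      · exact hvne u2 e
      · exact hvxne u2 e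
    have hU2 : w * v ∈ ws V u2 := by
      have h1 := hix u2 hu2 w hwx (v * u2) hu2'.mem_ws (hnw u2 hu2 hu2w) hnu'
      have h2 := mul_mem h1 (self_mem_ws h.toGeo (hu2.pt h.toGeo))
      have e : w * (v * u2) * u2 = w * v := by
        rw [mul_assoc, hvu]
      rwa [e] at h2
    have hU2' : w * v ∈ ws V (v * u2) := by
      have h1 := hix _ hu2' w hwx u2 hu2.mem_ws (hnw _ hu2' hu2w') hnu
      have h2 := mul_mem h1 (self_mem_ws h.toGeo (hu2'.pt h.toGeo))
      have e : w * u2 * (v * u2) = w * v := by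
        have e1 : u2 * (v * u2) = v := by
          rw [hcomm u2 hu2.mem_ws (v * u2) hu2'.mem_ws, hvu]
        rw [mul_assoc, e1]
      rwa [e] at h2
    -- the other point of a line
    have hother : ∀ u, Col V x u → w * v ∈ ws V u → w * v ∈ ws V (x * u) := by
      intro u hu hm
      obtain ⟨L, T', h', huL, hws, -, -, -⟩ := exists_line h.toOdd hu
      have hd : w * v ∈ dd L := by
        rw [← h'.inf_eq_dd h'.z_mem h'.z_ne huL hu.2.1 hu.2.2.1, hws, hws]
        exact ⟨mul_mem hwx hvx, hm⟩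
      have hxu : x * u ≠ 1 := fun e => hu.2.2.1 (by rw [mul_eq_one_iff_eq_inv.mp e, h'.inv_eq huL])
      have := h'.dd_le_ws (mul_mem h'.z_mem huL) hxu hd
      rwa [hws] at this
    refine false_of_all_lines h.toOdd hx c1 c2 (mul_mem hwx hvx) fun u hu => ?_
    by_cases huw : u ∈ ws V w
    · have hc3 : w * v ≠ w := fun e => hv1 (by simpa using e)
      have hc4 : w * v ≠ x * w := fun e => hvx1 (by
        rw [hxwc] at e; exact mul_left_cancel e)
      rcases eq_of_mem h.toOdd hxw hu huw with e | e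
      · rw [e]; exact ⟨hcw, hc3, hc4⟩
      · rw [e]
        refine ⟨hother w hxw hcw, hc4, ?_⟩
        rw [hxxa]; exact hc3
    · refine ⟨?_, hne u huw⟩
      rcases hthree u hu huw with e | e | e | e
      · rw [e]; exact hU2
      · rw [e]; exact hother u2 hu2 hU2
      · rw [e]; exact hU2'
      · rw [e]; exact hother _ hu2' hU2'

/-- **(***)** -/
theorem relIndex_ne_two (h : OddN T V z n) (hn : 3 ≤ n) (hc : Col V x w) : (ws V w).relIndex (ws V x) ≠ 2 := by
  intro h2
  refine false_of_relIndex h hn fun x' w' hc' => ?_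
  obtain ⟨k, rfl, rfl⟩ := OddK.exists_cj h.toOdd hc hc'
  rw [← cj_ws, ← cj_ws, relIndex_cj]
  exact h2

/-- all flags have the same index -/
theorem relIndex_eq (h : Odd T V z) (hc : Col V x w) {x' w' : G} (hc' : Col V x' w') :
    (ws V w').relIndex (ws V x') = (ws V w).relIndex (ws V x) := by
  obtain ⟨k, rfl, rfl⟩ := OddK.exists_cj h hc hc'
  rw [← cj_ws, ← cj_ws, relIndex_cj]

/-- (Y), second part: `|ws V x : ws V x ∩ ws V w| ≥ 2 |ws V x : C(ws V y)|` -/
theorem two_mul_le (h : OddN T V z n) (hn : 3 ≤ n) (hc : Crit V z n x y) (hy : y ∈ ws V x) {x' w' : G}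
    (hc' : Col V x' w') : 2 * (centralizer (ws V y : Set G)).relIndex (ws V x) ≤ (ws V w').relIndex (ws V x') := by
  obtain ⟨w, hxw, hwy⟩ := hc.head h
  rw [relIndex_eq h.toOdd hxw hc']
  have hyw := not_mem_of_mem h hn hc hxw hwy hy
  have h1 : ws V w ⊓ ws V x ≤ centralizer (ws V y : Set G) ⊓ ws V x := by
    refine inf_le_inf_right _ fun a ha => mem_centralizer_iff.mpr fun b hb => ?_
    exact (mem_centralizer_iff.mp (Crit.ws_comm_head h hxw hwy hb) a ha).symm
  have h2 := relIndex_mul_relIndex _ _ _ h1 (inf_le_right : centralizer (ws V y : Set G) ⊓ ws V x ≤ ws V x)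
  rw [inf_relIndex_right, inf_relIndex_right] at h2
  rw [← h2]
  refine Nat.mul_le_mul_right _ ?_
  have h3 : (ws V w ⊓ ws V x).relIndex (centralizer (ws V y : Set G) ⊓ ws V x) ≠ 1 := by
    rw [Ne, relIndex_eq_one]
    intro hle
    refine hyw (hle (mem_inf.mpr ⟨mem_centralizer_iff.mpr fun b hb => ?_, hy⟩)).1
    exact OddBase.ws_comm h.toOdd (hc.pt' h.toGeo) hb (self_mem_ws h.toGeo (hc.pt' h.toGeo))
  have h4 : (ws V w ⊓ ws V x).relIndex (centralizer (ws V y : Set G) ⊓ ws V x) ≠ 0 := index_ne_zero_of_finite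
  omega

end Cfsg.Agent.MinSimple.OddThree
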