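import Mathlib

/-!
# Coprime action of an element of odd order on an elementary abelian 2-group

`rg η = [M, η]`; if `ω` inverts `η` then `[M, η]` is a free `⟨ω⟩`-module: `exists_add_smul`.
-/

set_option autoImplicit false

namespace Cfsg.Agent.MinSimple.OddThreeMod

variable {M X : Type*} [AddCommGroup M] [Group X] [DistribMulAction X M]

/-- `[M, η]` -/
def rg (M : Type*) {X : Type*} [AddCommGroup M] [Group X] [DistribMulAction X M] (η : X) : AddSubgroup M where
  carrier := {d | ∃ m : M, d = m - η • m}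
  add_mem' := by
    rintro _ _ ⟨a, rfl⟩ ⟨b, rfl⟩
    exact ⟨a + b, by rw [smul_add]; abel⟩
  zero_mem' := ⟨0, by simp⟩
  neg_mem' := by
    rintro _ ⟨a, rfl⟩
    exact ⟨-a, by rw [smul_neg]; abel⟩

theorem mem_rg {η : X} {d : M} : d ∈ rg M η ↔ ∃ m : M, d = m - η • m := Iff.rfl

theorem sub_mem_rg (η : X) (m : M) : m - η • m ∈ rg M η := ⟨m, rfl⟩

theorem pow_smul_fixed {η : X} {m : M} (h : η • m = m) (n : ℕ) : η ^ n • m = m := by
  induction n with
  | zero => simp
  | succ n ih => rw [pow_succ, mul_smul, h, ih]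

theorem fixed_of_sq {η : X} (ho : Odd (orderOf η)) {m : M} (h : (η * η) • m = m) : η • m = m := by
  obtain ⟨k, hk⟩ := ho
  have h1 : (η * η) ^ (k + 1) = η := by
    rw [← pow_two, ← pow_mul]
    have : 2 * (k + 1) = orderOf η + 1 := by omega
    rw [this, pow_succ, pow_orderOf_eq_one, one_mul]
  calc η • m = (η * η) ^ (k + 1) • m := by rw [h1]
    _ = m := pow_smul_fixed h _

variable (two : ∀ m : M, m + m = 0)

include two

theorem neg_eq (m : M) : -m = m := neg_eq_of_add_eq_zero_left (two m)

theorem sub_eq (a b : M) : a - b = a + b := by rw [sub_eq_add_neg, neg_eq two]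

/-- `η` has no fixed point on `[M, η]` -/
theorem eq_zero_of_fixed {η : X} (ho : Odd (orderOf η)) {d : M} (hd : d ∈ rg M η) (h : η • d = d) : d = 0 := by
  obtain ⟨m, rfl⟩ := hd
  rw [sub_eq two] at h ⊢
  rw [smul_add] at h
  have h1 : (η * η) • m = m := by
    rw [mul_smul]
    have h2 : η • m + η • η • m = η • m + m := by rw [h, add_comm]
    exact add_left_cancel h2
  rw [fixed_of_sq ho h1, two]

theorem smul_mem_rg {η α : X} (hα : α * η * α⁻¹ = η ∨ α * η * α⁻¹ = η⁻¹) {d : M} (hd : d ∈ rg M η) :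
    α • d ∈ rg M η := by
  obtain ⟨m, rfl⟩ := hd
  rcases hα with e | e
  · refine ⟨α • m, ?_⟩
    rw [smul_sub]
    congr 1
    rw [← mul_smul, ← mul_smul, mul_inv_eq_iff_eq_mul.mp e]
  · refine ⟨η⁻¹ • (α • m), ?_⟩
    rw [smul_inv_smul, smul_sub]
    have h1 : α • η • m = η⁻¹ • α • m := by
      rw [← mul_smul, ← mul_smul, mul_inv_eq_iff_eq_mul.mp e]
    rw [h1, sub_eq two, sub_eq two, add_comm]

/-- **`[M, η]` is a free `⟨ω⟩`-module** if `ω` inverts `η` -/
theorem exists_add_smul [Finite M] {η ω : X} (ho : Odd (orderOf η)) (hinv : ω * η * ω⁻¹ = η⁻¹) {d : M}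
    (hd : d ∈ rg M η) (hω : ω • d = d) : ∃ n ∈ rg M η, d = n + ω • n := by
  let φ : rg M η → rg M η := fun n => ⟨(n : M) + η • (n : M),
    add_mem n.2 (smul_mem_rg two (Or.inl (by group)) n.2)⟩
  have hinj : Function.Injective φ := by
    rintro ⟨a, ha⟩ ⟨b, hb⟩ hab
    have h1 : a + η • a = b + η • b := congrArg Subtype.val hab
    have h2 : η • (a + b) = a + b := by
      rw [smul_add]
      have h3 : η • a = a + (b + η • b) := by rw [← h1, ← add_assoc, two, zero_add]
      rw [h3]
      calc a + (b + η • b) + η • b = a + b + (η • b + η • b) := by abel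
        _ = a + b := by rw [two, add_zero]
    have h4 := eq_zero_of_fixed two ho (add_mem ha hb) h2
    apply Subtype.ext
    calc a = a + (b + b) := by rw [two, add_zero]
      _ = (a + b) + b := by abel
      _ = b := by rw [h4, zero_add]
  obtain ⟨⟨n, hn⟩, hnd⟩ := (Finite.injective_iff_surjective.mp hinj) ⟨d, hd⟩
  have h1 : n + η • n = d := congrArg Subtype.val hnd
  refine ⟨n, hn, ?_⟩
  have hωη : ω • η • n = η⁻¹ • ω • n := by
    rw [← mul_smul, ← mul_smul, mul_inv_eq_iff_eq_mul.mp hinv]
  -- `ω n = η n`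
  have h2 : ω • n = η • n := by
    have h3 : ω • n + η⁻¹ • ω • n = n + η • n := by rw [← hωη, ← smul_add, h1, hω]
    have h4 : η • (ω • n + η • n) = ω • n + η • n := by
      have h5 := congrArg (fun t : M => η • t) h3
      change η • (ω • n + η⁻¹ • ω • n) = η • (n + η • n) at h5
      rw [smul_add, smul_inv_smul, smul_add] at h5
      rw [smul_add]
      calc η • ω • n + η • η • n = (η • ω • n + ω • n) + (ω • n + η • η • n) := by
            rw [show η • ω • n + ω • n + (ω • n + η • η • n) = η • ω • n + η • η • n + (ω • n + ω • n) by abel,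
              two, add_zero]
        _ = ω • n + η • n := by
            rw [h5]
            rw [show η • n + η • η • n + (ω • n + η • η • n) = ω • n + η • n + (η • η • n + η • η • n) by abel,
              two, add_zero]
    have hmem : ω • n + η • n ∈ rg M η := add_mem (smul_mem_rg two (Or.inr hinv) hn)
      (smul_mem_rg two (Or.inl (by group)) hn)
    have h6 := eq_zero_of_fixed two ho hmem h4
    calc ω • n = ω • n + (η • n + η • n) := by rw [two, add_zero]
      _ = (ω • n + η • n) + η • n := by abel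
      _ = η • n := by rw [h6, zero_add]
  rw [h2, h1]

/-- if `ω` inverts `η` and centralizes `[M, η]` then `η` centralizes `M` -/
theorem fixed_of_inv {η ω : X} (ho : Odd (orderOf η)) (hinv : ω * η * ω⁻¹ = η⁻¹)
    (hω : ∀ d ∈ rg M η, ω • d = d) (m : M) : η • m = m := by
  have h1 : ∀ d ∈ rg M η, η • d = d := by
    intro d hd
    refine fixed_of_sq ho ?_
    have h2 : η • d ∈ rg M η := smul_mem_rg two (Or.inl (by group)) hd
    have h3 : η⁻¹ • d = η • d := by
      rw [← hinv, mul_smul, mul_smul]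
      have h4 : ω⁻¹ • d = d := by rw [inv_smul_eq_iff, hω d hd]
      rw [h4, hω _ h2]
    rw [mul_smul, ← h3, smul_inv_smul]
  have h2 := eq_zero_of_fixed two ho (sub_mem_rg η m) (h1 _ (sub_mem_rg η m))
  exact (sub_eq_zero.mp h2).symm

end Cfsg.Agent.MinSimple.OddThreeMod
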