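import Mathlib.Algebra.Group.Subgroup.Basic
import Mathlib.Algebra.Group.End
import Mathlib.Tactic.Group

/-!
# (E1)(b), `s = 2`: transvections on elementary abelian 2-groups, definitions
-/

set_option autoImplicit false

namespace Cfsg.Agent.MinSimple.OddTwoDefs

variable {M : Type*} [Group M]

/-- the fixed points of a group of automorphisms -/
def fix (A : Subgroup (MulAut M)) : Subgroup M where
  carrier := {m | ∀ a ∈ A, a m = m}
  mul_mem' := by
    intro x y hx hy a ha
    rw [map_mul, hx a ha, hy a ha]
  one_mem' := fun a _ => map_one a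
  inv_mem' := by
    intro x hx a ha
    rw [map_inv, hx a ha]

theorem mem_fix {A : Subgroup (MulAut M)} {m : M} : m ∈ fix A ↔ ∀ a ∈ A, a m = m := Iff.rfl

/-- `b` is a transvection with centre `r` -/
def Tv (b : MulAut M) (r : M) : Prop := (∀ m, b m = m ∨ b m = m * r) ∧ b r = r ∧ ∃ m, b m ≠ m

theorem comm_of_sq (hsq : ∀ x : M, x * x = 1) (x y : M) : x * y = y * x := by
  have h1 := hsq (x * y)
  have hx := hsq x
  have hy := hsq y
  calc x * y = (y * y) * (x * y) * (x * x) := by rw [hy, hx]; simp
    _ = y * (y * x * (y * x)) * x := by group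
    _ = y * x := by rw [hsq (y * x), mul_one]

theorem inv_of_sq (hsq : ∀ x : M, x * x = 1) (x : M) : x⁻¹ = x := inv_eq_of_mul_eq_one_left (hsq x)

end Cfsg.Agent.MinSimple.OddTwoDefs
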