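import Cfsg.Agent.MinSimple.OddTwoRep
import Cfsg.Agent.MinSimple.Killing

/-!
# (E1)(b), `s = 2`: the contradiction

`false_of_star : OddN T V z 2 → Star V z → False`.
-/

set_option autoImplicit false
set_option linter.unusedSectionVars false

namespace Cfsg.Agent.MinSimple.OddTwoMain

open Subgroup Cfsg Cfsg.Agent.ZN Cfsg.Agent.MinSimple.Geo Cfsg.Agent.MinSimple.BTwoA
  Cfsg.Agent.MinSimple.OddLine Cfsg.Agent.MinSimple.OddBase Cfsg.Agent.MinSimple.OddTwoRep
open Cfsg.Agent.ZN.Block (conj_mem_of_normalizer conj_mem_of_normalizer' le_normalizer_of_forall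
  mem_normalizer_of)

universe u

variable {G : Type u} [Group G] {T V : Subgroup G} {z : G}

theorem crit_of_comm_ne {x y : G} (hx : Pt z x) (hw : Walk V 2 x y) {a b : G} (ha : a ∈ ws V x)
    (hb : b ∈ ws V y) (hab : a * b ≠ b * a) : Crit V z 2 x y := ⟨hx, hw, a, ha, b, hb, hab⟩

theorem col_conj_of_comm {x y c : G} (h : Col V x y) (hc : c * x = x * c) : Col V x (c * y * c⁻¹) := by
  have h1 := h.conj c
  rwa [hc, mul_inv_cancel_right] at h1

/-- `C(x)` is transitive on the points collinear with `x` -/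
theorem exists_conj_col [Finite G] (h : Odd T V z) {x y y' : G} (hy : Col V x y) (hy' : Col V x y') :
    ∃ c ∈ centralizer ({x} : Set G), c * y * c⁻¹ = y' := by
  have hx1 := hy.1
  obtain ⟨_, hy1, hne, L, ⟨⟨g, rfl⟩, hxL⟩, hyL⟩ := hy
  obtain ⟨_, hy1', hne', L', hL', hyL'⟩ := hy'
  obtain ⟨T', h1⟩ := h.line hxL hx1
  rw [← lines_cj V g] at hL'
  obtain ⟨c, hc, rfl⟩ := h1.toGeo.exists_of_mem_lines hL'
  have h2 : c⁻¹ * y' * c ∈ cj g V := mem_cj.mp hyL'
  have h3 : c⁻¹ * y' * c ≠ 1 := fun e => hy1' (by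
    have : y' = c * (c⁻¹ * y' * c) * c⁻¹ := by group
    rw [this, e]; group)
  have hcx : c * x = x * c := mem_centralizer_singleton_iff.mp hc
  have h4 : c⁻¹ * y' * c ≠ x := fun e => hne' (by
    have : y' = c * (c⁻¹ * y' * c) * c⁻¹ := by group
    rw [this, e, hcx]; group)
  rcases h1.toGeo.four hxL hyL hx1 hy1 hne h2 with e | e | e | e
  · exact absurd e h3
  · exact absurd e h4
  · exact ⟨c, hc, by rw [← e]; group⟩
  · obtain ⟨w, hw, hwm⟩ := h1.exists_swap
    refine ⟨c * w, mul_mem hc (BTwoB.kq_le _ x hw.2), ?_⟩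
    have e2 := hwm y hyL hy1 (Ne.symm hne)
    calc c * w * y * (c * w)⁻¹ = c * (w * y * w⁻¹) * c⁻¹ := by group
      _ = y' := by rw [e2, ← e]; group

theorem conj_centralizer_ws {c x a : G} (ha : a ∈ centralizer (ws V x : Set G)) :
    c * a * c⁻¹ ∈ centralizer (ws V (c * x * c⁻¹) : Set G) := by
  refine mem_centralizer_iff.mpr fun w hw => ?_
  rw [← cj_ws, SetLike.mem_coe, mem_cj] at hw
  have h1 := mem_centralizer_iff.mp ha _ hw
  calc w * (c * a * c⁻¹) = c * (c⁻¹ * w * c * a) * c⁻¹ := by group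
    _ = c * (a * (c⁻¹ * w * c)) * c⁻¹ := by rw [h1]
    _ = c * a * c⁻¹ * w := by group

section squares

variable [Finite G]

/-- `tt V 1 x` centralizes the points collinear with `x` -/
theorem tt_col (h : OddN T V z 2) {x m : G} (hc : Col V x m) {u : G} (hu : u ∈ tt V 1 x) : u * m = m * u :=
  mem_centralizer_singleton_iff.mp (tt_comm h hc.symm hu)

theorem tt_self (h : OddN T V z 2) {x : G} (hx : Pt z x) {u : G} (hu : u ∈ tt V 1 x) : u * x = x * u := by
  have h1 := tt_le_centralizer_ws h (j := 1) (by norm_num) hx hu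
  exact (mem_centralizer_iff.mp h1 x (self_mem_ws h.toGeo hx)).symm

theorem tt_normal {x c u : G} (hc : c * x = x * c) (hu : u ∈ tt V 1 x) :
    c * u * c⁻¹ ∈ tt V 1 x := by
  have h1 := conj_mem_cj (g := c) hu
  rwa [cj_tt, hc, mul_inv_cancel_right] at h1

/-- commutators in `tt V 1 x` -/
theorem tt_comm_mem (hs : Star V z) (h : OddN T V z 2) {x : G} (hx : Pt z x) {a b : G} (ha : a ∈ tt V 1 x)
    (hb : b ∈ tt V 1 x) : a * b * a⁻¹ * b⁻¹ ∈ zpowers x := by
  have hC : ∀ {u}, u ∈ tt V 1 x → u ∈ centralizer ({x} : Set G) := fun hu =>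
    mem_centralizer_singleton_iff.mpr (tt_self h hx hu)
  have hcx : ∀ {c y : G}, c ∈ centralizer ({x} : Set G) → y ∈ zpowers x → c * y * c⁻¹ = y := by
    rintro c y hc ⟨n, rfl⟩
    have h1 : Commute c (x ^ n) := (show Commute c x from mem_centralizer_singleton_iff.mp hc).zpow_right n
    change c * x ^ n * c⁻¹ = x ^ n
    rw [h1.eq, mul_inv_cancel_right]
  -- the elements commuting with `g` modulo `⟨x⟩`
  let B : G → Subgroup G := fun g =>
    { carrier := {b | b ∈ centralizer ({x} : Set G) ∧ g * b * g⁻¹ * b⁻¹ ∈ zpowers x}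
      mul_mem' := by
        rintro a b ⟨ha, ha1⟩ ⟨hb, hb1⟩
        refine ⟨mul_mem ha hb, ?_⟩
        have e : g * (a * b) * g⁻¹ * (a * b)⁻¹ = (g * a * g⁻¹ * a⁻¹) * (a * (g * b * g⁻¹ * b⁻¹) * a⁻¹) := by group
        rw [e, hcx ha hb1]
        exact mul_mem ha1 hb1
      one_mem' := ⟨one_mem _, by simp⟩
      inv_mem' := by
        rintro a ⟨ha, ha1⟩
        refine ⟨inv_mem ha, ?_⟩
        have e : g * a⁻¹ * g⁻¹ * a⁻¹⁻¹ = (a⁻¹ * (g * a * g⁻¹ * a⁻¹) * a⁻¹⁻¹)⁻¹ := by group
        rw [e, hcx (inv_mem ha) ha1]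
        exact inv_mem ha1 }
  have hgen : ∀ w w', Walk V 1 x w → Walk V 1 x w' → ∀ a ∈ ws V w, ∀ b ∈ ws V w', a * b * a⁻¹ * b⁻¹ ∈ zpowers x := by
    intro w w' hw hw' a ha b hb
    by_cases hab : a * b = b * a
    · rw [hab]; simp
    rcases walk_one.mp hw with rfl | hw1
    · exfalso
      exact hab (h.lt x w' 1 (by norm_num) hx hw' a ha b hb)
    rcases walk_one.mp hw' with rfl | hw1'
    · exfalso
      exact hab (h.lt w x 1 (by norm_num) (hw1.pt h.toGeo) hw.symm a ha b hb)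
    have hcr : Crit V z 2 w w' := crit_of_comm_ne (hw1.pt h.toGeo) (hw1.symm.walk.trans hw1'.walk) ha hb hab
    rcases hs.s1 hcr hw1.symm hw1' a ha b hb with e | e
    · exact absurd e hab
    · rw [e]
      have e2 : x * (b * a) * a⁻¹ * b⁻¹ = x := by group
      rw [e2]; exact mem_zpowers x
  have h1 : ∀ w, Walk V 1 x w → ∀ a ∈ ws V w, tt V 1 x ≤ B a := by
    intro w hw a ha
    refine tt_le fun w' hw' b hb => ⟨hC (ws_le_tt hw' hb), hgen w w' hw hw' a ha b hb⟩
  have h2 : tt V 1 x ≤ B b := by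
    refine tt_le fun w hw a ha => ⟨hC (ws_le_tt hw ha), ?_⟩
    have h3 := (h1 w hw a ha hb).2
    have h4 := inv_mem h3
    have e : (a * b * a⁻¹ * b⁻¹)⁻¹ = b * a * b⁻¹ * a⁻¹ := by group
    rwa [e] at h4
  have h3 := inv_mem (h2 ha).2
  have e : (b * a * b⁻¹ * a⁻¹)⁻¹ = a * b * a⁻¹ * b⁻¹ := by group
  rwa [e] at h3

/-- squares in `tt V 1 x` -/
theorem tt_sq_mem (hs : Star V z) (h : OddN T V z 2) {x : G} (hx : Pt z x) {a : G} (ha : a ∈ tt V 1 x) :
    a * a ∈ zpowers x := by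
  have hcx : ∀ {c y : G}, c ∈ tt V 1 x → y ∈ zpowers x → c * y = y * c := by
    rintro c y hc ⟨n, rfl⟩
    exact (show Commute c x from tt_self h hx hc).zpow_right n
  let B : Subgroup G :=
    { carrier := {b | b ∈ tt V 1 x ∧ b * b ∈ zpowers x}
      mul_mem' := by
        rintro a b ⟨ha, ha1⟩ ⟨hb, hb1⟩
        refine ⟨mul_mem ha hb, ?_⟩
        have h1 := tt_comm_mem hs h hx hb ha
        have e : a * b * (a * b) = a * (b * a * b⁻¹ * a⁻¹) * a * (b * b) := by group
        rw [e, hcx ha h1, mul_assoc (b * a * b⁻¹ * a⁻¹)]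
        exact mul_mem (mul_mem h1 ha1) hb1
      one_mem' := ⟨one_mem _, by simp⟩
      inv_mem' := by
        rintro a ⟨ha, ha1⟩
        refine ⟨inv_mem ha, ?_⟩
        have e : a⁻¹ * a⁻¹ = (a * a)⁻¹ := by group
        rw [e]; exact inv_mem ha1 }
  have h1 : tt V 1 x ≤ B := by
    refine tt_le fun w hw a ha => ⟨ws_le_tt hw ha, ?_⟩
    rw [ws_sq h.toOdd (Walk.pt h.toGeo hx hw) ha]
    exact one_mem _
  exact (h1 ha).2

/-- **(SQ)** -/
theorem sq_comm (hs : Star V z) (h : OddN T V z 2) {x y u w : G} (hc : Col V x y) (hu : u ∈ tt V 1 x)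
    (hw : w ∈ tt V 1 y) (hww : w * w = 1) : w * (u * w * u⁻¹) = (u * w * u⁻¹) * w := by
  have hx : Pt z x := hc.pt_left h.toGeo
  have hy : Pt z y := hc.pt h.toGeo
  have huy : u * y = y * u := tt_col h hc hu
  have hwx : w * x = x * w := tt_col h hc.symm hw
  have hwi : w⁻¹ = w := inv_eq_of_mul_eq_one_left hww
  set c := w * u * w⁻¹ * u⁻¹ with hcdef
  have hcx : c ∈ tt V 1 x := mul_mem (tt_normal hwx hu) (inv_mem hu)
  have hcy : c ∈ tt V 1 y := by
    have e : c = w * (u * w⁻¹ * u⁻¹) := by rw [hcdef]; group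
    rw [e]
    exact mul_mem hw (tt_normal huy (inv_mem hw))
  have hcc : c * c = 1 := by
    have h1 := tt_sq_mem hs h hx hcx
    have h2 := tt_sq_mem hs h hy hcy
    rcases (mem_zpowers_iff_of_mul_self (OddBase.Pt.sq h.toGeo hx)).mp h1 with e | e
    · exact e
    · rcases (mem_zpowers_iff_of_mul_self (OddBase.Pt.sq h.toGeo hy)).mp h2 with e' | e'
      · exact e'
      · exfalso; exact hc.2.2.1 (e.symm.trans e')
  have hci : c⁻¹ = c := inv_eq_of_mul_eq_one_left hcc
  have h3 : w * c * w⁻¹ = c⁻¹ := by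
    rw [hcdef]
    have e1 : w * (w * u * w⁻¹ * u⁻¹) * w⁻¹ = (w * w) * u * w⁻¹ * u⁻¹ * w⁻¹ := by group
    have e2 : (w * u * w⁻¹ * u⁻¹)⁻¹ = u * w * u⁻¹ * w⁻¹ := by group
    rw [e1, e2, hww, one_mul, hwi]
  rw [hci] at h3
  have h4 : w * c = c * w := by
    calc w * c = (w * c * w⁻¹) * w := by group
      _ = c * w := by rw [h3]
  have h5 : u * w * u⁻¹ = w⁻¹ * c := by
    calc u * w * u⁻¹ = u * w⁻¹ * u⁻¹ := by rw [hwi]
      _ = w⁻¹ * c := by rw [hcdef]; group
  rw [h5, mul_assoc, ← h4]; group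

end squares

section six

variable [Finite G]

/-- conjugating by a noncentralizing element: the point `m * m'` -/
theorem mem_centralizer_conj_iff {c x a : G} (hca : c * a = a * c) :
    a ∈ centralizer (ws V (c * x * c⁻¹) : Set G) ↔ a ∈ centralizer (ws V x : Set G) := by
  constructor
  · intro h1
    have h2 := conj_centralizer_ws (V := V) (c := c⁻¹) h1
    have e1 : c⁻¹ * (c * x * c⁻¹) * c⁻¹⁻¹ = x := by group
    have e2 : c⁻¹ * a * c⁻¹⁻¹ = a := by
      rw [inv_inv, mul_assoc, ← hca]; group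
    rwa [e1, e2] at h2
  · intro h1
    have h2 := conj_centralizer_ws (V := V) (c := c) h1
    rwa [hca, mul_inv_cancel_right] at h2

/-- **(6)** `tt V 1 p'` centralizes `p` for a critical pair `p`, `p'` -/
theorem tt_fix (hs : Star V z) (h : OddN T V z 2) {p p' r : G} (hc : Crit V z 2 p p') (hpr : Col V p r)
    (hrp : Col V r p') {u : G} (hu : u ∈ tt V 1 p') : u * p * u⁻¹ = p := by
  by_contra hup
  have hp : Pt z p := hc.pt
  have hp' : Pt z p' := hrp.pt h.toGeo
  have h1 : u * p * u⁻¹ = p' * p := eq_mul_of_ne hs hrp hu hpr.symm.mem_ws hup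
  obtain ⟨v, hv, hvn⟩ := hs.s3c hpr.symm
  have h2 : v * p' * v⁻¹ = p * p' := sym_pt hs h hrp hpr.symm hu hup hv hvn
  obtain ⟨a, ha, b, hb, hab⟩ := hc.2.2
  have han : a ∉ centralizer (ws V p' : Set G) := fun hcon => hab (mem_centralizer_iff.mp hcon b hb).symm
  -- the commutation of `p` and `p'`
  have hpp : p * p' = p' * p := by
    have hr : Pt z r := hrp.pt_left h.toGeo
    exact ws_comm h.toOdd hr hpr.symm.mem_ws hrp.mem_ws
  set q := p' * p with hq
  have h2' : v * p' * v⁻¹ = q := by rw [h2, hpp]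
  have haU : a ∈ tt V 1 r := ws_le_tt hpr.symm.walk ha
  have haa : a * a = 1 := ws_sq h.toOdd hp ha
  have hcomm := sq_comm hs h hrp.symm hu haU haa
  set a2 := u * a * u⁻¹ with ha2
  have ha2q : a2 ∈ ws V q := by
    rw [← h1, ← cj_ws]
    exact conj_mem_cj ha
  -- `v` centralizes `ws V p`
  have hvW : ∀ w ∈ ws V p, v * w = w * v := fun w hw =>
    (mem_centralizer_iff.mp (tt_le_centralizer_ws h (j := 1) (by norm_num) hp hv) w hw).symm
  have huW : ∀ w ∈ ws V p', u * w = w * u := fun w hw =>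
    (mem_centralizer_iff.mp (tt_le_centralizer_ws h (j := 1) (by norm_num) hp' hu) w hw).symm
  have haq : a ∉ centralizer (ws V q : Set G) := by
    rw [← h2', mem_centralizer_conj_iff (hvW a ha)]
    exact han
  -- `a2` does not centralize `ws V p`
  have ha2n : a2 ∉ centralizer (ws V p : Set G) := by
    intro hcon
    have h3 := conj_centralizer_ws (V := V) (c := u⁻¹) hcon
    have e1 : u⁻¹ * a2 * u⁻¹⁻¹ = a := by rw [ha2]; group
    have e2 : u⁻¹ * p * u⁻¹⁻¹ = q := by
      have e3 : u * q * u⁻¹ = p := by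
        have hp1 : p' * p' = 1 := OddBase.Pt.sq h.toGeo hp'
        calc u * q * u⁻¹ = (u * p') * u⁻¹ * (u * p * u⁻¹) := by rw [hq]; group
          _ = p' * (p' * p) := by rw [huW p' (self_mem_ws h.toGeo hp'), h1, hq]; group
          _ = p := by rw [← mul_assoc, hp1, one_mul]
      calc u⁻¹ * p * u⁻¹⁻¹ = u⁻¹ * (u * q * u⁻¹) * u := by rw [e3, inv_inv]
        _ = q := by group
    rw [e1, e2] at h3
    exact haq h3
  -- `p`, `q` is critical
  have hrq : Col V r q := by
    rw [← h1]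
    refine col_conj_of_comm hpr.symm ?_
    exact tt_col h hrp.symm hu
  have hw2 : Walk V 2 p q := hpr.walk.trans hrq.walk
  obtain ⟨a1, ha1, ha12⟩ : ∃ a1 ∈ ws V p, a1 * a2 ≠ a2 * a1 := by
    by_contra hcon
    push Not at hcon
    exact ha2n (mem_centralizer_iff.mpr hcon)
  have hcr : Crit V z 2 p q := crit_of_comm_ne hp hw2 ha1 ha2q ha12
  have ha1n : a1 ∉ centralizer (ws V q : Set G) := fun hcon => ha12 (mem_centralizer_iff.mp hcon a2 ha2q).symm
  have h4 := hs.s2 hcr a ha a1 ha1 haq ha1n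
  have h5 := mem_centralizer_iff.mp h4 a2 ha2q
  apply ha12
  have h6 : a * (a1 * a2) = a * (a2 * a1) := by
    calc a * (a1 * a2) = a * a1 * a2 := by group
      _ = a2 * (a * a1) := h5.symm
      _ = (a2 * a) * a1 := by group
      _ = a * (a2 * a1) := by rw [← hcomm]; group
  exact mul_left_cancel h6

end six

section seven

variable [Finite G]

/-- an element of `ws V x` is moved by a noncentralizing element: it moves a collinear point -/
theorem exists_col_moved (h : Odd T V z) {x a : G} (hx : Pt z x) (hax : a * x = x * a)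
    (ha : a ∉ centralizer (ws V x : Set G)) : ∃ s, Col V x s ∧ a * s * a⁻¹ ≠ s := by
  by_contra hcon
  push Not at hcon
  apply ha
  have h1 : ws V x ≤ centralizer ({a} : Set G) := by
    refine ws_le fun L hL s hs => ?_
    rw [mem_centralizer_singleton_iff]
    by_cases hs1 : s = 1
    · rw [hs1]; simp
    by_cases hsx : s = x
    · rw [hsx]; exact hax.symm
    have h2 := hcon s ⟨OddBase.Pt.ne_one h.toGeo hx, hs1, Ne.symm hsx, L, hL, hs⟩
    calc s * a = (a * s * a⁻¹) * a := by rw [h2]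
      _ = a * s := by group
  exact mem_centralizer_iff.mpr fun w hw => mem_centralizer_singleton_iff.mp (h1 hw)

/-- the index bound by counting conjugates of `a` -/
theorem relIndex_le {W D : Subgroup G} {a b c d : G} (hD : ∀ g ∈ W, g * a = a * g → g ∈ D)
    (hg : ∀ g ∈ W, g * a * g⁻¹ ∈ [a, b, c, d]) : D.relIndex W ≤ 4 := by
  classical
  let C : Subgroup G := W ⊓ centralizer ({a} : Set G)
  have hCD : C ≤ D := fun g hg' => hD g hg'.1 (mem_centralizer_singleton_iff.mp hg'.2)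
  refine (Subgroup.relIndex_le_of_le_left hCD ?_).trans ?_
  · exact Subgroup.index_ne_zero_of_finite
  let f : W ⧸ C.subgroupOf W → {x // x ∈ ([a, b, c, d] : List G).toFinset} :=
    fun q => ⟨((Quotient.out q : W) : G) * a * ((Quotient.out q : W) : G)⁻¹, by
      rw [List.mem_toFinset]; exact hg (Quotient.out q : W) (Quotient.out q : W).2⟩
  have hf : Function.Injective f := by
    intro q q' hqq
    have h1 : ((Quotient.out q : W) : G) * a * ((Quotient.out q : W) : G)⁻¹ =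
        ((Quotient.out q' : W) : G) * a * ((Quotient.out q' : W) : G)⁻¹ := congrArg Subtype.val hqq
    rw [← Quotient.out_eq q, ← Quotient.out_eq q']
    change (QuotientGroup.mk (Quotient.out q) : W ⧸ C.subgroupOf W) = QuotientGroup.mk (Quotient.out q')
    rw [QuotientGroup.eq, mem_subgroupOf]
    refine mem_inf.mpr ⟨(((Quotient.out q)⁻¹ * Quotient.out q' : W)).2, mem_centralizer_singleton_iff.mpr ?_⟩
    push_cast
    set g := ((Quotient.out q : W) : G)
    set g' := ((Quotient.out q' : W) : G)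
    calc g⁻¹ * g' * a = g⁻¹ * (g' * a * g'⁻¹) * g' := by group
      _ = g⁻¹ * (g * a * g⁻¹) * g' := by rw [h1]
      _ = a * (g⁻¹ * g') := by group
  have h2 := Nat.card_le_card_of_injective f hf
  have h3 : Nat.card {x // x ∈ ([a, b, c, d] : List G).toFinset} ≤ 4 := by
    rw [Nat.card_eq_fintype_card, Fintype.card_coe]
    exact List.toFinset_card_le _
  exact h2.trans h3

/-- **(7a)** -/
theorem exists_two (hs : Star V z) (h : OddN T V z 2) {p p' r : G} (hc : Crit V z 2 p p') (hpr : Col V p r)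
    (hrp : Col V r p') : ∃ r2, Col V p' r2 ∧ (ws V r2).relIndex (ws V r) ≤ 4 ∧
      (∀ v ∈ tt V 1 r, v ∉ centralizer (ws V p' : Set G) → v * r2 * v⁻¹ = r * r2) ∧
      ∃ u ∈ tt V 1 r2, u * r * u⁻¹ = r2 * r := by
  have hp : Pt z p := hc.pt
  have hp' : Pt z p' := hrp.pt h.toGeo
  have hr : Pt z r := hrp.pt_left h.toGeo
  obtain ⟨a, ha, ha1, ha2⟩ := bn_pt hs h hpr
  -- `a` does not centralize `ws V p'`
  obtain ⟨a0, ha0, b0, hb0, hab0⟩ := hc.2.2
  have hb0n : b0 ∉ centralizer (ws V p : Set G) := fun hcon => hab0 (mem_centralizer_iff.mp hcon a0 ha0)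
  have hb0U : b0 ∈ tt V 1 r := ws_le_tt hrp.walk hb0
  have h1 := ha1 b0 hb0U hb0n
  have han : a ∉ centralizer (ws V p' : Set G) := by
    intro hcon
    have h2 := mem_centralizer_iff.mp hcon b0 hb0
    rw [h2, mul_inv_cancel_right] at h1
    exact hr.ne_one h.toGeo (mul_eq_right.mp h1.symm)
  have haU : a ∈ tt V 1 r := ws_le_tt hpr.symm.walk ha
  have hap' : a * p' = p' * a := tt_col h hrp haU
  have har : a * r = r * a := tt_self h hr haU
  obtain ⟨s, hs1, hs2⟩ := exists_col_moved h.toOdd hp' hap' han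
  have hs3 : a * s * a⁻¹ = r * s := eq_mul_of_ne hs hrp.symm haU hs1.mem_ws hs2
  have hspt : Pt z s := hs1.pt h.toGeo
  -- the index of `ws V (r * s)` in `ws V s`
  have hidx : (ws V (r * s)).relIndex (ws V s) ≤ 4 := by
    refine relIndex_le (a := a) (b := r * a) (c := p * a) (d := p * (r * a)) ?_ ?_
    · intro g hg hga
      rw [← hs3, ← cj_ws, mem_cj]
      have e : a⁻¹ * g * a = g := by rw [mul_assoc, hga]; group
      rw [e]; exact hg
    · intro g hg
      have hgU : g ∈ tt V 1 p' := ws_le_tt hs1.walk hg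
      refine ha2 g ?_ ?_
      · rw [mem_centralizer_singleton_iff]
        have := tt_fix hs h hc hpr hrp hgU
        calc g * p = (g * p * g⁻¹) * g := by group
          _ = p * g := by rw [this]
      · rw [tt_col h hrp.symm hgU, mul_inv_cancel_right]
  -- an element of `tt V 1 (r * s)` interchanging `r` and `s`
  obtain ⟨v, hv, hvn⟩ := hs.s3c hs1
  have h2 : v * r * v⁻¹ = s * r := sym_pt hs h hrp.symm hs1 haU hs2 hv hvn
  have hcol' : Col V p' (r * s) := by
    rw [← hs3]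
    exact col_conj_of_comm hs1 hap'
  have hrs : r * s = s * r := ws_comm h.toOdd hp' hrp.symm.mem_ws hs1.mem_ws
  have hrr : r * r = 1 := OddBase.Pt.sq h.toGeo hr
  have hss : s * s = 1 := OddBase.Pt.sq h.toGeo hspt
  set v' := a * v * a⁻¹ with hv'
  have hv'U : v' ∈ tt V 1 (r * s) := by
    rw [← hs3, ← cj_tt]
    exact conj_mem_cj hv
  have h3 : v' * r * v'⁻¹ = s := by
    have e1 : a⁻¹ * r * a = r := by rw [mul_assoc, ← har]; group
    calc v' * r * v'⁻¹ = a * (v * (a⁻¹ * r * a) * v⁻¹) * a⁻¹ := by rw [hv']; group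
      _ = (a * s * a⁻¹) * (a * r) * a⁻¹ := by rw [e1, h2]; group
      _ = r * s * r := by rw [hs3, har]; group
      _ = s := by rw [hrs, mul_assoc, hrr, mul_one]
  have hv'n : v' * r * v'⁻¹ ≠ r := by
    rw [h3]
    intro e
    apply hs2
    rw [e, har, mul_inv_cancel_right]
  have h4 : v' * s * v'⁻¹ = r := by
    have h5 : v' * s * v'⁻¹ ≠ s := by
      intro e
      have h6 : v' * s * v'⁻¹ = v' * r * v'⁻¹ := by rw [e, h3]
      exact hv'n (by rw [← conj_inj h6, e])
    rw [eq_mul_of_ne hs hcol' hv'U hs1.mem_ws h5, mul_assoc, hss, mul_one]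
  -- conjugate `s` to `r`
  obtain ⟨c, hcc, hcs⟩ := exists_conj_col h.toOdd hs1 hrp.symm
  have hcp : c * p' = p' * c := mem_centralizer_singleton_iff.mp hcc
  have hr2 : c * (r * s) * c⁻¹ = (c * r * c⁻¹) * r := by
    rw [← hcs]; group
  have hcr2 : Col V p' (c * (r * s) * c⁻¹) := col_conj_of_comm hcol' hcp
  have hu4 : c * v' * c⁻¹ ∈ tt V 1 (c * (r * s) * c⁻¹) := by
    rw [← cj_tt]; exact conj_mem_cj hv'U
  have hu4r : c * v' * c⁻¹ * r * (c * v' * c⁻¹)⁻¹ = c * (r * s) * c⁻¹ * r := by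
    have e1 : c⁻¹ * r * c = s := by rw [← hcs]; group
    calc c * v' * c⁻¹ * r * (c * v' * c⁻¹)⁻¹ = c * (v' * (c⁻¹ * r * c) * v'⁻¹) * c⁻¹ := by group
      _ = c * r * c⁻¹ := by rw [e1, h4]
      _ = c * (r * s) * c⁻¹ * r := by rw [hr2, mul_assoc (c * r * c⁻¹), hrr, mul_one]
  refine ⟨c * (r * s) * c⁻¹, hcr2, ?_, ?_, c * v' * c⁻¹, hu4, hu4r⟩
  · have e1 : (ws V (c * (r * s) * c⁻¹)).relIndex (ws V (c * s * c⁻¹)) = (ws V (r * s)).relIndex (ws V s) := by
      rw [← cj_ws, ← cj_ws]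
      exact Subgroup.relIndex_map_map_of_injective _ _ (MulAut.conj c).injective
    rw [hcs] at e1
    rw [e1]; exact hidx
  · intro w hw hwn
    refine sym_pt hs h hcr2 hrp.symm hu4 ?_ hw hwn
    rw [hu4r]
    intro e
    exact hcr2.2.1 (mul_eq_right.mp e)

/-- **the theorem** -/
theorem false_of_star (h : OddN T V z 2) (hs : Star V z) : False := by
  obtain ⟨p, p', hp, hw, hex⟩ := h.crit
  have hc : Crit V z 2 p p' := ⟨hp, hw, hex⟩
  obtain ⟨r, hpr, hw1⟩ := hc.head h
  have hrp : Col V r p' := by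
    rcases walk_one.mp hw1 with e | e
    · exfalso
      exact hc.not_walk h (m := 1) (by norm_num) (by rw [← e]; exact hpr.walk)
    · exact e
  have hr : Pt z r := hrp.pt_left h.toGeo
  obtain ⟨r2, hr2, hi1, hm1, u, hu, hur⟩ := exists_two hs h hc hpr hrp
  obtain ⟨q2, hq2, hi2, hm2, v, hv, hvr⟩ := exists_two hs h (hc.symm h.toOdd) hrp.symm hpr.symm
  -- `r2` and `q2` do not commute
  obtain ⟨a, ha, b, hb, hab⟩ := hex
  have han : a ∉ centralizer (ws V p' : Set G) := fun hcon => hab (mem_centralizer_iff.mp hcon b hb).symm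
  have h1 := hm1 a (ws_le_tt hpr.symm.walk ha) han
  have hr2n : r2 ∉ centralizer (ws V p : Set G) := by
    intro hcon
    have h2 := mem_centralizer_iff.mp hcon a ha
    rw [h2, mul_inv_cancel_right] at h1
    exact hr.ne_one h.toGeo (mul_eq_right.mp h1.symm)
  have h3 : r2 * q2 * r2⁻¹ = r * q2 := hm2 r2 (ws_le_tt hrp.walk hr2.mem_ws) hr2n
  -- the killing lemma
  set X := tt V 1 r ⊔ tt V 1 r2 with hX
  set Y := tt V 1 r ⊔ tt V 1 q2 with hY
  have hrr : r ∈ tt V 1 r := ws_le_tt (Walk.refl V 1 r) (self_mem_ws h.toGeo hr)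
  have hrX : r ∈ X := (le_sup_left : tt V 1 r ≤ X) hrr
  have hr2X : r2 ∈ Killing.ncl X r := by
    have h4 := Killing.conj_mem_ncl (X := X) (v := r) ((le_sup_right : tt V 1 r2 ≤ X) hu)
    rw [hur] at h4
    have h5 := mul_mem h4 (inv_mem (Killing.self_mem_ncl X r))
    rwa [mul_inv_cancel_right] at h5
  have hq2Y : q2 ∈ Killing.ncl Y r := by
    have h4 := Killing.conj_mem_ncl (X := Y) (v := r) ((le_sup_right : tt V 1 q2 ≤ Y) hv)
    rw [hvr] at h4
    have h5 := mul_mem h4 (inv_mem (Killing.self_mem_ncl Y r))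
    rwa [mul_inv_cancel_right] at h5
  have hrmem : r ∈ ⁅Killing.ncl X r, Killing.ncl Y r⁆ := by
    have h4 := commutator_mem_commutator hr2X hq2Y
    rwa [commutatorElement_def, h3, mul_inv_cancel_right] at h4
  have hkill : ∀ w : G, orderOf w = 2 → X ≤ centralizer ({w} : Set G) → Y ≤ centralizer ({w} : Set G) → False := by
    intro w hw2 hwX hwY
    refine Killing.killing_centralizer (fun U hU hU1 => ?_) hrX (hr.ne_one h.toGeo) le_rfl le_rfl hrmem hw2 hwX hwY
    exact h.solv _ ⟨U, hU, hU1, rfl⟩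
  have hcent : ∀ {x w : G}, Pt z x → w ∈ ws V x → tt V 1 x ≤ centralizer ({w} : Set G) := by
    intro x w hx hw t ht
    rw [mem_centralizer_singleton_iff]
    exact (mem_centralizer_iff.mp (tt_le_centralizer_ws h (j := 1) (by norm_num) hx ht) w hw).symm
  have hbot : ws V r2 ⊓ ws V q2 ⊓ ws V r = ⊥ := by
    rw [eq_bot_iff]
    rintro w ⟨⟨hw2, hwq⟩, hwr⟩
    rw [mem_bot]
    by_contra hw1
    have hww : w * w = 1 := ws_sq h.toOdd hr hwr
    exact hkill w (orderOf_eq_prime (by rw [pow_two]; exact hww) hw1)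
      (sup_le (hcent hr hwr) (hcent (hr2.pt h.toGeo) hw2)) (sup_le (hcent hr hwr) (hcent (hq2.pt h.toGeo) hwq))
  have hcard : Nat.card (ws V r) ≤ 16 := by
    have h4 : (ws V r2 ⊓ ws V q2).relIndex (ws V r) = Nat.card (ws V r) := by
      rw [← Subgroup.inf_relIndex_right, hbot, Subgroup.relIndex_bot_left]
    rw [← h4]
    calc (ws V r2 ⊓ ws V q2).relIndex (ws V r) ≤ (ws V r2).relIndex (ws V r) * (ws V q2).relIndex (ws V r) :=
          Subgroup.relIndex_inf_le
      _ ≤ 4 * 4 := Nat.mul_le_mul hi1 hi2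
      _ = 16 := rfl
  have h32 : 32 ≤ Nat.card (ws V r) := by
    refine card_pt hs h hpr.symm hrp ?_ ?_ (fun w hw => tt_fix hs h hc hpr hrp hw)
    · intro e
      exact hc.not_walk h (m := 1) (by norm_num) (by rw [e]; exact Walk.refl V 1 p)
    · intro e
      refine hc.not_walk h (m := 1) (by norm_num) (walk_one.mpr (Or.inr ?_))
      obtain ⟨h5, h6, h7, L, hL, hrL⟩ := hpr
      refine ⟨h5, hrp.2.1, ?_, L, hL, ?_⟩
      · rw [e]; intro e2
        exact h6 (mul_eq_right.mp e2.symm)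
      · rw [e]; exact mul_mem hrL hL.2
  omega

end seven

end Cfsg.Agent.MinSimple.OddTwoMain
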