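import Cfsg.Agent.Lib.BenderMaximal
import Cfsg.Agent.MinSimple.OddTwoDefs
import Mathlib.GroupTheory.PGroup

/-!
# (E1)(b), `s = 2`: transvections in solvable groups with `O₂ = 1`

`M` is a finite elementary abelian 2-group, `J ≤ Aut M` solvable with `O₂(J) = 1`, `P = O₃(J)`.
-/

set_option autoImplicit false

namespace Cfsg.Agent.MinSimple.OddTwoMod

open Subgroup Cfsg Cfsg.Agent.MinSimple.OddTwoDefs

variable {M : Type*} [Group M]

/-! ### elementary properties of transvections -/

theorem mul_mul_self (hsq : ∀ x : M, x * x = 1) (a b : M) : a * b * b = a := by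
  rw [mul_assoc, hsq, mul_one]

section Tv

variable {b : MulAut M} {r : M}

theorem tv_ne (h : Tv b r) : r ≠ 1 := by
  rintro rfl
  obtain ⟨h1, _, m, hm⟩ := h
  rcases h1 m with e | e
  · exact hm e
  · exact hm (by rw [e, mul_one])

theorem tv_apply_apply (hsq : ∀ x : M, x * x = 1) (h : Tv b r) (m : M) : b (b m) = m := by
  rcases h.1 m with e | e
  · rw [e, e]
  · rw [e, map_mul, e, h.2.1, mul_mul_self hsq]

theorem tv_mul_self (hsq : ∀ x : M, x * x = 1) (h : Tv b r) : b * b = 1 := by
  ext m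
  exact tv_apply_apply hsq h m

theorem tv_inv (hsq : ∀ x : M, x * x = 1) (h : Tv b r) : b⁻¹ = b :=
  inv_eq_of_mul_eq_one_left (tv_mul_self hsq h)

theorem tv_conj (h : Tv b r) (g : MulAut M) : Tv (g * b * g⁻¹) (g r) := by
  obtain ⟨h1, h2, m, hm⟩ := h
  refine ⟨fun m => ?_, ?_, g m, ?_⟩
  · rcases h1 (g⁻¹ m) with e | e
    · left
      change g (b (g⁻¹ m)) = m
      rw [e]; exact MulAut.apply_inv_self M g m
    · right
      change g (b (g⁻¹ m)) = m * g r
      rw [e, map_mul]
      congr 1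
      exact MulAut.apply_inv_self M g m
  · change g (b (g⁻¹ (g r))) = g r
    rw [MulAut.inv_apply_self, h2]
  · change g (b (g⁻¹ (g m))) ≠ g m
    rw [MulAut.inv_apply_self]
    exact fun e => hm (g.injective e)

/-- the centre is determined by the transvection -/
theorem tv_center (h : Tv b r) {s : M} (hs : Tv b s) : r = s := by
  obtain ⟨h1, _, m, hm⟩ := h
  have e1 := (h1 m).resolve_left hm
  have e2 := (hs.1 m).resolve_left hm
  rw [e1] at e2
  exact mul_left_cancel e2

/-- a moved element is moved by the centre -/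
theorem tv_move (h : Tv b r) {m : M} (hm : b m ≠ m) : b m = m * r := (h.1 m).resolve_left hm

/-- an automorphism commuting with a transvection fixes the centre -/
theorem tv_fix_of_comm (h : Tv b r) {g : MulAut M} (hg : g * b * g⁻¹ = b) : g r = r := by
  have h1 := tv_conj h g
  rw [hg] at h1
  exact (tv_center h h1).symm

theorem tv_ne_one (h : Tv b r) : b ≠ 1 := by
  rintro rfl
  obtain ⟨_, _, m, hm⟩ := h
  exact hm rfl

end Tv

/-! ### elements of order 3 of rank 2 -/

/-- `x` has order 3, and `[M, x] = {1, r, x r, r * x r}` -/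
structure RTwo (x : MulAut M) (r : M) : Prop where
  cube : x * x * x = 1
  move : x r ≠ r
  ne : r ≠ 1
  sum : x (x r) = r * x r
  comm : ∀ m, x m = m ∨ x m = m * r ∨ x m = m * x r ∨ x m = m * (r * x r)

namespace RTwo

variable {x : MulAut M} {r : M}

theorem apply3 (h : RTwo x r) (m : M) : x (x (x m)) = m := by
  have := congrArg (fun f : MulAut M => f m) h.cube
  exact this

theorem inv_apply (h : RTwo x r) (m : M) : x⁻¹ m = x (x m) := by
  have h1 := h.apply3 m
  calc x⁻¹ m = x⁻¹ (x (x (x m))) := by rw [h1]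
    _ = x (x m) := MulAut.inv_apply_self M x _

theorem inv_eq (h : RTwo x r) : x⁻¹ = x * x := by
  ext m; exact h.inv_apply m

/-- shift the base point -/
theorem next (h : RTwo x r) (hsq : ∀ x : M, x * x = 1) : RTwo x (x r) where
  cube := h.cube
  move := fun e => h.move (x.injective e)
  ne := fun e => h.ne (x.injective (by rw [e, map_one]))
  sum := by
    rw [h.apply3, h.sum, comm_of_sq hsq (x r), mul_mul_self hsq]
  comm := by
    intro m
    rw [h.sum]
    have e : x r * (r * x r) = r := by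
      rw [comm_of_sq hsq (x r), mul_mul_self hsq]
    rw [e]
    rcases h.comm m with e | e | e | e
    · exact Or.inl e
    · exact Or.inr (Or.inr (Or.inr e))
    · exact Or.inr (Or.inl e)
    · exact Or.inr (Or.inr (Or.inl e))

theorem inv (h : RTwo x r) (hsq : ∀ x : M, x * x = 1) : RTwo x⁻¹ r where
  cube := by
    rw [h.inv_eq]
    ext m
    change x (x (x (x (x (x m))))) = m
    rw [h.apply3, h.apply3]
  move := by
    rw [h.inv_apply, h.sum]
    intro e
    exact h.move (by
      have : x r = 1 := by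
        have h2 : r * x r = r * 1 := by rw [e, mul_one]
        exact mul_left_cancel h2
      exact absurd (x.injective (by rw [this, map_one])) h.ne)
  ne := h.ne
  sum := by
    rw [h.inv_apply, h.inv_apply, h.apply3, h.sum, ← mul_assoc, hsq, one_mul]
  comm := by
    intro m
    rw [h.inv_apply, h.inv_apply, h.sum]
    have e0 : r * (r * x r) = x r := by rw [← mul_assoc, hsq, one_mul]
    rw [e0]
    rcases h.comm m with e | e | e | e
    · left; rw [e, e]
    · right; right; left
      rw [e, map_mul, e, mul_assoc]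
    · right; left
      rw [e, map_mul, e, h.sum, mul_assoc]
      congr 1
      rw [comm_of_sq hsq r, ← mul_assoc, hsq, one_mul]
    · right; right; right
      rw [e, map_mul, map_mul, e, h.sum]
      have : m * (r * x r) * (x r * (r * x r)) = m * (r * (x r * x r) * (r * x r)) := by group
      rw [this, hsq, mul_one, ← mul_assoc r r, hsq, one_mul]

theorem conj (h : RTwo x r) (g : MulAut M) : RTwo (g * x * g⁻¹) (g r) where
  cube := by
    have : g * x * g⁻¹ * (g * x * g⁻¹) * (g * x * g⁻¹) = g * (x * x * x) * g⁻¹ := by group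
    rw [this, h.cube]; group
  move := by
    change g (x (g⁻¹ (g r))) ≠ g r
    rw [MulAut.inv_apply_self]
    exact fun e => h.move (g.injective e)
  ne := fun e => h.ne (g.injective (by rw [e, map_one]))
  sum := by
    change g (x (g⁻¹ (g (x (g⁻¹ (g r)))))) = g r * g (x (g⁻¹ (g r)))
    rw [MulAut.inv_apply_self, MulAut.inv_apply_self, h.sum, map_mul]
  comm := by
    intro m
    have e0 : (g * x * g⁻¹) (g r) = g (x r) := by
      change g (x (g⁻¹ (g r))) = g (x r)
      rw [MulAut.inv_apply_self]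
    rw [e0, ← map_mul]
    have e1 : (g * x * g⁻¹) m = g (x (g⁻¹ m)) := rfl
    rw [e1]
    have e2 : ∀ n : M, g (g⁻¹ m * n) = m * g n := by
      intro n
      rw [map_mul, MulAut.apply_inv_self]
    rcases h.comm (g⁻¹ m) with e | e | e | e <;> rw [e]
    · left; exact MulAut.apply_inv_self M g m
    · right; left; exact e2 _
    · right; right; left; exact e2 _
    · right; right; right; exact e2 _

end RTwo

/-! ### (A) the element of order 3 -/

/-- `x = σ τ` for two transvections `σ`, `τ` with centres `s = y r`, `r`, generating no 2-group. -/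
theorem rtwo_of_tv (hsq : ∀ x : M, x * x = 1) {τ σ : MulAut M} {r s : M} (hτ : Tv τ r) (hσ : Tv σ s)
    (hodd : ∀ m : M, σ (τ (σ (τ m))) = m → σ (τ m) = m) (hne : ∃ m, σ (τ m) ≠ m) :
    RTwo (σ * τ) r ∧ (σ * τ) r = r * s ∧ τ s = s * r ∧ σ r = r * s := by
  have hr := tv_ne hτ
  have hs := tv_ne hσ
  have hσr : σ r = r * s := by
    by_contra hcon
    have h1 : σ r = r := (hσ.1 r).resolve_right hcon
    by_cases h2 : τ s = s
    · -- commuting case
      obtain ⟨m, hm⟩ := hne
      apply hm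
      apply hodd
      rcases hτ.1 m with e | e
      · rcases hσ.1 m with e' | e'
        · rw [e, e', e, e']
        · rw [e, e', map_mul, e, h2, map_mul, e', hσ.2.1, mul_mul_self hsq]
      · rcases hσ.1 m with e' | e'
        · rw [e, map_mul, e', h1, map_mul, e, hτ.2.1, mul_mul_self hsq, e']
        · rw [e, map_mul, e', h1, map_mul τ, map_mul τ, e, h2, hτ.2.1]
          have : m * r * s * r = m * s := by
            rw [mul_assoc m r s, comm_of_sq hsq r s, mul_assoc m, mul_assoc s, hsq, mul_one]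
          rw [this, map_mul, e', hσ.2.1, mul_mul_self hsq]
    · have h3 := tv_move hτ h2
      have h4 : σ (τ s) = s := hodd s (by rw [h3, map_mul, hσ.2.1, h1, map_mul, h3, hτ.2.1,
        mul_mul_self hsq, hσ.2.1])
      rw [h3, map_mul, hσ.2.1, h1] at h4
      exact hr (by simpa using h4)
  have hτs : τ s = s * r := by
    by_contra hcon
    have h1 : τ s = s := (hτ.1 s).resolve_right hcon
    have h4 : σ (τ r) = r := hodd r (by
      rw [hτ.2.1, hσr, map_mul, hτ.2.1, h1, map_mul, hσr, hσ.2.1, mul_mul_self hsq])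
    rw [hτ.2.1, hσr] at h4
    exact hs (by simpa using h4)
  have hxr : (σ * τ) r = r * s := by
    change σ (τ r) = r * s
    rw [hτ.2.1, hσr]
  have hxs : (σ * τ) s = r := by
    change σ (τ s) = r
    rw [hτs, map_mul, hσ.2.1, hσr, comm_of_sq hsq r, ← mul_assoc, hsq, one_mul]
  have hxxr : (σ * τ) ((σ * τ) r) = s := by
    rw [hxr, map_mul, hxr, hxs, comm_of_sq hsq r s, mul_mul_self hsq]
  have hcomm : ∀ m, (σ * τ) m = m ∨ (σ * τ) m = m * r ∨ (σ * τ) m = m * (r * s) ∨ (σ * τ) m = m * s := by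
    intro m
    change σ (τ m) = m ∨ σ (τ m) = m * r ∨ σ (τ m) = m * (r * s) ∨ σ (τ m) = m * s
    rcases hτ.1 m with e | e
    · rw [e]
      rcases hσ.1 m with e' | e'
      · exact Or.inl e'
      · exact Or.inr (Or.inr (Or.inr e'))
    · rw [e]
      rcases hσ.1 (m * r) with e' | e'
      · exact Or.inr (Or.inl e')
      · right; right; left; rw [e', mul_assoc]
  have hrs : r * (r * s) = s := by rw [← mul_assoc, hsq, one_mul]
  refine ⟨⟨?_, ?_, hr, ?_, ?_⟩, hxr, hτs, hσr⟩
  · have key : ∀ m a b c : M, (σ * τ) m = m * a → (σ * τ) a = b → (σ * τ) b = c → a * b * c = 1 →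
        (σ * τ) ((σ * τ) ((σ * τ) m)) = m := by
      intro m a b c h1 h2 h3 h4
      have e2 : (σ * τ) ((σ * τ) m) = m * a * b := by rw [h1, map_mul, h1, h2]
      rw [e2, map_mul, map_mul, h1, h2, h3, mul_assoc, mul_assoc, ← mul_assoc a, h4, mul_one]
    have hxrs : (σ * τ) (r * s) = s := by
      rw [map_mul, hxr, hxs, comm_of_sq hsq r s, mul_mul_self hsq]
    have h1 : r * (r * s) * s = 1 := by rw [hrs, hsq]
    ext m
    rcases hcomm m with e | e | e | e
    · change (σ * τ) ((σ * τ) ((σ * τ) m)) = m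
      rw [e, e, e]
    · exact key m r (r * s) s e hxr hxrs h1
    · refine key m (r * s) s r e hxrs hxs ?_
      rw [mul_mul_self hsq, hsq]
    · refine key m s r (r * s) e hxs hxr ?_
      rw [mul_assoc, hrs, hsq]
  · rw [hxr]
    intro e
    exact hs (by simpa using e)
  · rw [hxxr, hxr, hrs]
  · intro m
    rw [hxr, hrs]
    exact hcomm m

/-- the block of the transvection `τ` with centre `r` -/
structure Blk (τ : MulAut M) (r : M) (x : MulAut M) : Prop extends RTwo x r where
  tv : Tv τ r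
  inv' : τ * x * τ⁻¹ = x⁻¹

/-- The properties of `P = O₃(J)` which are used. -/
structure Ctl (J P : Subgroup (MulAut M)) : Prop where
  sq : ∀ x : M, x * x = 1
  le : P ≤ J
  conj : ∀ j ∈ J, ∀ p ∈ P, j * p * j⁻¹ ∈ P
  three : IsPGroup 3 P
  ex : ∀ τ ∈ J, ∀ r, Tv τ r → ∃ x ∈ P, Blk τ r x

theorem conj_mem_map_pCore {A : Type*} [Group A] [Finite A] (q : ℕ) (J : Subgroup A) :
    ∀ j ∈ J, ∀ p ∈ (pCore q J).map J.subtype, j * p * j⁻¹ ∈ (pCore q J).map J.subtype := by
  intro j hj p hp
  obtain ⟨p', hp', rfl⟩ := mem_map.mp hp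
  have hn : (pCore q J).Normal := Lib.Cores.pCore_normal q
  exact mem_map.mpr ⟨(⟨j, hj⟩ : J) * p' * (⟨j, hj⟩ : J)⁻¹, hn.conj_mem p' hp' ⟨j, hj⟩, rfl⟩

theorem isPGroup_map_pCore {A : Type*} [Group A] [Finite A] (q : ℕ) (J : Subgroup A) :
    IsPGroup q ((pCore q J).map J.subtype) := by
  have h : IsPGroup q (pCore q J) := Lib.Cores.pCore_isPGroup q
  exact h.map J.subtype

theorem exists_ctl [Finite M] (hsq : ∀ x : M, x * x = 1) (J : Subgroup (MulAut M)) (hJ : Group.IsSolvable J)
    (hO : ∀ N : Subgroup (MulAut M), N ≤ J → (∀ j ∈ J, ∀ n ∈ N, j * n * j⁻¹ ∈ N) → IsPGroup 2 N → N = ⊥) :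
    ∃ P, Ctl J P := by
  have hfin : Finite (MulAut M) := Finite.of_injective (fun j : MulAut M => (j : M → M)) DFunLike.coe_injective
  have hcj := fun q : ℕ => conj_mem_map_pCore q J
  have hpg := fun q : ℕ => isPGroup_map_pCore q J
  refine ⟨(pCore 3 J).map J.subtype, hsq, map_subtype_le _, hcj 3, hpg 3, ?_⟩
  intro τ hτ r htv
  have htt := tv_mul_self hsq htv
  have hτ2 : IsPGroup 2 (zpowers τ) := by
    have : orderOf τ = 2 := orderOf_eq_prime (by rw [pow_two]; exact htt) (tv_ne_one htv)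
    exact IsPGroup.of_card (n := 1) (by rw [Nat.card_zpowers, this, pow_one])
  have h2bot : (pCore 2 J).map J.subtype = ⊥ := hO _ (map_subtype_le _) (hcj 2) (hpg 2)
  -- a prime `q` such that `τ` does not centralize `O_q(J)`
  obtain ⟨q, hq, y, hy, hyτ⟩ : ∃ q : ℕ, q.Prime ∧ ∃ y ∈ (pCore q J).map J.subtype, τ * y ≠ y * τ := by
    by_contra hcon
    push Not at hcon
    have h1 : zpowers τ ≤ centralizer (((fittingSubgroup J).map J.subtype : Subgroup (MulAut M)) : Set _) := by
      refine Lib.BenderMaximal.le_centralizer_fitting fun p hp => ?_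
      rw [zpowers_le, mem_centralizer_iff]
      intro y hy
      exact (hcon p hp y hy).symm
    have h2 : zpowers τ ≤ (fittingSubgroup J).map J.subtype :=
      (le_inf (by rwa [zpowers_le]) h1).trans (Lib.BenderMaximal.inf_centralizer_fitting_le hJ)
    have hf2 : Fact (Nat.Prime 2) := ⟨Nat.prime_two⟩
    have h3 := Lib.BenderMaximal.le_map_pCore_of_le_fitting hτ2 h2
    rw [h2bot, zpowers_le, mem_bot] at h3
    exact tv_ne_one htv h3
  set Q := (pCore q J).map J.subtype with hQ
  have hyJ : y ∈ J := (map_subtype_le _) hy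
  have hq2 : q ≠ 2 := by
    rintro rfl
    rw [hQ, h2bot, mem_bot] at hy
    rw [hy, mul_one, one_mul] at hyτ
    exact hyτ rfl
  have hqodd : Odd q := hq.odd_of_ne_two hq2
  set σ := y * τ * y⁻¹ with hσ
  have hσtv : Tv σ (y r) := tv_conj htv y
  set x := σ * τ with hx
  have hxQ : x ∈ Q := by
    have e : x = y * (τ * y⁻¹ * τ⁻¹) := by
      rw [hx, hσ, tv_inv hsq htv]; group
    rw [e]
    exact mul_mem hy (hcj q τ hτ _ (inv_mem hy))
  obtain ⟨k, hk⟩ := hpg q ⟨x, hxQ⟩
  have hk' : x ^ q ^ k = 1 := by simpa using congrArg Subtype.val hk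
  have hodd2 : Odd (q ^ k) := hqodd.pow
  have hodd : ∀ m : M, σ (τ (σ (τ m))) = m → σ (τ m) = m := by
    intro m hm
    have h1 : ∀ i : ℕ, (x ^ (2 * i)) m = m := by
      intro i
      induction i with
      | zero => simp
      | succ i ih =>
        rw [show 2 * (i + 1) = 2 * i + 2 by ring, pow_add, MulAut.mul_apply, pow_two]
        have : (x * x) m = m := hm
        rw [this, ih]
    obtain ⟨i, hi⟩ := hodd2
    have h2 : (x ^ q ^ k) m = m := by rw [hk']; rfl
    rw [hi, add_comm, pow_add, pow_one, MulAut.mul_apply, h1] at h2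
    exact h2
  have hne : ∃ m, σ (τ m) ≠ m := by
    by_contra hcon
    push Not at hcon
    have hx1 : x = 1 := by ext m; exact hcon m
    apply hyτ
    have h1 : σ = τ⁻¹ := mul_eq_one_iff_eq_inv.mp hx1
    rw [tv_inv hsq htv] at h1
    calc τ * y = σ * y := by rw [h1]
      _ = y * τ := by rw [hσ]; group
  obtain ⟨hR, -, -, -⟩ := rtwo_of_tv hsq htv hσtv hodd hne
  have hx1 : x ≠ 1 := by
    obtain ⟨m, hm⟩ := hne
    intro e
    exact hm (congrArg (fun f : MulAut M => f m) e)
  have hq3 : q = 3 := by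
    have h1 : orderOf x ∣ q ^ k := orderOf_dvd_of_pow_eq_one hk'
    have h2 : orderOf x = 3 := orderOf_eq_prime (by
      rw [pow_succ, pow_two]; exact hR.cube) hx1
    rw [h2] at h1
    have h3 : 3 ∣ q := Nat.Prime.dvd_of_dvd_pow Nat.prime_three h1
    exact ((Nat.prime_dvd_prime_iff_eq Nat.prime_three hq).mp h3).symm
  subst hq3
  refine ⟨x, hxQ, hR, htv, ?_⟩
  have hσσ := tv_mul_self hsq hσtv
  have e1 : τ * x * τ⁻¹ = τ * σ := by rw [hx]; group
  rw [e1]
  symm
  apply inv_eq_of_mul_eq_one_left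
  rw [hx]
  calc τ * σ * (σ * τ) = τ * (σ * σ) * τ := by group
    _ = 1 := by rw [hσσ, mul_one, htt]

/-! ### (B) -/

/-- an element of a 3-group with `d ^ 2 = 1` is trivial -/
theorem eq_one_of_sq {P : Subgroup (MulAut M)} (hP : IsPGroup 3 P) {d : MulAut M} (hd : d ∈ P) (h2 : d * d = 1) :
    d = 1 := by
  obtain ⟨k, hk⟩ := hP ⟨d, hd⟩
  have hk' : d ^ 3 ^ k = 1 := by simpa using congrArg Subtype.val hk
  obtain ⟨i, hi⟩ : Odd (3 ^ k) := (by decide : Odd 3).pow
  rw [hi, pow_add, pow_mul, pow_two, h2, one_pow, one_mul, pow_one] at hk'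
  exact hk'

theorem eq_of_apply_eq (hsq : ∀ x : M, x * x = 1) {P : Subgroup (MulAut M)} (hP : IsPGroup 3 P)
    {x x' : MulAut M} {b : M} (hx : RTwo x b) (hx' : RTwo x' b) (hxP : x ∈ P) (hxP' : x' ∈ P)
    (h : x' b = x b) : x' = x := by
  set c := x b with hc
  have hxc : x c = b * c := hx.sum
  have hx'c : x' c = b * c := by
    have := hx'.sum
    rwa [h] at this
  have hixc : x⁻¹ c = b := by rw [hc, MulAut.inv_apply_self]
  have hixbc : x⁻¹ (b * c) = c := by rw [← hxc, MulAut.inv_apply_self]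
  have hixb : x⁻¹ b = b * c := by rw [hx.inv_apply]; exact hxc
  set d := x⁻¹ * x' with hd
  have hdb : d b = b := by
    change x⁻¹ (x' b) = b
    rw [h, hixc]
  have hdc : d c = c := by
    change x⁻¹ (x' c) = c
    rw [hx'c, hixbc]
  have hdm : ∀ m, d m = m ∨ d m = m * b ∨ d m = m * c ∨ d m = m * (b * c) := by
    intro m
    change x⁻¹ (x' m) = m ∨ x⁻¹ (x' m) = m * b ∨ x⁻¹ (x' m) = m * c ∨ x⁻¹ (x' m) = m * (b * c)
    have h1 := (hx.inv hsq).comm m
    rw [hixb] at h1
    have h2 := hx'.comm m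
    rw [h] at h2
    have e1 : b * (b * c) = c := by rw [← mul_assoc, hsq, one_mul]
    have e2 : c * (b * c) = b := by rw [comm_of_sq hsq c, mul_mul_self hsq]
    have e3 : (b * c) * b = c := by rw [comm_of_sq hsq _ b, e1]
    have e4 : (b * c) * c = b := mul_mul_self hsq b c
    have e5 : c * b = b * c := comm_of_sq hsq _ _
    rw [e1] at h1
    rcases h2 with e | e | e | e <;> rw [e]
    · rcases h1 with f | f | f | f
      · exact Or.inl f
      · exact Or.inr (Or.inl f)
      · exact Or.inr (Or.inr (Or.inr f))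
      · exact Or.inr (Or.inr (Or.inl f))
    · rw [map_mul, hixb]
      rcases h1 with f | f | f | f <;> rw [f]
      · exact Or.inr (Or.inr (Or.inr rfl))
      · rw [mul_assoc, e1]; exact Or.inr (Or.inr (Or.inl rfl))
      · rw [mul_assoc, hsq, mul_one]; exact Or.inl rfl
      · rw [mul_assoc, e2]; exact Or.inr (Or.inl rfl)
    · rw [map_mul, hixc]
      rcases h1 with f | f | f | f <;> rw [f]
      · exact Or.inr (Or.inl rfl)
      · rw [mul_assoc, hsq, mul_one]; exact Or.inl rfl
      · rw [mul_assoc, e3]; exact Or.inr (Or.inr (Or.inl rfl))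
      · rw [mul_assoc, e5]; exact Or.inr (Or.inr (Or.inr rfl))
    · rw [map_mul, hixbc]
      rcases h1 with f | f | f | f <;> rw [f]
      · exact Or.inr (Or.inr (Or.inl rfl))
      · rw [mul_assoc]; exact Or.inr (Or.inr (Or.inr rfl))
      · rw [mul_assoc, e4]; exact Or.inr (Or.inl rfl)
      · rw [mul_assoc, hsq, mul_one]; exact Or.inl rfl
  have hd2 : d * d = 1 := by
    ext m
    change d (d m) = m
    rcases hdm m with e | e | e | e
    · rw [e, e]
    · rw [e, map_mul, e, hdb, mul_mul_self hsq]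
    · rw [e, map_mul, e, hdc, mul_mul_self hsq]
    · rw [e, map_mul, map_mul, e, hdb, hdc, mul_mul_self hsq]
  have h1 := eq_one_of_sq hP (mul_mem (inv_mem hxP) hxP') hd2
  rw [inv_mul_eq_one] at h1
  exact h1.symm

/-- the subgroup generated by three elements -/
theorem mem_three (hsq : ∀ x : M, x * x = 1) {b c c' : M} {m : M} (hm : m ∈ closure ({b, c, c'} : Set M)) :
    m ∈ [1, b, c, b * c, c', b * c', c * c', b * c * c'] := by
  have step : ∀ g ∈ ({b, c, c'} : Set M), ∀ m, (∃ α β γ : M, (α = 1 ∨ α = b) ∧ (β = 1 ∨ β = c) ∧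
      (γ = 1 ∨ γ = c') ∧ m = α * β * γ) → (∃ α β γ : M, (α = 1 ∨ α = b) ∧ (β = 1 ∨ β = c) ∧
      (γ = 1 ∨ γ = c') ∧ g * m = α * β * γ) := by
    rintro g hg m ⟨α, β, γ, h1, h2, h3, hm⟩
    have hg' : g = b ∨ g = c ∨ g = c' := hg
    rcases hg' with hg | hg | hg
    · rcases h1 with h1 | h1
      · exact ⟨b, β, γ, Or.inr rfl, h2, h3, by rw [hg, hm, h1, one_mul, ← mul_assoc]⟩
      · refine ⟨1, β, γ, Or.inl rfl, h2, h3, ?_⟩
        rw [hg, hm, h1, ← mul_assoc, ← mul_assoc, hsq]
    · rcases h2 with h2 | h2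
      · refine ⟨α, c, γ, h1, Or.inr rfl, h3, ?_⟩
        rw [hg, hm, h2, ← mul_assoc, mul_one, comm_of_sq hsq c]
      · refine ⟨α, 1, γ, h1, Or.inl rfl, h3, ?_⟩
        rw [hg, hm, h2, ← mul_assoc, comm_of_sq hsq α c, ← mul_assoc, hsq, one_mul, mul_one]
    · rcases h3 with h3 | h3
      · refine ⟨α, β, c', h1, h2, Or.inr rfl, ?_⟩
        rw [hg, hm, h3, mul_one, comm_of_sq hsq c']
      · refine ⟨α, β, 1, h1, h2, Or.inl rfl, ?_⟩
        rw [hg, hm, h3, comm_of_sq hsq c', mul_mul_self hsq, mul_one]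
  have key : ∃ α β γ : M, (α = 1 ∨ α = b) ∧ (β = 1 ∨ β = c) ∧ (γ = 1 ∨ γ = c') ∧ m = α * β * γ := by
    induction hm using closure_induction_left with
    | one => exact ⟨1, 1, 1, Or.inl rfl, Or.inl rfl, Or.inl rfl, by simp⟩
    | mul_left g hg m _ ih => exact step g hg m ih
    | inv_mul_cancel g hg m _ ih =>
      rw [inv_of_sq hsq g]
      exact step g hg m ih
  obtain ⟨α, β, γ, h1, h2, h3, rfl⟩ := key
  rcases h1 with rfl | rfl <;> rcases h2 with rfl | rfl <;> rcases h3 with rfl | rfl <;> simp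

/-- `RTwo x b` stabilizes `⟨b, x b, c'⟩` -/
theorem RTwo.stab {x : MulAut M} {b : M} (hx : RTwo x b) {N : Subgroup M}
    (hb : b ∈ N) (hc : x b ∈ N) {m : M} (hm : m ∈ N) : x m ∈ N := by
  rcases hx.comm m with e | e | e | e <;> rw [e]
  · exact hm
  · exact mul_mem hm hb
  · exact mul_mem hm hc
  · exact mul_mem hm (mul_mem hb hc)

/-- two elements of order 3 with the same `b` -/
theorem apply_mem (hsq : ∀ x : M, x * x = 1) {P : Subgroup (MulAut M)} (hP : IsPGroup 3 P)
    {x x' : MulAut M} {b : M} (hx : RTwo x b) (hx' : RTwo x' b) (hxP : x ∈ P) (hxP' : x' ∈ P) :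
    x' b = x b ∨ x' b = b * x b := by
  by_contra hcon
  push Not at hcon
  obtain ⟨hn1, hn2⟩ := hcon
  set c := x b with hc
  set c' := x' b with hc'
  let N : Subgroup M := closure ({b, c, c'} : Set M)
  have hbN : b ∈ N := subset_closure (by simp)
  have hcN : c ∈ N := subset_closure (by simp)
  have hcN' : c' ∈ N := subset_closure (by simp)
  let H : Subgroup (MulAut M) := closure {x, x'}
  have hHP : H ≤ P := by
    rw [closure_le]
    rintro y (rfl | rfl)
    · exact hxP
    · exact hxP'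
  have hH3 : IsPGroup 3 H := hP.to_le hHP
  have hxH : x ∈ H := subset_closure (by simp)
  have hxH' : x' ∈ H := subset_closure (by simp)
  have hHN : ∀ h ∈ H, ∀ n ∈ N, h n ∈ N := by
    intro h hh
    induction hh using closure_induction with
    | mem y hy =>
      intro n hn
      rcases hy with rfl | hy
      · exact hx.stab hbN hcN hn
      · rw [Set.mem_singleton_iff] at hy
        subst hy
        exact hx'.stab hbN hcN' hn
    | one => intro n hn; exact hn
    | mul y y' _ _ h1 h2 => intro n hn; exact h1 _ (h2 _ hn)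
    | inv y hy h1 =>
      intro n hn
      obtain ⟨k, hk⟩ := hH3 ⟨y, hy⟩
      have hk' : y ^ 3 ^ k = 1 := by simpa using congrArg Subtype.val hk
      have hpos : 0 < 3 ^ k := by positivity
      obtain ⟨l, hl⟩ : ∃ l, 3 ^ k = l + 1 := ⟨3 ^ k - 1, (Nat.sub_add_cancel hpos).symm⟩
      rw [hl, pow_succ] at hk'
      have hinv : y⁻¹ = y ^ l := (eq_inv_of_mul_eq_one_left hk').symm
      rw [hinv]
      have : ∀ i : ℕ, (y ^ i) n ∈ N := by
        intro i
        induction i with
        | zero => exact hn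
        | succ i ih => rw [pow_succ', MulAut.mul_apply]; exact h1 _ ih
      exact this l
  classical
  -- the orbit of `b`
  let l : List M := [b, c, b * c, c', b * c', c * c', b * c * c']
  have hb1 : b ≠ 1 := hx.ne
  have horb : ∀ m ∈ MulAction.orbit H b, m ∈ l := by
    rintro _ ⟨⟨h, hh⟩, rfl⟩
    have h1 : h b ∈ N := hHN h hh b hbN
    have h2 : h b ≠ 1 := fun e => hb1 (h.injective (by rw [e, map_one]))
    have h3 := mem_three hsq h1
    rcases List.mem_cons.mp h3 with e | e
    · exact absurd e h2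
    · exact e
  have hsub : MulAction.orbit H b ⊆ (l.toFinset : Set M) := fun m hm => by
    rw [Finset.mem_coe, List.mem_toFinset]; exact horb m hm
  have hfin : (MulAction.orbit H b).Finite := l.toFinset.finite_toSet.subset hsub
  have : Finite (MulAction.orbit H b) := hfin.to_subtype
  obtain ⟨n, hn⟩ := hH3.card_orbit b
  have hle : Nat.card (MulAction.orbit H b) ≤ 7 := by
    rw [Nat.card_coe_set_eq]
    calc (MulAction.orbit H b).ncard ≤ (l.toFinset : Set M).ncard :=
          Set.ncard_le_ncard hsub l.toFinset.finite_toSet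
      _ = l.toFinset.card := Set.ncard_coe_finset _
      _ ≤ l.length := l.toFinset_card_le
  have hxb : x b = c := rfl
  have hxc : x c = b * c := hx.sum
  have hxb' : x' b = c' := rfl
  have o1 : b ∈ MulAction.orbit H b := MulAction.mem_orbit_self b
  have o2 : c ∈ MulAction.orbit H b := ⟨⟨x, hxH⟩, rfl⟩
  have o3 : b * c ∈ MulAction.orbit H b := ⟨⟨x * x, mul_mem hxH hxH⟩, hxc⟩
  have o4 : c' ∈ MulAction.orbit H b := ⟨⟨x', hxH'⟩, rfl⟩
  have d1 : b ≠ c := fun e => hx.move e.symm
  have d2 : b ≠ b * c := fun e => (hx.next hsq).ne (by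
    change c = 1
    simpa using e.symm)
  have d3 : b ≠ c' := fun e => hx'.move e.symm
  have d4 : c ≠ b * c := fun e => hb1 (by simpa using e.symm)
  have hge : 4 ≤ Nat.card (MulAction.orbit H b) := by
    rw [Nat.card_coe_set_eq]
    have hs : (({b, c, b * c, c'} : Finset M) : Set M) ⊆ MulAction.orbit H b := by
      intro m hm
      simp only [Finset.coe_insert, Finset.coe_singleton, Set.mem_insert_iff, Set.mem_singleton_iff] at hm
      rcases hm with rfl | rfl | rfl | rfl
      · exact o1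
      · exact o2
      · exact o3
      · exact o4
    have hcard : ({b, c, b * c, c'} : Finset M).card = 4 := by
      rw [Finset.card_insert_of_notMem, Finset.card_insert_of_notMem, Finset.card_insert_of_notMem,
        Finset.card_singleton]
      · simp only [Finset.mem_singleton]; exact fun e => hn2 e.symm
      · simp only [Finset.mem_insert, Finset.mem_singleton, not_or]
        exact ⟨d4, fun e => hn1 e.symm⟩
      · simp only [Finset.mem_insert, Finset.mem_singleton, not_or]
        exact ⟨d1, d2, d3⟩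
    rw [← hcard, ← Set.ncard_coe_finset]
    exact Set.ncard_le_ncard hs hfin
  rw [hn] at hle hge
  rcases n with _ | _ | n
  · norm_num at hge
  · norm_num at hge
  · have h9 : 3 ^ (n + 2) = 9 * 3 ^ n := by rw [pow_add]; ring
    have : 1 ≤ 3 ^ n := Nat.one_le_pow _ _ (by norm_num)
    omega

/-- **(B)** -/
theorem eq_or_eq_inv (hsq : ∀ x : M, x * x = 1) {P : Subgroup (MulAut M)} (hP : IsPGroup 3 P)
    {x x' : MulAut M} {b : M} (hx : RTwo x b) (hx' : RTwo x' b) (hxP : x ∈ P) (hxP' : x' ∈ P) :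
    x' = x ∨ x' = x⁻¹ := by
  rcases apply_mem hsq hP hx hx' hxP hxP' with e | e
  · exact Or.inl (eq_of_apply_eq hsq hP hx hx' hxP hxP' e)
  · right
    have h1 := eq_of_apply_eq hsq hP (hx.inv hsq) hx' (inv_mem hxP) hxP' (by
      rw [e, hx.inv_apply, hx.sum])
    exact h1

/-! ### blocks -/

namespace Blk

variable {τ x : MulAut M} {r : M}

theorem tau_x (h : Blk τ r x) (m : M) : τ (x m) = x⁻¹ (τ m) := by
  have h1 := h.inv'
  rw [mul_inv_eq_iff_eq_mul] at h1
  exact congrArg (fun f : MulAut M => f m) h1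

theorem tau_xr (h : Blk τ r x) : τ (x r) = r * x r := by
  rw [h.tau_x, h.tv.2.1, h.inv_apply, h.sum]

theorem tau_of_fix (h : Blk τ r x) {m : M} (hm : x m = m) : τ m = m := by
  by_contra hcon
  have h1 := tv_move h.tv hcon
  have h2 := h.tau_x m
  rw [hm] at h2
  have h3 : x (τ m) = τ m := by
    conv_lhs => rw [h2]
    exact MulAut.apply_inv_self M x _
  rw [h1, map_mul, hm] at h3
  exact h.move (mul_left_cancel h3)

/-- every element is the product of an element centralized by `x` and an element of `[M, x]` -/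
theorem exists_fix (hsq : ∀ x : M, x * x = 1) (h : RTwo x r) (m : M) :
    ∃ e, (e = 1 ∨ e = r ∨ e = x r ∨ e = r * x r) ∧ x (m * e) = m * e := by
  have e1 : r * (r * x r) = x r := by rw [← mul_assoc, hsq, one_mul]
  have e2 : (r * x r) * x r = r := mul_mul_self hsq _ _
  rcases h.comm m with e | e | e | e
  · exact ⟨1, Or.inl rfl, by rw [mul_one, e]⟩
  · refine ⟨x r, Or.inr (Or.inr (Or.inl rfl)), ?_⟩
    rw [map_mul, e, h.sum, mul_assoc, e1]
  · refine ⟨r * x r, Or.inr (Or.inr (Or.inr rfl)), ?_⟩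
    rw [map_mul, map_mul, e, h.sum]
    calc m * x r * (x r * (r * x r)) = m * (x r * x r) * (r * x r) := by group
      _ = m * (r * x r) := by rw [hsq, mul_one]
  · refine ⟨r, Or.inr (Or.inl rfl), ?_⟩
    rw [map_mul, e, mul_assoc, e2]

theorem inv (hsq : ∀ x : M, x * x = 1) (h : Blk τ r x) : Blk τ r x⁻¹ where
  toRTwo := h.toRTwo.inv hsq
  tv := h.tv
  inv' := by
    have h1 := h.inv'
    calc τ * x⁻¹ * τ⁻¹ = (τ * x * τ⁻¹)⁻¹ := by group
      _ = x⁻¹⁻¹ := by rw [h1]

theorem unique (hsq : ∀ x : M, x * x = 1) (h : Blk τ r x) {τ' : MulAut M} (h' : Blk τ' r x) : τ' = τ := by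
  ext m
  obtain ⟨e, he, hm⟩ := exists_fix hsq h.toRTwo m
  have h1 := h.tau_of_fix hm
  have h2 := h'.tau_of_fix hm
  have hE : τ' e = τ e := by
    rcases he with rfl | rfl | rfl | rfl
    · rw [map_one, map_one]
    · rw [h.tv.2.1, h'.tv.2.1]
    · rw [h.tau_xr, h'.tau_xr]
    · rw [map_mul, map_mul, h.tv.2.1, h'.tv.2.1, h.tau_xr, h'.tau_xr]
  have h3 : τ' (m * e) = τ (m * e) := by rw [h1, h2]
  rw [map_mul, map_mul, hE] at h3
  exact mul_right_cancel h3

end Blk

theorem four_le_card {α : Type*} [Finite α] (a b c d : α) (h1 : a ≠ b) (h2 : a ≠ c) (h3 : a ≠ d) (h4 : b ≠ c)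
    (h5 : b ≠ d) (h6 : c ≠ d) : 4 ≤ Nat.card α := by
  classical
  have := Fintype.ofFinite α
  rw [Nat.card_eq_fintype_card]
  have hcard : ({a, b, c, d} : Finset α).card = 4 := by
    rw [Finset.card_insert_of_notMem, Finset.card_insert_of_notMem, Finset.card_insert_of_notMem,
      Finset.card_singleton]
    · simpa using h6
    · simp [h4, h5]
    · simp [h1, h2, h3]
  rw [← hcard]
  exact Finset.card_le_univ _

namespace Ctl

variable {J P : Subgroup (MulAut M)} {τ σ : MulAut M} {r s : M}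

/-- **(UC)** -/
theorem unique (h : Ctl J P) {τ' : MulAut M} (hτ : τ ∈ J) (hτ' : τ' ∈ J) (ht : Tv τ r) (ht' : Tv τ' r) :
    τ' = τ := by
  obtain ⟨x, hx, hb⟩ := h.ex τ hτ r ht
  obtain ⟨x', hx', hb'⟩ := h.ex τ' hτ' r ht'
  rcases eq_or_eq_inv h.sq h.three hb.toRTwo hb'.toRTwo hx hx' with rfl | rfl
  · exact hb.unique h.sq hb'
  · have h1 := hb'.inv h.sq
    rw [inv_inv] at h1
    exact hb.unique h.sq h1

/-- **(SYM)** -/
theorem sym (h : Ctl J P) (hτ : τ ∈ J) (hσ : σ ∈ J) (ht : Tv τ r) (hs : Tv σ s) (hn : τ s ≠ s) : σ r ≠ r := by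
  classical
  intro hr
  have hts := tv_move ht hn
  have hss : σ (s * r) = s * r := by rw [map_mul, hs.2.1, hr]
  have hr1 := tv_ne ht
  have hτi := tv_inv h.sq ht
  -- `σ τ σ τ⁻¹` is a transvection with centre `r`
  have key : ∀ m, (σ * (τ * σ * τ⁻¹)) m = if σ m = m then m else m * r := by
    intro m
    change σ (τ (σ (τ⁻¹ m))) = _
    rw [hτi]
    have h1 : σ (τ m) = if σ m = m then τ m else τ m * s := by
      rcases ht.1 m with e | e
      · rw [e]
        split_ifs with hm
        · exact hm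
        · exact tv_move hs hm
      · rw [e, map_mul, hr]
        split_ifs with hm
        · rw [hm]
        · rw [tv_move hs hm, mul_assoc, mul_assoc, comm_of_sq h.sq s r]
    rw [h1]
    split_ifs with hm
    · rw [tv_apply_apply h.sq ht, hm]
    · rw [map_mul, tv_apply_apply h.sq ht, hts, map_mul, hss, tv_move hs hm]
      calc m * s * (s * r) = m * (s * s) * r := by group
        _ = m * r := by rw [h.sq, mul_one]
  have hT : Tv (σ * (τ * σ * τ⁻¹)) r := by
    refine ⟨fun m => ?_, ?_, ?_⟩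
    · rw [key]
      split_ifs
      · exact Or.inl rfl
      · exact Or.inr rfl
    · rw [key, if_pos hr]
    · obtain ⟨m, hm⟩ := hs.2.2
      refine ⟨m, ?_⟩
      rw [key, if_neg hm]
      intro e
      exact hr1 (by simpa using e)
  have heq := h.unique hτ (mul_mem hσ (mul_mem (mul_mem hτ hσ) (inv_mem hτ))) ht hT
  have h2 := key s
  rw [heq, if_pos hs.2.1] at h2
  exact hn h2

/-- **(BN)** -/
theorem conj_x (h : Ctl J P) {x g : MulAut M} (hx : x ∈ P) (hb : RTwo x r) (hg : g ∈ J) (hgr : g r = r) :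
    g * x * g⁻¹ = x ∨ g * x * g⁻¹ = x⁻¹ := by
  have h1 := hb.conj g
  rw [hgr] at h1
  exact eq_or_eq_inv h.sq h.three hb h1 hx (h.conj g hg x hx)

theorem conj_xr (h : Ctl J P) {x g : MulAut M} (hx : x ∈ P) (hb : RTwo x r) (hg : g ∈ J) (hgr : g r = r) :
    g (x r) = x r ∨ g (x r) = r * x r := by
  have e1 : g (x r) = (g * x * g⁻¹) r := by
    change g (x r) = g (x (g⁻¹ r))
    have : g⁻¹ r = r := by
      conv_lhs => rw [← hgr]
      exact MulAut.inv_apply_self M g r
    rw [this]
  rcases h.conj_x hx hb hg hgr with e | e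
  · left; rw [e1, e]
  · right; rw [e1, e, hb.inv_apply, hb.sum]

/-- **(COMM)** -/
theorem comm (h : Ctl J P) {x : MulAut M} (hx : x ∈ P) (hb : RTwo x r) (hσ : σ ∈ J) (hs : Tv σ s)
    (hne : s ≠ r) (hσr : σ r = r) : σ * x * σ⁻¹ = x ∧ x s = s := by
  have h1 : σ * x * σ⁻¹ = x := by
    rcases h.conj_x hx hb hσ hσr with e | e
    · exact e
    · exfalso
      have e1 : σ (x r) = (σ * x * σ⁻¹) r := by
        change σ (x r) = σ (x (σ⁻¹ r))
        have : σ⁻¹ r = r := by
          conv_lhs => rw [← hσr]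
          exact MulAut.inv_apply_self M σ r
        rw [this]
      rw [e, hb.inv_apply, hb.sum] at e1
      rcases hs.1 (x r) with e2 | e2
      · rw [e1] at e2
        exact hb.ne (by simpa using e2)
      · rw [e1, comm_of_sq h.sq (x r) s] at e2
        exact hne (mul_right_cancel e2).symm
  refine ⟨h1, tv_fix_of_comm hs ?_⟩
  have h2 : σ * x = x * σ := by
    calc σ * x = (σ * x * σ⁻¹) * σ := by group
      _ = x * σ := by rw [h1]
  rw [← h2]; group

/-- **(DISJ)** -/
theorem card_le [Finite M] (h : Ctl J P) (hτ : τ ∈ J) (hσ : σ ∈ J) (ht : Tv τ r) (hs : Tv σ s)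
    (hne : s ≠ r) (hσr : σ r = r) : 16 ≤ Nat.card M := by
  obtain ⟨x, hx, hb⟩ := h.ex τ hτ r ht
  obtain ⟨y, hy, hc⟩ := h.ex σ hσ s hs
  obtain ⟨-, hxs⟩ := h.comm hx hb.toRTwo hσ hs hne hσr
  have hxys : x (y s) = y s := by
    rcases h.conj_xr hy hc.toRTwo (h.le hx) hxs with e | e
    · exact e
    · exfalso
      have e2 : x (x (y s)) = y s := by
        rw [e, map_mul, hxs, e, ← mul_assoc, h.sq, one_mul]
      have h3 := hb.apply3 (y s)
      rw [e2, e] at h3
      exact hc.ne (by simpa using h3)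
  let C : Subgroup M :=
    { carrier := {m | x m = m}
      mul_mem' := by
        intro a b ha hb
        change x (a * b) = a * b
        rw [map_mul]
        rw [show x a = a from ha, show x b = b from hb]
      one_mem' := map_one x
      inv_mem' := by
        intro a ha
        change x a⁻¹ = a⁻¹
        rw [map_inv, show x a = a from ha] }
  have hmC : ∀ m, m ∈ C ↔ x m = m := fun m => Iff.rfl
  have hsC : s ∈ C := hxs
  have hyC : y s ∈ C := hxys
  have dist : ∀ {z : MulAut M} {t : M}, RTwo z t → (1 : M) ≠ t ∧ (1 : M) ≠ z t ∧ (1 : M) ≠ t * z t ∧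
      t ≠ z t ∧ t ≠ t * z t ∧ z t ≠ t * z t := by
    intro z t hz
    refine ⟨hz.ne.symm, (hz.next h.sq).ne.symm, fun e => ?_, hz.move.symm, fun e => ?_, fun e => ?_⟩
    · have := eq_inv_of_mul_eq_one_right e.symm
      rw [inv_of_sq h.sq] at this
      exact hz.move this
    · exact (hz.next h.sq).ne (by simpa using e.symm)
    · exact hz.ne (by simpa using e.symm)
  have hC : 4 ≤ Nat.card C := by
    obtain ⟨d1, d2, d3, d4, d5, d6⟩ := dist hc.toRTwo
    refine four_le_card (1 : C) ⟨s, hsC⟩ ⟨y s, hyC⟩ ⟨s * y s, mul_mem hsC hyC⟩ ?_ ?_ ?_ ?_ ?_ ?_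
    · exact fun e => d1 (congrArg Subtype.val e)
    · exact fun e => d2 (congrArg Subtype.val e)
    · exact fun e => d3 (congrArg Subtype.val e)
    · exact fun e => d4 (congrArg Subtype.val e)
    · exact fun e => d5 (congrArg Subtype.val e)
    · exact fun e => d6 (congrArg Subtype.val e)
  have hQ : 4 ≤ C.index := by
    obtain ⟨d1, d2, d3, d4, d5, d6⟩ := dist hb.toRTwo
    have hr1 : r ∉ C := fun e => hb.move e
    have hr2 : x r ∉ C := fun e => hb.move (x.injective e)
    have hr3 : r * x r ∉ C := fun e => by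
      rw [← hb.sum, hmC] at e
      exact hb.move (x.injective (x.injective e))
    rw [Subgroup.index]
    refine four_le_card (QuotientGroup.mk 1 : M ⧸ C) (QuotientGroup.mk r) (QuotientGroup.mk (x r))
      (QuotientGroup.mk (r * x r)) ?_ ?_ ?_ ?_ ?_ ?_ <;> intro e <;> rw [QuotientGroup.eq] at e
    · rw [inv_one, one_mul] at e; exact hr1 e
    · rw [inv_one, one_mul] at e; exact hr2 e
    · rw [inv_one, one_mul] at e; exact hr3 e
    · rw [inv_of_sq h.sq] at e; exact hr3 e
    · rw [inv_of_sq h.sq, ← mul_assoc, h.sq, one_mul] at e; exact hr2 e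
    · rw [inv_of_sq h.sq, comm_of_sq h.sq, mul_mul_self h.sq] at e; exact hr1 e
  rw [← C.card_mul_index]
  calc 16 = 4 * 4 := rfl
    _ ≤ Nat.card C * C.index := Nat.mul_le_mul hC hQ

end Ctl

end Cfsg.Agent.MinSimple.OddTwoMod
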