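import Cfsg.Agent.MinSimple.OddTwoStar
import Cfsg.Agent.MinSimple.OddTwoRep

/-!
# (E1)(b), `s = 2`: `OddTwoRep.Star` holds
-/

set_option autoImplicit false

namespace Cfsg.Agent.MinSimple.OddTwoStarOf

open Subgroup Cfsg Cfsg.Agent.ZN Cfsg.Agent.MinSimple.Geo Cfsg.Agent.MinSimple.BTwoA
  Cfsg.Agent.MinSimple.OddLine Cfsg.Agent.MinSimple.OddBase

universe u

variable {G : Type u} [Group G] [Finite G] {T V : Subgroup G} {z : G}

theorem star (h : OddN T V z 2) : OddTwoRep.Star V z where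
  s1 := fun hc hxp hpy _ ha _ hb => OddTwoStar.comm_cases h hc hxp hpy ha hb
  s2 := by
    intro x y hc a ha a' ha' hn hn'
    obtain ⟨p, h1, h2⟩ := OddTwoStar.exists_middle h hc
    exact OddTwoStar.index_two h hc h1 h2 ha ha' hn hn'
  s3a := by
    intro x m hc u hu a ha
    rcases OddTwoStar.tt_comm h hc ha hu with e | e
    · exact Or.inl e
    · right
      rw [e]
      exact OddBase.ws_comm h.toOdd (hc.pt_left h.toGeo) ha hc.mem_ws
  s3b := fun hc _ hu _ hu' hn hn' => OddTwoStar.tt_index_two h hc hu hu' hn hn'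
  s3c := by
    intro x m hc
    obtain ⟨y, h1, h2⟩ := OddTwoStar.exists_crit h hc
    obtain ⟨_, _, a, ha, b, hb, hne⟩ := id h2
    refine ⟨b, ws_le_tt h1.walk hb, fun hcb => hne ?_⟩
    exact mem_centralizer_iff.mp hcb a ha

end Cfsg.Agent.MinSimple.OddTwoStarOf
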