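import Mathlib
import Cfsg.Agent.MinSimple.OmPair

/-!
# The case (Omega) is empty, Step 3

Row 4061 of the blackboard (helper12), facts (3.1)-(3.4) about the noncommuting pair `W, W'`.
-/

set_option autoImplicit false
set_option linter.dupNamespace false

namespace Cfsg.Agent.MinSimple.OmPair

open Subgroup
open Cfsg.Agent.ZN.Block (card_mul_relIndex' card_sup_mul_card_inf le_normalizer_of_forall)
open Cfsg.Agent.MinSimple.Geo (cj mem_cj conj_mem_cj cj_cj cj_mono cj_eq_of_mem_normalizer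
  mem_normalizer_iff_cj card_cj cj_one)

universe u

variable {G : Type u} [Group G]

/-! ### the family -/

namespace Fam

variable {k : ℕ} {UU VV : Set (Subgroup G)} {F : Set G}

theorem not_F (h : Fam k UU VV F) {X V : Subgroup G} (hX : X ∈ UU) (hV : V ∈ VV) (hVX : V ≤ X)
    {v : G} (hv : v ∈ V) : v ∉ F := by
  obtain ⟨Vf, hVf, hsup, hind, hall, hF⟩ := h.frame X hX
  obtain ⟨i, rfl⟩ := hall V hV hVX
  intro hvF
  have hj : ∃ j : Fin k, j ≠ i := by
    have := h.two_le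
    by_cases hi : i.1 = 0
    · refine ⟨⟨1, by omega⟩, fun e => ?_⟩
      rw [← e] at hi
      simp at hi
    · exact ⟨⟨0, by omega⟩, fun e => hi (by rw [← e])⟩
  obtain ⟨j, hj⟩ := hj
  exact (hF v (hVX hv)).1 hvF j ((le_iSup (fun l : {l : Fin k // l ≠ j} => Vf l) ⟨i, hj.symm⟩) hv)

theorem V_eq (h : Fam k UU VV F) {X V X' V' : Subgroup G} (hX : X ∈ UU) (hV : V ∈ VV) (hVX : V ≤ X)
    (hX' : X' ∈ UU) (hV' : V' ∈ VV) (hVX' : V' ≤ X') {v : G} (hv : v ∈ V) (hv' : v ∈ V') (h1 : v ≠ 1) :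
    V = V' := by
  have hXX : X = X' := h.inter X hX X' hX' v (hVX hv) (hVX' hv') h1 (h.not_F hX hV hVX hv)
  subst hXX
  obtain ⟨Vf, hVf, hsup, hind, hall, hF⟩ := h.frame X hX
  obtain ⟨i, rfl⟩ := hall V hV hVX
  obtain ⟨j, rfl⟩ := hall V' hV' hVX'
  by_contra hne
  have hij : i ≠ j := fun e => hne (by rw [e])
  exact h1 (Subgroup.disjoint_def.1 (hind.pairwiseDisjoint hij) hv hv')

theorem mem_normalizer_V (h : Fam k UU VV F) {X V : Subgroup G} (hX : X ∈ UU) (hV : V ∈ VV) (hVX : V ≤ X)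
    {v g : G} (hv : v ∈ V) (h1 : v ≠ 1) (hg : g * v = v * g) : g ∈ normalizer (V : Set G) := by
  have hgX : g ∈ normalizer (X : Set G) :=
    h.cent X hX v (hVX hv) h1 (h.not_F hX hV hVX hv) (mem_centralizer_singleton_iff.2 hg)
  rw [mem_normalizer_iff_cj]
  refine h.V_eq hX (h.cjV g V hV) ?_ hX hV hVX (v := v) ?_ hv h1
  · have := cj_mono (g := g) hVX
    rwa [cj_eq_of_mem_normalizer hgX] at this
  · rw [mem_cj]
    have : g⁻¹ * v * g = v := by rw [mul_assoc, ← hg, inv_mul_cancel_left]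
    rw [this]; exact hv

theorem V_sq (h : Fam k UU VV F) {X V : Subgroup G} (hX : X ∈ UU) (hVX : V ≤ X) {v : G} (hv : v ∈ V) :
    v * v = 1 := h.sq X hX v (hVX hv)

theorem comm_of_V (h : Fam k UU VV F) {X : Subgroup G} (hX : X ∈ UU) {w : G}
    (hw : ∀ V ∈ VV, V ≤ X → ∀ v ∈ V, w * v = v * w) : ∀ x ∈ X, w * x = x * w := by
  obtain ⟨Vf, hVf, hsup, hind, hall, hF⟩ := h.frame X hX
  have hle : X ≤ centralizer ({w} : Set G) := by
    rw [hsup]
    refine iSup_le fun i v hv => ?_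
    rw [mem_centralizer_singleton_iff]
    exact (hw (Vf i) (hVf i) (by rw [hsup]; exact le_iSup Vf i) v hv).symm
  intro x hx
  exact (mem_centralizer_singleton_iff.1 (hle hx)).symm

theorem exists_V (h : Fam k UU VV F) {X : Subgroup G} (hX : X ∈ UU) {w : G}
    (hw : ∃ x ∈ X, w * x ≠ x * w) : ∃ V ∈ VV, V ≤ X ∧ ∃ v ∈ V, w * v ≠ v * w := by
  by_contra hcon
  push Not at hcon
  obtain ⟨x, hx, hne⟩ := hw
  exact hne (h.comm_of_V hX hcon x hx)

theorem cj_V (h : Fam k UU VV F) {X V : Subgroup G} (hV : V ∈ VV) (hVX : V ≤ X) {w : G}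
    (hw : w ∈ normalizer (X : Set G)) : cj w V ∈ VV ∧ cj w V ≤ X := by
  refine ⟨h.cjV w V hV, ?_⟩
  have := cj_mono (g := w) hVX
  rwa [cj_eq_of_mem_normalizer hw] at this

/-- an element of `V` which lies in a product of other members of `VV` in `X` is trivial -/
theorem eq_one_of_mem_sup (h : Fam k UU VV F) {X V : Subgroup G} (hX : X ∈ UU) (hV : V ∈ VV) (hVX : V ≤ X)
    {Y : Subgroup G} (hY : ∃ S : Set (Subgroup G), (∀ V' ∈ S, V' ∈ VV ∧ V' ≤ X ∧ V' ≠ V) ∧ Y = sSup S)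
    {v : G} (hv : v ∈ V) (hvY : v ∈ Y) : v = 1 := by
  obtain ⟨Vf, hVf, hsup, hind, hall, hF⟩ := h.frame X hX
  obtain ⟨i, rfl⟩ := hall V hV hVX
  obtain ⟨S, hS, rfl⟩ := hY
  have hle : sSup S ≤ ⨆ (j : Fin k) (_ : j ≠ i), Vf j := by
    refine sSup_le fun V' hV' => ?_
    obtain ⟨h1, h2, h3⟩ := hS V' hV'
    obtain ⟨j, rfl⟩ := hall V' h1 h2
    exact le_iSup₂ (f := fun (j : Fin k) (_ : j ≠ i) => Vf j) j (fun e => h3 (by rw [e]))
  exact Subgroup.disjoint_def.1 (hind i) hv (hle hvY)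

end Fam

/-! ### `k = 2` -/

namespace Fam

variable {UU VV : Set (Subgroup G)} {F : Set G}

theorem exists_two (h : Fam 2 UU VV F) {X : Subgroup G} (hX : X ∈ UU) :
    ∃ A ∈ VV, ∃ B ∈ VV, A ≠ B ∧ X = A ⊔ B ∧ Disjoint A B ∧ (∀ Y ∈ VV, Y ≤ X → Y = A ∨ Y = B) ∧
      ∀ u ∈ X, u ∈ F ↔ u ∉ A ∧ u ∉ B := by
  obtain ⟨Vf, hVf, hsup, hind, hall, hF⟩ := h.frame X hX
  have hdis : Disjoint (Vf 0) (Vf 1) := hind.pairwiseDisjoint (by decide)
  refine ⟨Vf 0, hVf 0, Vf 1, hVf 1, ?_, ?_, hdis, ?_, ?_⟩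
  · intro e
    rw [← e, disjoint_self] at hdis
    have := h.card (Vf 0) (hVf 0)
    rw [hdis, Subgroup.card_bot] at this
    omega
  · rw [hsup]
    refine le_antisymm (iSup_le fun i => ?_) (sup_le (le_iSup Vf 0) (le_iSup Vf 1))
    fin_cases i
    · exact le_sup_left
    · exact le_sup_right
  · intro Y hY hYX
    obtain ⟨i, rfl⟩ := hall Y hY hYX
    fin_cases i
    · exact Or.inl rfl
    · exact Or.inr rfl
  · intro u hu
    have e0 : (⨆ j : {j : Fin 2 // j ≠ 0}, Vf j) = Vf 1 := by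
      refine le_antisymm (iSup_le ?_) (le_iSup (fun l : {l : Fin 2 // l ≠ 0} => Vf l) ⟨1, by decide⟩)
      rintro ⟨i, hi⟩
      have : i = 1 := by
        fin_cases i
        · exact absurd rfl hi
        · rfl
      subst this
      exact le_rfl
    have e1 : (⨆ j : {j : Fin 2 // j ≠ 1}, Vf j) = Vf 0 := by
      refine le_antisymm (iSup_le ?_) (le_iSup (fun l : {l : Fin 2 // l ≠ 1} => Vf l) ⟨0, by decide⟩)
      rintro ⟨i, hi⟩
      have : i = 0 := by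
        fin_cases i
        · rfl
        · exact absurd rfl hi
      subst this
      exact le_rfl
    rw [hF u hu, Fin.forall_fin_two, e0, e1]
    exact and_comm

theorem two (h : Fam 2 UU VV F) {X V V2 : Subgroup G} (hX : X ∈ UU) (hV : V ∈ VV) (hVX : V ≤ X)
    (hV2 : V2 ∈ VV) (hVX2 : V2 ≤ X) (hne : V ≠ V2) :
    (∀ Y ∈ VV, Y ≤ X → Y = V ∨ Y = V2) ∧ X = V ⊔ V2 ∧ Disjoint V V2 ∧
      ∀ u ∈ X, u ∈ F ↔ u ∉ V ∧ u ∉ V2 := by
  obtain ⟨A, hA, B, hB, hAB, hsup, hdis, hall, hF⟩ := h.exists_two hX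
  rcases hall V hV hVX with rfl | rfl <;> rcases hall V2 hV2 hVX2 with rfl | rfl
  · exact absurd rfl hne
  · exact ⟨hall, hsup, hdis, hF⟩
  · exact ⟨fun Y hY hYX => (hall Y hY hYX).symm, by rw [sup_comm]; exact hsup, hdis.symm,
      fun u hu => (hF u hu).trans and_comm⟩
  · exact absurd rfl hne

theorem card_eq (h : Fam 2 UU VV F) {X : Subgroup G} (hX : X ∈ UU) : Nat.card X = 16 := by
  obtain ⟨A, hA, B, hB, hAB, hsup, hdis, hall, hF⟩ := h.exists_two hX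
  have hAX : A ≤ X := by rw [hsup]; exact le_sup_left
  have hBX : B ≤ X := by rw [hsup]; exact le_sup_right
  have hn : A ≤ normalizer (B : Set G) := le_normalizer_of_forall fun a ha b hb => by
    rw [h.comm X hX a (hAX ha) b (hBX hb), mul_inv_cancel_right]; exact hb
  have := card_sup_mul_card_inf hn
  rw [hdis.eq_bot, Subgroup.card_bot, ← hsup, h.card A hA, h.card B hB] at this
  omega

theorem card_le_four [Finite G] (h : Fam 2 UU VV F) {X E : Subgroup G} (hX : X ∈ UU) (hE : E ≤ X)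
    (hEF : ∀ e ∈ E, e ≠ 1 → e ∈ F) : Nat.card E ≤ 4 := by
  obtain ⟨A, hA, B, hB, hAB, hsup, hdis, hall, hF⟩ := h.exists_two hX
  have hAX : A ≤ X := by rw [hsup]; exact le_sup_left
  have hn : E ≤ normalizer (A : Set G) := le_normalizer_of_forall fun a ha b hb => by
    rw [h.comm X hX a (hE ha) b (hAX hb), mul_inv_cancel_right]; exact hb
  have hcard := card_sup_mul_card_inf hn
  have hinf : E ⊓ A = ⊥ := by
    rw [eq_bot_iff]
    intro x hx
    obtain ⟨hx1, hx2⟩ := mem_inf.1 hx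
    rw [mem_bot]
    by_contra hx0
    exact ((hF x (hE hx1)).1 (hEF x hx1 hx0)).1 hx2
  have hle : Nat.card (E ⊔ A : Subgroup G) ≤ 16 := by
    rw [← h.card_eq hX]
    exact card_le_of_le (sup_le hE hAX)
  rw [hinf, Subgroup.card_bot, mul_one, h.card A hA] at hcard
  omega

end Fam

theorem Vert.exists_V {k : ℕ} {UU VV : Set (Subgroup G)} {F : Set G} {D N Q U0 W : Subgroup G} {z : G} {p : ℕ}
    (hv : Vert UU VV F D N Q U0 W z p) (h : Fam k UU VV F) {g : G} (hne : ∃ w ∈ W, w * g ≠ g * w) :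
    ∃ X ∈ Nb D U0, ∃ V ∈ VV, V ≤ X ∧ ∃ a ∈ V, a * g ≠ g * a := by
  by_contra hcon
  push Not at hcon
  obtain ⟨w, hw, hwg⟩ := hne
  have hle : W ≤ centralizer ({g} : Set G) := by
    refine hv.W_le _ fun d hd x hx => ?_
    rw [mem_centralizer_singleton_iff]
    have := h.comm_of_V (h.cjU d U0 hv.U0_mem) (w := g)
      (fun V hV hVX v hv => (hcon (cj d U0) ⟨d, hd, rfl⟩ V hV hVX v hv).symm) x hx
    exact this.symm
  exact hwg (mem_centralizer_singleton_iff.1 (hle hw))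

section
variable {k : ℕ} {UU VV : Set (Subgroup G)} {F : Set G}
  {D N Q U0 W : Subgroup G} {z : G} {p : ℕ} {D' N' Q' U0' W' : Subgroup G} {z' : G} {p' : ℕ}

theorem Vert.conj_W (hv : Vert UU VV F D N Q U0 W z p) {d w : G} (hd : d ∈ D) (hw : w ∈ W) :
    d * w * d⁻¹ ∈ W := by
  have hle : W ≤ cj d⁻¹ W := by
    refine hv.W_le _ fun e he x hx => ?_
    rw [mem_cj]
    apply hv.W_ge (d * e) (mul_mem hd he)
    rw [← cj_cj]
    have := conj_mem_cj (g := d) hx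
    simpa [mul_assoc] using this
  have := hle hw
  rw [mem_cj, inv_inv] at this
  exact this

theorem Vert.nb_mem (hv : Vert UU VV F D N Q U0 W z p) (h : Fam k UU VV F) {X : Subgroup G} (hX : X ∈ Nb D U0) :
    X ∈ UU ∧ X ≤ W ∧ z ∈ X := by
  obtain ⟨d, hd, rfl⟩ := hX
  refine ⟨h.cjU d _ hv.U0_mem, hv.W_ge d hd, ?_⟩
  rw [mem_cj]
  have hc : d * z = z * d := mem_centralizer_singleton_iff.1 (hv.D_le hd)
  have : d⁻¹ * z * d = z := by rw [mul_assoc, ← hc, inv_mul_cancel_left]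
  rw [this]; exact hv.z_mem

theorem Vert.nb_cj {X : Subgroup G} (hX : X ∈ Nb D U0) {d : G} (hd : d ∈ D) : cj d X ∈ Nb D U0 := by
  obtain ⟨e, he, rfl⟩ := hX
  exact ⟨d * e, mul_mem hd he, cj_cj _ _ _⟩

theorem Vert.W_sq (hv : Vert UU VV F D N Q U0 W z p) (h : Fam k UU VV F) {w : G} (hw : w ∈ W) : w * w = 1 := by
  let K : Subgroup G :=
    { carrier := {x | x ∈ W ∧ x * x = 1}
      mul_mem' := by
        rintro a b ⟨ha, ha1⟩ ⟨hb, hb1⟩
        refine ⟨mul_mem ha hb, ?_⟩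
        calc a * b * (a * b) = a * (b * a) * b := by group
          _ = a * (a * b) * b := by rw [hv.W_comm a ha b hb]
          _ = (a * a) * (b * b) := by group
          _ = 1 := by rw [ha1, hb1, one_mul]
      one_mem' := ⟨one_mem _, one_mul _⟩
      inv_mem' := by
        rintro a ⟨ha, ha1⟩
        refine ⟨inv_mem ha, ?_⟩
        rw [← mul_inv_rev, ha1, inv_one] }
  have hle : W ≤ K := hv.W_le K fun d hd x hx =>
    ⟨hv.W_ge d hd hx, h.sq _ (h.cjU d _ hv.U0_mem) x hx⟩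
  exact (hle hw).2

variable (h : Pair k UU VV F D N Q U0 W z p D' N' Q' U0' W' z' p')
include h

/-- (3.0) -/
theorem Pair.comm_mem {w w' : G} (hw : w ∈ W) (hw' : w' ∈ W') :
    w * w' * w⁻¹ * w'⁻¹ ∈ W ∧ w * w' * w⁻¹ * w'⁻¹ ∈ W' := by
  constructor
  · have := h.v.conj_W (h.le' hw') (inv_mem hw)
    have h2 := mul_mem hw this
    simpa [mul_assoc] using h2
  · have := h.v'.conj_W (h.le hw) hw'
    exact mul_mem this (inv_mem hw')

theorem Pair.nb_mem {X : Subgroup G} (hX : X ∈ Nb D' U0') : X ∈ UU ∧ X ≤ W' ∧ z' ∈ X := h.v'.nb_mem h.fam hX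

omit h in
theorem Pair.nb_cj {X : Subgroup G} (hX : X ∈ Nb D' U0') {d : G} (hd : d ∈ D') : cj d X ∈ Nb D' U0' :=
  Vert.nb_cj hX hd

/-- a noncommuting pair of members of `VV` -/
theorem Pair.exists_pair {X : Subgroup G} (hX : X ∈ Nb D' U0') (hne : ∃ w ∈ W, ∃ x ∈ X, w * x ≠ x * w) :
    ∃ V' ∈ VV, V' ≤ X ∧ ∃ Y ∈ Nb D U0, ∃ V ∈ VV, V ≤ Y ∧ ∃ a ∈ V, ∃ b ∈ V', a * b ≠ b * a := by
  obtain ⟨w, hw, hx⟩ := hne
  obtain ⟨V', hV', hVX', b, hb, hb1⟩ := h.fam.exists_V (h.nb_mem hX).1 hx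
  obtain ⟨Y, hY, V, hV, hVY, a, ha, ha1⟩ := h.v.exists_V h.fam ⟨w, hw, hb1⟩
  exact ⟨V', hV', hVX', Y, hY, V, hV, hVY, a, ha, b, hb, ha1⟩

/-- (3.1) -/
theorem Pair.comm_of_normalizer_V [Finite G] {X V : Subgroup G} (hX : X ∈ Nb D' U0') (hV : V ∈ VV)
    (hVX : V ≤ X) {w : G} (hw : w ∈ W) (hn : w ∈ normalizer (V : Set G)) : ∀ v ∈ V, w * v = v * w := by
  by_contra hcon
  push Not at hcon
  obtain ⟨v, hv, hne⟩ := hcon
  obtain ⟨hXU, hXW, hzX⟩ := h.nb_mem hX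
  have hWW := h.v.W_comm
  -- the commutator
  set c := w * v * w⁻¹ * v⁻¹ with hc
  have hcV : c ∈ V := mul_mem ((mem_normalizer_iff.1 hn v).1 hv) (inv_mem hv)
  have hcW : c ∈ W := (h.comm_mem hw (hXW (hVX hv))).1
  have hc1 : c ≠ 1 := by
    intro e
    rw [hc, mul_inv_eq_one] at e
    exact hne (mul_inv_eq_iff_eq_mul.1 e)
  have hWV : ∀ w' ∈ W, w' ∈ normalizer (V : Set G) := fun w' hw' =>
    h.fam.mem_normalizer_V hXU hV hVX hcV hc1 (hWW _ hw' _ hcW)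
  -- `V ∩ W` has order at most 2
  have hcard : Nat.card (V ⊓ W : Subgroup G) ≤ 2 := by
    have hdvd : Nat.card (V ⊓ W : Subgroup G) ∣ 4 := by
      rw [← h.fam.card V hV]
      exact card_dvd_of_le inf_le_left
    have hne4 : Nat.card (V ⊓ W : Subgroup G) ≠ 4 := by
      intro e
      have : V ⊓ W = V := eq_of_le_of_card_ge inf_le_left (by rw [e, h.fam.card V hV])
      have hvW : v ∈ W := by
        have : v ∈ V ⊓ W := by rw [this]; exact hv
        exact this.2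
      exact hne (hWW _ hw _ hvW)
    have hle := Nat.le_of_dvd (by norm_num) hdvd
    interval_cases hN : Nat.card (V ⊓ W : Subgroup G) <;> omega
  obtain ⟨Y, hY, V1, hV1, hVY1, a, ha, hane⟩ := h.v.exists_V h.fam ⟨w, hw, hne⟩
  obtain ⟨hYU, hYW, -⟩ := h.v.nb_mem h.fam hY
  -- `v` does not normalise `V1`
  have hvn : v ∉ normalizer (V1 : Set G) := by
    intro hvn
    have haW : a ∈ W := hYW (hVY1 ha)
    have h1 : a * v * a⁻¹ * v⁻¹ ∈ V := mul_mem ((mem_normalizer_iff.1 (hWV a haW) v).1 hv) (inv_mem hv)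
    have h2 : a * v * a⁻¹ * v⁻¹ ∈ V1 := by
      have := mul_mem ha ((mem_normalizer_iff.1 hvn a⁻¹).1 (inv_mem ha))
      simpa [mul_assoc] using this
    have h3 : a * v * a⁻¹ * v⁻¹ ≠ 1 := by
      intro e
      rw [mul_inv_eq_one] at e
      exact hane (mul_inv_eq_iff_eq_mul.1 e)
    have : V1 = V := h.fam.V_eq hYU hV1 hVY1 hXU hV hVX h2 h1 h3
    subst this
    exact hane (h.fam.comm X hXU a (hVX ha) v (hVX hv))
  -- injectivity
  have hinj : Nat.card V1 ≤ Nat.card (V ⊓ W : Subgroup G) := by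
    refine Nat.card_le_card_of_injective (fun b : V1 => (⟨(b : G) * v * (b : G)⁻¹ * v⁻¹, ?_⟩ : (V ⊓ W : Subgroup G))) ?_
    · have hbW : (b : G) ∈ W := hYW (hVY1 b.2)
      exact mem_inf.2 ⟨mul_mem ((mem_normalizer_iff.1 (hWV b hbW) v).1 hv) (inv_mem hv),
        (h.comm_mem hbW (hXW (hVX hv))).1⟩
    · rintro ⟨b, hb⟩ ⟨b', hb'⟩ e
      have e' : b * v * b⁻¹ * v⁻¹ = b' * v * b'⁻¹ * v⁻¹ := by
        have := congrArg Subtype.val e
        simpa using this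
      by_contra hbb
      have hbb' : b'⁻¹ * b ≠ 1 := by
        intro e2
        rw [inv_mul_eq_one] at e2
        exact hbb (by simp [e2])
      have hcomm : v * (b'⁻¹ * b) = (b'⁻¹ * b) * v := by
        have e3 : b * v * b⁻¹ = b' * v * b'⁻¹ := mul_right_cancel e'
        calc v * (b'⁻¹ * b) = b'⁻¹ * (b' * v * b'⁻¹) * b := by group
          _ = b'⁻¹ * (b * v * b⁻¹) * b := by rw [e3]
          _ = (b'⁻¹ * b) * v := by group
      have hm : b'⁻¹ * b ∈ V1 := mul_mem (inv_mem hb') hb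
      exact hvn (h.fam.mem_normalizer_V hYU hV1 hVY1 hm hbb' hcomm)
  rw [h.fam.card V1 hV1] at hinj
  omega

/-- (3.1), second half: a noncommuting pair of members of `VV` has no commuting pair of elements -/
theorem Pair.ne_of_ne [Finite G] {X V X' V' : Subgroup G} (hX : X ∈ Nb D U0) (hV : V ∈ VV) (hVX : V ≤ X)
    (hX' : X' ∈ Nb D' U0') (hV' : V' ∈ VV) (hVX' : V' ≤ X') (hne : ∃ a ∈ V, ∃ b ∈ V', a * b ≠ b * a)
    {a b : G} (ha : a ∈ V) (hb : b ∈ V') (ha1 : a ≠ 1) (hb1 : b ≠ 1) : a * b ≠ b * a := by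
  obtain ⟨a0, ha0, b0, hb0, hne⟩ := hne
  obtain ⟨hXU, hXW, -⟩ := h.v.nb_mem h.fam hX
  obtain ⟨hXU', hXW', -⟩ := h.nb_mem hX'
  have hstep : a * b0 ≠ b0 * a := by
    intro e
    have hn : b0 ∈ normalizer (V : Set G) := h.fam.mem_normalizer_V hXU hV hVX ha ha1 e.symm
    exact hne (h.symm.comm_of_normalizer_V hX hV hVX (hXW' (hVX' hb0)) hn a0 ha0).symm
  intro e
  have hn : a ∈ normalizer (V' : Set G) := h.fam.mem_normalizer_V hXU' hV' hVX' hb hb1 e
  exact hstep (h.comm_of_normalizer_V hX' hV' hVX' (hXW (hVX ha)) hn b0 hb0)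

/-- (3.2) -/
theorem Pair.comm_of_normalizer [Finite G] {X : Subgroup G} (hX : X ∈ Nb D' U0')
    (hn : W ≤ normalizer (X : Set G)) : ∀ w ∈ W, ∀ x ∈ X, w * x = x * w := by
  by_contra hcon
  push Not at hcon
  obtain ⟨V', hV', hVX', Y, hY, V, hV, hVY, a, ha, b, hb, hab⟩ := h.exists_pair hX hcon
  obtain ⟨hXU, hXW, -⟩ := h.nb_mem hX
  obtain ⟨hYU, hYW, -⟩ := h.v.nb_mem h.fam hY
  have hne : ∀ a ∈ V, ∀ b ∈ V', a ≠ 1 → b ≠ 1 → a * b ≠ b * a := fun a' ha' b' hb' h1 h2 =>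
    h.ne_of_ne hY hV hVY hX hV' hVX' ⟨a, ha, b, hb, hab⟩ ha' hb' h1 h2
  -- elements of `V` different from `1` do not normalise `V'`
  have hnn : ∀ c ∈ V, c ≠ 1 → cj c V' ≠ V' := by
    intro c hc hc1 e
    have hb1 : b ≠ 1 := by
      rintro rfl
      exact hab (by simp)
    exact hne c hc b hb hc1 hb1
      (h.comm_of_normalizer_V hX hV' hVX' (hYW (hVY hc)) (mem_normalizer_iff_cj.2 e) b hb)
  have ha1 : a ≠ 1 := by
    rintro rfl
    exact hab (by simp)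
  have hb1 : b ≠ 1 := by
    rintro rfl
    exact hab (by simp)
  -- a second element
  obtain ⟨a2, ha2, ha21, haa⟩ : ∃ a2 ∈ V, a2 ≠ 1 ∧ a2 ≠ a := by
    by_contra hcon2
    push Not at hcon2
    have hle : V ≤ zpowers a := by
      intro x hx
      by_cases hx1 : x = 1
      · rw [hx1]; exact one_mem _
      · rw [hcon2 x hx hx1]; exact mem_zpowers a
    have h2 : orderOf a ≤ 2 := orderOf_le_of_pow_eq_one (by norm_num) (by
      rw [pow_two]; exact h.fam.V_sq hYU hVY ha)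
    have h3 : Nat.card V ≤ Nat.card (zpowers a) := card_le_of_le hle
    rw [h.fam.card V hV, Nat.card_zpowers] at h3
    omega
  have hsq : ∀ c ∈ V, c * c = 1 := fun c hc => h.fam.V_sq hYU hVY hc
  have hac : a2 * a = a * a2 := h.fam.comm Y hYU _ (hVY ha2) _ (hVY ha)
  have hWn : ∀ c ∈ V, c ∈ normalizer (X : Set G) := fun c hc => hn (hYW (hVY hc))
  -- the commutator
  have hcW : a * b * a⁻¹ * b⁻¹ ∈ W := (h.comm_mem (hYW (hVY ha)) (hXW (hVX' hb))).1
  have hc := h.v.W_comm _ (hYW (hVY ha2)) _ hcW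
  have hbsup : b ∈ sSup ({cj a V', cj (a2 * a) V', cj a2 V'} : Set (Subgroup G)) := by
    have e1 : b⁻¹ = (a * b * a⁻¹)⁻¹ * ((a2 * a) * b * (a2 * a)⁻¹) * (a2 * b * a2⁻¹)⁻¹ := by
      have : a2 * (a * b * a⁻¹ * b⁻¹) * a2⁻¹ = a * b * a⁻¹ * b⁻¹ := by
        rw [hc, mul_inv_cancel_right]
      calc b⁻¹ = (a * b * a⁻¹)⁻¹ * (a * b * a⁻¹ * b⁻¹) := by group
        _ = (a * b * a⁻¹)⁻¹ * (a2 * (a * b * a⁻¹ * b⁻¹) * a2⁻¹) := by rw [this]
        _ = _ := by group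
    rw [← inv_mem_iff, e1]
    refine mul_mem (mul_mem (inv_mem ?_) ?_) (inv_mem ?_)
    · exact le_sSup (a := cj a V') (by simp) (conj_mem_cj hb)
    · exact le_sSup (a := cj (a2 * a) V') (by simp) (conj_mem_cj hb)
    · exact le_sSup (a := cj a2 V') (by simp) (conj_mem_cj hb)
  refine hb1 (h.fam.eq_one_of_mem_sup hXU hV' hVX' ⟨_, ?_, rfl⟩ hb hbsup)
  rintro V2 (rfl | rfl | rfl)
  · exact ⟨(h.fam.cj_V hV' hVX' (hWn a ha)).1, (h.fam.cj_V hV' hVX' (hWn a ha)).2, hnn a ha ha1⟩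
  · have hm := mul_mem ha2 ha
    exact ⟨(h.fam.cj_V hV' hVX' (hWn _ hm)).1, (h.fam.cj_V hV' hVX' (hWn _ hm)).2, hnn _ hm (by
      intro e
      apply haa
      have := hsq a ha
      calc a2 = a2 * (a * a) := by rw [this, mul_one]
        _ = (a2 * a) * a := by group
        _ = a := by rw [e, one_mul])⟩
  · exact ⟨(h.fam.cj_V hV' hVX' (hWn a2 ha2)).1, (h.fam.cj_V hV' hVX' (hWn a2 ha2)).2, hnn a2 ha2 ha21⟩

/-- (3.2) -/
theorem Pair.comm_of_nonfull [Finite G] {X : Subgroup G} (hX : X ∈ Nb D' U0') {u : G} (hu : u ∈ X)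
    (h1 : u ≠ 1) (hF : u ∉ F) (hc : ∀ w ∈ W, w * u = u * w) : ∀ w ∈ W, ∀ x ∈ X, w * x = x * w := by
  refine h.comm_of_normalizer hX fun w hw => ?_
  exact h.fam.cent X (h.nb_mem hX).1 u hu h1 hF (mem_centralizer_singleton_iff.2 (hc w hw))

/-- (3.3), `k ≥ 3` -/
theorem Pair.comm_of_three [Finite G] (h3 : 3 ≤ k) {X : Subgroup G} (hX : X ∈ Nb D' U0')
    (hne : ∃ w ∈ W, ∃ x ∈ X, w * x ≠ x * w) {w : G} (hw : w ∈ W) (hn : w ∈ normalizer (X : Set G)) :
    ∀ x ∈ X, w * x = x * w := by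
  by_contra hcon
  push Not at hcon
  obtain ⟨hXU, hXW, -⟩ := h.nb_mem hX
  obtain ⟨V, hV, hVX, v, hv, hwv⟩ := h.fam.exists_V hXU hcon
  have hne2 : cj w V ≠ V := fun e =>
    hwv (h.comm_of_normalizer_V hX hV hVX hw (mem_normalizer_iff_cj.2 e) v hv)
  obtain ⟨hV2, hVX2⟩ := h.fam.cj_V hV hVX hn
  set c := w * v * w⁻¹ * v⁻¹ with hc
  have hcW : c ∈ W := (h.comm_mem hw (hXW (hVX hv))).1
  have hc1 : c ≠ 1 := by
    intro e
    rw [hc, mul_inv_eq_one] at e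
    exact hwv (mul_inv_eq_iff_eq_mul.1 e)
  have hcX : c ∈ X := mul_mem (hVX2 (conj_mem_cj hv)) (inv_mem (hVX hv))
  have hcF : c ∉ F := by
    obtain ⟨Vf, hVf, hsup, hind, hall, hF⟩ := h.fam.frame X hXU
    obtain ⟨i, hi⟩ := hall V hV hVX
    obtain ⟨j, hj⟩ := hall _ hV2 hVX2
    obtain ⟨l, hli, hlj⟩ : ∃ l : Fin k, l ≠ i ∧ l ≠ j := by
      have hcard : ({i, j} : Finset (Fin k)).card < (Finset.univ : Finset (Fin k)).card := by
        rw [Finset.card_univ, Fintype.card_fin]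
        exact (Finset.card_le_two).trans_lt (by omega)
      obtain ⟨l, -, hl⟩ := Finset.exists_mem_notMem_of_card_lt_card hcard
      simp only [Finset.mem_insert, Finset.mem_singleton, not_or] at hl
      exact ⟨l, hl.1, hl.2⟩
    intro hcF
    refine (hF c hcX).1 hcF l ?_
    refine mul_mem ?_ (inv_mem ?_)
    · have : w * v * w⁻¹ ∈ Vf j := by rw [← hj]; exact conj_mem_cj hv
      exact (le_iSup (fun m : {m : Fin k // m ≠ l} => Vf m) ⟨j, hlj.symm⟩) this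
    · have : v ∈ Vf i := by rw [← hi]; exact hv
      exact (le_iSup (fun m : {m : Fin k // m ≠ l} => Vf m) ⟨i, hli.symm⟩) this
  obtain ⟨w', hw', x, hx, hw'x⟩ := hne
  exact hw'x (h.comm_of_nonfull hX hcX hc1 hcF (fun w' hw' => h.v.W_comm _ hw' _ hcW) w' hw' x hx)

/-- (3.4): `|W : C_W(X)| ≥ 4` -/
theorem Pair.four_le [Finite G] {X : Subgroup G} (hX : X ∈ Nb D' U0')
    (hne : ∃ w ∈ W, ∃ x ∈ X, w * x ≠ x * w) :
    4 ≤ (W ⊓ centralizer (X : Set G)).relIndex W := by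
  obtain ⟨V', hV', hVX', Y, hY, V, hV, hVY, a, ha, b, hb, hab⟩ := h.exists_pair hX hne
  obtain ⟨hXU, hXW, -⟩ := h.nb_mem hX
  obtain ⟨hYU, hYW, -⟩ := h.v.nb_mem h.fam hY
  have hb1 : b ≠ 1 := by
    rintro rfl
    exact hab (by simp)
  have hdis : ∀ c ∈ V, c ∈ centralizer (X : Set G) → c = 1 := by
    intro c hc hcX
    by_contra hc1
    exact h.ne_of_ne hY hV hVY hX hV' hVX' ⟨a, ha, b, hb, hab⟩ hc hb hc1 hb1
      (mem_centralizer_iff.1 hcX b (hVX' hb)).symm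
  -- counting
  have hmul : Nat.card (W ⊓ centralizer (X : Set G) : Subgroup G) *
      (W ⊓ centralizer (X : Set G)).relIndex W = Nat.card W :=
    card_mul_relIndex' inf_le_left
  have hinj : Nat.card (V × (W ⊓ centralizer (X : Set G) : Subgroup G)) ≤ Nat.card W := by
    refine Nat.card_le_card_of_injective (fun c => (⟨(c.1 : G) * (c.2 : G),
      mul_mem (hYW (hVY c.1.2)) (mem_inf.1 c.2.2).1⟩ : W)) ?_
    rintro ⟨⟨c, hc⟩, ⟨d, hd⟩⟩ ⟨⟨c', hc'⟩, ⟨d', hd'⟩⟩ e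
    have e' : c * d = c' * d' := by
      have := congrArg Subtype.val e
      simpa using this
    have h1 : c'⁻¹ * c = d' * d⁻¹ := by
      rw [inv_mul_eq_iff_eq_mul, ← mul_assoc, ← e', mul_assoc, mul_inv_cancel, mul_one]
    have h2 : c'⁻¹ * c = 1 := by
      refine hdis _ (mul_mem (inv_mem hc') hc) ?_
      rw [h1]
      exact mul_mem (mem_inf.1 hd').2 (inv_mem (mem_inf.1 hd).2)
    have h3 : c = c' := (inv_mul_eq_one.1 h2).symm
    subst h3
    have h4 : d = d' := mul_left_cancel e'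
    subst h4
    rfl
  rw [Nat.card_prod, h.fam.card V hV] at hinj
  have hpos : 0 < Nat.card (W ⊓ centralizer (X : Set G) : Subgroup G) := Nat.card_pos
  rw [← hmul, mul_comm] at hinj
  exact Nat.le_of_mul_le_mul_left hinj hpos

/-- (3.3), `k = 2`: if `w ∈ W_X` is nontrivial on `X` then `C_X(w) = [X, w] = C_X(W)` is a line -/
theorem Pair.line [Finite G] (h2 : k = 2) {X : Subgroup G} (hX : X ∈ Nb D' U0') {w : G} (hw : w ∈ W)
    (hn : w ∈ normalizer (X : Set G)) (hne : ∃ x ∈ X, w * x ≠ x * w) :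
    IsLn F z' X (X ⊓ centralizer (W : Set G)) ∧
      (∀ x ∈ X, w * x * w⁻¹ * x⁻¹ ∈ X ⊓ centralizer (W : Set G)) ∧
      (∀ x ∈ X, w * x = x * w → x ∈ centralizer (W : Set G)) ∧
      (∀ e ∈ X ⊓ centralizer (W : Set G), ∃ x ∈ X, w * x * w⁻¹ * x⁻¹ = e) := by
  subst h2
  obtain ⟨hXU, hXW, hzX⟩ := h.nb_mem hX
  obtain ⟨V, hV, hVX, v, hv, hwv⟩ := h.fam.exists_V hXU hne
  have hv1 : v ≠ 1 := by
    rintro rfl
    exact hwv (by simp)
  have hVn : w ∉ normalizer (V : Set G) := fun e =>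
    hwv (h.comm_of_normalizer_V hX hV hVX hw e v hv)
  have hVc : ∀ x ∈ V, w * x = x * w → x = 1 := by
    intro x hx e
    by_contra hx1
    exact hVn (h.fam.mem_normalizer_V hXU hV hVX hx hx1 e)
  set E := X ⊓ centralizer (W : Set G) with hE
  have hEX : E ≤ X := inf_le_left
  have hfull : ∀ e ∈ E, e ≠ 1 → e ∈ F := by
    intro e he he1
    by_contra heF
    refine hwv (h.comm_of_nonfull hX (mem_inf.1 he).1 he1 heF (fun w' hw' => ?_) w hw v (hVX hv))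
    exact mem_centralizer_iff.1 (mem_inf.1 he).2 w' hw'
  have hcomm : ∀ x ∈ X, w * x * w⁻¹ * x⁻¹ ∈ E := by
    intro x hx
    refine mem_inf.2 ⟨mul_mem ((mem_normalizer_iff.1 hn x).1 hx) (inv_mem hx), ?_⟩
    rw [mem_centralizer_iff]
    intro w' hw'
    exact h.v.W_comm _ hw' _ (h.comm_mem hw (hXW hx)).1
  have hinj : Function.Injective (fun b : V => (⟨w * (b : G) * w⁻¹ * (b : G)⁻¹, hcomm b (hVX b.2)⟩ : E)) := by
    rintro ⟨b, hb⟩ ⟨c, hc⟩ e
    have e' : w * b * w⁻¹ * b⁻¹ = w * c * w⁻¹ * c⁻¹ := by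
      have := congrArg Subtype.val e
      simpa using this
    have hbc : c⁻¹ * b = 1 := by
      refine hVc _ (mul_mem (inv_mem hc) hb) ?_
      have hX1 : w * c * w⁻¹ ∈ X := (mem_normalizer_iff.1 hn c).1 (hVX hc)
      have hX2 : w * b * w⁻¹ ∈ X := (mem_normalizer_iff.1 hn b).1 (hVX hb)
      have e3 : w * b * w⁻¹ = w * c * w⁻¹ * (c⁻¹ * b) := by
        rw [mul_inv_eq_iff_eq_mul] at e'
        rw [e']; group
      calc w * (c⁻¹ * b) = (w * c * w⁻¹)⁻¹ * (w * b * w⁻¹) * w := by group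
        _ = (w * c * w⁻¹)⁻¹ * (w * c * w⁻¹ * (c⁻¹ * b)) * w := by rw [← e3]
        _ = c⁻¹ * b * w := by group
    have : b = c := (inv_mul_eq_one.1 hbc).symm
    subst this
    rfl
  have hcard4 : Nat.card E = 4 := by
    have h1 := Nat.card_le_card_of_injective _ hinj
    rw [h.fam.card V hV] at h1
    have h2 := h.fam.card_le_four hXU hEX hfull
    omega
  have hsurj : Function.Surjective (fun b : V => (⟨w * (b : G) * w⁻¹ * (b : G)⁻¹, hcomm b (hVX b.2)⟩ : E)) := by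
    have hb := (Nat.bijective_iff_injective_and_card (fun b : V =>
      (⟨w * (b : G) * w⁻¹ * (b : G)⁻¹, hcomm b (hVX b.2)⟩ : E))).2 ⟨hinj, by rw [hcard4, h.fam.card V hV]⟩
    exact hb.2
  refine ⟨⟨hEX, hcard4, mem_inf.2 ⟨hzX, ?_⟩, hfull⟩, hcomm, ?_, ?_⟩
  · rw [mem_centralizer_iff]
    intro w' hw'
    exact mem_centralizer_singleton_iff.1 (h.v'.D_le (h.le hw'))
  · intro x hx hwx
    set K := X ⊓ centralizer ({w} : Set G) with hK
    have hEK : E ≤ K := by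
      refine le_inf hEX fun e he => ?_
      rw [mem_centralizer_singleton_iff]
      exact (mem_centralizer_iff.1 (mem_inf.1 he).2 w hw).symm
    have hKV : K ⊓ V = ⊥ := by
      rw [eq_bot_iff]
      intro y hy
      rw [mem_bot]
      obtain ⟨hy1, hy2⟩ := mem_inf.1 hy
      exact hVc y hy2 (mem_centralizer_singleton_iff.1 (mem_inf.1 hy1).2).symm
    have hn2 : K ≤ normalizer (V : Set G) := le_normalizer_of_forall fun a ha b hb => by
      rw [h.fam.comm X hXU a (mem_inf.1 ha).1 b (hVX hb), mul_inv_cancel_right]; exact hb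
    have hcard := card_sup_mul_card_inf hn2
    have hle : Nat.card (K ⊔ V : Subgroup G) ≤ 16 := by
      rw [← h.fam.card_eq hXU]
      exact card_le_of_le (sup_le inf_le_left hVX)
    rw [hKV, Subgroup.card_bot, mul_one, h.fam.card V hV] at hcard
    have hKE : E = K := eq_of_le_of_card_ge hEK (by omega)
    have hxK : x ∈ K := mem_inf.2 ⟨hx, mem_centralizer_singleton_iff.2 hwx.symm⟩
    rw [← hKE] at hxK
    exact (mem_inf.1 hxK).2
  · intro e he
    obtain ⟨b, hb⟩ := hsurj ⟨e, he⟩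
    exact ⟨b, hVX b.2, congrArg Subtype.val hb⟩

/-- (3.4): `C_W(u) = C_W(X)` for nonfull `u ∈ X` -/
theorem Pair.comm_of_comm [Finite G] {X : Subgroup G} (hX : X ∈ Nb D' U0')
    (hne : ∃ w ∈ W, ∃ x ∈ X, w * x ≠ x * w) {u : G} (hu : u ∈ X) (h1 : u ≠ 1) (hF : u ∉ F) {w : G}
    (hw : w ∈ W) (hc : w * u = u * w) : ∀ x ∈ X, w * x = x * w := by
  have hn : w ∈ normalizer (X : Set G) :=
    h.fam.cent X (h.nb_mem hX).1 u hu h1 hF (mem_centralizer_singleton_iff.2 hc)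
  by_cases h3 : 3 ≤ k
  · exact h.comm_of_three h3 hX hne hw hn
  · have h2 : k = 2 := by
      have := h.fam.two_le
      omega
    by_contra hcon
    push Not at hcon
    obtain ⟨-, -, h4, -⟩ := h.line h2 hX hw hn hcon
    obtain ⟨w', hw', x, hx, hne⟩ := hne
    exact hne (h.comm_of_nonfull hX hu h1 hF
      (fun w' hw' => mem_centralizer_iff.1 (h4 u hu hc) w' hw') w' hw' x hx)

/-- (3.3), `k = 2`: the product of two elements of `W_X` which are nontrivial on `X` is trivial on `X` -/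
theorem Pair.mul_comm_of_two [Finite G] (h2 : k = 2) {X : Subgroup G} (hX : X ∈ Nb D' U0') {w w' : G}
    (hw : w ∈ W) (hw' : w' ∈ W) (hn : w ∈ normalizer (X : Set G)) (hn' : w' ∈ normalizer (X : Set G))
    (hne : ∃ x ∈ X, w * x ≠ x * w) (hne' : ∃ x ∈ X, w' * x ≠ x * w') :
    ∀ x ∈ X, w * w' * x = x * (w * w') := by
  subst h2
  obtain ⟨hXU, hXW, hzX⟩ := h.nb_mem hX
  -- an element normalising some `V` centralises `X`
  have key : ∀ g ∈ W, g ∈ normalizer (X : Set G) → (∃ V ∈ VV, V ≤ X ∧ cj g V = V) →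
      ∀ x ∈ X, g * x = x * g := by
    rintro g hg hgn ⟨V, hV, hVX, hgV⟩
    by_contra hcon
    push Not at hcon
    obtain ⟨V2, hV2, hVX2, v, hv, hgv⟩ := h.fam.exists_V hXU hcon
    have hgV2 : cj g V2 ≠ V2 := fun e =>
      hgv (h.comm_of_normalizer_V hX hV2 hVX2 hg (mem_normalizer_iff_cj.2 e) v hv)
    have hVV2 : V ≠ V2 := by
      rintro rfl
      exact hgV2 hgV
    obtain ⟨hall, -, -, -⟩ := h.fam.two hXU hV hVX hV2 hVX2 hVV2
    obtain ⟨h3, h4⟩ := h.fam.cj_V hV2 hVX2 hgn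
    rcases hall _ h3 h4 with e | e
    · -- cj g V2 = V = cj g V
      apply hVV2
      rw [← hgV] at e
      have := congrArg (cj g⁻¹) e
      rwa [cj_cj, cj_cj, inv_mul_cancel, cj_one, cj_one, eq_comm] at this
    · exact hgV2 e
  obtain ⟨A, hA, B, hB, hAB, hsup, hdis, hall, hF⟩ := h.fam.exists_two hXU
  have hAX : A ≤ X := by rw [hsup]; exact le_sup_left
  have hBX : B ≤ X := by rw [hsup]; exact le_sup_right
  have hsw : ∀ g ∈ W, g ∈ normalizer (X : Set G) → (∃ x ∈ X, g * x ≠ x * g) → cj g A = B ∧ cj g B = A := by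
    intro g hg hgn hgne
    obtain ⟨x, hx, hgx⟩ := hgne
    constructor
    · rcases hall _ (h.fam.cj_V hA hAX hgn).1 (h.fam.cj_V hA hAX hgn).2 with e | e
      · exact absurd (key g hg hgn ⟨A, hA, hAX, e⟩ x hx) hgx
      · exact e
    · rcases hall _ (h.fam.cj_V hB hBX hgn).1 (h.fam.cj_V hB hBX hgn).2 with e | e
      · exact e
      · exact absurd (key g hg hgn ⟨B, hB, hBX, e⟩ x hx) hgx
  refine key (w * w') (mul_mem hw hw') (mul_mem hn hn') ⟨A, hA, hAX, ?_⟩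
  rw [← cj_cj, (hsw w' hw' hn' hne').1, (hsw w hw hn hne).2]

/-- (3.3), `k = 2`: `|W_X : C_W(X)| ≤ 2` -/
theorem Pair.relIndex_le_two [Finite G] (h2 : k = 2) {X : Subgroup G} (hX : X ∈ Nb D' U0') :
    (W ⊓ centralizer (X : Set G)).relIndex (W ⊓ normalizer (X : Set G)) ≤ 2 := by
  have hle : W ⊓ centralizer (X : Set G) ≤ W ⊓ normalizer (X : Set G) :=
    inf_le_inf_left _ (centralizer_le_normalizer _)
  by_cases hall : ∀ w ∈ W ⊓ normalizer (X : Set G), w ∈ W ⊓ centralizer (X : Set G)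
  · rw [relIndex_eq_one.2 hall]
    omega
  · push Not at hall
    obtain ⟨w, hw, hwC⟩ := hall
    obtain ⟨hw1, hw2⟩ := mem_inf.1 hw
    have hnc : ∀ g ∈ W, g ∉ W ⊓ centralizer (X : Set G) → ∃ x ∈ X, g * x ≠ x * g := by
      intro g hg hgC
      by_contra hcon
      push Not at hcon
      exact hgC (mem_inf.2 ⟨hg, mem_centralizer_iff.2 fun x hx => (hcon x hx).symm⟩)
    refine le_of_eq ?_
    rw [relIndex, index_eq_two_iff]
    refine ⟨⟨w, hw⟩, ?_⟩
    rintro ⟨b, hb⟩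
    obtain ⟨hb1, hb2⟩ := mem_inf.1 hb
    simp only [mem_subgroupOf, coe_mul]
    by_cases hbC : b ∈ W ⊓ centralizer (X : Set G)
    · refine Or.inr ⟨hbC, fun hbw => hwC ?_⟩
      have := mul_mem (inv_mem hbC) hbw
      simpa using this
    · refine Or.inl ⟨mem_inf.2 ⟨mul_mem hb1 hw1, mem_centralizer_iff.2 fun x hx => ?_⟩, hbC⟩
      exact (h.mul_comm_of_two h2 hX hb1 hw1 hb2 hw2 (hnc b hb1 hbC) (hnc w hw1 hwC) x hx).symm

end

end Cfsg.Agent.MinSimple.OmPair
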