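import Mathlib
import Cfsg.Agent.MinSimple.OmPairA

/-!
# The lines of a member of `UU` when `k = 2`

`X = A × B` with four-groups `A, B`; the full elements of `X` are those outside `A` and `B`. A line through the
full element `z` is a subgroup of order four of `X` containing `z` all of whose nontrivial elements are full.
There are exactly two lines, they meet in `⟨z⟩` and generate a subgroup of index two of `X`.
-/

set_option autoImplicit false
set_option linter.dupNamespace false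

namespace Cfsg.Agent.MinSimple.OmPair

open Subgroup
open Cfsg.Agent.ZN.Block (card_mul_relIndex' card_sup_mul_card_inf le_normalizer_of_forall)
open Cfsg.Agent.MinSimple.Geo (cj mem_cj conj_mem_cj cj_cj cj_mono cj_eq_of_mem_normalizer
  mem_normalizer_iff_cj card_cj cj_one)

universe u

variable {G : Type u} [Group G]

/-! ### four-groups -/

/-- the subgroup generated by two commuting involutions -/
def four (x y : G) (hx : x * x = 1) (hy : y * y = 1) (hxy : x * y = y * x) : Subgroup G where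
  carrier := {g | g = 1 ∨ g = x ∨ g = y ∨ g = x * y}
  one_mem' := Or.inl rfl
  mul_mem' := by
    have h1 : ∀ g, x * (x * g) = g := fun g => by rw [← mul_assoc, hx, one_mul]
    have h2 : ∀ g, y * (y * g) = g := fun g => by rw [← mul_assoc, hy, one_mul]
    have h3 : ∀ g, y * (x * g) = x * (y * g) := fun g => by rw [← mul_assoc, ← hxy, mul_assoc]
    intro a b ha hb
    simp only [Set.mem_ofPred_eq] at ha hb ⊢
    rcases ha with rfl | rfl | rfl | rfl <;> rcases hb with rfl | rfl | rfl | rfl <;>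
      simp [mul_assoc, hx, hy, h1, h3, ← hxy]
  inv_mem' := by
    have h1 : x⁻¹ = x := inv_eq_of_mul_eq_one_left hx
    have h2 : y⁻¹ = y := inv_eq_of_mul_eq_one_left hy
    intro a ha
    simp only [Set.mem_ofPred_eq] at ha ⊢
    rcases ha with rfl | rfl | rfl | rfl
    · simp
    · simp [h1]
    · simp [h2]
    · simp [h1, h2, hxy]

theorem mem_four {x y : G} {hx : x * x = 1} {hy : y * y = 1} {hxy : x * y = y * x} {g : G} :
    g ∈ four x y hx hy hxy ↔ g = 1 ∨ g = x ∨ g = y ∨ g = x * y := Iff.rfl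

theorem card_four {x y : G} (hx : x * x = 1) (hy : y * y = 1) (hxy : x * y = y * x)
    (hx1 : x ≠ 1) (hy1 : y ≠ 1) (hne : x ≠ y) : Nat.card (four x y hx hy hxy) = 4 := by
  have e : ((four x y hx hy hxy : Subgroup G) : Set G) = {1, x, y, x * y} := by
    ext g
    simp only [SetLike.mem_coe, mem_four, Set.mem_insert_iff, Set.mem_singleton_iff]
  have hc : Nat.card (four x y hx hy hxy) = Set.ncard ((four x y hx hy hxy : Subgroup G) : Set G) := rfl
  have h3 : x * y ≠ 1 := by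
    intro h
    apply hne
    calc x = x * (y * y) := by rw [hy, mul_one]
      _ = y := by rw [← mul_assoc, h, one_mul]
  rw [hc, e, Set.ncard_insert_of_notMem, Set.ncard_insert_of_notMem, Set.ncard_pair]
  · intro h
    exact hx1 (by simpa using h)
  · simp only [Set.mem_insert_iff, Set.mem_singleton_iff, not_or]
    refine ⟨hne, fun h => hy1 (by simpa using h)⟩
  · simp only [Set.mem_insert_iff, Set.mem_singleton_iff, not_or]
    exact ⟨hx1.symm, hy1.symm, h3.symm⟩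

theorem eq_four [Finite G] {E : Subgroup G} (hE : Nat.card E = 4) {x y : G} (hx : x * x = 1) (hy : y * y = 1)
    (hxy : x * y = y * x) (hxE : x ∈ E) (hyE : y ∈ E)
    (hx1 : x ≠ 1) (hy1 : y ≠ 1) (hne : x ≠ y) : E = four x y hx hy hxy := by
  refine (Subgroup.eq_of_le_of_card_ge (fun g hg => ?_) ?_).symm
  · rcases mem_four.1 hg with rfl | rfl | rfl | rfl
    · exact one_mem _
    · exact hxE
    · exact hyE
    · exact mul_mem hxE hyE
  · rw [hE, card_four hx hy hxy hx1 hy1 hne]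

/-- the elements of a four-group -/
theorem four_cases [Finite G] {E : Subgroup G} (hE : Nat.card E = 4) {x y : G} (hx : x * x = 1) (hy : y * y = 1)
    (hxy : x * y = y * x) (hxE : x ∈ E) (hyE : y ∈ E)
    (hx1 : x ≠ 1) (hy1 : y ≠ 1) (hne : x ≠ y) {g : G} (hg : g ∈ E) : g = 1 ∨ g = x ∨ g = y ∨ g = x * y := by
  rw [eq_four hE hx hy hxy hxE hyE hx1 hy1 hne] at hg
  exact mem_four.1 hg

theorem exists_mem_ne [Finite G] {E : Subgroup G} (h4 : 2 < Nat.card E) (a b : G) : ∃ e ∈ E, e ≠ a ∧ e ≠ b := by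
  by_contra hcon
  push Not at hcon
  have hsub : (E : Set G) ⊆ {a, b} := by
    intro e he
    by_cases h : e = a
    · exact Or.inl h
    · exact Or.inr (hcon e he h)
  have h1 := Set.ncard_le_ncard hsub (Set.toFinite _)
  have h2 : Set.ncard ({a, b} : Set G) ≤ 2 := (Set.ncard_insert_le a {b}).trans (by rw [Set.ncard_singleton])
  have h3 : Nat.card E = Set.ncard (E : Set G) := rfl
  omega

/-! ### components -/

theorem exists_comp {A B : Subgroup G} (hc : ∀ a ∈ A, ∀ b ∈ B, a * b = b * a) {x : G} (hx : x ∈ A ⊔ B) :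
    ∃ a ∈ A, ∃ b ∈ B, x = a * b := by
  have hn : A ≤ normalizer (B : Set G) := le_normalizer_of_forall fun a ha b hb => by
    rw [hc a ha b hb, mul_inv_cancel_right]; exact hb
  have : x ∈ ((A ⊔ B : Subgroup G) : Set G) := hx
  rw [Subgroup.coe_mul_of_left_le_normalizer_right A B hn] at this
  obtain ⟨a, ha, b, hb, rfl⟩ := Set.mem_mul.1 this
  exact ⟨a, ha, b, hb, rfl⟩

theorem comp_unique {A B : Subgroup G} (hd : Disjoint A B) {a a' b b' : G} (ha : a ∈ A) (ha' : a' ∈ A)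
    (hb : b ∈ B) (hb' : b' ∈ B) (h : a * b = a' * b') : a = a' ∧ b = b' := by
  have h1 : a'⁻¹ * a = b' * b⁻¹ := by
    rw [eq_mul_inv_iff_mul_eq, mul_assoc, h, inv_mul_cancel_left]
  have h2 : a'⁻¹ * a = 1 :=
    Subgroup.disjoint_def.1 hd (mul_mem (inv_mem ha') ha) (by rw [h1]; exact mul_mem hb' (inv_mem hb))
  have h3 : a = a' := (inv_mul_eq_one.1 h2).symm
  subst h3
  exact ⟨rfl, mul_left_cancel h⟩

section lines
variable [Finite G] {UU VV : Set (Subgroup G)} {F : Set G}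

omit [Finite G] in
theorem Fam.ne_one (h : Fam 2 UU VV F) {X : Subgroup G} (hX : X ∈ UU) {z : G} (hzF : z ∈ F) : z ≠ 1 := by
  obtain ⟨A, hA, B, hB, hAB, hsup, hdis, hall, hF⟩ := h.exists_two hX
  rintro rfl
  exact h.not_F hX hA (by rw [hsup]; exact le_sup_left) (one_mem A) hzF

/-- a line through `z` is `⟨z, e⟩` for every further element `e` -/
theorem IsLn.eq_four {X E : Subgroup G} {z : G} (hz1 : z ≠ 1)
    (hE : IsLn F z X E) {e : G} (he : e ∈ E) (he1 : e ≠ 1) (hez : e ≠ z)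
    (h1 : z * z = 1) (h2 : e * e = 1) (h3 : z * e = e * z) :
    E = four z e h1 h2 h3 :=
  OmPair.eq_four hE.card h1 h2 h3 hE.mem he hz1 he1 hez.symm

theorem IsLn.exists_mem {X E : Subgroup G} {z : G} (hE : IsLn F z X E) :
    ∃ e ∈ E, e ≠ 1 ∧ e ≠ z := exists_mem_ne (by rw [hE.card]; omega) 1 z

omit [Finite G] in
theorem IsLn.cj (h : Fam 2 UU VV F) {X E : Subgroup G} {z : G} (hE : IsLn F z X E) {s : G}
    (hs : s ∈ normalizer (X : Set G)) (hz : s * z = z * s) : IsLn F z X (cj s E) where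
  le := by
    have := cj_mono (g := s) hE.le
    rwa [cj_eq_of_mem_normalizer hs] at this
  card := by rw [card_cj, hE.card]
  mem := by
    rw [mem_cj]
    have : s⁻¹ * z * s = z := by rw [mul_assoc, ← hz, inv_mul_cancel_left]
    rw [this]; exact hE.mem
  full := by
    rintro _ ⟨e, he, rfl⟩ h1
    refine h.cjF s e (hE.full e he ?_)
    rintro rfl
    exact h1 (map_one _)

/-- an element fixing `z` and a line: its commutators with the line are in `⟨z⟩` -/
theorem IsLn.comm (h : Fam 2 UU VV F) {X E : Subgroup G} (hX : X ∈ UU) {z : G} (hE : IsLn F z X E) (hz1 : z ≠ 1)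
    {s : G} (hz : s * z = z * s) (hsE : s ∈ normalizer (E : Set G)) {e : G} (he : e ∈ E) :
    s * e * s⁻¹ * e⁻¹ = 1 ∨ s * e * s⁻¹ * e⁻¹ = z := by
  by_cases he1 : e = 1
  · left; subst he1; group
  by_cases hez : e = z
  · left; subst hez
    rw [hz]; group
  have hz2 : z * z = 1 := h.sq X hX z (hE.le hE.mem)
  have he2 : e * e = 1 := h.sq X hX e (hE.le he)
  have hc : z * e = e * z := h.comm X hX z (hE.le hE.mem) e (hE.le he)
  have hmem : s * e * s⁻¹ ∈ E := (mem_normalizer_iff.1 hsE e).1 he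
  have hsz : s * z * s⁻¹ = z := by rw [hz, mul_inv_cancel_right]
  rcases four_cases hE.card hz2 he2 hc hE.mem he hz1 he1 (Ne.symm hez) hmem with h0 | h0 | h0 | h0
  · exact absurd (by rwa [conj_eq_one_iff] at h0) he1
  · refine absurd ?_ hez
    have h4 : s * e * s⁻¹ = s * z * s⁻¹ := by rw [h0, hsz]
    exact mul_left_cancel (mul_right_cancel h4)
  · left; rw [h0, mul_inv_cancel]
  · right; rw [h0, mul_inv_cancel_right]

/-- two different lines: all lines -/
theorem Fam.exists_lines (h : Fam 2 UU VV F) {X : Subgroup G} (hX : X ∈ UU) {z : G} (hz : z ∈ X) (hzF : z ∈ F) :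
    ∃ E₁ E₂ : Subgroup G, IsLn F z X E₁ ∧ IsLn F z X E₂ ∧ E₁ ≠ E₂ ∧
      ∀ E, IsLn F z X E → E = E₁ ∨ E = E₂ := by
  obtain ⟨A, hA, B, hB, hAB, hsup, hdis, hall, hF⟩ := h.exists_two hX
  have hAX : A ≤ X := by rw [hsup]; exact le_sup_left
  have hBX : B ≤ X := by rw [hsup]; exact le_sup_right
  have hcomm : ∀ a ∈ A, ∀ b ∈ B, a * b = b * a := fun a ha b hb => h.comm X hX a (hAX ha) b (hBX hb)
  have hz1 : z ≠ 1 := h.ne_one hX hzF
  have hfull : ∀ a ∈ A, ∀ b ∈ B, a ≠ 1 → b ≠ 1 → a * b ∈ F := by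
    intro a ha b hb ha1 hb1
    rw [hF _ (mul_mem (hAX ha) (hBX hb))]
    constructor
    · intro hm
      exact hb1 (Subgroup.disjoint_def.1 hdis ((Subgroup.mul_mem_cancel_left A ha).1 hm) hb)
    · intro hm
      exact ha1 (Subgroup.disjoint_def.1 hdis ha ((Subgroup.mul_mem_cancel_right B hb).1 hm))
  have hfull' : ∀ a ∈ A, ∀ b ∈ B, a * b ∈ F → a ≠ 1 ∧ b ≠ 1 := by
    intro a ha b hb hab
    obtain ⟨h1, h2⟩ := (hF _ (mul_mem (hAX ha) (hBX hb))).1 hab
    constructor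
    · rintro rfl
      exact h2 (by rwa [one_mul])
    · rintro rfl
      exact h1 (by rwa [mul_one])
  have hzz : z * z = 1 := h.sq X hX z hz
  obtain ⟨a0, ha0, b0, hb0, rfl⟩ := exists_comp hcomm (by rw [← hsup]; exact hz)
  obtain ⟨ha01, hb01⟩ := hfull' a0 ha0 b0 hb0 hzF
  obtain ⟨a1, ha1, ha11, ha10⟩ := exists_mem_ne (E := A) (by rw [h.card A hA]; omega) 1 a0
  obtain ⟨b1, hb1, hb11, hb10⟩ := exists_mem_ne (E := B) (by rw [h.card B hB]; omega) 1 b0
  have hsq : ∀ x ∈ X, x * x = 1 := h.sq X hX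
  have hmul : ∀ a ∈ A, ∀ b ∈ B, a0 * b0 * (a * b) = (a0 * a) * (b0 * b) := by
    intro a ha b hb
    rw [mul_assoc, ← mul_assoc b0 a b, ← hcomm a ha b0 hb0]
    simp only [mul_assoc]
  have hinv : ∀ x ∈ X, ∀ y ∈ X, x * y = 1 → x = y := by
    intro x hx y hy hxy
    calc x = x * (y * y) := by rw [hsq y hy, mul_one]
      _ = y := by rw [← mul_assoc, hxy, one_mul]
  have key : ∀ a ∈ A, ∀ b ∈ B, a ≠ 1 → a ≠ a0 → b ≠ 1 → b ≠ b0 →
      ∃ (h1 : (a * b) * (a * b) = 1) (h2 : a0 * b0 * (a * b) = a * b * (a0 * b0)),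
        IsLn F (a0 * b0) X (four (a0 * b0) (a * b) hzz h1 h2) := by
    intro a ha b hb h1 h2 h3 h4
    have hab : a * b ∈ X := mul_mem (hAX ha) (hBX hb)
    have e1 := hsq _ hab
    have e2 := h.comm X hX _ hz _ hab
    have hne1 : a * b ≠ 1 := h.ne_one hX (hfull a ha b hb h1 h3)
    refine ⟨e1, e2, ?_, ?_, ?_, ?_⟩
    · intro g hg
      rcases mem_four.1 hg with rfl | rfl | rfl | rfl
      · exact one_mem _
      · exact hz
      · exact hab
      · exact mul_mem hz hab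
    · refine card_four hzz e1 e2 hz1 hne1 ?_
      intro e
      exact h2 (comp_unique hdis ha0 ha hb0 hb e).1.symm
    · exact mem_four.2 (Or.inr (Or.inl rfl))
    · intro e he he1
      rcases mem_four.1 he with rfl | rfl | rfl | rfl
      · exact absurd rfl he1
      · exact hzF
      · exact hfull a ha b hb h1 h3
      · rw [hmul a ha b hb]
        refine hfull _ (mul_mem ha0 ha) _ (mul_mem hb0 hb) ?_ ?_
        · intro e
          exact h2 (hinv _ (hAX ha0) _ (hAX ha) e).symm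
        · intro e
          exact h4 (hinv _ (hBX hb0) _ (hBX hb) e).symm
  have hb01' : b0 * b1 ≠ 1 := fun e => hb10 (hinv _ (hBX hb0) _ (hBX hb1) e).symm
  have hb01'' : b0 * b1 ≠ b0 := fun e => hb11 (by simpa using e)
  obtain ⟨p1, p2, hE1⟩ := key a1 ha1 b1 hb1 ha11 ha10 hb11 hb10
  obtain ⟨q1, q2, hE2⟩ := key a1 ha1 (b0 * b1) (mul_mem hb0 hb1) ha11 ha10 hb01' hb01''
  refine ⟨_, _, hE1, hE2, ?_, ?_⟩
  · intro heq
    have hm : a1 * (b0 * b1) ∈ four (a0 * b0) (a1 * (b0 * b1)) hzz q1 q2 := mem_four.2 (Or.inr (Or.inr (Or.inl rfl)))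
    rw [← heq] at hm
    rcases mem_four.1 hm with e | e | e | e
    · have := comp_unique hdis ha1 (one_mem A) (mul_mem hb0 hb1) (one_mem B) (by rw [e, one_mul])
      exact ha11 this.1
    · exact ha10 (comp_unique hdis ha1 ha0 (mul_mem hb0 hb1) hb0 e).1
    · have := (comp_unique hdis ha1 ha1 (mul_mem hb0 hb1) hb1 e).2
      exact hb01 (by simpa using this)
    · rw [hmul a1 ha1 b1 hb1] at e
      have := (comp_unique hdis ha1 (mul_mem ha0 ha1) (mul_mem hb0 hb1) (mul_mem hb0 hb1) e).1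
      exact ha01 (by simpa using this)
  · intro E hE
    obtain ⟨e, he, he1, hez⟩ := hE.exists_mem
    obtain ⟨a, ha, b, hb, rfl⟩ := exists_comp hcomm (by rw [← hsup]; exact hE.le he)
    obtain ⟨ha', hb'⟩ := hfull' a ha b hb (hE.full _ he he1)
    have hmem : a0 * b0 * (a * b) ∈ E := mul_mem hE.mem he
    have hne : a0 * b0 * (a * b) ≠ 1 := by
      intro e
      exact hez (hinv _ hz _ (hE.le he) e).symm
    have hfl := hE.full _ hmem hne
    rw [hmul a ha b hb] at hfl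
    obtain ⟨haa, hbb⟩ := hfull' _ (mul_mem ha0 ha) _ (mul_mem hb0 hb) hfl
    have haa' : a ≠ a0 := by
      rintro rfl
      exact haa (hsq _ (hAX ha))
    have hbb' : b ≠ b0 := by
      rintro rfl
      exact hbb (hsq _ (hBX hb))
    have hA4 : a = a1 ∨ a = a0 * a1 := by
      rcases four_cases (h.card A hA) (hsq _ (hAX ha0)) (hsq _ (hAX ha1)) (h.comm X hX _ (hAX ha0) _ (hAX ha1))
        ha0 ha1 ha01 ha11 ha10.symm ha with e | e | e | e
      · exact absurd e ha'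
      · exact absurd e haa'
      · exact Or.inl e
      · exact Or.inr e
    have hB4 : b = b1 ∨ b = b0 * b1 := by
      rcases four_cases (h.card B hB) (hsq _ (hBX hb0)) (hsq _ (hBX hb1)) (h.comm X hX _ (hBX hb0) _ (hBX hb1))
        hb0 hb1 hb01 hb11 hb10.symm hb with e | e | e | e
      · exact absurd e hb'
      · exact absurd e hbb'
      · exact Or.inl e
      · exact Or.inr e
    have hfin : (a1 * b1 ∈ E) ∨ (a1 * (b0 * b1) ∈ E) := by
      have e1 : a0 * (a0 * a1) = a1 := by rw [← mul_assoc, hsq _ (hAX ha0), one_mul]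
      have e2 : b0 * (b0 * b1) = b1 := by rw [← mul_assoc, hsq _ (hBX hb0), one_mul]
      rcases hA4 with rfl | rfl <;> rcases hB4 with rfl | rfl
      · exact Or.inl he
      · exact Or.inr he
      · right
        rw [hmul _ (mul_mem ha0 ha1) _ hb1, e1] at hmem
        exact hmem
      · left
        rw [hmul _ (mul_mem ha0 ha1) _ (mul_mem hb0 hb1), e1, e2] at hmem
        exact hmem
    rcases hfin with hm | hm
    · left
      refine OmPair.eq_four hE.card _ _ _ hE.mem hm hz1 ?_ ?_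
      · exact h.ne_one hX (hfull _ ha1 _ hb1 ha11 hb11)
      · intro e
        exact ha10 (comp_unique hdis ha0 ha1 hb0 hb1 e).1.symm
    · right
      refine OmPair.eq_four hE.card _ _ _ hE.mem hm hz1 ?_ ?_
      · exact h.ne_one hX (hfull _ ha1 _ (mul_mem hb0 hb1) ha11 hb01')
      · intro e
        exact ha10 (comp_unique hdis ha0 ha1 hb0 (mul_mem hb0 hb1) e).1.symm

theorem Fam.line_cases (h : Fam 2 UU VV F) {X : Subgroup G} (hX : X ∈ UU) {z : G} (hzF : z ∈ F)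
    {E₁ E₂ E : Subgroup G} (h1 : IsLn F z X E₁) (h2 : IsLn F z X E₂) (hne : E₁ ≠ E₂) (hE : IsLn F z X E) :
    E = E₁ ∨ E = E₂ := by
  obtain ⟨K₁, K₂, k1, k2, kne, kall⟩ := h.exists_lines hX (h1.le h1.mem) hzF
  rcases kall _ h1 with rfl | rfl <;> rcases kall _ h2 with rfl | rfl
  · exact absurd rfl hne
  · exact kall _ hE
  · exact (kall _ hE).symm
  · exact absurd rfl hne

theorem Fam.line_inf (h : Fam 2 UU VV F) {X : Subgroup G} (hX : X ∈ UU) {z : G} (hzF : z ∈ F)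
    {E₁ E₂ : Subgroup G} (h1 : IsLn F z X E₁) (h2 : IsLn F z X E₂) (hne : E₁ ≠ E₂) {x : G} (hx1 : x ∈ E₁)
    (hx2 : x ∈ E₂) : x = 1 ∨ x = z := by
  by_contra hcon
  rw [not_or] at hcon
  have hz1 := h.ne_one hX hzF
  have hzX := h1.le h1.mem
  have hxX := h1.le hx1
  apply hne
  rw [h1.eq_four hz1 hx1 hcon.1 hcon.2 (h.sq X hX z hzX) (h.sq X hX x hxX) (h.comm X hX z hzX x hxX),
    ← h2.eq_four hz1 hx2 hcon.1 hcon.2]

theorem Fam.line_sup (h : Fam 2 UU VV F) {X : Subgroup G} (hX : X ∈ UU) {z : G} (hzF : z ∈ F)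
    {E₁ E₂ : Subgroup G} (h1 : IsLn F z X E₁) (h2 : IsLn F z X E₂) (hne : E₁ ≠ E₂) :
    Nat.card (E₁ ⊔ E₂ : Subgroup G) = 8 ∧ (∃ u ∈ E₁ ⊔ E₂, u ≠ 1 ∧ u ∉ F) ∧
      ∀ x ∈ X, ∀ y ∈ X, x ∉ E₁ ⊔ E₂ → y ∉ E₁ ⊔ E₂ → x * y ∈ E₁ ⊔ E₂ := by
  have hz1 := h.ne_one hX hzF
  have hn : E₁ ≤ normalizer (E₂ : Set G) := le_normalizer_of_forall fun a ha b hb => by
    rw [h.comm X hX a (h1.le ha) b (h2.le hb), mul_inv_cancel_right]; exact hb
  have hcard := card_sup_mul_card_inf hn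
  have hset : ((E₁ ⊓ E₂ : Subgroup G) : Set G) = {1, z} := by
    ext x
    simp only [SetLike.mem_coe, mem_inf, Set.mem_insert_iff, Set.mem_singleton_iff]
    constructor
    · rintro ⟨hx1, hx2⟩
      exact h.line_inf hX hzF h1 h2 hne hx1 hx2
    · rintro (rfl | rfl)
      · exact ⟨one_mem _, one_mem _⟩
      · exact ⟨h1.mem, h2.mem⟩
  have hinf : Nat.card (E₁ ⊓ E₂ : Subgroup G) = 2 := by
    have hc : Nat.card (E₁ ⊓ E₂ : Subgroup G) = Set.ncard ((E₁ ⊓ E₂ : Subgroup G) : Set G) := rfl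
    rw [hc, hset, Set.ncard_pair hz1.symm]
  rw [hinf, h1.card, h2.card] at hcard
  have h8 : Nat.card (E₁ ⊔ E₂ : Subgroup G) = 8 := by omega
  have hle : E₁ ⊔ E₂ ≤ X := sup_le h1.le h2.le
  refine ⟨h8, ?_, ?_⟩
  · by_contra hcon
    push Not at hcon
    have := h.card_le_four hX hle hcon
    omega
  · intro x hx y hy hx' hy'
    have hrel := card_mul_relIndex' hle
    rw [h8, h.card_eq hX] at hrel
    have h2' : ((E₁ ⊔ E₂ : Subgroup G).subgroupOf X).index = 2 := by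
      change (E₁ ⊔ E₂ : Subgroup G).relIndex X = 2
      omega
    have := (Subgroup.mul_mem_iff_of_index_two h2' (a := ⟨x, hx⟩) (b := ⟨y, hy⟩)).2
      (by simp [mem_subgroupOf, hx', hy'])
    exact this

omit [Finite G] in
/-- the action of an element whose commutators lie in a line is determined by the line -/
theorem Fam.unique_act (h : Fam 2 UU VV F) {X : Subgroup G} (hX : X ∈ UU) {z : G} {E : Subgroup G}
    (hE : IsLn F z X E) {s s' : G} (hs : s ∈ normalizer (X : Set G)) (hs' : s' ∈ normalizer (X : Set G))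
    (hc : ∀ x ∈ X, s * x * s⁻¹ * x⁻¹ ∈ E) (hc' : ∀ x ∈ X, s' * x * s'⁻¹ * x⁻¹ ∈ E)
    (hn : ∃ x ∈ X, s * x ≠ x * s) (hn' : ∃ x ∈ X, s' * x ≠ x * s') :
    ∀ x ∈ X, s * x * s⁻¹ = s' * x * s'⁻¹ := by
  obtain ⟨A, hA, B, hB, hAB, hsup, hdis, hall, hF⟩ := h.exists_two hX
  have hAX : A ≤ X := by rw [hsup]; exact le_sup_left
  have hBX : B ≤ X := by rw [hsup]; exact le_sup_right
  have hcomm : ∀ a ∈ A, ∀ b ∈ B, a * b = b * a := fun a ha b hb => h.comm X hX a (hAX ha) b (hBX hb)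
  have hEV : ∀ V ∈ VV, V ≤ X → ∀ e ∈ E, e ∈ V → e = 1 := by
    intro V hV hVX e he heV
    by_contra he1
    exact h.not_F hX hV hVX heV (hE.full e he he1)
  have key : ∀ s : G, s ∈ normalizer (X : Set G) → (∀ x ∈ X, s * x * s⁻¹ * x⁻¹ ∈ E) →
      (∃ x ∈ X, s * x ≠ x * s) → Geo.cj s A = B ∧ Geo.cj s B = A := by
    intro s hs hc hn
    -- a member of `VV` fixed by `s` is centralised by `s`
    have hcen : ∀ V ∈ VV, V ≤ X → Geo.cj s V = V → ∀ v ∈ V, s * v = v * s := by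
      intro V hV hVX hfix v hv
      have hm : s * v * s⁻¹ ∈ V := by
        have := conj_mem_cj (g := s) hv
        rwa [hfix] at this
      have := hEV V hV hVX _ (hc v (hVX hv)) (mul_mem hm (inv_mem hv))
      calc s * v = (s * v * s⁻¹ * v⁻¹) * (v * s) := by group
        _ = v * s := by rw [this, one_mul]
    have hAcj := h.cj_V hA hAX hs
    have hBcj := h.cj_V hB hBX hs
    have hne : Geo.cj s A ≠ Geo.cj s B := by
      intro e
      apply hAB
      rw [← Geo.cj_inv_cj s A, e, Geo.cj_inv_cj]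
    rcases hall _ hAcj.1 hAcj.2 with hA1 | hA1 <;> rcases hall _ hBcj.1 hBcj.2 with hB1 | hB1
    · exact absurd (hA1.trans hB1.symm) hne
    · exfalso
      obtain ⟨x, hx, hxn⟩ := hn
      refine hxn (h.comm_of_V hX (w := s) ?_ x hx)
      intro V hV hVX
      rcases hall V hV hVX with rfl | rfl
      · exact hcen _ hA hAX hA1
      · exact hcen _ hB hBX hB1
    · exact ⟨hA1, hB1⟩
    · exact absurd (hA1.trans hB1.symm) hne
  obtain ⟨k1, k2⟩ := key s hs hc hn
  obtain ⟨k1', k2'⟩ := key s' hs' hc' hn'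
  have hV : ∀ V ∈ VV, V ≤ X → (∀ v ∈ V, ∃ V' ∈ VV, V' ≤ X ∧ s * v * s⁻¹ ∈ V' ∧ s' * v * s'⁻¹ ∈ V') →
      ∀ v ∈ V, s * v * s⁻¹ = s' * v * s'⁻¹ := by
    intro V hV hVX hex v hv
    obtain ⟨V', hV', hVX', h1, h2⟩ := hex v hv
    have hm : (s * v * s⁻¹) * (s' * v * s'⁻¹)⁻¹ ∈ E := by
      have := mul_mem (hc v (hVX hv)) (inv_mem (hc' v (hVX hv)))
      have e : s * v * s⁻¹ * v⁻¹ * (s' * v * s'⁻¹ * v⁻¹)⁻¹ = (s * v * s⁻¹) * (s' * v * s'⁻¹)⁻¹ := by group
      rwa [e] at this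
    have := hEV V' hV' hVX' _ hm (mul_mem h1 (inv_mem h2))
    exact mul_inv_eq_one.1 this
  have hAa := hV A hA hAX (fun v hv => ⟨B, hB, hBX, by rw [← k1]; exact conj_mem_cj hv,
    by rw [← k1']; exact conj_mem_cj hv⟩)
  have hBb := hV B hB hBX (fun v hv => ⟨A, hA, hAX, by rw [← k2]; exact conj_mem_cj hv,
    by rw [← k2']; exact conj_mem_cj hv⟩)
  intro x hx
  obtain ⟨a, ha, b, hb, rfl⟩ := exists_comp hcomm (by rw [← hsup]; exact hx)
  calc s * (a * b) * s⁻¹ = (s * a * s⁻¹) * (s * b * s⁻¹) := by group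
    _ = (s' * a * s'⁻¹) * (s' * b * s'⁻¹) := by rw [hAa a ha, hBb b hb]
    _ = s' * (a * b) * s'⁻¹ := by group

/-- an element normalising `X`, fixing `z` and a line: it fixes the other line, all commutators are in
`E₁ ⊔ E₂`, those of `E₁ ⊔ E₂` in `⟨z⟩` -/
theorem Fam.fix_line (h : Fam 2 UU VV F) {X : Subgroup G} (hX : X ∈ UU) {z : G} (hzF : z ∈ F)
    {E₁ E₂ : Subgroup G} (h1 : IsLn F z X E₁) (h2 : IsLn F z X E₂) (hne : E₁ ≠ E₂)
    {s : G} (hs : s ∈ normalizer (X : Set G)) (hz : s * z = z * s) (hsE : s ∈ normalizer (E₁ : Set G)) :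
    s ∈ normalizer (E₂ : Set G) := by
  rw [mem_normalizer_iff_cj]
  have h2' : IsLn F z X (Geo.cj s E₂) := IsLn.cj h h2 hs hz
  rcases h.line_cases hX hzF h1 h2 hne h2' with e | e
  · exfalso
    apply hne
    rw [← Geo.cj_inv_cj s E₂, e, ← cj_eq_of_mem_normalizer hsE, Geo.cj_inv_cj]
    exact cj_eq_of_mem_normalizer hsE
  · exact e

theorem Fam.comm_mem (h : Fam 2 UU VV F) {X : Subgroup G} (hX : X ∈ UU) {z : G} (hzF : z ∈ F)
    {E₁ E₂ : Subgroup G} (h1 : IsLn F z X E₁) (h2 : IsLn F z X E₂) (hne : E₁ ≠ E₂)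
    {s : G} (hs : s ∈ normalizer (X : Set G)) (hz : s * z = z * s) (hsE : s ∈ normalizer (E₁ : Set G)) :
    (∀ x ∈ X, s * x * s⁻¹ * x⁻¹ ∈ E₁ ⊔ E₂) ∧
      ∀ x ∈ E₁ ⊔ E₂, s * x * s⁻¹ * x⁻¹ = 1 ∨ s * x * s⁻¹ * x⁻¹ = z := by
  have hz1 := h.ne_one hX hzF
  have hsE2 := h.fix_line hX hzF h1 h2 hne hs hz hsE
  obtain ⟨h8, -, hind⟩ := h.line_sup hX hzF h1 h2 hne
  have hle : E₁ ⊔ E₂ ≤ X := sup_le h1.le h2.le
  have hzz : z * z = 1 := h.sq X hX z (h1.le h1.mem)
  have hsN : Geo.cj s (E₁ ⊔ E₂) = E₁ ⊔ E₂ := by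
    change (E₁ ⊔ E₂).map _ = _
    rw [Subgroup.map_sup]
    exact congrArg₂ (· ⊔ ·) (cj_eq_of_mem_normalizer hsE) (cj_eq_of_mem_normalizer hsE2)
  have hmem : ∀ x, s * x * s⁻¹ ∈ E₁ ⊔ E₂ ↔ x ∈ E₁ ⊔ E₂ := by
    intro x
    exact ((mem_normalizer_iff.1 (mem_normalizer_iff_cj.2 hsN)) x).symm
  constructor
  · intro x hx
    by_cases hxE : x ∈ E₁ ⊔ E₂
    · exact mul_mem ((hmem x).2 hxE) (inv_mem hxE)
    · refine hind _ ((mem_normalizer_iff.1 hs x).1 hx) _ (inv_mem hx) (fun h' => hxE ((hmem x).1 h')) ?_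
      exact fun h' => hxE (inv_mem_iff.1 h')
  · intro x hx
    obtain ⟨a, ha, b, hb, rfl⟩ := exists_comp (fun a ha b hb => h.comm X hX a (h1.le ha) b (h2.le hb)) hx
    have hb' : s * b * s⁻¹ ∈ X := (mem_normalizer_iff.1 hs b).1 (h2.le hb)
    have e : s * (a * b) * s⁻¹ * (a * b)⁻¹ = (s * a * s⁻¹ * a⁻¹) * (s * b * s⁻¹ * b⁻¹) := by
      have e1 : a⁻¹ * (s * b * s⁻¹ * b⁻¹) = (s * b * s⁻¹ * b⁻¹) * a⁻¹ :=
        h.comm X hX _ (inv_mem (h1.le ha)) _ (mul_mem hb' (inv_mem (h2.le hb)))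
      calc s * (a * b) * s⁻¹ * (a * b)⁻¹ = (s * a * s⁻¹) * ((s * b * s⁻¹ * b⁻¹) * a⁻¹) := by group
        _ = (s * a * s⁻¹ * a⁻¹) * (s * b * s⁻¹ * b⁻¹) := by rw [← e1]; group
    rw [e]
    rcases h1.comm h hX hz1 hz hsE ha with e1 | e1 <;> rcases h2.comm h hX hz1 hz hsE2 hb with e2 | e2
    · left; rw [e1, e2, mul_one]
    · right; rw [e1, e2, one_mul]
    · right; rw [e1, e2, mul_one]
    · left; rw [e1, e2, hzz]

/-- the transvection `t` of `Vert` swaps the two lines -/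
theorem Fam.swap (h : Fam 2 UU VV F) {X : Subgroup G} (hX : X ∈ UU) {z : G} (hzF : z ∈ F) {V : Subgroup G}
    (hV : V ∈ VV) (hVX : V ≤ X) {t : G} (ht : t ∈ normalizer (X : Set G)) (htz : t * z = z * t)
    (ht1 : ∃ v ∈ V, t * v ≠ v * t) (ht2 : ∀ V' ∈ VV, V' ≤ X → V' ≠ V → ∀ v ∈ V', t * v = v * t)
    {E : Subgroup G} (hE : IsLn F z X E) : Geo.cj t E ≠ E := by
  intro hfix
  have hz1 := h.ne_one hX hzF
  have htE : t ∈ normalizer (E : Set G) := mem_normalizer_iff_cj.2 hfix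
  obtain ⟨B, hB, hBX, hBV⟩ : ∃ B ∈ VV, B ≤ X ∧ B ≠ V := by
    obtain ⟨A, hA, B, hB, hAB, hsup, hdis, hall, hF⟩ := h.exists_two hX
    by_cases hAV : A = V
    · exact ⟨B, hB, by rw [hsup]; exact le_sup_right, fun e => hAB (hAV.trans e.symm)⟩
    · exact ⟨A, hA, by rw [hsup]; exact le_sup_left, hAV⟩
  obtain ⟨hall, hsup, hdis, hF⟩ := h.two hX hV hVX hB hBX (Ne.symm hBV)
  have htB := ht2 B hB hBX hBV
  have htBc : Geo.cj t B = B := by
    refine Subgroup.eq_of_le_of_card_ge ?_ (by rw [card_cj])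
    rintro _ ⟨b, hb, rfl⟩
    change t * b * t⁻¹ ∈ B
    rw [htB b hb, mul_inv_cancel_right]; exact hb
  have htVc : Geo.cj t V = V := by
    obtain ⟨c1, c2⟩ := h.cj_V hV hVX ht
    rcases hall _ c1 c2 with e | e
    · exact e
    · exfalso
      apply hBV
      rw [← Geo.cj_inv_cj t V, e, ← htBc, Geo.cj_inv_cj]
      exact htBc
  have hcomm : ∀ a ∈ V, ∀ b ∈ B, a * b = b * a := fun a ha b hb => h.comm X hX a (hVX ha) b (hBX hb)
  -- `t` centralises `E`
  have htEc : ∀ e ∈ E, t * e = e * t := by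
    intro e he
    obtain ⟨a, ha, b, hb, rfl⟩ := exists_comp hcomm (by rw [← hsup]; exact hE.le he)
    have e1 : t * (a * b) * t⁻¹ * (a * b)⁻¹ = t * a * t⁻¹ * a⁻¹ := by
      have e2 : t * b * t⁻¹ * b⁻¹ = 1 := by rw [htB b hb]; group
      calc t * (a * b) * t⁻¹ * (a * b)⁻¹ = (t * a * t⁻¹) * (t * b * t⁻¹ * b⁻¹) * a⁻¹ := by group
        _ = t * a * t⁻¹ * a⁻¹ := by rw [e2, mul_one]
    have hm : t * a * t⁻¹ * a⁻¹ ∈ V := by
      refine mul_mem ?_ (inv_mem ha)
      have := conj_mem_cj (g := t) ha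
      rwa [htVc] at this
    have h1 : t * (a * b) * t⁻¹ * (a * b)⁻¹ = 1 := by
      rcases hE.comm h hX hz1 htz htE he with h0 | h0
      · exact h0
      · exfalso
        rw [e1] at h0
        rw [h0] at hm
        exact h.not_F hX hV hVX hm hzF
    calc t * (a * b) = (t * (a * b) * t⁻¹ * (a * b)⁻¹) * (a * b * t) := by group
      _ = a * b * t := by rw [h1, one_mul]
  -- `X = E B`
  have hinf : E ⊓ B = ⊥ := by
    rw [eq_bot_iff]
    intro x hx
    obtain ⟨hx1, hx2⟩ := mem_inf.1 hx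
    rw [mem_bot]
    by_contra hx0
    exact h.not_F hX hB hBX hx2 (hE.full x hx1 hx0)
  have hn : E ≤ normalizer (B : Set G) := le_normalizer_of_forall fun a ha b hb => by
    rw [h.comm X hX a (hE.le ha) b (hBX hb), mul_inv_cancel_right]; exact hb
  have hcard := card_sup_mul_card_inf hn
  rw [hinf, Subgroup.card_bot, hE.card, h.card B hB, mul_one] at hcard
  have hXE : E ⊔ B = X := Subgroup.eq_of_le_of_card_ge (sup_le hE.le hBX) (by rw [hcard, h.card_eq hX])
  have hle : E ⊔ B ≤ centralizer ({t} : Set G) := by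
    refine sup_le (fun e he => ?_) (fun b hb => ?_)
    · rw [mem_centralizer_singleton_iff]; exact (htEc e he).symm
    · rw [mem_centralizer_singleton_iff]; exact (htB b hb).symm
  obtain ⟨v, hv, hvn⟩ := ht1
  exact hvn (mem_centralizer_singleton_iff.1 (hle (by rw [hXE]; exact hVX hv))).symm

end lines

end Cfsg.Agent.MinSimple.OmPair
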