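import Mathlib
import Cfsg.Agent.SolvableStructure.MinimalNormal
import Cfsg.Agent.SolvableStructure.KegelNormal

/-!
# Core theorem T, case (Omega): the primitive section (Step 1 of row 4061)

`H < C` of odd index, `C` solvable: `H` is maximal in some `D ≤ C`; `Q` = the core of `H` in `D`, `N / Q` the
minimal normal subgroup of `D / Q`.
-/

set_option autoImplicit false

namespace Cfsg.Agent.MinSimple.OmegaPrim

open Subgroup

universe u

/-- The ambient version: `H` maximal in `K`. -/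
theorem exists_prim_aux {K : Type u} [Group K] [Finite K] [Group.IsSolvable K] {H : Subgroup K}
    (hH : IsCoatom H) (hodd : ¬ 2 ∣ H.index) :
    ∃ (N Q : Subgroup K) (p : ℕ), Q ≤ N ∧ Q ≤ H ∧ N.Normal ∧ Q.Normal ∧ p.Prime ∧ p ≠ 2 ∧
      (∀ a ∈ N, ∀ b ∈ N, a * b * a⁻¹ * b⁻¹ ∈ Q) ∧ (∀ a ∈ N, a ^ p ∈ Q) ∧ Q ≠ N ∧
      (∀ a ∈ N, a ∈ H → a ∈ Q) ∧ (∀ d : K, ∃ n ∈ N, ∃ m ∈ H, d = n * m) ∧
      (∀ d : K, (∀ n ∈ N, d * n * d⁻¹ * n⁻¹ ∈ Q) → d ∈ N) ∧
      (∀ X : Subgroup K, Q ≤ X → X ≤ N → (∀ d ∈ H, ∀ x ∈ X, d * x * d⁻¹ ∈ X) → X = Q ∨ X = N) := by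
  classical
  set Q := H.normalCore with hQ
  have hQn : Q.Normal := Subgroup.normalCore_normal H
  have hQH : Q ≤ H := Subgroup.normalCore_le H
  have hntop : Q ≠ ⊤ := fun h => hH.1 (top_le_iff.mp (h ▸ hQH))
  have hnt : Nontrivial (K ⧸ Q) := by
    obtain ⟨x, hx⟩ : ∃ x : K, x ∉ Q := by
      by_contra hcon
      push Not at hcon
      exact hntop (Subgroup.eq_top_iff' Q |>.mpr hcon)
    exact ⟨(QuotientGroup.mk' Q) x, 1, fun h => hx ((QuotientGroup.eq_one_iff x).mp h)⟩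
  have htop : (⊤ : Subgroup (K ⧸ Q)) ≠ ⊥ := by
    rw [← Subgroup.nontrivial_iff_ne_bot]
    infer_instance
  obtain ⟨Nb, hNbn, -, hNb1, hNbmin⟩ := SolvableStructure.KegelNormal.exists_minimal_normal_le
    (⊤ : Subgroup (K ⧸ Q)) inferInstance htop
  have hsolv : Group.IsSolvable (K ⧸ Q) := inferInstance
  have hmin : ∀ L : Subgroup (K ⧸ Q), L.Normal → L ≤ Nb → L = ⊥ ∨ L = Nb := by
    intro L hL hLN
    by_cases h : L = ⊥
    · exact Or.inl h
    · exact Or.inr (hNbmin L hL hLN h)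
  have hcomm := SolvableStructure.MinimalNormal.comm_of_minimal_normal Nb hNb1 hmin
  obtain ⟨p, d, hp, hd, hcard, hpow⟩ :=
    SolvableStructure.MinimalNormal.exists_prime_of_minimal_normal Nb hNb1 hmin
  set π := QuotientGroup.mk' Q with hπ
  have hker : π.ker = Q := QuotientGroup.ker_mk' Q
  have hmem : ∀ x : K, x ∈ Q ↔ π x = 1 := fun x => (QuotientGroup.eq_one_iff x).symm
  have hsurj : Function.Surjective π := QuotientGroup.mk'_surjective Q
  set N := Nb.comap π with hN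
  have hNn : N.Normal := hNbn.comap π
  have hQN : Q ≤ N := by
    intro q hq
    rw [hN, mem_comap, (hmem q).mp hq]
    exact one_mem _
  have hNne : Q ≠ N := by
    intro h
    apply hNb1
    rw [eq_bot_iff]
    intro y hy
    obtain ⟨x, rfl⟩ := hsurj y
    have : x ∈ Q := by rw [h]; exact hy
    rw [mem_bot]
    exact (hmem x).mp this
  have hNc : ∀ a ∈ N, ∀ b ∈ N, a * b * a⁻¹ * b⁻¹ ∈ Q := by
    intro a ha b hb
    rw [hmem, map_mul, map_mul, map_mul, map_inv, map_inv, hcomm _ ha _ hb]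
    group
  have hNH : ¬ N ≤ H := by
    intro h
    have h1 : N ≤ Q := Subgroup.normal_le_normalCore.mpr h
    exact hNne (le_antisymm hQN h1)
  have hsup : N ⊔ H = ⊤ := by
    refine hH.2 _ (lt_of_le_of_ne le_sup_right fun h => hNH ?_)
    rw [h]; exact le_sup_left
  have hdec : ∀ d : K, ∃ n ∈ N, ∃ m ∈ H, d = n * m := by
    intro d
    have h1 : d ∈ N ⊔ H := by rw [hsup]; trivial
    obtain ⟨n, hn, m, hm, h2⟩ := Subgroup.mem_sup_of_normal_left.mp h1
    exact ⟨n, hn, m, hm, h2.symm⟩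
  have hinter : ∀ a ∈ N, a ∈ H → a ∈ Q := by
    intro a ha haH
    change ∀ g : K, g * a * g⁻¹ ∈ H
    intro g
    obtain ⟨n, hn, m, hm, rfl⟩ := hdec g
    have e : n * m * a * (n * m)⁻¹ =
        (n * (m * a * m⁻¹) * n⁻¹ * (m * a * m⁻¹)⁻¹) * (m * a * m⁻¹) := by group
    rw [e]
    refine H.mul_mem (hQH (hNc n hn _ (hNn.conj_mem a ha m))) ?_
    exact H.mul_mem (H.mul_mem hm haH) (H.inv_mem hm)
  refine ⟨N, Q, p, hQN, hQH, hNn, hQn, hp, ?_, hNc, ?_, hNne, hinter, hdec, ?_, ?_⟩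
  · -- `p` is odd
    intro hp2
    subst hp2
    apply hodd
    have h1 : Nat.card Nb = Q.relIndex N := by
      have h2 : N.map π = Nb := Subgroup.map_comap_eq_self_of_surjective hsurj Nb
      rw [← h2, ← relIndex_ker, hker]
    have h2 : Q.relIndex N = H.relIndex N := by
      have h3 : N ⊓ H = Q := le_antisymm (fun a ha => hinter a ha.1 ha.2) (le_inf hQN hQH)
      rw [← h3, inf_comm, Subgroup.inf_relIndex_right]
    have h3 : H.relIndex N ∣ H.index := by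
      have h4 : H.relIndex N = H.index := by
        rw [Subgroup.relIndex, Subgroup.index, Subgroup.index]
        refine Nat.card_congr (Equiv.ofBijective
          (Quotient.map' (fun n : N => (n : K)) ?_) ⟨?_, ?_⟩)
        · intro a b hab
          rw [QuotientGroup.leftRel_apply] at hab ⊢
          exact hab
        · intro a b
          induction a using Quotient.inductionOn'
          induction b using Quotient.inductionOn'
          intro h
          simp only [Quotient.map'_mk''] at h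
          refine Quotient.sound' ?_
          have h' := Quotient.exact' h
          rw [QuotientGroup.leftRel_apply] at h' ⊢
          exact h'
        · intro b
          induction b using Quotient.inductionOn' with
          | _ b =>
            obtain ⟨n, hn, m, hm, rfl⟩ := hdec b
            refine ⟨Quotient.mk'' ⟨n, hn⟩, ?_⟩
            simp only [Quotient.map'_mk'']
            refine Quotient.sound' ?_
            rw [QuotientGroup.leftRel_apply]
            have e : n⁻¹ * (n * m) = m := by group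
            rw [e]; exact hm
      rw [h4]
    refine dvd_trans ?_ h3
    rw [← h2, ← h1, hcard]
    exact dvd_pow_self 2 (by omega)
  · intro a ha
    rw [hmem, map_pow]
    exact hpow _ ha
  · intro d hd
    obtain ⟨n, hn, m, hm, rfl⟩ := hdec d
    refine N.mul_mem hn (hQN ?_)
    -- `m` centralises `N / Q`
    have hm' : ∀ x ∈ N, m * x * m⁻¹ * x⁻¹ ∈ Q := by
      intro x hx
      have h1 := hd x hx
      have h2 := hQn.conj_mem _ h1 n⁻¹
      have h3 : n⁻¹ * x * n * x⁻¹ ∈ Q := by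
        have := hNc n⁻¹ (N.inv_mem hn) x hx
        rwa [inv_inv] at this
      have e : m * x * m⁻¹ * x⁻¹ =
          (n⁻¹ * (n * m * x * (n * m)⁻¹ * x⁻¹) * n⁻¹⁻¹) * (n⁻¹ * x * n * x⁻¹) := by group
      rw [e]
      exact Q.mul_mem h2 h3
    change ∀ g : K, g * m * g⁻¹ ∈ H
    intro g
    obtain ⟨n', hn', m', hm'', rfl⟩ := hdec g
    -- `m₂ = m' m m'⁻¹` centralises `N / Q`
    have h5 : (m' * m * m'⁻¹) * n'⁻¹ * (m' * m * m'⁻¹)⁻¹ * n'⁻¹⁻¹ ∈ Q := by
      have h6 := hQn.conj_mem _ (hm' (m'⁻¹ * n'⁻¹ * m')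
        (by
          have := hNn.conj_mem n'⁻¹ (N.inv_mem hn') m'⁻¹
          rwa [inv_inv] at this)) m'
      have e : m' * (m * (m'⁻¹ * n'⁻¹ * m') * m⁻¹ * (m'⁻¹ * n'⁻¹ * m')⁻¹) * m'⁻¹ =
          (m' * m * m'⁻¹) * n'⁻¹ * (m' * m * m'⁻¹)⁻¹ * n'⁻¹⁻¹ := by group
      rwa [e] at h6
    have h7 := hQn.conj_mem _ h5 n'
    have e : n' * m' * m * (n' * m')⁻¹ =
        (n' * ((m' * m * m'⁻¹) * n'⁻¹ * (m' * m * m'⁻¹)⁻¹ * n'⁻¹⁻¹) * n'⁻¹) *
          (m' * m * m'⁻¹) := by group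
    rw [e]
    exact H.mul_mem (hQH h7) (H.mul_mem (H.mul_mem hm'' hm) (H.inv_mem hm''))
  · intro X hQX hXN hX
    have hXn : X.Normal := by
      refine ⟨fun x hx g => ?_⟩
      obtain ⟨n, hn, m, hm, rfl⟩ := hdec g
      have h1 := hX m hm x hx
      have e : n * m * x * (n * m)⁻¹ =
          (n * (m * x * m⁻¹) * n⁻¹ * (m * x * m⁻¹)⁻¹) * (m * x * m⁻¹) := by group
      rw [e]
      exact X.mul_mem (hQX (hNc n hn _ (hXN h1))) h1
    have h2 : (X.map π).Normal := hXn.map π hsurj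
    have h3 : X.map π ≤ Nb := by
      rw [Subgroup.map_le_iff_le_comap]
      exact hXN
    have h4 : (X.map π).comap π = X := by
      rw [Subgroup.comap_map_eq, hker]
      exact sup_eq_left.mpr hQX
    rcases hmin _ h2 h3 with h5 | h5
    · left
      rw [← h4, h5]
      exact hker
    · right
      rw [← h4, h5]

/-- `H < C` of odd index, `C` solvable. -/
theorem exists_prim {G : Type u} [Group G] [Finite G] {H C : Subgroup G} (hHC : H ≤ C) (hne : H ≠ C)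
    (hsolv : Group.IsSolvable C) (hodd : ¬ 2 ∣ H.relIndex C) :
    ∃ (D N Q : Subgroup G) (p : ℕ), H ≤ D ∧ D ≤ C ∧ H ≠ D ∧ N ≤ D ∧ Q ≤ N ∧ Q ≤ H ∧
      (∀ d ∈ D, ∀ n ∈ N, d * n * d⁻¹ ∈ N) ∧ (∀ d ∈ D, ∀ q ∈ Q, d * q * d⁻¹ ∈ Q) ∧
      p.Prime ∧ p ≠ 2 ∧
      (∀ a ∈ N, ∀ b ∈ N, a * b * a⁻¹ * b⁻¹ ∈ Q) ∧ (∀ a ∈ N, a ^ p ∈ Q) ∧ Q ≠ N ∧
      (∀ a ∈ N, a ∈ H → a ∈ Q) ∧ (∀ d ∈ D, ∃ n ∈ N, ∃ m ∈ H, d = n * m) ∧
      (∀ d ∈ D, (∀ n ∈ N, d * n * d⁻¹ * n⁻¹ ∈ Q) → d ∈ N) ∧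
      (∀ X : Subgroup G, Q ≤ X → X ≤ N → (∀ d ∈ H, ∀ x ∈ X, d * x * d⁻¹ ∈ X) → X = Q ∨ X = N) := by
  classical
  obtain ⟨D, hD⟩ := (Set.toFinite {D : Subgroup G | H ≤ D ∧ D ≤ C ∧ H ≠ D}).exists_minimal
    ⟨C, hHC, le_rfl, hne⟩
  obtain ⟨hHD, hDC, hHD'⟩ := hD.prop
  have hmax : ∀ L : Subgroup G, H ≤ L → L ≤ D → L = H ∨ L = D := by
    intro L h1 h2
    by_cases h : H = L
    · exact Or.inl h.symm
    · exact Or.inr (le_antisymm h2 (hD.le_of_le ⟨h1, h2.trans hDC, h⟩ h2))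
  have hsD : Group.IsSolvable D := by
    have := hsolv
    exact Group.isSolvable_of_isSolvable_injective (Subgroup.inclusion_injective hDC)
  have hco : IsCoatom (H.subgroupOf D) := by
    constructor
    · intro h
      rw [subgroupOf_eq_top] at h
      exact hHD' (le_antisymm hHD h)
    · intro L hL
      have h1 : (H.subgroupOf D).map D.subtype = H := by
        rw [subgroupOf_map_subtype]; exact inf_eq_left.mpr hHD
      have h2 : H ≤ L.map D.subtype := by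
        rw [← h1]; exact Subgroup.map_mono hL.le
      have h3 : L.map D.subtype ≤ D := map_subtype_le _
      rcases hmax _ h2 h3 with h4 | h4
      · exfalso
        refine hL.ne ?_
        apply Subgroup.map_injective D.subtype_injective
        rw [h1, h4]
      · apply Subgroup.map_injective D.subtype_injective
        rw [h4, ← MonoidHom.range_eq_map, range_subtype]
  have hodd' : ¬ 2 ∣ (H.subgroupOf D).index := by
    intro h
    apply hodd
    rw [← relIndex_mul_relIndex H D C hHD hDC]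
    exact Dvd.dvd.mul_right h _
  obtain ⟨N, Q, p, h1, h2, h3, h4, h5, h6, h7, h8, h9, h10, h11, h12, h13⟩ :=
    exists_prim_aux hco hodd'
  have hmapN : ∀ (X : Subgroup D) (a : G), a ∈ X.map D.subtype ↔ ∃ h : a ∈ D, (⟨a, h⟩ : D) ∈ X := by
    intro X a
    constructor
    · rintro ⟨x, hx, rfl⟩
      exact ⟨x.2, hx⟩
    · rintro ⟨h, hx⟩
      exact ⟨_, hx, rfl⟩
  refine ⟨D, N.map D.subtype, Q.map D.subtype, p, hHD, hDC, hHD', map_subtype_le _,
    Subgroup.map_mono h1, ?_, ?_, ?_, h5, h6, ?_, ?_, ?_, ?_, ?_, ?_, ?_⟩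
  · rintro _ ⟨q, hq, rfl⟩
    exact h2 hq
  · rintro d hd _ ⟨n, hn, rfl⟩
    exact ⟨_, h3.conj_mem n hn ⟨d, hd⟩, rfl⟩
  · rintro d hd _ ⟨n, hn, rfl⟩
    exact ⟨_, h4.conj_mem n hn ⟨d, hd⟩, rfl⟩
  · rintro _ ⟨a, ha, rfl⟩ _ ⟨b, hb, rfl⟩
    exact ⟨_, h7 a ha b hb, rfl⟩
  · rintro _ ⟨a, ha, rfl⟩
    exact ⟨_, h8 a ha, rfl⟩
  · intro h
    exact h9 (Subgroup.map_injective D.subtype_injective h)
  · rintro _ ⟨a, ha, rfl⟩ haH
    exact ⟨a, h10 a ha haH, rfl⟩
  · intro d hd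
    obtain ⟨n, hn, m, hm, h⟩ := h11 ⟨d, hd⟩
    exact ⟨n, ⟨n, hn, rfl⟩, m, hm, congrArg Subtype.val h⟩
  · intro d hd h
    refine ⟨⟨d, hd⟩, h12 ⟨d, hd⟩ fun n hn => ?_, rfl⟩
    obtain ⟨q, hq, hq'⟩ := h n ⟨n, hn, rfl⟩
    have : q = ⟨d, hd⟩ * n * ⟨d, hd⟩⁻¹ * n⁻¹ := Subtype.ext hq'
    rw [← this]; exact hq
  · intro X hQX hXN hX
    have hXD : X ≤ D := hXN.trans (map_subtype_le _)
    have e : (X.subgroupOf D).map D.subtype = X := by
      rw [subgroupOf_map_subtype]; exact inf_eq_left.mpr hXD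
    have h14 := h13 (X.subgroupOf D) (by
      intro q hq
      exact hQX ⟨q, hq, rfl⟩) (by
      intro x hx
      obtain ⟨n, hn, hn'⟩ := hXN hx
      have : n = x := Subtype.ext hn'
      rw [← this]; exact hn) (by
      intro d hd x hx
      exact hX d hd x hx)
    rcases h14 with h | h
    · left; rw [← e, h]
    · right; rw [← e, h]

end Cfsg.Agent.MinSimple.OmegaPrim
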