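import Cfsg.Agent.ZN.Block
import Cfsg.Agent.ZN.BOne
import Cfsg.Agent.ZN.FinalBridge
import Cfsg.Agent.Lib.NormalAbelian
import Cfsg.Agent.MinSimple.DBlkDefs
import Cfsg.Agent.MinSimple.PushOne
import Cfsg.Agent.MinSimple.SelfCentFour
import Cfsg.Agent.MinSimple.Killing
import Cfsg.Agent.MinSimple.Choice97

/-!
# The end of case C1 of the core theorem T

`L` is a dihedral block over the Baumann subgroup `B` of `T`, and `t` normalises `B` such that `V = zl B L` and its
conjugate `tVt⁻¹` do not commute.  Then `O₂(L) = V`, `B = V·tVt⁻¹`, `|Ω₁(Z(B))| ≤ 4`, and the group has `2`-rank at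
most two or a normal subgroup of index two.
-/

set_option autoImplicit false

namespace Cfsg.Agent.MinSimple.PushEnd

open Subgroup Cfsg
open Cfsg.Agent.ZN Cfsg.Agent.ZN.Block

universe u

variable {G : Type u} [Group G]

/-! ### Blocks -/

section blk

variable {B L : Subgroup G} {k : ℕ}

theorem vl_le_zl (B L : Subgroup G) : vl B L ≤ zl B L := Cfsg.Agent.ZN.Block.vl_le_zl B L

theorem vl_conj {B L : Subgroup G} {l v : G} (hl : l ∈ L) (hv : v ∈ vl B L) : l * v * l⁻¹ ∈ vl B L := by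
  have h1 : (vl B L).map (MulAut.conj l).toMonoidHom ≤ vl B L := by
    unfold vl
    rw [map_commutator]
    refine commutator_mono ?_ ?_
    · rintro _ ⟨x, hx, rfl⟩
      have := Block.zl_conj hl hx
      simpa using this
    · rintro _ ⟨x, hx, rfl⟩
      have := mul_mem (mul_mem hl hx) (inv_mem hl)
      simpa using this
  have h2 : (MulAut.conj l).toMonoidHom v ∈ vl B L := h1 ⟨v, hv, rfl⟩
  simpa using h2

theorem zc_le_o2 (h : IsDBlk B L k) : zc B ≤ o2 L := by
  rw [← h.cent_zl]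
  refine le_inf (zc_le B) (fun x hx => ?_)
  rw [mem_centralizer_iff]
  exact fun y hy => h.zl_comm y hy x (zc_le_zl B L hx)

theorem zl_le_o2 (h : IsDBlk B L k) : zl B L ≤ o2 L :=
  zl_le_of fun _ hl _ hx => o2_conj hl (zc_le_o2 h hx)

theorem zl_le_B (h : IsDBlk B L k) : zl B L ≤ B := (zl_le_o2 h).trans h.o2_le

theorem o2_comm (h : IsDBlk B L k) {q z : G} (hq : q ∈ o2 L) (hz : z ∈ zl B L) : q * z = z * q := by
  rw [← h.cent_zl] at hq
  exact (mem_centralizer_iff.mp hq.2 z hz).symm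

theorem mem_o2 (h : IsDBlk B L k) {b : G} (hb : b ∈ B) (hc : ∀ z ∈ zl B L, b * z = z * b) : b ∈ o2 L := by
  rw [← h.cent_zl]
  exact ⟨hb, mem_centralizer_iff.mpr (fun z hz => (hc z hz).symm)⟩

theorem o2_two (h : IsDBlk B L k) {s t : G} (hs : s ∈ B) (ht : t ∈ B) (hs' : s ∉ o2 L) (ht' : t ∉ o2 L) :
    s * t ∈ o2 L := mul_mem_of_relIndex_two h.o2_index hs ht hs' ht'

theorem zl_mul_self (h : IsDBlk B L k) {z : G} (hz : z ∈ zl B L) : z * z = 1 := by
  have := h.zl_sq z hz
  rwa [pow_two] at this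

theorem card_zc [Finite G] (h : IsDBlk B L k) : Nat.card (zc B) = 2 * Nat.card (rl B L) := by
  rw [← card_mul_relIndex' (rl_le B L), h.rl_index, mul_comm]

theorem card_zl [Finite G] (h : IsDBlk B L k) : Nat.card (zl B L) = 4 * Nat.card (rl B L) := by
  have hn : (rl B L : Subgroup G) ≤ normalizer (vl B L : Set G) := by
    refine le_normalizer_of_forall (fun r hr v hv => ?_)
    rw [h.zl_comm r (zc_le_zl B L (rl_le B L hr)) v (vl_le_zl B L hv), mul_inv_cancel_right]
    exact hv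
  have h1 := card_sup_mul_card_inf hn
  rw [h.sup_eq, h.disj, Subgroup.card_bot, mul_one, h.card_vl] at h1
  rw [h1, mul_comm]

theorem relIndex_zl [Finite G] (h : IsDBlk B L k) : (zc B).relIndex (zl B L) = 2 := by
  have h1 := card_mul_relIndex' (zc_le_zl B L)
  rw [card_zl h, card_zc h] at h1
  have h2 : 0 < Nat.card (rl B L) := Nat.card_pos
  have h3 : Nat.card (rl B L) * ((zc B).relIndex (zl B L) * 2) = Nat.card (rl B L) * 4 := by
    rw [← mul_comm 4, ← h1]; ring
  have := Nat.eq_of_mul_eq_mul_left h2 h3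
  omega

theorem zl_two [Finite G] (h : IsDBlk B L k) {z z' : G} (hz : z ∈ zl B L) (hz' : z' ∈ zl B L)
    (h1 : z ∉ zc B) (h2 : z' ∉ zc B) : z * z' ∈ zc B :=
  mul_mem_of_relIndex_two (relIndex_zl h) hz hz' h1 h2

theorem rl_two (h : IsDBlk B L k) {z z' : G} (hz : z ∈ zc B) (hz' : z' ∈ zc B)
    (h1 : z ∉ rl B L) (h2 : z' ∉ rl B L) : z * z' ∈ rl B L :=
  mul_mem_of_relIndex_two h.rl_index hz hz' h1 h2

theorem exists_B (h : IsDBlk B L k) : ∃ b ∈ B, b ∉ o2 L :=
  exists_not_mem_of_relIndex (by rw [h.o2_index]; norm_num)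

theorem exists_zl [Finite G] (h : IsDBlk B L k) : ∃ z ∈ zl B L, z ∉ zc B :=
  exists_not_mem_of_relIndex (by rw [relIndex_zl h]; norm_num)

/-- the distinguished involution of a block -/
theorem exists_z [Finite G] (h : IsDBlk B L k) : ∃ z : G, z ∈ zc B ∧ z ∈ vl B L ∧ z ≠ 1 ∧ z ∉ rl B L ∧
    (∀ x ∈ zc B, x ∈ vl B L → x = 1 ∨ x = z) ∧
    (∀ v ∈ zl B L, ∀ b ∈ B, v * b = b * v ∨ v * b = b * v * z) ∧
    ∃ y ∈ L, y * z * y⁻¹ ∈ vl B L ∧ y * z * y⁻¹ ∉ zc B := by
  -- two elements of `vl ∩ zc` differ by an element of `rl ∩ vl = 1`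
  have hrv : ∀ x, x ∈ rl B L → x ∈ vl B L → x = 1 := by
    intro x h1 h2
    have : x ∈ rl B L ⊓ vl B L := ⟨h1, h2⟩
    rw [h.disj, mem_bot] at this
    exact this
  have huniq : ∀ x ∈ zc B, x ∈ vl B L → ∀ z ∈ zc B, z ∈ vl B L → z ≠ 1 → x = 1 ∨ x = z := by
    intro x hx hxv z hz hzv hz1
    by_cases hxr : x ∈ rl B L
    · exact Or.inl (hrv x hxr hxv)
    · right
      have hzr : z ∉ rl B L := fun hzr => hz1 (hrv z hzr hzv)
      have h1 := hrv _ (rl_two h hx hz hxr hzr) (mul_mem hxv hzv)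
      have h2 : x = z⁻¹ := eq_inv_of_mul_eq_one_left h1
      rw [h2, inv_eq_of_mul_eq_one_left (zl_mul_self h (zc_le_zl B L hz))]
  -- commutators lie in `vl ∩ zc`
  have hcomm : ∀ v ∈ zl B L, ∀ b ∈ B, v * (b * v * b⁻¹) ∈ vl B L ∧ v * (b * v * b⁻¹) ∈ zc B := by
    intro v hv b hb
    have hbL := h.le hb
    constructor
    · have h1 := commutator_mem_commutator hv hbL
      rw [commutatorElement_def] at h1
      have h2 : v * (b * v * b⁻¹) = v * b * v⁻¹ * b⁻¹ := by
        rw [inv_eq_of_mul_eq_one_left (zl_mul_self h hv)]; group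
      rw [h2]; exact h1
    · by_cases hvY : v ∈ zc B
      · rw [zc_comm hb hvY, mul_inv_cancel_right, zl_mul_self h hv]; exact one_mem _
      · have h1 : b * v * b⁻¹ ∈ zl B L := Block.zl_conj hbL hv
        have h2 : b * v * b⁻¹ ∉ zc B := by
          intro h3
          apply hvY
          have h4 : v = b⁻¹ * (b * v * b⁻¹) * b := by group
          rw [h4, zc_comm (inv_mem hb) h3, inv_mul_cancel_right]
          exact h3
        exact zl_two h hv h1 hvY h2
  obtain ⟨v, hv, hvY⟩ := exists_zl h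
  obtain ⟨b, hb, hbQ⟩ := exists_B h
  -- `v` and `b` do not commute
  have hvb : v * b ≠ b * v := by
    intro hc
    apply hbQ
    refine mem_o2 h hb (fun w hw => ?_)
    by_cases hwY : w ∈ zc B
    · exact zc_comm hb hwY
    · have h1 := zl_two h hw hv hwY hvY
      have h2 : w = (w * v) * v := by rw [mul_assoc, zl_mul_self h hv, mul_one]
      have h3 := zc_comm hb h1
      rw [h2, ← mul_assoc, h3, mul_assoc (w * v) b v, ← hc, ← mul_assoc]
  obtain ⟨hz1, hz2⟩ := hcomm v hv b hb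
  set z := v * (b * v * b⁻¹) with hz
  have hzne : z ≠ 1 := by
    intro h1
    apply hvb
    rw [hz] at h1
    have h2 : b * v * b⁻¹ = v := by
      have := eq_inv_of_mul_eq_one_right h1
      rw [this, inv_eq_of_mul_eq_one_left (zl_mul_self h hv)]
    calc v * b = (b * v * b⁻¹) * b := by rw [h2]
      _ = b * v := by group
  refine ⟨z, hz2, hz1, hzne, fun hr => hzne (hrv z hr hz1), fun x hx hxv => huniq x hx hxv z hz2 hz1 hzne, ?_, ?_⟩
  · intro w hw c hc
    obtain ⟨h1, h2⟩ := hcomm w hw c hc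
    have h3 : w * c = c * w * (w⁻¹ * (c⁻¹ * w * c)) := by group
    obtain ⟨h4, h5⟩ := hcomm w hw c⁻¹ (inv_mem hc)
    rw [inv_inv] at h4 h5
    rw [h3, inv_eq_of_mul_eq_one_left (zl_mul_self h hw)]
    rcases huniq _ h5 h4 z hz2 hz1 hzne with h6 | h6
    · left; rw [h6, mul_one]
    · right; rw [h6]
  · obtain ⟨y, hy, -, -, -, hfix, -⟩ := h.dih
    have h1 : y * z * y⁻¹ ∈ vl B L := vl_conj hy hz1
    refine ⟨y, hy, h1, fun hzc => ?_⟩
    rcases huniq _ hzc h1 z hz2 hz1 hzne with h2 | h2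
    · apply hzne
      have h3 : z = y⁻¹ * (y * z * y⁻¹) * y := by group
      rw [h3, h2]; group
    · exact hzne (hfix z hz1 h2)

end blk

/-! ### Two blocks whose modules do not commute -/

section bone

variable {B L L' : Subgroup G} {k k' : ℕ}

theorem raw (h : IsDBlk B L k) (h' : IsDBlk B L' k')
    (core : ∀ R : Subgroup G, R ≤ B → L ≤ normalizer (R : Set G) → L' ≤ normalizer (R : Set G) → R = ⊥)
    (hne : ∃ v ∈ zl B L, ∃ u ∈ zl B L', v * u ≠ u * v) :
    BOne.Raw B (zc B) ![L, L'] ![o2 L, o2 L'] ![zl B L, zl B L'] ![rl B L, rl B L'] where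
  mem_ZJ x := by
    constructor
    · intro hx
      exact ⟨zc_le B hx, by rw [← pow_two]; exact Block.zc_sq hx, fun t ht => zc_comm ht hx⟩
    · rintro ⟨h1, h2, h3⟩
      exact Block.mem_zc h1 h3 (by rw [pow_two]; exact h2)
  Q_le := by
    rw [Fin.forall_fin_two]
    exact ⟨h.o2_le, h'.o2_le⟩
  Q_conj := by
    rw [Fin.forall_fin_two]
    exact ⟨fun g hg x hx => o2_conj hg hx, fun g hg x hx => o2_conj hg hx⟩
  Q_two := by
    rw [Fin.forall_fin_two]
    exact ⟨fun x hx y hy => mul_mem_of_relIndex_two h.o2_index hx hy,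
      fun x hx y hy => mul_mem_of_relIndex_two h'.o2_index hx hy⟩
  Z_sq := by
    rw [Fin.forall_fin_two]
    exact ⟨fun z hz => zl_mul_self h hz, fun z hz => zl_mul_self h' hz⟩
  Z_le := by
    rw [Fin.forall_fin_two]
    exact ⟨zl_le_o2 h, zl_le_o2 h'⟩
  mem_Q := by
    rw [Fin.forall_fin_two]
    exact ⟨fun x hx hc => mem_o2 h hx hc, fun x hx hc => mem_o2 h' hx hc⟩
  Q_comm := by
    rw [Fin.forall_fin_two]
    exact ⟨fun x hx z hz => o2_comm h hx hz, fun x hx z hz => o2_comm h' hx hz⟩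
  ZJ_le := by
    rw [Fin.forall_fin_two]
    exact ⟨zc_le_zl B L, zc_le_zl B L'⟩
  R_le := by
    rw [Fin.forall_fin_two]
    exact ⟨rl_le B L, rl_le B L'⟩
  R_two := by
    rw [Fin.forall_fin_two]
    exact ⟨fun x hx y hy => mul_mem_of_relIndex_two h.rl_index hx hy,
      fun x hx y hy => mul_mem_of_relIndex_two h'.rl_index hx hy⟩
  R_comm := by
    rw [Fin.forall_fin_two]
    exact ⟨fun g hg x hx => by rw [rl_comm hg hx, mul_inv_cancel_right],
      fun g hg x hx => by rw [rl_comm hg hx, mul_inv_cancel_right]⟩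
  core := by
    intro U hU hc
    rw [Fin.forall_fin_two] at hc
    exact core U hU (le_normalizer_of_forall hc.1) (le_normalizer_of_forall hc.2)
  b_one := hne

/-- `b = 1` -/
theorem bone [Finite G] (h : IsDBlk B L k) (h' : IsDBlk B L' k')
    (core : ∀ R : Subgroup G, R ≤ B → L ≤ normalizer (R : Set G) → L' ≤ normalizer (R : Set G) → R = ⊥)
    (hne : ∃ v ∈ zl B L, ∃ u ∈ zl B L', v * u ≠ u * v) :
    o2 L = zl B L ∧ o2 L' = zl B L' ∧ o2 L ⊓ o2 L' = zc B ∧ Nat.card (zc B) ≤ 4 := by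
  have hr := raw h h' core hne
  exact ⟨hr.Q_eq_Z 0, hr.Q_eq_Z 1, hr.inf_eq, hr.card_ZJ_le⟩

end bone

/-! ### A block and its conjugate under an element normalising `B` -/

section conj

variable {B L : Subgroup G} {k : ℕ} {t z : G}

theorem mem_map_conj {H : Subgroup G} {t x : G} (hx : x ∈ H) :
    t * x * t⁻¹ ∈ H.map (MulAut.conj t).toMonoidHom := ⟨x, hx, by simp⟩

theorem map_conj_eq {t : G} (ht : t ∈ normalizer (B : Set G)) : B.map (MulAut.conj t).toMonoidHom = B := by
  ext x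
  constructor
  · rintro ⟨y, hy, rfl⟩
    have := (mem_normalizer_iff.1 ht y).1 hy
    simpa using this
  · intro hx
    refine ⟨t⁻¹ * x * t, ?_, by simp [mul_assoc]⟩
    have := (mem_normalizer_iff.1 (inv_mem ht) x).1 hx
    simpa using this

theorem blk_conj (h : IsDBlk B L k) (ht : t ∈ normalizer (B : Set G)) :
    IsDBlk B (L.map (MulAut.conj t).toMonoidHom) k := by
  have := h.conj t
  rwa [map_conj_eq ht] at this

theorem zl_conj' (L : Subgroup G) (ht : t ∈ normalizer (B : Set G)) :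
    zl B (L.map (MulAut.conj t).toMonoidHom) = (zl B L).map (MulAut.conj t).toMonoidHom := by
  have := zl_map (MulAut.conj t).toMonoidHom (MulAut.conj t).injective B L
  rwa [map_conj_eq ht] at this

theorem vl_conj' (L : Subgroup G) (ht : t ∈ normalizer (B : Set G)) :
    vl B (L.map (MulAut.conj t).toMonoidHom) = (vl B L).map (MulAut.conj t).toMonoidHom := by
  have := vl_map (MulAut.conj t).toMonoidHom (MulAut.conj t).injective B L
  rwa [map_conj_eq ht] at this

theorem zc_conj' (ht : t ∈ normalizer (B : Set G)) {x : G} (hx : x ∈ zc B) : t * x * t⁻¹ ∈ zc B := by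
  have h1 := zc_map (MulAut.conj t).toMonoidHom (MulAut.conj t).injective B
  rw [map_conj_eq ht] at h1
  rw [h1]
  exact mem_map_conj hx

/-- the noncommuting elements can be chosen in `vl` -/
theorem noncomm_vl (h : IsDBlk B L k) (ht : t ∈ normalizer (B : Set G))
    (hne : ∃ v ∈ zl B L, ∃ u ∈ zl B L, v * (t * u * t⁻¹) ≠ (t * u * t⁻¹) * v) :
    ∃ v ∈ vl B L, ∃ u ∈ vl B L, v * (t * u * t⁻¹) ≠ (t * u * t⁻¹) * v := by
  by_contra hcon
  push Not at hcon
  obtain ⟨v, hv, u, hu, hne⟩ := hne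
  have h' := blk_conj h ht
  have h1 : zl B L ≤ centralizer ((vl B (L.map (MulAut.conj t).toMonoidHom) : Subgroup G) : Set G) := by
    rw [← h.sup_eq]
    refine sup_le (fun x hx => ?_) (fun x hx => ?_)
    · rw [mem_centralizer_iff]
      exact fun y hy => zc_comm (zl_le_B h' (vl_le_zl _ _ hy)) (rl_le _ _ hx)
    · rw [mem_centralizer_iff]
      intro y hy
      rw [vl_conj' L ht] at hy
      obtain ⟨w, hw, rfl⟩ := hy
      have := hcon x hx w hw
      simpa using this.symm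
  apply hne
  have h2 : zl B (L.map (MulAut.conj t).toMonoidHom) ≤ centralizer (zl B L : Set G) := by
    rw [← h'.sup_eq]
    refine sup_le (fun x hx => ?_) (fun x hx => ?_)
    · rw [mem_centralizer_iff]
      exact fun y hy => zc_comm (zl_le_B h hy) (rl_le _ _ hx)
    · rw [mem_centralizer_iff]
      intro y hy
      exact (mem_centralizer_iff.1 (h1 hy) x hx).symm
  have h3 : t * u * t⁻¹ ∈ zl B (L.map (MulAut.conj t).toMonoidHom) := by
    rw [zl_conj' L ht]; exact mem_map_conj hu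
  exact mem_centralizer_iff.1 (h2 h3) v hv

/-- `t` centralises the distinguished involution -/
theorem conj_z [Finite G] (h : IsDBlk B L k) (ht : t ∈ normalizer (B : Set G))
    (hz : ∀ v ∈ zl B L, ∀ b ∈ B, v * b = b * v ∨ v * b = b * v * z) (hzz : z * z = 1)
    (hne : ∃ v ∈ zl B L, ∃ u ∈ zl B L, v * (t * u * t⁻¹) ≠ (t * u * t⁻¹) * v) :
    t * z * t⁻¹ = z := by
  obtain ⟨v, hv, u, hu, hne⟩ := hne
  have h' := blk_conj h ht
  have hu' : t * u * t⁻¹ ∈ zl B (L.map (MulAut.conj t).toMonoidHom) := by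
    rw [zl_conj' L ht]; exact mem_map_conj hu
  have h1 : v * (t * u * t⁻¹) = (t * u * t⁻¹) * v * z := by
    rcases hz v hv _ (zl_le_B h' hu') with h2 | h2
    · exact absurd h2 hne
    · exact h2
  -- conjugate relation
  have hvt : t⁻¹ * v * t ∈ B := by
    have := (mem_normalizer_iff.1 (inv_mem ht) v).1 (zl_le_B h hv)
    simpa using this
  rcases hz u hu _ hvt with h2 | h2
  · exfalso
    apply hne
    calc v * (t * u * t⁻¹) = t * ((t⁻¹ * v * t) * u) * t⁻¹ := by group
      _ = t * (u * (t⁻¹ * v * t)) * t⁻¹ := by rw [h2]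
      _ = (t * u * t⁻¹) * v := by group
  · have h3 : (t * u * t⁻¹) * v = v * (t * u * t⁻¹) * (t * z * t⁻¹) := by
      calc (t * u * t⁻¹) * v = t * (u * (t⁻¹ * v * t)) * t⁻¹ := by group
        _ = t * ((t⁻¹ * v * t) * u * z) * t⁻¹ := by rw [h2]
        _ = _ := by group
    rw [h1] at h3
    have h4 : (t * u * t⁻¹) * v * (z * (t * z * t⁻¹)) = (t * u * t⁻¹) * v * 1 := by
      rw [mul_one, ← mul_assoc]; exact h3.symm
    have h5 := mul_left_cancel h4
    have h6 : t * z * t⁻¹ = z⁻¹ := eq_inv_of_mul_eq_one_right h5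
    rw [h6, inv_eq_of_mul_eq_one_left hzz]

/-- **(AP)** -/
theorem ap [Finite G] (hN : ∀ N : Subgroup G, IsTwoLocal N → Group.IsSolvable N)
    (h : IsDBlk B L k) (ht : t ∈ normalizer (B : Set G))
    (hne : ∃ v ∈ zl B L, ∃ u ∈ zl B L, v * (t * u * t⁻¹) ≠ (t * u * t⁻¹) * v)
    {R : Subgroup G} (hR : IsPGroup 2 R) (h1 : L ≤ normalizer (R : Set G))
    (h2 : L.map (MulAut.conj t).toMonoidHom ≤ normalizer (R : Set G)) : R = ⊥ := by
  obtain ⟨z, hzZ, hzv, hz1, -, huniq, hcomm, y, hy, hyv, hyZ⟩ := exists_z h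
  have hzz : z * z = 1 := zl_mul_self h (zc_le_zl B L hzZ)
  have htz := conj_z h ht hcomm hzz hne
  -- `vl` is generated by `z` and `y z y⁻¹`
  have hgen : vl B L ≤ Killing.ncl L z := by
    intro v hv
    have hzn : z ∈ Killing.ncl L z := Killing.self_mem_ncl L z
    have hyn : y * z * y⁻¹ ∈ Killing.ncl L z := Killing.conj_mem_ncl hy
    have haux : ∀ x ∈ vl B L, x ∈ zc B → x ∈ Killing.ncl L z := by
      intro x hx hxZ
      rcases huniq x hxZ hx with rfl | rfl
      · exact one_mem _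
      · exact hzn
    by_cases hvZ : v ∈ zc B
    · exact haux v hv hvZ
    · have h3 := zl_two h (vl_le_zl _ _ hv) (vl_le_zl _ _ hyv) hvZ hyZ
      have h4 := haux _ (mul_mem hv hyv) h3
      have h5 : v = (v * (y * z * y⁻¹)) * (y * z * y⁻¹)⁻¹ := by group
      rw [h5]
      exact mul_mem h4 (inv_mem hyn)
  have hgen' : (vl B L).map (MulAut.conj t).toMonoidHom ≤
      Killing.ncl (L.map (MulAut.conj t).toMonoidHom) z := by
    have h3 : (Killing.ncl L z).map (MulAut.conj t).toMonoidHom ≤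
        Killing.ncl (L.map (MulAut.conj t).toMonoidHom) z := by
      unfold Killing.ncl
      rw [MonoidHom.map_closure, closure_le]
      rintro _ ⟨_, ⟨x, hx, rfl⟩, rfl⟩
      refine subset_closure ⟨t * x * t⁻¹, mem_map_conj hx, ?_⟩
      have h4 : (MulAut.conj t).toMonoidHom (x * z * x⁻¹) = t * (x * z * x⁻¹) * t⁻¹ := by simp
      rw [h4]
      calc t * (x * z * x⁻¹) * t⁻¹ = (t * x * t⁻¹) * (t * z * t⁻¹) * (t * x * t⁻¹)⁻¹ := by group
        _ = (t * x * t⁻¹) * z * (t * x * t⁻¹)⁻¹ := by rw [htz]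
    exact (Subgroup.map_mono hgen).trans h3
  have hzc : z ∈ ⁅vl B L, (vl B L).map (MulAut.conj t).toMonoidHom⁆ := by
    obtain ⟨v, hv, u, hu, hvu⟩ := noncomm_vl h ht hne
    have hu' : t * u * t⁻¹ ∈ B := by
      refine zl_le_B (blk_conj h ht) ?_
      rw [zl_conj' L ht]; exact mem_map_conj (vl_le_zl _ _ hu)
    have h3 := commutator_mem_commutator hv (mem_map_conj (t := t) hu)
    rw [commutatorElement_def] at h3
    rcases hcomm v (vl_le_zl _ _ hv) _ hu' with h4 | h4
    · exact absurd h4 hvu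
    · have h5 : v * (t * u * t⁻¹) * v⁻¹ * (t * u * t⁻¹)⁻¹ = z := by
        rw [h4]
        have h6 : z * v⁻¹ = v⁻¹ * z := zc_comm (B := B) (inv_mem (zl_le_B h (vl_le_zl _ _ hv))) hzZ |>.symm
        have h7 : z * (t * u * t⁻¹)⁻¹ = (t * u * t⁻¹)⁻¹ * z := (zc_comm (B := B) (inv_mem hu') hzZ).symm
        calc t * u * t⁻¹ * v * z * v⁻¹ * (t * u * t⁻¹)⁻¹
            = t * u * t⁻¹ * v * (z * v⁻¹) * (t * u * t⁻¹)⁻¹ := by group
          _ = t * u * t⁻¹ * v * (v⁻¹ * z) * (t * u * t⁻¹)⁻¹ := by rw [h6]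
          _ = t * u * t⁻¹ * (z * (t * u * t⁻¹)⁻¹) := by group
          _ = t * u * t⁻¹ * ((t * u * t⁻¹)⁻¹ * z) := by rw [h7]
          _ = z := by group
      rwa [h5] at h3
  refine Killing.killing_local (fun U hU hU1 => hN _ ⟨U, hU, hU1, rfl⟩) (h.le (zc_le B hzZ)) hz1 hgen hgen' hzc
    hR h1 h2

/-- `t` fixes no nontrivial element of `rl` -/
theorem fixed_rl [Finite G] (hN : ∀ N : Subgroup G, IsTwoLocal N → Group.IsSolvable N)
    (h : IsDBlk B L k) (ht : t ∈ normalizer (B : Set G))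
    (hne : ∃ v ∈ zl B L, ∃ u ∈ zl B L, v * (t * u * t⁻¹) ≠ (t * u * t⁻¹) * v)
    {c : G} (hc : c ∈ rl B L) (h8 : t * c * t⁻¹ = c) : c = 1 := by
  have hcZ : c ∈ zc B := rl_le B L hc
  have h9 : (zpowers c : Subgroup G) = ⊥ := by
    refine ap hN h ht hne (R := zpowers c) (h.two.to_le ?_) ?_ ?_
    · rw [zpowers_le]; exact zc_le B hcZ
    · refine le_trans ?_ (centralizer_le_normalizer _)
      intro l hl
      rw [mem_centralizer_iff]
      rintro _ ⟨n, rfl⟩
      exact ((show Commute l c from rl_comm hl hc).zpow_right n).eq.symm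
    · refine le_trans ?_ (centralizer_le_normalizer _)
      rintro _ ⟨l, hl, rfl⟩
      rw [mem_centralizer_iff]
      rintro _ ⟨n, rfl⟩
      have h10 : Commute ((MulAut.conj t).toMonoidHom l) c := by
        have h11 : (MulAut.conj t).toMonoidHom l = t * l * t⁻¹ := by simp
        rw [h11]
        have h12 : t⁻¹ * c * t = c := by
          calc t⁻¹ * c * t = t⁻¹ * (t * c * t⁻¹) * t := by rw [h8]
            _ = c := by group
        calc t * l * t⁻¹ * c = t * (l * (t⁻¹ * c * t)) * t⁻¹ := by group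
          _ = t * (c * l) * t⁻¹ := by rw [h12, rl_comm hl hc]
          _ = (t * c * t⁻¹) * (t * l * t⁻¹) := by group
          _ = c * (t * l * t⁻¹) := by rw [h8]
      exact (h10.zpow_right n).eq.symm
  exact zpowers_eq_bot.1 h9

end conj

/-! ### The end -/

section fin

variable [Finite G] {B L : Subgroup G} {k : ℕ} {t : G}

/-- the case `|Ω₁(Z(B))| = 2` -/
theorem rank_two (h : IsDBlk B L k) (h1 : o2 L = zl B L) (h2 : Nat.card (zc B) = 2)
    (hV : ∀ P : Subgroup G, IsPGroup 2 P → B ≤ P → P ≤ normalizer (zl B L : Set G) → P = B) :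
    PRankLE 2 2 G := by
  have hp : Fact (Nat.Prime 2) := ⟨Nat.prime_two⟩
  have hc4 : Nat.card (zl B L) = 4 := by
    have h3 := card_zc h
    rw [card_zl h]; omega
  have hV2 : IsPGroup 2 (zl B L) := h.two.to_le (zl_le_B h)
  obtain ⟨S, hS⟩ := hV2.exists_le_sylow
  refine SelfCentFour.pRankLE S hS hc4 (fun v hv => zl_mul_self h hv) ?_
  -- `B` is Sylow in the normalizer
  have hBN : B ≤ normalizer (zl B L : Set G) := fun b hb => Block.le_normalizer_zl B L (h.le hb)
  have hsyl : ChoiceSit.Syl B (normalizer (zl B L : Set G)) :=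
    ⟨hBN, h.two, fun Q hQ hQ2 hBQ => hV Q hQ2 hBQ hQ⟩
  have hC2 : IsPGroup 2 ((S : Subgroup G) ⊓ centralizer (zl B L : Set G) : Subgroup G) :=
    S.isPGroup'.to_le inf_le_left
  have hCN : (S : Subgroup G) ⊓ centralizer (zl B L : Set G) ≤ normalizer (zl B L : Set G) :=
    inf_le_right.trans (centralizer_le_normalizer _)
  obtain ⟨P, hP, hCP⟩ := ChoiceSit.exists_syl hC2 hCN
  obtain ⟨x, hx, hxP⟩ := ChoiceSit.syl_conj hsyl hP
  intro c hc
  have hcP := hCP hc
  rw [← hxP, ChoiceBase.mem_cj] at hcP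
  have hxi := inv_mem hx
  have h3 : x⁻¹ * c * x ∈ o2 L := by
    refine mem_o2 h hcP (fun w hw => ?_)
    have h4 : x * w * x⁻¹ ∈ zl B L := (mem_normalizer_iff.1 hx w).1 hw
    have h5 := mem_centralizer_iff.1 hc.2 _ h4
    calc x⁻¹ * c * x * w = x⁻¹ * (c * (x * w * x⁻¹)) * x := by group
      _ = x⁻¹ * ((x * w * x⁻¹) * c) * x := by rw [h5]
      _ = w * (x⁻¹ * c * x) := by group
  rw [h1] at h3
  have h4 := (mem_normalizer_iff.1 hx _).1 h3
  have h5 : x * (x⁻¹ * c * x) * x⁻¹ = c := by group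
  rwa [h5] at h4

/-- the case `|Ω₁(Z(B))| = 4` -/
theorem index_two (hN : ∀ N : Subgroup G, IsTwoLocal N → Group.IsSolvable N)
    (h : IsDBlk B L k) (ht : t ∈ normalizer (B : Set G)) (ht2 : t * t ∈ B) (S : Sylow 2 G)
    (hBS : B ≤ S) (htS : t ∈ S)
    (hne : ∃ v ∈ zl B L, ∃ u ∈ zl B L, v * (t * u * t⁻¹) ≠ (t * u * t⁻¹) * v)
    (h1 : o2 L = zl B L) (hinf : o2 L ⊓ o2 (L.map (MulAut.conj t).toMonoidHom) = zc B)
    (h4 : Nat.card (zc B) = 4)
    (hR : ∀ P : Subgroup G, IsPGroup 2 P → B ≤ P → P ≤ centralizer (rl B L : Set G) → P = B) :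
    ∃ N : Subgroup G, N.Normal ∧ N.index = 2 := by
  have hp : Fact (Nat.Prime 2) := ⟨Nat.prime_two⟩
  obtain ⟨z, hzZ, hzv, hz1, hzr, huniq, hcomm, y, hy, hyv, hyZ⟩ := exists_z h
  have hzz : z * z = 1 := zl_mul_self h (zc_le_zl B L hzZ)
  have htz := conj_z h ht hcomm hzz hne
  have h' := blk_conj h ht
  have hcr : Nat.card (rl B L) = 2 := by have := card_zc h; omega
  -- the generator of `rl`
  obtain ⟨c, hc, hc1, hcu⟩ : ∃ c ∈ rl B L, c ≠ 1 ∧ ∀ x ∈ rl B L, x = 1 ∨ x = c := by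
    obtain ⟨a, b, hab, hu⟩ := Nat.card_eq_two_iff.1 hcr
    have hmem : ∀ x : rl B L, x = a ∨ x = b := fun x => by
      have : x ∈ ({a, b} : Set (rl B L)) := by rw [hu]; trivial
      simpa using this
    rcases hmem 1 with h5 | h5
    · refine ⟨b, b.2, fun h6 => hab ?_, fun x hx => ?_⟩
      · rw [← h5]; exact Subtype.ext h6.symm
      · rcases hmem ⟨x, hx⟩ with h6 | h6
        · left; have := congrArg Subtype.val (h6.trans h5.symm); exact this
        · right; exact congrArg Subtype.val h6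
    · refine ⟨a, a.2, fun h6 => hab ?_, fun x hx => ?_⟩
      · rw [← h5]; exact Subtype.ext h6
      · rcases hmem ⟨x, hx⟩ with h6 | h6
        · right; exact congrArg Subtype.val h6
        · left; have := congrArg Subtype.val (h6.trans h5.symm); exact this
  have hcZ : c ∈ zc B := rl_le B L hc
  have hcc : c * c = 1 := zl_mul_self h (zc_le_zl B L hcZ)
  set a := y * z * y⁻¹ with ha
  set b := t * a * t⁻¹ with hb
  have hazl : a ∈ zl B L := vl_le_zl B L hyv
  have haB : a ∈ B := zl_le_B h hazl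
  have haa : a * a = 1 := zl_mul_self h hazl
  have hbzl : b ∈ zl B (L.map (MulAut.conj t).toMonoidHom) := by
    rw [zl_conj' L ht]; exact mem_map_conj hazl
  have hbB : b ∈ B := zl_le_B h' hbzl
  have hbb : b * b = 1 := zl_mul_self h' hbzl
  -- `b` is not in `O₂(L)`
  have hbQ : b ∉ o2 L := by
    intro h5
    have h6 : b ∈ zc B := by
      rw [← hinf]; exact ⟨h5, zl_le_o2 h' hbzl⟩
    apply hyZ
    have h7 := zc_conj' (inv_mem ht) h6
    rw [hb] at h7
    have h8 : t⁻¹ * (t * a * t⁻¹) * t⁻¹⁻¹ = a := by group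
    rwa [h8] at h7
  have hab : a * b ≠ b * a := by
    intro h5
    apply hbQ
    refine mem_o2 h hbB (fun w hw => ?_)
    by_cases hwZ : w ∈ zc B
    · exact zc_comm hbB hwZ
    · have h6 := zl_two h hw hazl hwZ hyZ
      have h7 := zc_comm hbB h6
      have h8 : w = (w * a) * a := by rw [mul_assoc, haa, mul_one]
      rw [h8, ← mul_assoc, h7, mul_assoc (w * a) b a, ← h5, ← mul_assoc]
  have hab' : a * b = b * a * z := by
    rcases hcomm a hazl b hbB with h5 | h5
    · exact absurd h5 hab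
    · exact h5
  have hcb : ∀ x ∈ B, x * c = c * x := fun x hx => zc_comm hx hcZ
  have hzb : ∀ x ∈ B, x * z = z * x := fun x hx => zc_comm hx hzZ
  have hv : z = (a * b) * (a * b) := by
    calc z = (b * b) * z := by rw [hbb, one_mul]
      _ = b * (b * z) := by group
      _ = b * (z * b) := by rw [hzb b hbB]
      _ = b * (a * a) * z * b := by rw [haa]; group
      _ = b * a * (a * z) * b := by group
      _ = b * a * (z * a) * b := by rw [hzb a haB]
      _ = (b * a * z) * (a * b) := by group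
      _ = (a * b) * (a * b) := by rw [← hab']
  -- `t c t⁻¹ = c z`
  have htc : t * c * t⁻¹ = c * z := by
    have h5 : t * c * t⁻¹ ∈ zc B := zc_conj' ht hcZ
    have h6 : t * c * t⁻¹ ∉ rl B L := by
      intro h7
      rcases hcu _ h7 with h8 | h8
      · apply hc1
        have : c = t⁻¹ * (t * c * t⁻¹) * t := by group
        rw [this, h8]; group
      · exact hc1 (fixed_rl hN h ht hne hc h8)
    have h7 := rl_two h h5 hzZ h6 hzr
    rcases hcu _ h7 with h8 | h8
    · exfalso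
      have h9 : t * c * t⁻¹ = t * z * t⁻¹ := by
        rw [htz, eq_inv_of_mul_eq_one_left h8, inv_eq_of_mul_eq_one_left hzz]
      have h10 : c = z := by
        have := mul_right_cancel h9
        exact mul_left_cancel this
      exact hzr (h10 ▸ hc)
    · calc t * c * t⁻¹ = (t * c * t⁻¹ * z) * z := by rw [mul_assoc (t * c * t⁻¹) z z, hzz, mul_one]
        _ = c * z := by rw [h8]
  -- everything is generated by `a, b, c`
  have hsti : t⁻¹⁻¹ * a * t⁻¹ = b := by rw [hb, inv_inv]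
  have hK : B ≤ closure {a, t⁻¹⁻¹ * a * t⁻¹, c} := by
    rw [hsti]
    have ka : a ∈ closure ({a, b, c} : Set G) := subset_closure (by simp)
    have kb : b ∈ closure ({a, b, c} : Set G) := subset_closure (by simp)
    have kc : c ∈ closure ({a, b, c} : Set G) := subset_closure (by simp)
    have kz : z ∈ closure ({a, b, c} : Set G) := by rw [hv]; exact mul_mem (mul_mem ka kb) (mul_mem ka kb)
    have kr : rl B L ≤ closure ({a, b, c} : Set G) := by
      intro x hx
      rcases hcu x hx with rfl | rfl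
      · exact one_mem _
      · exact kc
    have kZ : zc B ≤ closure ({a, b, c} : Set G) := by
      intro x hx
      by_cases hxr : x ∈ rl B L
      · exact kr hxr
      · have h5 := kr (rl_two h hx hzZ hxr hzr)
        have h6 : x = (x * z) * z⁻¹ := by group
        rw [h6]; exact mul_mem h5 (inv_mem kz)
    have kV : zl B L ≤ closure ({a, b, c} : Set G) := by
      intro x hx
      by_cases hxr : x ∈ zc B
      · exact kZ hxr
      · have h5 := kZ (zl_two h hx hazl hxr hyZ)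
        have h6 : x = (x * a) * a⁻¹ := by group
        rw [h6]; exact mul_mem h5 (inv_mem ka)
    intro x hx
    by_cases hxr : x ∈ o2 L
    · rw [h1] at hxr; exact kV hxr
    · have h5 := o2_two h hx hbB hxr hbQ
      rw [h1] at h5
      have h6 : x = (x * b) * b⁻¹ := by group
      rw [h6]; exact mul_mem (kV h5) (inv_mem kb)
  have hcardB : Nat.card B = 16 := by
    have h5 := card_mul_relIndex' h.o2_le
    rw [h.o2_index, h1, card_zl h, hcr] at h5
    omega
  refine PushOne.exists_index_two S (a := a) (c := c) (s := t⁻¹) (v := z) (hBS haB) (hBS (zc_le B hcZ))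
    (inv_mem htS) haa hcc (hcb a haB) ?_ ?_ (hzb a haB).symm hz1 ?_ ?_ ⟨y⁻¹, ?_⟩ ?_
  · rw [hsti]; exact hcb b hbB
  · rw [hsti]; exact hv
  · rw [inv_inv]; exact htc
  · apply hK
    have : t⁻¹ * t⁻¹ = (t * t)⁻¹ := by group
    rw [this]; exact inv_mem ht2
  · rw [ha]; group
  · intro P hP hPc
    have hBC : B ≤ centralizer (rl B L : Set G) := by
      intro x hx
      rw [mem_centralizer_iff]
      exact fun r hr => (zc_comm hx (rl_le B L hr)).symm
    have hsyl : ChoiceSit.Syl B (centralizer (rl B L : Set G)) :=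
      ⟨hBC, h.two, fun Q hQ hQ2 hBQ => hR Q hQ2 hBQ hQ⟩
    have hPC : P ≤ centralizer (rl B L : Set G) := by
      intro x hx
      rw [mem_centralizer_iff]
      intro r hr
      rcases hcu r hr with rfl | rfl
      · simp
      · exact (hPc x hx).symm
    obtain ⟨P', hP', hPP'⟩ := ChoiceSit.exists_syl hP hPC
    obtain ⟨x, hx, hxP⟩ := ChoiceSit.syl_conj hsyl hP'
    calc Nat.card P ≤ Nat.card P' := card_le_of_le hPP'
      _ = Nat.card B := by rw [← hxP, ChoiceBase.card_cj]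
      _ = 16 := hcardB

omit [Finite G] in
/-- An element of `T⟨s⟩` has its square in `T`. -/
theorem sq_mem {T : Subgroup G} {s : G} (hs : s ∈ normalizer (T : Set G)) (hs2 : s * s ∈ T) {a : G}
    (ha : a ∈ T ⊔ zpowers s) : a ∈ normalizer (T : Set G) ∧ a * a ∈ T := by
  have key : ∀ x ∈ T ⊔ zpowers s, x ∈ T ∨ s⁻¹ * x ∈ T := by
    intro x hx
    have hn : zpowers s ≤ normalizer (T : Set G) := by rw [zpowers_le]; exact hs
    have h1 : x ∈ ((zpowers s ⊔ T : Subgroup G) : Set G) := by rw [sup_comm]; exact hx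
    rw [Subgroup.coe_mul_of_left_le_normalizer_right _ _ hn] at h1
    obtain ⟨_, ⟨n, rfl⟩, τ, hτ, rfl⟩ := h1
    have h2 : ∀ m : ℤ, s ^ (2 * m) ∈ T := by
      intro m
      rw [zpow_mul]
      rw [zpow_two]; exact zpow_mem hs2 m
    rcases Int.even_or_odd' n with ⟨m, hm | hm⟩
    · left
      have : (fun x => s ^ x) n = s ^ (2 * m) := by rw [hm]
      rw [this]; exact mul_mem (h2 m) hτ
    · right
      have : s⁻¹ * ((fun x => s ^ x) n * τ) = s ^ (2 * m) * τ := by
        change s⁻¹ * (s ^ n * τ) = _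
        rw [hm]; group
      rw [this]; exact mul_mem (h2 m) hτ
  have hN : a ∈ normalizer (T : Set G) :=
    (sup_le le_normalizer (by rw [zpowers_le]; exact hs) : T ⊔ zpowers s ≤ normalizer (T : Set G)) ha
  refine ⟨hN, ?_⟩
  rcases key a ha with h1 | h1
  · exact mul_mem h1 h1
  · have h2 : a * a = (s * (s⁻¹ * a) * s⁻¹) * (s * s) * (s⁻¹ * a) := by group
    rw [h2]
    exact mul_mem (mul_mem ((mem_normalizer_iff.1 hs _).1 h1) hs2) h1

/-- **The end of C1**, abstract form: `A` is a 2-group over `T` acting as a group of order at most two on `T`,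
and `T` is a Sylow 2-subgroup of every 2-local type subgroup containing `T` and `L`. -/
theorem core (hN : ∀ N : Subgroup G, IsTwoLocal N → Group.IsSolvable N) {T A : Subgroup G} (S : Sylow 2 G)
    (hTA : T ≤ A) (hAS : A ≤ S) (hAT : ∀ a ∈ A, a ∈ normalizer (T : Set G) ∧ a * a ∈ T)
    (hL : IsDBlk (bau T) L k)
    (hsyl : ∀ X : Subgroup G, Choice97.Loc2 X → T ≤ X → L ≤ X → ChoiceSit.Syl T X)
    (same : ∀ z ∈ zc (bau T), z ∈ vl (bau T) L → z ≠ 1 → ∀ a ∈ T, a * z * a⁻¹ = z →
      ∀ r ∈ rl (bau T) L, a * r * a⁻¹ ∈ rl (bau T) L)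
    (ht : t ∈ A)
    (hne : ∃ v ∈ zl (bau T) L, ∃ u ∈ zl (bau T) L, v * (t * u * t⁻¹) ≠ (t * u * t⁻¹) * v) :
    PRankLE 2 2 G ∨ ∃ N : Subgroup G, N.Normal ∧ N.index = 2 := by
  have hp : Fact (Nat.Prime 2) := ⟨Nat.prime_two⟩
  obtain ⟨htN, htt⟩ := hAT t ht
  have htB : t ∈ normalizer ((bau T : Subgroup G) : Set G) := ChoiceBase.normalizer_le_bau T htN
  have h' := blk_conj hL htB
  have hne' : ∃ v ∈ zl (bau T) L, ∃ u ∈ zl (bau T) (L.map (MulAut.conj t).toMonoidHom), v * u ≠ u * v := by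
    obtain ⟨v, hv, u, hu, huv⟩ := hne
    exact ⟨v, hv, _, by rw [zl_conj' L htB]; exact mem_map_conj hu, huv⟩
  obtain ⟨h1, -, h3, h4⟩ := bone hL h' (fun R hR hR1 hR2 => ap hN hL htB hne (hL.two.to_le hR) hR1 hR2) hne'
  have hzc0 : Nat.card (zc (bau T)) = 2 * Nat.card (rl (bau T) L) := card_zc hL
  have hpos : 0 < Nat.card (rl (bau T) L) := Nat.card_pos
  have hTS : T ≤ S := hTA.trans hAS
  -- `T` acts on `zc (bau T) = zj T`
  have hbau : (∀ a ∈ T, ∀ x ∈ zc (bau T), a * x * a⁻¹ = x) → bau T = T := by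
    intro hact
    refine le_antisymm (ChoiceBase.bau_le T) (fun a ha => ChoiceBase.mem_bau.2 ⟨ha, fun y hy => ?_⟩)
    rw [← ChoiceBase.zc_bau T] at hy
    have := hact a ha y hy
    exact (mul_inv_eq_iff_eq_mul.1 this).symm
  have hTB : bau T = T := by
    obtain ⟨z, hzZ, hzv, hz1, hzr, huniq, hcomm, y, hy, hyv, hyZ⟩ := exists_z hL
    have hzz : z * z = 1 := zl_mul_self hL (zc_le_zl _ L hzZ)
    have htz := conj_z hL htB hcomm hzz hne
    have haN : ∀ a ∈ A, a ∈ normalizer ((bau T : Subgroup G) : Set G) := fun a ha =>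
      ChoiceBase.normalizer_le_bau T (hAT a ha).1
    have hA2 : IsPGroup 2 A := S.isPGroup'.to_le hAS
    -- a nontrivial element of `zc` centralised by `A`
    obtain ⟨f, hfZ, hf1, hfA⟩ : ∃ f ∈ zc (bau T), f ≠ 1 ∧ ∀ a ∈ A, a * f * a⁻¹ = f := by
      have hnil : Group.IsNilpotent A := hA2.isNilpotent
      have hzT : zc (bau T) ≤ A := (zc_le _).trans ((ChoiceBase.bau_le T).trans hTA)
      have hTn : A ≤ normalizer ((zc (bau T) : Subgroup G) : Set G) :=
        le_normalizer_of_forall fun a ha x hx => zc_conj' (haN a ha) hx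
      have : ((zc (bau T)).subgroupOf A).Normal :=
        (normal_subgroupOf_iff_le_normalizer hzT).2 hTn
      have hne0 : (zc (bau T)).subgroupOf A ≠ ⊥ := by
        intro h5
        rw [subgroupOf_eq_bot] at h5
        have h6 := disjoint_self.1 (h5.mono_right hzT)
        rw [h6] at hzZ
        exact hz1 (mem_bot.1 hzZ)
      have h5 := Cfsg.Agent.Lib.NormalAbelian.normal_inf_center_ne_bot _ hne0
      obtain ⟨f, hf⟩ := Subgroup.ne_bot_iff_exists_ne_one.1 h5
      obtain ⟨⟨f, hfm⟩, hf1⟩ : ∃ f : ↥((zc (bau T)).subgroupOf A ⊓ center _), f ≠ 1 := ⟨f, hf⟩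
      refine ⟨f, mem_subgroupOf.1 hfm.1, fun h => hf1 (Subtype.ext (Subtype.ext h)), fun a ha => ?_⟩
      have h6 := mem_center_iff.1 hfm.2 ⟨a, ha⟩
      have h7 : a * (f : G) = f * a := congrArg Subtype.val h6
      rw [h7, mul_inv_cancel_right]
    have hfz : f = z := by
      have hfr : f ∉ rl (bau T) L := fun h5 => hf1 (fixed_rl hN hL htB hne h5 (hfA t ht))
      have h5 := rl_two hL hfZ hzZ hfr hzr
      have h6 : t * (f * z) * t⁻¹ = f * z := by
        calc t * (f * z) * t⁻¹ = (t * f * t⁻¹) * (t * z * t⁻¹) := by group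
          _ = f * z := by rw [hfA t ht, htz]
      have h7 := fixed_rl hN hL htB hne h5 h6
      rw [eq_inv_of_mul_eq_one_left h7, inv_eq_of_mul_eq_one_left hzz]
    subst hfz
    have hr2 : Nat.card (rl (bau T) L) ≤ 2 := by omega
    have hrfix : ∀ a ∈ T, ∀ r ∈ rl (bau T) L, a * r * a⁻¹ = r := by
      intro a ha r hr
      have h5 := FinalBridge.comm_of_card_le_two hr2
        (same f hzZ hzv hz1 a ha (hfA a (hTA ha))) hr
      rw [h5, mul_inv_cancel_right]
    refine hbau (fun a ha x hx => ?_)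
    by_cases hxr : x ∈ rl (bau T) L
    · exact hrfix a ha x hxr
    · have h5 := hrfix a ha _ (rl_two hL hx hzZ hxr hzr)
      have h6 := hfA a (hTA ha)
      have h7 : a * x * a⁻¹ = (a * (x * f) * a⁻¹) * (a * f * a⁻¹)⁻¹ := by group
      rw [h7, h5, h6]; group
  have hTL : T ≤ L := hTB ▸ hL.le
  rcases (show Nat.card (zc (bau T)) = 2 ∨ Nat.card (zc (bau T)) = 4 by omega) with h5 | h5
  · left
    refine rank_two hL h1 h5 (fun P hP hBP hPN => ?_)
    rw [hTB] at hBP ⊢
    have hLN : L ≤ normalizer (zl (bau T) L : Set G) := Block.le_normalizer_zl _ L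
    have hne0 : zl (bau T) L ≠ ⊥ := by
      intro h6
      have h7 := card_zl hL
      rw [h6, Subgroup.card_bot] at h7
      omega
    have h6 := hsyl (normalizer (zl (bau T) L : Set G))
      (Choice97.loc2_normalizer (hL.two.to_le (zl_le_B hL)) hne0) (hTL.trans hLN) hLN
    exact h6.2.2 P hPN hP hBP
  · right
    refine index_two hN hL htB (hTB.symm ▸ htt) S ((ChoiceBase.bau_le T).trans hTS) (hAS ht) hne h1 h3 h5
      (fun P hP hBP hPC => ?_)
    rw [hTB] at hBP ⊢
    have hne0 : rl (bau T) L ≠ ⊥ := by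
      intro h6
      rw [h6, Subgroup.card_bot] at hzc0
      omega
    have hLN : L ≤ normalizer (rl (bau T) L : Set G) := by
      refine le_trans ?_ (centralizer_le_normalizer _)
      intro l hl
      rw [mem_centralizer_iff]
      exact fun r hr => (rl_comm hl hr).symm
    have h6 := hsyl (normalizer (rl (bau T) L : Set G))
      (Choice97.loc2_normalizer (hL.two.to_le ((rl_le _ L).trans (zc_le _))) hne0) (hTL.trans hLN) hLN
    exact h6.2.2 P (hPC.trans (centralizer_le_normalizer _)) hP hBP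

/-- **The end of C1** -/
theorem result (hN : ∀ N : Subgroup G, IsTwoLocal N → Group.IsSolvable N) {M T Y : Subgroup G} {s : G}
    (h : Choice97.Config M T Y s) (hL : IsDBlk (bau T) L k) (hLM : ¬ L ≤ M)
    (same : ∀ z ∈ zc (bau T), z ∈ vl (bau T) L → z ≠ 1 → ∀ a ∈ T, a * z * a⁻¹ = z →
      ∀ r ∈ rl (bau T) L, a * r * a⁻¹ ∈ rl (bau T) L)
    (ht : t ∈ T ⊔ zpowers s)
    (hne : ∃ v ∈ zl (bau T) L, ∃ u ∈ zl (bau T) L, v * (t * u * t⁻¹) ≠ (t * u * t⁻¹) * v) :
    PRankLE 2 2 G ∨ ∃ N : Subgroup G, N.Normal ∧ N.index = 2 := by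
  obtain ⟨S, -, hTS, hsS⟩ := h.exists_sylow
  exact core hN S le_sup_left (sup_le hTS (by rw [zpowers_le]; exact hsS))
    (fun a ha => sq_mem h.sN h.sq ha) hL
    (fun X hX hTX hLX => h.syl_of_loc hTX hX (fun hXM => hLM (hLX.trans hXM))) same ht hne

end fin

end Cfsg.Agent.MinSimple.PushEnd
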