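import Mathlib.Algebra.Group.MinimalAxioms
import Mathlib.Data.ZMod.Basic
import Mathlib.GroupTheory.OrderOfElement
import Mathlib.GroupTheory.Subgroup.Center
import Mathlib.Tactic.Group
import Mathlib.Tactic.Ring
import Mathlib.Tactic.FinCases
import Mathlib.Tactic.DeriveFintype

set_option autoImplicit false

/-! # The holomorph of the cyclic group of order eight

A concrete decidable model `M` of `Hol(Z₈)` (order 32), used in the case `T ≃ D₈ × Z₂` of the unique maximal
2-local subgroup analysis (core theorem T, C1, k = 1). -/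

namespace Cfsg.Agent.MinSimple.PushOneModel

/-- The element `(i, j, k)` stands for `x ^ i * a ^ j * c ^ k` with `a x a = x⁻¹`, `c x c = x ^ 5`. -/
structure M where
  i : ZMod 8
  j : ZMod 2
  k : ZMod 2
deriving DecidableEq, Fintype

/-- the action of `a ^ j * c ^ k` on `x`. -/
def u (j k : ZMod 2) : ZMod 8 := (if j = 0 then 1 else 7) * (if k = 0 then 1 else 5)

theorem u_mul : ∀ j k j' k' : ZMod 2, u (j + j') (k + k') = u j k * u j' k' := by decide

theorem u_zero : u 0 0 = 1 := by decide

theorem u_sq : ∀ j k : ZMod 2, u j k * u j k = 1 := by decide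

theorem neg_two (j : ZMod 2) : j + j = 0 := by revert j; decide

@[ext] theorem M.ext' {p q : M} (h1 : p.i = q.i) (h2 : p.j = q.j) (h3 : p.k = q.k) : p = q := by
  cases p; cases q; simp_all

instance : Mul M := ⟨fun p q => ⟨p.i + u p.j p.k * q.i, p.j + q.j, p.k + q.k⟩⟩
instance : One M := ⟨⟨0, 0, 0⟩⟩
instance : Inv M := ⟨fun p => ⟨-(u p.j p.k * p.i), p.j, p.k⟩⟩

theorem mul_def (p q : M) : p * q = ⟨p.i + u p.j p.k * q.i, p.j + q.j, p.k + q.k⟩ := rfl
theorem one_def : (1 : M) = ⟨0, 0, 0⟩ := rfl
theorem inv_def (p : M) : p⁻¹ = ⟨-(u p.j p.k * p.i), p.j, p.k⟩ := rfl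

instance : Group M :=
  Group.ofLeftAxioms
    (by
      intro p q r
      apply M.ext'
      · simp only [mul_def, u_mul]; ring
      · simp only [mul_def]; ring
      · simp only [mul_def]; ring)
    (by
      intro p
      apply M.ext' <;> simp [mul_def, one_def, u_zero])
    (by
      intro p
      apply M.ext'
      · simp only [mul_def, inv_def, one_def]; ring
      · simp only [mul_def, inv_def, one_def]; exact neg_two _
      · simp only [mul_def, inv_def, one_def]; exact neg_two _)

theorem card_M : Fintype.card M = 32 := by decide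

def xM : M := ⟨1, 0, 0⟩
def aM : M := ⟨0, 1, 0⟩
def cM : M := ⟨0, 0, 1⟩
def vM : M := ⟨4, 0, 0⟩
def sM : M := ⟨1, 1, 0⟩

/-- the only involutions with centraliser of order 16 are `c` and `c v`. -/
theorem centralizer_sixteen : ∀ y : M, y * y = 1 → y ≠ 1 →
    (Finset.univ.filter fun z : M => z * y = y * z).card = 16 → y = cM ∨ y = cM * vM := by
  decide +kernel

theorem card_centralizer_c : (Finset.univ.filter fun z : M => z * cM = cM * z).card = 16 := by
  decide +kernel

/-- every non-trivial normal subgroup contains `v`. -/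
theorem core_v : ∀ p : M, p ≠ 1 → p = vM ∨ (∃ q : M, p * q * p⁻¹ * q⁻¹ = vM) ∨
    (∃ q r : M, (p * q * p⁻¹ * q⁻¹) * r * (p * q * p⁻¹ * q⁻¹)⁻¹ * r⁻¹ = vM) := by
  decide +kernel

theorem s_conj_c : sM * cM * sM⁻¹ = cM * vM := by decide
theorem s_sq : sM * sM = 1 := by decide
theorem v_central : ∀ p : M, p * vM = vM * p := by decide +kernel

/-- the semidihedral subgroup of order 16. -/
def inQ (p : M) : Prop := (p.i.val + p.k.val) % 2 = 0

instance : DecidablePred inQ := fun p => by unfold inQ; infer_instance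

theorem inQ_mul : ∀ p q : M, inQ p → inQ q → inQ (p * q) := by decide +kernel
theorem inQ_inv : ∀ p : M, inQ p → inQ p⁻¹ := by decide +kernel
theorem inQ_one : inQ 1 := by decide
theorem not_inQ_c : ¬ inQ cM := by decide
theorem inQ_or : ∀ p q : M, ¬ inQ p → ¬ inQ q → inQ (p * q) := by decide +kernel

theorem inQ_involution : ∀ p : M, inQ p → p * p = 1 → p ≠ 1 → p = vM ∨ ∃ q : M, q * aM * q⁻¹ = p := by
  decide +kernel

end Cfsg.Agent.MinSimple.PushOneModel
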