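import Cfsg.Agent.MinSimple.LemXPerm
import Cfsg.Agent.MinSimple.DBlkExist
import Cfsg.Agent.MinSimple.Geo
import Cfsg.Agent.ZN.Amalgam
import Cfsg.Agent.ZN.Structure
import Cfsg.Agent.ZN.ChoiceSit
import Cfsg.Agent.ZN.CaseTwo
import Cfsg.Agent.MinSimple.CaseD8

/-!
# The lemma on `Ω₁(Z(T))` in the case (E1')

`B = B(S)`, `L` a block over `B` with plane `V = vl B L` and point `z`, `T ≥ B` a Sylow 2-subgroup of
`C_G(z)` normalizing `V`.  If `N_G(V)` and `C_G(z)` normalize no common nontrivial 2-subgroup then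
`Ω₁(Z(T)) = ⟨z⟩`: otherwise there is a second block `L' = C_G(z)`, `L = C_G(u)`, `Ω₁(Z(B)) = ⟨z, u⟩`, and
the amalgam theorem `ZN.Amalgam.result` shows that `vl B L`, `vl B L'` do not commute.
-/

set_option autoImplicit false

namespace Cfsg.Agent.MinSimple.ReduceSoc

open Subgroup Cfsg Cfsg.Agent.ZN Cfsg.Agent.MinSimple
open Cfsg.Agent.MinSimple.DBlkApi Cfsg.Agent.MinSimple.LemX Cfsg.Agent.MinSimple.LemXPerm
open Cfsg.Agent.MinSimple.Geo (cj mem_cj cj_mono cj_le_iff card_cj isTwoLocal_centralizer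
  inf_centralizer_o2_le)

universe u

variable {G : Type u} [Group G]

/-- The facts on the planes of the blocks over `B(S)` used in this file: (1) all planes commute,
(2) two blocks with the same point have the same plane. -/
structure Planes (S : Subgroup G) : Prop where
  charTwo : IsCharacteristicTwoType G
  solv : ∀ N : Subgroup G, IsTwoLocal N → Group.IsSolvable N
  comm : ∀ (L L' : Subgroup G) (k k' : ℕ), IsDBlk (bau S) L k → IsDBlk (bau S) L' k' →
    ∀ v ∈ vl (bau S) L, ∀ w ∈ vl (bau S) L', v * w = w * v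
  pt : ∀ (L L' : Subgroup G) (k k' : ℕ) (z : G), IsDBlk (bau S) L k → IsDBlk (bau S) L' k' →
    IsPt (bau S) L z → IsPt (bau S) L' z → vl (bau S) L = vl (bau S) L'

/-- the image in `G` of a characteristic subgroup of `X` is normalized by `N_G(X)`. -/
theorem normalizer_le_of_characteristic {X : Subgroup G} (C : Subgroup X)
    (hC : C.Characteristic) :
    normalizer (X : Set G) ≤ normalizer ((C.map X.subtype : Subgroup G) : Set G) := by
  have key : ∀ g ∈ normalizer (X : Set G), ∀ x ∈ C.map X.subtype,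
      g * x * g⁻¹ ∈ C.map X.subtype := by
    intro g hg x hx
    obtain ⟨y, hy, rfl⟩ := hx
    let e : X ≃* X :=
      { toFun := fun z => ⟨g * z * g⁻¹, (mem_normalizer_iff.mp hg z).mp z.2⟩
        invFun := fun z => ⟨g⁻¹ * z * g, by
          have := (mem_normalizer_iff.mp (inv_mem hg) (z : G)).mp z.2
          simpa using this⟩
        left_inv := fun z => by ext; simp [mul_assoc]
        right_inv := fun z => by ext; simp [mul_assoc]
        map_mul' := fun a b => by ext; simp [mul_assoc] }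
    have h1 : C.map e.toMonoidHom = C := characteristic_iff_map_eq.mp hC e
    refine ⟨e y, ?_, rfl⟩
    have h2 : e y ∈ C.map e.toMonoidHom := ⟨y, hy, rfl⟩
    rwa [h1] at h2
  intro g hg
  rw [mem_normalizer_iff]
  intro x
  refine ⟨fun hx => key g hg x hx, fun hx => ?_⟩
  have := key g⁻¹ (inv_mem hg) _ hx
  simpa [mul_assoc] using this

variable [Finite G] {S : Sylow 2 G}

/-- A 2-local subgroup over `B(S)` with a Sylow 2-subgroup over `B(S)`. -/
theorem exists_loc (h : Planes (S : Subgroup G)) {X : Subgroup G} (hX : IsTwoLocal X)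
    (hB : bau (S : Subgroup G) ≤ X) :
    ∃ T : Subgroup G, Loc X T ∧ bau (S : Subgroup G) ≤ T ∧ bau T = bau (S : Subgroup G) := by
  obtain ⟨T, hT, hBT⟩ := ChoiceSit.exists_syl (isPGroup_bau S.isPGroup') hB
  exact ⟨T, ⟨h.solv X hX, inf_centralizer_o2_le h.charTwo hX, hT.2.1, hT.1,
    ChoiceSit.syl_not_dvd hT⟩, hBT, bau_eq S hT.2.1 hBT⟩

/-- The planes of the blocks of a 2-local subgroup `X ≥ B` are permuted; an element of `X` fixing the
point fixes the plane. -/
theorem mem_normalizer_of_fix (h : Planes (S : Subgroup G)) {X L : Subgroup G} {k : ℕ} {z : G}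
    (hX : IsTwoLocal X) (hLX : L ≤ X) (hL : IsDBlk (bau (S : Subgroup G)) L k)
    (hz : IsPt (bau (S : Subgroup G)) L z) {c : G} (hc : c ∈ X) (hcz : c * z = z * c) :
    c ∈ normalizer (vl (bau (S : Subgroup G)) L : Set G) := by
  obtain ⟨T, hT, hBT, hbau⟩ := exists_loc h hX (hL.le.trans hLX)
  have hLb : L ∈ blocks X T := ⟨hLX, k, by rw [hbau]; exact hL⟩
  obtain ⟨L', hL', hc'⟩ := perm hT hLb hc
  obtain ⟨-, k', hk'⟩ := hL'
  rw [hbau] at hk' hc'
  apply mem_normalizer_of_map_conj_eq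
  rw [hc']
  refine h.pt L' L k' k z hk' hL ⟨?_, hz.2.1, hz.2.2⟩ hz
  rw [← hc']
  refine ⟨z, hz.1, ?_⟩
  change c * z * c⁻¹ = z
  rw [hcz, mul_inv_cancel_right]

/-- (a) `C_G(z) ∩ C_G(r) ≤ N_G(V_L)` for `1 ≠ r ∈ R_L`. -/
theorem inf_centralizer_le (h : Planes (S : Subgroup G)) {L : Subgroup G} {k : ℕ} {z r : G}
    (hL : IsDBlk (bau (S : Subgroup G)) L k) (hz : IsPt (bau (S : Subgroup G)) L z)
    (hr : r ∈ rl (bau (S : Subgroup G)) L) (hr1 : r ≠ 1) {c : G} (hcz : c * z = z * c)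
    (hcr : c * r = r * c) : c ∈ normalizer (vl (bau (S : Subgroup G)) L : Set G) := by
  have hrr : r * r = 1 := by rw [← pow_two]; exact zc_sq hr.1
  refine mem_normalizer_of_fix h (isTwoLocal_centralizer hrr hr1) (fun l hl => ?_) hL hz
    (mem_centralizer_singleton_iff.mpr hcr) hcz
  exact mem_centralizer_singleton_iff.mpr (rl_comm hr hl)

/-- (b) `N_G(B) ∩ C_G(z) ≤ N_G(V_L)` -/
theorem inf_normalizer_le (h : Planes (S : Subgroup G)) {L : Subgroup G} {k : ℕ} {z : G}
    (hL : IsDBlk (bau (S : Subgroup G)) L k) (hz : IsPt (bau (S : Subgroup G)) L z)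
    {n : G} (hn : n ∈ normalizer (bau (S : Subgroup G) : Set G)) (hnz : n * z = z * n) :
    n ∈ normalizer (vl (bau (S : Subgroup G)) L : Set G) := by
  apply mem_normalizer_of_map_conj_eq
  rw [vl_map_conj hn]
  refine h.pt _ L k k z (isDBlk_conj hL hn) hL ⟨?_, hz.2.1, hz.2.2⟩ hz
  rw [← vl_map_conj hn]
  refine ⟨z, hz.1, ?_⟩
  change n * z * n⁻¹ = z
  rw [hnz, mul_inv_cancel_right]

/-- The second block. -/
theorem exists_second (h : Planes (S : Subgroup G)) {L T : Subgroup G} {k : ℕ} {z u : G}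
    (hL : IsDBlk (bau (S : Subgroup G)) L k) (hz : IsPt (bau (S : Subgroup G)) L z)
    (hT : IsPGroup 2 T) (hBT : bau (S : Subgroup G) ≤ T) (hTz : T ≤ centralizer ({z} : Set G))
    (hTs : ¬ 2 ∣ T.relIndex (centralizer ({z} : Set G)))
    (hC : ¬ centralizer ({z} : Set G) ≤ normalizer (vl (bau (S : Subgroup G)) L : Set G))
    (hu : u ∈ rl (bau (S : Subgroup G)) L) (hu1 : u ≠ 1) (huT : u ∈ zc T) :
    ∃ (L' : Subgroup G) (k' : ℕ), IsDBlk (bau (S : Subgroup G)) L' k' ∧
      L' ≤ centralizer ({z} : Set G) ∧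
      ¬ L' ≤ normalizer (vl (bau (S : Subgroup G)) L : Set G) := by
  have hX : IsTwoLocal (centralizer ({z} : Set G)) := isTwoLocal_centralizer hz.mul_self hz.2.2
  have hbau := bau_eq S hT hBT
  obtain ⟨L', k', h1, -, h2, h3⟩ := DBlkExist.exists_dblk (T := T)
    (M := normalizer (vl (bau (S : Subgroup G)) L : Set G)) (h.solv _ hX)
    (inf_centralizer_o2_le h.charTwo hX) hT hTz hTs
    (fun c hc => inf_centralizer_le h hL hz hu hu1 (mem_centralizer_singleton_iff.mp hc.1)
      (mem_centralizer_iff.mp hc.2 u huT).symm)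
    (fun n hn => inf_normalizer_le h hL hz (by rw [← hbau]; exact hn.2)
      (mem_centralizer_singleton_iff.mp hn.1)) hC
  rw [hbau] at h1
  exact ⟨L', k', h1, h2, h3⟩

/-! ### The configuration of two blocks -/

/-- Two blocks `L`, `L'` over `B(S)` with `R_L = ⟨r⟩`, `R_{L'} = ⟨r'⟩`, `Ω₁(Z(B)) = ⟨r⟩ × ⟨r'⟩`. -/
structure Conf (S L L' : Subgroup G) (k k' : ℕ) (r r' : G) : Prop where
  pl : Planes S
  bL : IsDBlk (bau S) L k
  bL' : IsDBlk (bau S) L' k'
  mem : r ∈ rl (bau S) L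
  mem' : r' ∈ rl (bau S) L'
  ne : r ≠ 1
  ne' : r' ≠ 1
  rr : r ≠ r'
  eq : ∀ x ∈ rl (bau S) L, x = 1 ∨ x = r
  eq' : ∀ x ∈ rl (bau S) L', x = 1 ∨ x = r'
  zc_eq : ∀ x ∈ zc (bau S), x = 1 ∨ x = r ∨ x = r' ∨ x = r * r'
  core : ∀ U : Subgroup G, IsPGroup 2 U → centralizer ({r} : Set G) ≤ normalizer (U : Set G) →
    centralizer ({r'} : Set G) ≤ normalizer (U : Set G) → U = ⊥

namespace Conf

variable {L L' : Subgroup G} {k k' : ℕ} {r r' : G}

omit [Finite G] in
theorem comm_rr {S : Subgroup G} (c : Conf S L L' k k' r r') : r * r' = r' * r :=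
  zc_comm c.mem'.1 (zc_le _ c.mem.1)

omit [Finite G] in
theorem symm {S : Subgroup G} (c : Conf S L L' k k' r r') : Conf S L' L k' k r' r where
  pl := c.pl
  bL := c.bL'
  bL' := c.bL
  mem := c.mem'
  mem' := c.mem
  ne := c.ne'
  ne' := c.ne
  rr := c.rr.symm
  eq := c.eq'
  eq' := c.eq
  zc_eq := fun x hx => by
    rcases c.zc_eq x hx with h | h | h | h
    · exact Or.inl h
    · exact Or.inr (Or.inr (Or.inl h))
    · exact Or.inr (Or.inl h)
    · exact Or.inr (Or.inr (Or.inr (h.trans c.comm_rr)))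
  core := fun U hU h1 h2 => c.core U hU h2 h1

omit [Finite G] in
theorem sq {S : Subgroup G} (c : Conf S L L' k k' r r') : r * r = 1 := by
  rw [← pow_two]; exact zc_sq c.mem.1

omit [Finite G] in
theorem isTwoLocal {S : Subgroup G} (c : Conf S L L' k k' r r') :
    IsTwoLocal (centralizer ({r} : Set G)) := isTwoLocal_centralizer c.sq c.ne

omit [Finite G] in
theorem le_cent {S : Subgroup G} (c : Conf S L L' k k' r r') :
    L ≤ centralizer ({r} : Set G) := fun l hl =>
  mem_centralizer_singleton_iff.mpr (rl_comm c.mem hl)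

omit [Finite G] in
/-- everything centralizing `r` and the point centralizes `Ω₁(Z(B))` -/
theorem cent_zc {S : Subgroup G} (c : Conf S L L' k k' r r') {z : G} (hz : IsPt (bau S) L z)
    {g : G} (h1 : g * r = r * g) (h2 : g * z = z * g) : g ∈ centralizer (zc (bau S) : Set G) := by
  have h3 : g * r' = r' * g := by
    rcases c.zc_eq z hz.2.1 with e | e | e | e
    · exact absurd e hz.2.2
    · exact absurd (e ▸ c.mem : z ∈ rl (bau S) L) (pt_notMem_rl c.bL hz)
    · rw [← e]; exact h2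
    · have e' : r' = r * z := by rw [e, ← mul_assoc, c.sq, one_mul]
      have hrz : Commute g (r * z) := (show Commute g r from h1).mul_right h2
      rw [e']; exact hrz
  refine mem_centralizer_iff.mpr fun x hx => ?_
  rcases c.zc_eq x hx with rfl | rfl | rfl | rfl
  · simp
  · exact h1.symm
  · exact h3.symm
  · exact ((show Commute g r from h1).mul_right h3).eq.symm

/-- `V_L` is normal in `C_G(r)`. -/
theorem plane_normal (c : Conf (S : Subgroup G) L L' k k' r r') :
    centralizer ({r} : Set G) ≤ normalizer (vl (bau (S : Subgroup G)) L : Set G) := by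
  intro x hx
  obtain ⟨T, hT, hBT, hbau⟩ := exists_loc c.pl c.isTwoLocal (c.bL.le.trans c.le_cent)
  have hLb : L ∈ blocks (centralizer ({r} : Set G)) T := ⟨c.le_cent, k, by rw [hbau]; exact c.bL⟩
  obtain ⟨L₁, hL₁, hc'⟩ := perm hT hLb hx
  apply mem_normalizer_of_map_conj_eq
  rw [hbau] at hc'
  rw [hc']
  by_contra hne
  obtain ⟨hL₁r, k₁, hk₁⟩ := id hL₁
  rw [hbau] at hk₁
  obtain ⟨z₁, hz₁⟩ := exists_pt hk₁
  have h1 := indep hT hLb hL₁ (fun e => hne (by rw [hbau] at e; exact e.symm))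
    (z := z₁) (by rw [hbau]; exact hz₁)
  rw [hbau] at h1
  rcases c.eq z₁ h1 with e | e
  · exact hz₁.2.2 e
  · refine pt_notMem_rl hk₁ hz₁ ⟨hz₁.2.1, mem_centralizer_iff.mpr fun l hl => ?_⟩
    rw [e]
    exact mem_centralizer_singleton_iff.mp (hL₁r hl)

/-- A 2-subgroup of `C_G(Ω₁(Z(B)))` over `B` is `B`. -/
theorem eq_bau (c : Conf (S : Subgroup G) L L' k k' r r') {T : Subgroup G} (hT : IsPGroup 2 T)
    (hBT : bau (S : Subgroup G) ≤ T)
    (hc : T ≤ centralizer (zc (bau (S : Subgroup G)) : Set G)) : T = bau (S : Subgroup G) := by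
  have h1 := bau_eq S hT hBT
  refine le_antisymm ?_ hBT
  rw [← h1]
  refine le_inf le_rfl ?_
  rwa [← zc_bau T, h1]

/-- `B` is a Sylow 2-subgroup of `C_G(r)`. -/
theorem eq_of_isPGroup (c : Conf (S : Subgroup G) L L' k k' r r') {T : Subgroup G}
    (hT : IsPGroup 2 T) (hBT : bau (S : Subgroup G) ≤ T) (hTr : T ≤ centralizer ({r} : Set G)) :
    T = bau (S : Subgroup G) := by
  obtain ⟨z, hz⟩ := exists_pt c.bL
  refine c.eq_bau hT hBT fun t ht => c.cent_zc hz (mem_centralizer_singleton_iff.mp (hTr ht)) ?_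
  have h1 : t ∈ normalizer (bau (S : Subgroup G) : Set G) := by
    rw [← bau_eq S hT hBT]
    exact le_normalizer_bau T ht
  have h2 : t * z * t⁻¹ ∈ vl (bau (S : Subgroup G)) L :=
    Four.conj_mem (c.plane_normal (hTr ht)) hz.1
  have h3 : t * z * t⁻¹ ∈ zc (bau (S : Subgroup G)) :=
    Four.conj_mem (normalizer_le_normalizer_zc _ h1) hz.2.1
  rcases eq_of_mem c.bL hz h2 h3 with e | e
  · exact absurd (conj_eq_one_iff.mp e) hz.2.2
  · exact Four.conj_eq_iff_comm.mp e

/-- odd order elements of `C_G(Ω₁(Z(B)))` centralize `V_L` -/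
theorem odd_cent (c : Conf (S : Subgroup G) L L' k k' r r') {g : G}
    (hg : g ∈ centralizer (zc (bau (S : Subgroup G)) : Set G)) (hodd : Odd (orderOf g)) :
    g ∈ centralizer (vl (bau (S : Subgroup G)) L : Set G) := by
  obtain ⟨z, hz⟩ := exists_pt c.bL
  have h1 : g ∈ centralizer ({r} : Set G) :=
    mem_centralizer_singleton_iff.mpr (mem_centralizer_iff.mp hg r c.mem.1).symm
  have h2 : g * z * g⁻¹ = z :=
    Four.conj_eq_iff_comm.mpr (mem_centralizer_iff.mp hg z hz.2.1).symm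
  have h3 := Four.sq_mem_cent c.bL.card_vl (vl_sq c.bL) hz.1 hz.2.2 (c.plane_normal h1) h2
  obtain ⟨m, hm⟩ := hodd
  have h4 : (g * g) ^ (m + 1) = g := by
    rw [← pow_two, ← pow_mul, mul_add, mul_one, show 2 * m + 2 = (2 * m + 1) + 1 by ring, ← hm,
      pow_succ, pow_orderOf_eq_one, one_mul]
  rw [← h4]
  exact pow_mem h3 _

/-- the subgroup generated by the elements of odd order of `C_G(Ω₁(Z(B)))` -/
def odd (B : Subgroup G) : Subgroup G :=
  closure {g | g ∈ centralizer (zc B : Set G) ∧ Odd (orderOf g)}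

omit [Finite G] in
theorem odd_le (B : Subgroup G) : odd B ≤ centralizer (zc B : Set G) :=
  (closure_le _).mpr fun _ h => h.1

theorem odd_normal (c : Conf (S : Subgroup G) L L' k k' r r') :
    centralizer ({r} : Set G) ≤ normalizer (odd (bau (S : Subgroup G)) : Set G) := by
  have key : ∀ x ∈ centralizer ({r} : Set G), ∀ g ∈ odd (bau (S : Subgroup G)),
      x * g * x⁻¹ ∈ odd (bau (S : Subgroup G)) := by
    intro x hx g hg
    have h1 : odd (bau (S : Subgroup G)) ≤
        (odd (bau (S : Subgroup G))).comap (MulAut.conj x).toMonoidHom := by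
      refine (closure_le _).mpr ?_
      rintro y ⟨hy, hy2⟩
      refine subset_closure ⟨?_, ?_⟩
      · obtain ⟨z, hz⟩ := exists_pt c.bL
        have h2 := c.odd_cent hy hy2
        have h3 : x * y * x⁻¹ ∈ centralizer (vl (bau (S : Subgroup G)) L : Set G) := by
          refine mem_centralizer_iff.mpr fun v hv => ?_
          have h4 := mem_centralizer_iff.mp h2 _ (Four.conj_mem' (c.plane_normal hx) hv)
          calc v * (x * y * x⁻¹) = x * ((x⁻¹ * v * x) * y) * x⁻¹ := by group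
            _ = x * (y * (x⁻¹ * v * x)) * x⁻¹ := by rw [h4]
            _ = x * y * x⁻¹ * v := by group
        refine c.cent_zc hz ?_ (mem_centralizer_iff.mp h3 z hz.1).symm
        have h5 : Commute x r := mem_centralizer_singleton_iff.mp hx
        have h6 : Commute y r := (mem_centralizer_iff.mp hy r c.mem.1).symm
        exact (h5.mul_left h6).mul_left h5.inv_left
      · change Odd (orderOf (x * y * x⁻¹))
        rw [← MulAut.conj_apply, MulEquiv.orderOf_eq]
        exact hy2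
    exact h1 hg
  intro x hx
  refine mem_normalizer_iff.mpr fun g => ⟨fun hg => key x hx g hg, fun hg => ?_⟩
  have h1 := key x⁻¹ (inv_mem hx) _ hg
  have e : x⁻¹ * (x * g * x⁻¹) * x⁻¹⁻¹ = g := by group
  rwa [e] at h1

theorem odd_eq_bot (c : Conf (S : Subgroup G) L L' k k' r r') :
    odd (bau (S : Subgroup G)) = ⊥ := by
  set W := odd (bau (S : Subgroup G)) with hW
  have hWr : W ≤ centralizer ({r} : Set G) := (odd_le _).trans fun g hg =>
    mem_centralizer_singleton_iff.mpr (mem_centralizer_iff.mp hg r c.mem.1).symm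
  have hs : Group.IsSolvable W := by
    have := c.pl.solv _ c.isTwoLocal
    exact Group.isSolvable_of_isSolvable_injective (inclusion_injective hWr)
  have h1 : o2 W = ⊥ := c.core _ (isPGroup_o2 W)
    (c.odd_normal.trans (normalizer_le_normalizer_o2 W))
    (c.symm.odd_normal.trans (normalizer_le_normalizer_o2 W))
  have h2 : Basic.oc W = ⊥ := by
    refine Basic.eq_bot_of_odd (X := centralizer ({r} : Set G))
      (inf_centralizer_o2_le c.pl.charTwo c.isTwoLocal) ((Basic.oc_le W).trans hWr) ?_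
      (Basic.odd_card_oc W)
    exact c.odd_normal.trans
      (normalizer_le_of_characteristic _ (Lib.Cores.pPrimeCore_characteristic 2))
  have h3 := Basic.char2_of_oc_eq_bot hs h2
  rw [h1] at h3
  rw [eq_bot_iff]
  refine le_trans (le_inf le_rfl ?_) h3
  intro x _
  refine mem_centralizer_iff.mpr fun y hy => ?_
  rw [mem_bot.mp hy, one_mul, mul_one]

/-- `C_G(Ω₁(Z(B))) = B` -/
theorem cent_eq (c : Conf (S : Subgroup G) L L' k k' r r') :
    centralizer (zc (bau (S : Subgroup G)) : Set G) = bau (S : Subgroup G) := by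
  refine c.eq_bau ?_ (fun b hb => mem_centralizer_iff.mpr fun x hx => (zc_comm hx hb).symm) le_rfl
  rintro ⟨g, hg⟩
  obtain ⟨n, m, hm, hn⟩ := Nat.exists_eq_two_pow_mul_odd (orderOf_pos g).ne'
  refine ⟨n, Subtype.ext ?_⟩
  have h1 : g ^ 2 ^ n ∈ odd (bau (S : Subgroup G)) := by
    refine subset_closure ⟨pow_mem hg _, ?_⟩
    rw [orderOf_pow, hn, Nat.gcd_mul_right_left, Nat.mul_div_cancel_left _ (by positivity)]
    exact hm
  rw [c.odd_eq_bot, mem_bot] at h1
  exact h1

/-- `L = C_G(r)` -/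
theorem eq_cent (c : Conf (S : Subgroup G) L L' k k' r r') :
    centralizer ({r} : Set G) = L := by
  refine le_antisymm (fun x hx => ?_) c.le_cent
  obtain ⟨z, hz⟩ := exists_pt c.bL
  obtain ⟨y, hy, -, -, -, h3, h4⟩ := c.bL.dih
  have hyn := le_normalizer_vl (bau (S : Subgroup G)) L hy
  have hyc : y ∉ centralizer (vl (bau (S : Subgroup G)) L : Set G) := fun h =>
    hz.2.2 (h3 z hz.1 (Four.mem_cent_iff.mp h z hz.1))
  have hy3 : y ^ 3 ∈ centralizer (vl (bau (S : Subgroup G)) L : Set G) :=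
    Four.mem_cent_iff.mpr h4
  have hx1 : x * z * x⁻¹ ∈ vl (bau (S : Subgroup G)) L :=
    Four.conj_mem (c.plane_normal hx) hz.1
  have key : ∀ l ∈ L, x * z * x⁻¹ = l * z * l⁻¹ → x ∈ L := by
    intro l hl e
    have h5 : l⁻¹ * x ∈ centralizer (zc (bau (S : Subgroup G)) : Set G) := by
      refine c.cent_zc hz ?_ ?_
      · have h6 : Commute x r := mem_centralizer_singleton_iff.mp hx
        have h7 : Commute l r := rl_comm c.mem hl
        exact h7.inv_left.mul_left h6
      · calc l⁻¹ * x * z = l⁻¹ * (x * z * x⁻¹) * x := by group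
          _ = z * (l⁻¹ * x) := by rw [e]; group
    rw [c.cent_eq] at h5
    have h8 := mul_mem hl (c.bL.le h5)
    rwa [mul_inv_cancel_left] at h8
  rcases Four.cyc_trans c.bL.card_vl (vl_sq c.bL) hyn hyc hy3 hz.1 hz.2.2 hx1
    (fun e => hz.2.2 (conj_eq_one_iff.mp e)) with e | e | e
  · exact key 1 (one_mem _) (by rw [e]; group)
  · exact key y hy e
  · exact key y⁻¹ (inv_mem hy) (by rw [e]; group)

/-- `|L : B| = 3` -/
theorem index (c : Conf (S : Subgroup G) L L' k k' r r') :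
    (bau (S : Subgroup G)).relIndex L = 3 := by
  have hf : Fact (Nat.Prime 2) := ⟨Nat.prime_two⟩
  obtain ⟨z, hz⟩ := exists_pt c.bL
  obtain ⟨y, hy, h0, -, h2, -, h4⟩ := c.bL.dih
  have hy3 : y ^ 3 ∈ bau (S : Subgroup G) := by
    rw [← c.cent_eq]
    refine c.cent_zc hz ?_ (Four.conj_eq_iff_comm.mp (h4 z hz.1))
    have h7 : Commute y r := rl_comm c.mem hy
    exact h7.pow_left 3
  have hy31 : y ^ 3 = 1 := by
    obtain ⟨n, hn⟩ := c.bL.two ⟨y ^ 3, hy3⟩
    have hn' : (y ^ 3) ^ 2 ^ n = 1 := by simpa using congrArg Subtype.val hn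
    have hm' : (y ^ 3) ^ 3 ^ k = 1 := by
      rw [← pow_mul, mul_comm, pow_mul, h0, one_pow]
    have h5 : orderOf (y ^ 3) ∣ Nat.gcd (2 ^ n) (3 ^ k) :=
      Nat.dvd_gcd (orderOf_dvd_of_pow_eq_one hn') (orderOf_dvd_of_pow_eq_one hm')
    rw [Nat.Coprime.gcd_eq_one (Nat.Coprime.pow n k (by norm_num))] at h5
    exact orderOf_eq_one_iff.mp (Nat.dvd_one.mp h5)
  have h6 : (bau (S : Subgroup G)).relIndex L ≤ 3 := by
    let f : Fin 3 → L ⧸ (bau (S : Subgroup G)).subgroupOf L := fun i =>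
      QuotientGroup.mk ⟨y ^ (i : ℕ), pow_mem hy _⟩
    have hf : Function.Surjective f := by
      intro q
      obtain ⟨⟨g, hg⟩, rfl⟩ := QuotientGroup.mk_surjective q
      obtain ⟨n, b, hb, rfl⟩ := h2 g hg
      refine ⟨⟨n % 3, Nat.mod_lt _ (by norm_num)⟩, ?_⟩
      refine QuotientGroup.eq.mpr ?_
      rw [mem_subgroupOf]
      have h7 : y ^ n = y ^ (n % 3) := by
        conv_lhs => rw [← Nat.div_add_mod n 3, pow_add, pow_mul, hy31, one_pow, one_mul]
      change (y ^ (n % 3))⁻¹ * (y ^ n * b) ∈ _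
      rw [h7, inv_mul_cancel_left]
      exact hb
    have h8 := Nat.card_le_card_of_surjective f hf
    rwa [Nat.card_fin] at h8
  rw [c.bL.index] at h6 ⊢
  have h9 : k ≤ 1 := by
    by_contra hcon
    have h10 : 3 ^ 2 ≤ 3 ^ k := Nat.pow_le_pow_right (by norm_num) (by omega)
    omega
  have h11 : k = 1 := le_antisymm h9 c.bL.pos
  rw [h11, pow_one]

theorem isBlk (c : Conf (S : Subgroup G) L L' k k' r r') : IsBlk (bau (S : Subgroup G)) L where
  le := c.bL.le
  two := c.bL.two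
  index := c.index
  o2_le := c.bL.o2_le
  o2_index := c.bL.o2_index
  self_cent := c.bL.self_cent
  zl_comm := c.bL.zl_comm
  zl_sq := c.bL.zl_sq
  cent_zl := by
    refine le_antisymm (fun g hg => ?_) (le_inf (o2_le L) (o2_cent_zl c.bL))
    have h1 : g ∈ centralizer (zc (bau (S : Subgroup G)) : Set G) :=
      centralizer_le zc_le_zl hg.2
    rw [c.cent_eq] at h1
    rw [← c.bL.cent_zl]
    exact ⟨h1, hg.2⟩
  rl_index := c.bL.rl_index
  card_vl := c.bL.card_vl
  sup_eq := c.bL.sup_eq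
  disj := c.bL.disj
  jj_o2_le := c.bL.jj_o2_le
  not_jj_le := c.bL.not_jj_le

theorem core' (c : Conf (S : Subgroup G) L L' k k' r r') (U : Subgroup G) (hU : IsPGroup 2 U)
    (h1 : L ≤ normalizer (U : Set G)) (h2 : L' ≤ normalizer (U : Set G)) : U = ⊥ :=
  c.core U hU (c.eq_cent.le.trans h1) (c.symm.eq_cent.le.trans h2)

/-- `StrData` for a 2-local subgroup with Sylow 2-subgroup `B`. -/
theorem str (c : Conf (S : Subgroup G) L L' k k' r r') {X T : Subgroup G} (hT : Loc X T)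
    (hBT : T = bau (S : Subgroup G))
    (hJ : ¬ X ≤ normalizer (jj (bau (S : Subgroup G)) : Set G)) :
    ∃ 𝓛 : Set (Subgroup G), StrData X (bau (S : Subgroup G)) 𝓛 := by
  subst hBT
  have h1 := Structure.exists_strData X (bau (S : Subgroup G)) hT.solv
    ((Basic.char2_iff X).mpr hT.char2) hT.two hT.TX hT.syl
    (inf_le_right.trans (c.cent_eq.le.trans le_normalizer)) hJ
  rwa [bau_bau] at h1

theorem inf_cent (c : Conf (S : Subgroup G) L L' k k' r r') {T : Subgroup G}
    (hBT : bau (S : Subgroup G) ≤ T) :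
    T ⊓ centralizer (zc (bau (S : Subgroup G)) : Set G) = bau (S : Subgroup G) := by
  rw [c.cent_eq, inf_eq_right]
  exact hBT

/-- The context of the amalgam theorem if `B` is a Sylow 2-subgroup of `G`. -/
theorem ctx_one (c : Conf (S : Subgroup G) L L' k k' r r')
    (hI : ∀ T : Subgroup G, IsPGroup 2 T → bau (S : Subgroup G) ≤ T →
      T = bau (S : Subgroup G)) :
    Ctx (normalizer (jj (bau (S : Subgroup G)) : Set G)) (bau (S : Subgroup G)) L L' where
  blkP := c.isBlk
  blkQ := c.symm.isBlk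
  core := fun U hU h1 h2 => c.core' U (c.bL.two.to_le hU) h1 h2
  notP := fun h => c.bL.not_jj_le (le_o2 ((jj_le _).trans c.bL.le) (c.bL.two.to_le (jj_le _)) h)
  notQ := fun h => c.bL'.not_jj_le
    (le_o2 ((jj_le _).trans c.bL'.le) (c.bL'.two.to_le (jj_le _)) h)
  str := fun X hX hBX hXN => by
    obtain ⟨T, hT, hBT, -⟩ := exists_loc c.pl hX hBX
    exact ⟨c.str hT (hI T hT.two hBT) hXN, fun T₁ _ hBT₁ _ => c.inf_cent hBT₁⟩
  alt := Or.inl le_rfl

/-- The action on `Ω₁(Z(B))` of a 2-element `x` outside `B` normalizing `B`. -/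
theorem swap (c : Conf (S : Subgroup G) L L' k k' r r') {T : Subgroup G} (hT : IsPGroup 2 T)
    (hBT : bau (S : Subgroup G) ≤ T) {x : G} (hxT : x ∈ T) (hxB : x ∉ bau (S : Subgroup G))
    (hxn : x ∈ normalizer (bau (S : Subgroup G) : Set G)) :
    x * r * x⁻¹ = r' ∧ x * r' * x⁻¹ = r := by
  have hzn : ∀ y ∈ zc (bau (S : Subgroup G)), x * y * x⁻¹ ∈ zc (bau (S : Subgroup G)) :=
    fun y hy => Four.conj_mem (normalizer_le_normalizer_zc _ hxn) hy
  have hr : x * r * x⁻¹ ≠ r := by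
    intro e
    have h1 : bau (S : Subgroup G) ⊔ zpowers x ≤ T :=
      sup_le hBT ((zpowers_le).mpr hxT)
    have h2 := c.eq_of_isPGroup (hT.to_le h1) le_sup_left (sup_le (c.bL.le.trans c.le_cent)
      (zpowers_le.mpr (mem_centralizer_singleton_iff.mpr (Four.conj_eq_iff_comm.mp e))))
    exact hxB (h2 ▸ (le_sup_right : zpowers x ≤ _) (mem_zpowers x))
  have hr' : x * r' * x⁻¹ ≠ r' := by
    intro e
    have h1 : bau (S : Subgroup G) ⊔ zpowers x ≤ T :=
      sup_le hBT ((zpowers_le).mpr hxT)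
    have h2 := c.symm.eq_of_isPGroup (hT.to_le h1) le_sup_left
      (sup_le (c.bL'.le.trans c.symm.le_cent)
      (zpowers_le.mpr (mem_centralizer_singleton_iff.mpr (Four.conj_eq_iff_comm.mp e))))
    exact hxB (h2 ▸ (le_sup_right : zpowers x ≤ _) (mem_zpowers x))
  have hmul : x * (r * r') * x⁻¹ = (x * r * x⁻¹) * (x * r' * x⁻¹) := by group
  have hr1 : x * r * x⁻¹ ≠ 1 := fun e => c.ne (conj_eq_one_iff.mp e)
  have hr1' : x * r' * x⁻¹ ≠ 1 := fun e => c.ne' (conj_eq_one_iff.mp e)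
  have hinj : x * r * x⁻¹ ≠ x * r' * x⁻¹ := fun e => c.rr (by
    have h1 : x * r = x * r' := mul_right_cancel e
    exact mul_left_cancel h1)
  -- a 3-cycle is impossible
  have h3 : ∀ a b : G, a ∈ zc (bau (S : Subgroup G)) → b ∈ zc (bau (S : Subgroup G)) →
      (x * a * x⁻¹ = b) → (x * b * x⁻¹ = a * b) → (x * (a * b) * x⁻¹ = a) →
      (∀ w ∈ zc (bau (S : Subgroup G)), w = 1 ∨ w = a ∨ w = b ∨ w = a * b) → False := by
    intro a b _ _ e1 e2 e3 hall
    have h4 : x ^ 3 ∈ bau (S : Subgroup G) := by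
      rw [← c.cent_eq]
      refine mem_centralizer_iff.mpr fun w hw => ?_
      have h5 : x ^ 3 * w * (x ^ 3)⁻¹ = w := by
        have e : x ^ 3 * w * (x ^ 3)⁻¹ = x * (x * (x * w * x⁻¹) * x⁻¹) * x⁻¹ := by
          simp only [pow_succ, pow_zero, one_mul]; group
        rw [e]
        rcases hall w hw with rfl | rfl | rfl | rfl
        · group
        · rw [e1, e2, e3]
        · rw [e2, e3, e1]
        · rw [e3, e1, e2]
      exact (Four.conj_eq_iff_comm.mp h5).symm
    obtain ⟨n, hn⟩ := hT ⟨x, hxT⟩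
    have hn' : x ^ 2 ^ n = 1 := by simpa using congrArg Subtype.val hn
    apply hxB
    have h6 : Nat.Coprime (2 ^ n) 3 := Nat.Coprime.pow_left n (by norm_num)
    have h7 : x ∈ zpowers (x ^ 3) := by
      have h8 : orderOf x ∣ 2 ^ n := orderOf_dvd_of_pow_eq_one hn'
      have h9 : Nat.Coprime 3 (orderOf x) := (Nat.Coprime.coprime_dvd_left h8 h6).symm
      obtain ⟨m, hm⟩ := exists_pow_eq_self_of_coprime h9
      exact mem_zpowers_iff.mpr ⟨m, by exact_mod_cast hm⟩
    exact (zpowers_le.mpr h4) h7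
  have hall' : ∀ w ∈ zc (bau (S : Subgroup G)), w = 1 ∨ w = r' ∨ w = r ∨ w = r' * r := by
    intro w hw
    rcases c.zc_eq w hw with h | h | h | h
    · exact Or.inl h
    · exact Or.inr (Or.inr (Or.inl h))
    · exact Or.inr (Or.inl h)
    · exact Or.inr (Or.inr (Or.inr (h.trans c.comm_rr)))
  have hrz := c.mem.1
  have hrz' := c.mem'.1
  have hsq := c.sq
  have hsq' := c.symm.sq
  have hc := c.comm_rr
  rcases c.zc_eq _ (hzn r hrz) with e1 | e1 | e1 | e1
  · exact absurd e1 hr1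
  · exact absurd e1 hr
  · refine ⟨e1, ?_⟩
    rcases c.zc_eq _ (hzn r' hrz') with e2 | e2 | e2 | e2
    · exact absurd e2 hr1'
    · exact e2
    · exact absurd e2 hr'
    · exfalso
      refine h3 r r' hrz hrz' e1 e2 ?_ c.zc_eq
      rw [hmul, e1, e2, ← mul_assoc, ← hc, mul_assoc, hsq', mul_one]
  · exfalso
    rcases c.zc_eq _ (hzn r' hrz') with e2 | e2 | e2 | e2
    · exact hr1' e2
    · refine h3 r' r hrz' hrz e2 (by rw [e1, hc]) ?_ hall'
      rw [← hc, hmul, e1, e2, mul_assoc, ← hc, ← mul_assoc, hsq, one_mul]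
    · exact hr' e2
    · exact hinj (e1.trans e2.symm)

/-- `N_G(J(B)) ≤ C_G(rr')` if `B` is not a Sylow 2-subgroup of `G`. -/
theorem normalizer_jj_le (c : Conf (S : Subgroup G) L L' k k' r r') {T : Subgroup G}
    (hT : IsPGroup 2 T) (hBT : bau (S : Subgroup G) ≤ T) {x : G} (hxT : x ∈ T)
    (hxB : x ∉ bau (S : Subgroup G)) (hxn : x ∈ normalizer (bau (S : Subgroup G) : Set G)) :
    normalizer (jj (bau (S : Subgroup G)) : Set G) ≤ centralizer ({r * r'} : Set G) := by
  obtain ⟨e1, e2⟩ := c.swap hT hBT hxT hxB hxn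
  have hxf : x * (r * r') * x⁻¹ = r * r' := by
    have : x * (r * r') * x⁻¹ = (x * r * x⁻¹) * (x * r' * x⁻¹) := by group
    rw [this, e1, e2, c.comm_rr]
  have hfz : r * r' ∈ zc (bau (S : Subgroup G)) := mul_mem c.mem.1 c.mem'.1
  have hT₁T : bau (S : Subgroup G) ⊔ zpowers x ≤ T := sup_le hBT (zpowers_le.mpr hxT)
  have hT₁f : bau (S : Subgroup G) ⊔ zpowers x ≤ centralizer ({r * r'} : Set G) := by
    refine sup_le (fun b hb => mem_centralizer_singleton_iff.mpr (zc_comm hfz hb)) ?_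
    exact zpowers_le.mpr (mem_centralizer_singleton_iff.mpr (Four.conj_eq_iff_comm.mp hxf))
  -- `n` does not move `rr'` to the centre of a block
  have key : ∀ {L₁ L₂ : Subgroup G} {k₁ k₂ : ℕ} {r₁ r₂ : G},
      Conf (S : Subgroup G) L₁ L₂ k₁ k₂ r₁ r₂ → ∀ n : G, n * (r * r') * n⁻¹ ≠ r₁ := by
    intro L₁ L₂ k₁ k₂ r₁ r₂ c₁ n e
    set T₁ := bau (S : Subgroup G) ⊔ zpowers x with hT₁
    have h1 : Geo.cj n T₁ ≤ centralizer ({r₁} : Set G) := by
      rw [← e, ← Geo.cj_centralizer_singleton]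
      exact cj_mono hT₁f
    have hT₁2 : IsPGroup 2 T₁ := hT.to_le hT₁T
    obtain ⟨Q, hQ, hTQ⟩ := ChoiceSit.exists_syl (hT₁2.map (MulAut.conj n).toMonoidHom) h1
    have hBs : ChoiceSit.Syl (bau (S : Subgroup G)) (centralizer ({r₁} : Set G)) :=
      ⟨c₁.bL.le.trans c₁.le_cent, c₁.bL.two, fun Q hQ hQ2 hBQ => c₁.eq_of_isPGroup hQ2 hBQ hQ⟩
    obtain ⟨w, -, hw⟩ := ChoiceSit.syl_conj hQ hBs
    have h2 : Nat.card Q = Nat.card (bau (S : Subgroup G)) := by
      rw [← hw]
      exact (card_map_of_injective (MulAut.conj w).injective).symm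
    have h3 : Nat.card T₁ ≤ Nat.card (bau (S : Subgroup G)) := by
      rw [← h2, ← card_cj n T₁]
      exact card_le_of_le hTQ
    have h4 := eq_of_le_of_card_ge (le_sup_left : bau (S : Subgroup G) ≤ T₁) h3
    exact hxB (h4 ▸ (le_sup_right : zpowers x ≤ T₁) (mem_zpowers x))
  intro n hn
  have h5 : n * (r * r') * n⁻¹ ∈ zc (bau (S : Subgroup G)) := by
    have h6 := normalizer_jj_le_normalizer_zj (bau (S : Subgroup G)) hn
    rw [zj_bau, ← zc_bau] at h6
    exact Four.conj_mem h6 hfz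
  rw [mem_centralizer_singleton_iff]
  rcases c.zc_eq _ h5 with e | e | e | e
  · have e' : r * r' = 1 := conj_eq_one_iff.mp e
    exact absurd (by rw [← mul_left_cancel (a := r) (e'.trans c.sq.symm)]) c.rr
  · exact absurd e (key c n)
  · exact absurd e (key c.symm n)
  · exact Four.conj_eq_iff_comm.mp e

/-- The context of the amalgam theorem if `B` is not a Sylow 2-subgroup of `G`. -/
theorem ctx_two (c : Conf (S : Subgroup G) L L' k k' r r') {T : Subgroup G}
    (hT : IsPGroup 2 T) (hBT : bau (S : Subgroup G) ≤ T) {x : G} (hxT : x ∈ T)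
    (hxB : x ∉ bau (S : Subgroup G)) (hxn : x ∈ normalizer (bau (S : Subgroup G) : Set G)) :
    Ctx (centralizer ({r * r'} : Set G)) (bau (S : Subgroup G)) L L' := by
  have hJ := c.normalizer_jj_le hT hBT hxT hxB hxn
  have hfz : r * r' ∈ zc (bau (S : Subgroup G)) := mul_mem c.mem.1 c.mem'.1
  have hnot : ∀ {L₁ L₂ : Subgroup G} {k₁ k₂ : ℕ} {r₁ r₂ : G},
      Conf (S : Subgroup G) L₁ L₂ k₁ k₂ r₁ r₂ → r₁ * r₂ = r * r' →
      ¬ L₁ ≤ centralizer ({r * r'} : Set G) := by
    intro L₁ L₂ k₁ k₂ r₁ r₂ c₁ e h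
    rw [← e] at h
    have h1 : r₁ * r₂ ∈ rl (bau (S : Subgroup G)) L₁ :=
      ⟨mul_mem c₁.mem.1 c₁.mem'.1, mem_centralizer_iff.mpr fun l hl =>
        mem_centralizer_singleton_iff.mp (h hl)⟩
    rcases c₁.eq _ h1 with e1 | e1
    · exact c₁.rr (mul_left_cancel (a := r₁) (c₁.sq.trans e1.symm))
    · exact c₁.ne' (by simpa using e1)
  have hstr : ∀ X : Subgroup G, IsTwoLocal X → bau (S : Subgroup G) ≤ X →
      ¬ X ≤ centralizer ({r * r'} : Set G) → ∀ T₁ : Subgroup G, Loc X T₁ →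
      bau (S : Subgroup G) ≤ T₁ → T₁ = bau (S : Subgroup G) := by
    intro X hX hBX hXN T₁ hT₁ hBT₁
    by_contra hne
    obtain ⟨x₁, hx₁, hx₁B, hx₁n⟩ := CaseTwo.exists_normalizing hT₁.two hBT₁ (Ne.symm hne)
    obtain ⟨e1, e2⟩ := c.swap hT₁.two hBT₁ hx₁ hx₁B hx₁n
    have hbau := bau_eq S hT₁.two hBT₁
    -- `rr' ∈ Ω₁(Z(T₁))`
    have hz : ∀ w ∈ zc T₁, w = 1 ∨ w = r * r' := by
      intro w hw
      have h1 : w ∈ zc (bau (S : Subgroup G)) := by
        rw [← hbau, zc_bau]
        exact zc_le_zj T₁ hw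
      have h2 : x₁ * w * x₁⁻¹ = w := Four.conj_eq_iff_comm.mpr (zc_comm hw hx₁)
      rcases c.zc_eq w h1 with e | e | e | e
      · exact Or.inl e
      · exfalso; rw [e, e1] at h2; exact c.rr h2.symm
      · exfalso; rw [e, e2] at h2; exact c.rr h2
      · exact Or.inr e
    have hfT : r * r' ∈ zc T₁ := by
      have h1 : zc T₁ ≠ ⊥ := by
        refine zc_ne_bot hT₁.two fun h => hx₁B ?_
        rw [h, mem_bot] at hx₁
        rw [hx₁]
        exact one_mem _
      obtain ⟨⟨w, hw⟩, hw1⟩ := (Subgroup.ne_bot_iff_exists_ne_one).mp h1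
      rcases hz w hw with e | e
      · exact absurd (Subtype.ext e) hw1
      · rwa [e] at hw
    obtain ⟨L₁, k₁, hL₁, -, hL₁X, hL₁N⟩ := DBlkExist.exists_dblk (T := T₁)
      (M := centralizer ({r * r'} : Set G)) hT₁.solv hT₁.char2 hT₁.two hT₁.TX hT₁.syl
      (fun g hg => mem_centralizer_singleton_iff.mpr
        (mem_centralizer_iff.mp hg.2 _ hfT).symm)
      (fun g hg => hJ (normalizer_le_normalizer_jj _ (by rw [← hbau]; exact hg.2))) hXN
    rw [hbau] at hL₁
    obtain ⟨r₁, hr₁, hr₁1⟩ : ∃ r₁ ∈ rl (bau (S : Subgroup G)) L₁, r₁ ≠ 1 := by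
      obtain ⟨z₁, hz₁⟩ := exists_pt hL₁
      rcases mem_zc_cases hL₁ hz₁ c.mem.1 with h | h
      · exact ⟨r, h, c.ne⟩
      · by_cases h1 : z₁ * r = 1
        · have h2 : z₁ = r := by
            have h3 : z₁ * r = r * r := by rw [h1, c.sq]
            exact mul_right_cancel h3
          rcases mem_zc_cases hL₁ hz₁ c.mem'.1 with h4 | h4
          · exact ⟨r', h4, c.ne'⟩
          · refine ⟨z₁ * r', h4, fun e => c.rr ?_⟩
            rw [h2] at e
            exact mul_left_cancel (a := r) (c.sq.trans e.symm)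
        · exact ⟨z₁ * r, h, h1⟩
    have hL₁r : L₁ ≤ centralizer ({r₁} : Set G) := fun l hl =>
      mem_centralizer_singleton_iff.mpr (rl_comm hr₁ hl)
    have hL₁B : L₁ ≠ bau (S : Subgroup G) := by
      intro e
      have h1 := hL₁.index
      rw [e, relIndex_self] at h1
      have h2 := hL₁.pos
      have h3 : 1 < 3 ^ k₁ := Nat.one_lt_pow (by omega) (by norm_num)
      omega
    -- both blocks are in `X`
    have hboth : L ≤ X ∧ L' ≤ X := by
      rcases c.zc_eq r₁ hr₁.1 with e | e | e | e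
      · exact absurd e hr₁1
      · have h1 : L₁ = L := (c.isBlk.eq_or_eq hL₁.le
          (hL₁r.trans (by rw [e]; exact c.eq_cent.le))).resolve_left hL₁B
        rw [h1] at hL₁X
        refine ⟨hL₁X, fun g hg => ?_⟩
        have h2 : x₁⁻¹ * g * x₁ ∈ L := by
          rw [← c.eq_cent, mem_centralizer_singleton_iff]
          have h3 := mem_centralizer_singleton_iff.mp (c.symm.eq_cent.ge hg)
          calc x₁⁻¹ * g * x₁ * r = x₁⁻¹ * (g * (x₁ * r * x₁⁻¹)) * x₁ := by group
            _ = x₁⁻¹ * ((x₁ * r * x₁⁻¹) * g) * x₁ := by rw [e1, h3]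
            _ = r * (x₁⁻¹ * g * x₁) := by group
        have h4 := mul_mem (mul_mem (hT₁.TX hx₁) (hL₁X h2)) (inv_mem (hT₁.TX hx₁))
        have h5 : x₁ * (x₁⁻¹ * g * x₁) * x₁⁻¹ = g := by group
        rwa [h5] at h4
      · have h1 : L₁ = L' := (c.symm.isBlk.eq_or_eq hL₁.le
          (hL₁r.trans (by rw [e]; exact c.symm.eq_cent.le))).resolve_left hL₁B
        rw [h1] at hL₁X
        refine ⟨fun g hg => ?_, hL₁X⟩
        have h2 : x₁⁻¹ * g * x₁ ∈ L' := by
          rw [← c.symm.eq_cent, mem_centralizer_singleton_iff]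
          have h3 := mem_centralizer_singleton_iff.mp (c.eq_cent.ge hg)
          calc x₁⁻¹ * g * x₁ * r' = x₁⁻¹ * (g * (x₁ * r' * x₁⁻¹)) * x₁ := by group
            _ = x₁⁻¹ * ((x₁ * r' * x₁⁻¹) * g) * x₁ := by rw [e2, h3]
            _ = r' * (x₁⁻¹ * g * x₁) := by group
        have h4 := mul_mem (mul_mem (hT₁.TX hx₁) (hL₁X h2)) (inv_mem (hT₁.TX hx₁))
        have h5 : x₁ * (x₁⁻¹ * g * x₁) * x₁⁻¹ = g := by group
        rwa [h5] at h4
      · exact absurd (e ▸ hL₁r) hL₁N
    have h6 := c.core' (o2 X) (isPGroup_o2 X) (hboth.1.trans (le_normalizer_o2 X))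
      (hboth.2.trans (le_normalizer_o2 X))
    exact Basic.IsTwoLocal.o2_ne_bot hX h6
  exact {
    blkP := c.isBlk
    blkQ := c.symm.isBlk
    core := fun U hU h1 h2 => c.core' U (c.bL.two.to_le hU) h1 h2
    notP := hnot c rfl
    notQ := hnot c.symm c.comm_rr.symm
    str := fun X hX hBX hXN => by
      obtain ⟨T₁, hT₁, hBT₁, -⟩ := exists_loc c.pl hX hBX
      exact ⟨c.str hT₁ (hstr X hX hBX hXN T₁ hT₁ hBT₁) (fun h => hXN (h.trans hJ)),
        fun T₂ _ hBT₂ _ => c.inf_cent hBT₂⟩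
    alt := Or.inr ⟨x, by
      obtain ⟨e1, e2⟩ := c.swap hT hBT hxT hxB hxn
      refine mem_centralizer_singleton_iff.mpr (Four.conj_eq_iff_comm.mp ?_)
      have : x * (r * r') * x⁻¹ = (x * r * x⁻¹) * (x * r' * x⁻¹) := by group
      rw [this, e1, e2, c.comm_rr], hxB, hxn, hT.to_le (sup_le hBT (zpowers_le.mpr hxT))⟩ }

/-- **The configuration is impossible.** -/
theorem false (c : Conf (S : Subgroup G) L L' k k' r r') : False := by
  have h1 : ∃ N : Subgroup G, Ctx N (bau (S : Subgroup G)) L L' := by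
    by_cases hI : ∀ T : Subgroup G, IsPGroup 2 T → bau (S : Subgroup G) ≤ T →
      T = bau (S : Subgroup G)
    · exact ⟨_, c.ctx_one hI⟩
    · push Not at hI
      obtain ⟨T, hT, hBT, hne⟩ := hI
      obtain ⟨x, hx, hxB, hxn⟩ := CaseTwo.exists_normalizing hT hBT (Ne.symm hne)
      exact ⟨_, c.ctx_two hT hBT hx hxB hxn⟩
  obtain ⟨N, hN⟩ := h1
  obtain ⟨-, -, h2, -⟩ := ZN.Amalgam.result hN
  obtain ⟨z, hz⟩ := exists_pt c.bL'
  obtain ⟨y, hy, hy1, hyz⟩ := Four.exists_other c.bL'.card_vl z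
  have h3 : y ∈ zc (bau (S : Subgroup G)) := by
    rw [← h2]
    refine ⟨mem_o2_of_cent c.bL (vl_le_B c.bL' hy) (mem_centralizer_iff.mpr fun v hv => ?_),
      vl_le_o2 c.bL' hy⟩
    exact c.pl.comm L L' k k' c.bL c.bL' v hv y hy
  rcases eq_of_mem c.bL' hz hy h3 with e | e
  · exact hy1 e
  · exact hyz e

end Conf

/-! ### The lemma -/

/-- **`Ω₁(Z(T)) = ⟨z⟩`** in the case (E1'). -/
theorem zc_le (h : Planes (S : Subgroup G)) {L T : Subgroup G} {k : ℕ} {z : G}
    (hL : IsDBlk (bau (S : Subgroup G)) L k) (hz : IsPt (bau (S : Subgroup G)) L z)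
    (hT : IsPGroup 2 T) (hBT : bau (S : Subgroup G) ≤ T) (hTz : T ≤ centralizer ({z} : Set G))
    (hTs : ¬ 2 ∣ T.relIndex (centralizer ({z} : Set G)))
    (hcore : ∀ U : Subgroup G, IsPGroup 2 U →
      normalizer (vl (bau (S : Subgroup G)) L : Set G) ≤ normalizer (U : Set G) →
      centralizer ({z} : Set G) ≤ normalizer (U : Set G) → U = ⊥) :
    ∀ w ∈ zc T, w = 1 ∨ w = z := by
  by_contra hcon
  push Not at hcon
  obtain ⟨w, hw, hw1, hwz⟩ := hcon
  have hbau := bau_eq S hT hBT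
  have hzT : z ∈ zc T := mem_zc.mpr ⟨hBT (ZN.zc_le _ hz.2.1), fun b hb =>
    mem_centralizer_singleton_iff.mp (hTz hb), hz.sq⟩
  have hzcle : zc T ≤ zc (bau (S : Subgroup G)) := by
    rw [← hbau, zc_bau]; exact zc_le_zj T
  -- an involution `u ∈ R_L ∩ Ω₁(Z(T))`
  obtain ⟨u, hu, huT, hu1⟩ : ∃ u ∈ rl (bau (S : Subgroup G)) L, u ∈ zc T ∧ u ≠ 1 := by
    rcases mem_zc_cases hL hz (hzcle hw) with h1 | h1
    · exact ⟨w, h1, hw, hw1⟩
    · refine ⟨z * w, h1, mul_mem hzT hw, fun e => hwz ?_⟩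
      have h2 : z * w = z * z := by rw [e, hz.mul_self]
      exact mul_left_cancel h2
  have hC : ¬ centralizer ({z} : Set G) ≤ normalizer (vl (bau (S : Subgroup G)) L : Set G) := by
    intro hC
    have h1 := hcore (vl (bau (S : Subgroup G)) L) (hL.two.to_le (vl_le_B hL)) le_rfl hC
    exact hz.2.2 (by have := hz.1; rwa [h1, mem_bot] at this)
  obtain ⟨L', k', hL', hL'z, hL'n⟩ := exists_second h hL hz hT hBT hTz hTs hC hu hu1 huT
  have hzL' : z ∈ rl (bau (S : Subgroup G)) L' :=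
    ⟨hz.2.1, mem_centralizer_iff.mpr fun l hl => mem_centralizer_singleton_iff.mp (hL'z hl)⟩
  -- `R_L ∩ R_{L'} = 1`
  have hdis : ∀ r ∈ rl (bau (S : Subgroup G)) L, r ∈ rl (bau (S : Subgroup G)) L' → r = 1 := by
    intro r hr hr'
    by_contra hr1
    exact hL'n fun l hl => inf_centralizer_le h hL hz hr hr1
      (mem_centralizer_singleton_iff.mp (hL'z hl)) (rl_comm hr' hl)
  obtain ⟨z', hz'⟩ := exists_pt hL'
  -- `R_{L'} = ⟨z⟩`
  have hrl' : ∀ x ∈ rl (bau (S : Subgroup G)) L', x = 1 ∨ x = z := by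
    intro x hx
    by_cases hx1 : x = 1
    · exact Or.inl hx1
    · right
      rcases mem_zc_cases hL hz hx.1 with h1 | h1
      · exact absurd (hdis x h1 hx) hx1
      · have h2 := hdis (z * x) h1 (mul_mem hzL' hx)
        have h3 : z * x = z * z := by rw [h2, hz.mul_self]
        exact mul_left_cancel h3
  have hrl : ∀ x ∈ rl (bau (S : Subgroup G)) L, x = 1 ∨ x = u := by
    have key : ∀ x ∈ rl (bau (S : Subgroup G)) L, x ≠ 1 → x = z' ∨ x = z' * z := by
      intro x hx hx1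
      rcases mem_zc_cases hL' hz' hx.1 with h1 | h1
      · exact absurd (hdis x hx h1) hx1
      · rcases hrl' _ h1 with h2 | h2
        · left
          have h3 : z' * x = z' * z' := by rw [h2, hz'.mul_self]
          exact mul_left_cancel h3
        · right
          rw [← h2, ← mul_assoc, hz'.mul_self, one_mul]
    intro x hx
    by_cases hx1 : x = 1
    · exact Or.inl hx1
    · right
      have hne : ¬ ((z' ∈ rl (bau (S : Subgroup G)) L) ∧ z' * z ∈ rl (bau (S : Subgroup G)) L) := by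
        rintro ⟨h1, h2⟩
        have h3 := mul_mem (inv_mem h1) h2
        rw [inv_mul_cancel_left] at h3
        exact pt_notMem_rl hL hz h3
      rcases key x hx hx1 with h1 | h1 <;> rcases key u hu hu1 with h2 | h2
      · rw [h1, h2]
      · exact absurd ⟨h1 ▸ hx, h2 ▸ hu⟩ hne
      · exact absurd ⟨h2 ▸ hu, h1 ▸ hx⟩ hne
      · rw [h1, h2]
  have hconf : Conf (S : Subgroup G) L L' k k' u z := {
    pl := h
    bL := hL
    bL' := hL'
    mem := hu
    mem' := hzL'
    ne := hu1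
    ne' := hz.2.2
    rr := fun e => pt_notMem_rl hL hz (e ▸ hu)
    eq := hrl
    eq' := hrl'
    zc_eq := fun x hx => by
      rcases mem_zc_cases hL hz hx with h1 | h1
      · rcases hrl x h1 with e | e
        · exact Or.inl e
        · exact Or.inr (Or.inl e)
      · rcases hrl _ h1 with e | e
        · have h3 : z * x = z * z := by rw [e, hz.mul_self]
          exact Or.inr (Or.inr (Or.inl (mul_left_cancel h3)))
        · right; right; right
          have h4 : x = z * u := by rw [← e, ← mul_assoc, hz.mul_self, one_mul]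
          rw [h4]
          exact (zc_comm hu.1 (ZN.zc_le _ hz.2.1))
    core := fun U hU h1 h2 => by
      refine hcore U hU ?_ h2
      intro x hx
      obtain ⟨y, hy, -, -, -, h3, h4⟩ := hL.dih
      have hyn := le_normalizer_vl (bau (S : Subgroup G)) L hy
      have hyc : y ∉ centralizer (vl (bau (S : Subgroup G)) L : Set G) := fun h =>
        hz.2.2 (h3 z hz.1 (Four.mem_cent_iff.mp h z hz.1))
      have hy3 : y ^ 3 ∈ centralizer (vl (bau (S : Subgroup G)) L : Set G) :=
        Four.mem_cent_iff.mpr h4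
      have hLU : L ≤ normalizer (U : Set G) := fun l hl =>
        h1 (mem_centralizer_singleton_iff.mpr (rl_comm hu hl))
      have key : ∀ l ∈ L, x * z * x⁻¹ = l * z * l⁻¹ → x ∈ normalizer (U : Set G) := by
        intro l hl e
        have h5 : l⁻¹ * x ∈ centralizer ({z} : Set G) := by
          rw [mem_centralizer_singleton_iff]
          calc l⁻¹ * x * z = l⁻¹ * (x * z * x⁻¹) * x := by group
            _ = z * (l⁻¹ * x) := by rw [e]; group
        have h6 := mul_mem (hLU hl) (h2 h5)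
        rwa [mul_inv_cancel_left] at h6
      rcases Four.cyc_trans hL.card_vl (vl_sq hL) hyn hyc hy3 hz.1 hz.2.2
        (Four.conj_mem hx hz.1) (fun e => hz.2.2 (conj_eq_one_iff.mp e)) with e | e | e
      · exact key 1 (one_mem _) (by rw [e]; group)
      · exact key y hy e
      · exact key y⁻¹ (inv_mem hy) (by rw [e]; group) }
  exact hconf.false

/-- **The case (E1') gives the situation `Geo`.** -/
theorem geo (h : Planes (S : Subgroup G)) {L T : Subgroup G} {k : ℕ} {z : G}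
    (hL : IsDBlk (bau (S : Subgroup G)) L k) (hz : IsPt (bau (S : Subgroup G)) L z)
    (hT : IsPGroup 2 T) (hBT : bau (S : Subgroup G) ≤ T) (hTz : T ≤ centralizer ({z} : Set G))
    (hTs : ¬ 2 ∣ T.relIndex (centralizer ({z} : Set G)))
    (hTV : T ≤ normalizer (vl (bau (S : Subgroup G)) L : Set G))
    (hcore : ∀ U : Subgroup G, IsPGroup 2 U →
      normalizer (vl (bau (S : Subgroup G)) L : Set G) ≤ normalizer (U : Set G) →
      centralizer ({z} : Set G) ≤ normalizer (U : Set G) → U = ⊥) :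
    Geo.Geo T (vl (bau (S : Subgroup G)) L) z := by
  have htrans : ∀ v ∈ vl (bau (S : Subgroup G)) L, v ≠ 1 → ∃ g ∈ L, g * z * g⁻¹ = v := by
    intro v hv hv1
    obtain ⟨y, hy, -, -, -, h3, h4⟩ := hL.dih
    have hyn := le_normalizer_vl (bau (S : Subgroup G)) L hy
    have hyc : y ∉ centralizer (vl (bau (S : Subgroup G)) L : Set G) := fun h =>
      hz.2.2 (h3 z hz.1 (Four.mem_cent_iff.mp h z hz.1))
    have hy3 : y ^ 3 ∈ centralizer (vl (bau (S : Subgroup G)) L : Set G) :=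
      Four.mem_cent_iff.mpr h4
    rcases Four.cyc_trans hL.card_vl (vl_sq hL) hyn hyc hy3 hz.1 hz.2.2 hv hv1 with e | e | e
    · exact ⟨1, one_mem _, by rw [e]; group⟩
    · exact ⟨y, hy, e.symm⟩
    · exact ⟨y⁻¹, inv_mem hy, by rw [e]; group⟩
  exact {
    charTwo := h.charTwo
    solv := h.solv
    two := hT
    T_le := hTz
    T_syl := hTs
    V_le := (vl_le_B hL).trans hBT
    T_norm := hTV
    T_syl' := by
      have hf : Fact (Nat.Prime 2) := ⟨Nat.prime_two⟩
      set V := vl (bau (S : Subgroup G)) L with hV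
      obtain ⟨Q, hQ, hTQ⟩ := ChoiceSit.exists_syl hT hTV
      -- `Q` fixes a point of `V`
      obtain ⟨v, hv, hvz, hv1⟩ := CaseD8.exists_mem_zc hQ.2.1
        (((vl_le_B hL).trans hBT).trans hTQ) hQ.1 (fun e => by
          exact hz.2.2 (mem_bot.mp (e ▸ hz.1)))
      obtain ⟨g, hg, rfl⟩ := htrans v hv hv1
      -- `Q ^ g ≤ C_G(z)`
      have h1 : Geo.cj g⁻¹ Q ≤ centralizer ({z} : Set G) := by
        rw [cj_le_iff, inv_inv, Geo.cj_centralizer_singleton]
        exact fun q hq => mem_centralizer_singleton_iff.mpr (zc_comm hvz hq)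
      have h2 : Nat.card Q ≤ Nat.card T := by
        rw [← card_cj g⁻¹ Q]
        obtain ⟨n, hn⟩ := IsPGroup.iff_card.mp (hQ.2.1.map (MulAut.conj g⁻¹).toMonoidHom)
        have h4 : Nat.card (Geo.cj g⁻¹ Q) ∣ Nat.card T * T.relIndex (centralizer ({z} : Set G)) := by
          rw [Block.card_mul_relIndex' hTz]
          exact card_dvd_of_le h1
        have h5 : Nat.Coprime (Nat.card (Geo.cj g⁻¹ Q)) (T.relIndex (centralizer ({z} : Set G))) := by
          change Nat.Coprime (Nat.card (Q.map (MulAut.conj g⁻¹).toMonoidHom : Subgroup G)) _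
          rw [hn]
          exact Nat.Coprime.pow_left n ((Nat.Prime.coprime_iff_not_dvd Nat.prime_two).mpr hTs)
        exact Nat.le_of_dvd Nat.card_pos (h5.dvd_of_dvd_mul_right h4)
      have h3 : T = Q := eq_of_le_of_card_ge hTQ h2
      rw [h3]
      exact ChoiceSit.syl_not_dvd hQ
    card_V := hL.card_vl
    sq := fun v hv => by rw [← pow_two]; exact vl_sq hL v hv
    z_mem := hz.1
    z_ne := hz.2.2
    trans := fun v hv hv1 => by
      obtain ⟨g, hg, e⟩ := htrans v hv hv1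
      exact ⟨g, le_normalizer_vl (bau (S : Subgroup G)) L hg, e⟩
    soc := fun t ht ht2 htc => zc_le h hL hz hT hBT hTz hTs hcore t
      (mem_zc.mpr ⟨ht, fun s hs => htc s hs, by rw [pow_two]; exact ht2⟩)
    core := hcore }

end Cfsg.Agent.MinSimple.ReduceSoc
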