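import Cfsg.Agent.MinSimple.CoreOdd
import Cfsg.Agent.MinSimple.EmptyMain

/-!
# Core theorem T

Let `G` be a finite nonabelian simple group of characteristic 2 type and of 2-rank at least 3, all of
whose 2-local subgroups are solvable, without strongly embedded subgroup (`CoreMain.Core G`).  Then
`G` has the final configuration `FinHyp` of the Tits group: `|G| = 17971200`.
-/

set_option autoImplicit false

namespace Cfsg.Agent.MinSimple.TheoremT

open Subgroup Cfsg Cfsg.Agent.ZN Cfsg.Agent.MinSimple Cfsg.Agent.MinSimple.CoreMain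

universe u

variable {G : Type u} [Group G]

/-- **Core theorem T** -/
theorem exists_finHyp (h : Core G) : ∃ z p : G, Classification.TitsFin.FinHyp z p :=
  CoreFinal.exists_finHyp h (CoreOdd.oddFFStmt G) (EmptyMain.emptyMaxStmt G) (CoreOdd.oddMaxStmt G)

/-- **Theorem T2** -/
theorem card_eq (h : Core G) : Nat.card G = 17971200 :=
  CoreFinal.card_eq h (CoreOdd.oddFFStmt G) (EmptyMain.emptyMaxStmt G) (CoreOdd.oddMaxStmt G)

/-- There is an elementary abelian subgroup of order 32. -/
theorem exists_elementary (h : Core G) : ∃ V : Subgroup G, Nat.card V = 32 ∧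
    (∀ u ∈ V, u * u = 1) ∧ ∀ u ∈ V, ∀ v ∈ V, u * v = v * u :=
  CoreFinal.exists_elementary h (CoreOdd.oddFFStmt G) (EmptyMain.emptyMaxStmt G)
    (CoreOdd.oddMaxStmt G)

/-- **Theorem T1** -/
theorem exists_stronglyEmbedded [Finite G] (hG : IsMinimalSimple G)
    (hc : IsCharacteristicTwoType G) (h3 : ¬ PRankLE 2 2 G) :
    ∃ H : Subgroup G, IsStronglyEmbedded H :=
  CoreFinal.exists_stronglyEmbedded hG hc h3 (CoreOdd.oddFFStmt G) (EmptyMain.emptyMaxStmt G)
    (CoreOdd.oddMaxStmt G)

end Cfsg.Agent.MinSimple.TheoremT
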